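import Mathlib
import Groth.Agent.Lib.helper21.SyzRes

/-!
# Finite free resolutions of finite modules over Noetherian rings
-/

set_option autoImplicit false

namespace Groth.Agent.Lib.helper6.FinFreeRes

open CategoryTheory CategoryTheory.Limits Groth.Agent.H21

universe u

variable (R : Type u) [CommRing R] [IsNoetherianRing R]

/-- A finitely generated module, bundled. -/
structure FGMod where
  M : ModuleCat.{u} R
  fin : Module.Finite R M

variable {R}

namespace FGMod

variable (X : FGMod R)

/-- number of generators -/
noncomputable def rk : ℕ :=
  haveI := X.fin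
  (Module.Finite.exists_fin' R X.M).choose

/-- a chosen surjection from a finite free module -/
noncomputable def cover : (Fin X.rk → R) →ₗ[R] X.M :=
  haveI := X.fin
  (Module.Finite.exists_fin' R X.M).choose_spec.choose

lemma cover_surjective : Function.Surjective X.cover :=
  haveI := X.fin
  (Module.Finite.exists_fin' R X.M).choose_spec.choose_spec

/-- the syzygy -/
noncomputable def next : FGMod R where
  M := ModuleCat.of R (LinearMap.ker X.cover)
  fin := by
    change Module.Finite R (LinearMap.ker X.cover)
    infer_instance

/-- iterated syzygies -/
noncomputable def seq : ℕ → FGMod R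
  | 0 => X
  | n + 1 => (seq n).next

/-- The syzygy data. -/
noncomputable def syz : SyzData (ModuleCat.{u} R) where
  X n := (X.seq n).M
  F n := ModuleCat.of R (Fin (X.seq n).rk → R)
  π n := ModuleCat.ofHom (X.seq n).cover
  ι n := ModuleCat.ofHom (LinearMap.ker (X.seq n).cover).subtype
  w n := (X.seq n).cover.shortComplexKer.zero
  exact n := (LinearMap.shortExact_shortComplexKer (X.seq n).cover_surjective).exact
  epi n := (LinearMap.shortExact_shortComplexKer (X.seq n).cover_surjective).epi_g
  mono n := (LinearMap.shortExact_shortComplexKer (X.seq n).cover_surjective).mono_f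
  proj n := by
    have : Module.Projective R (Fin (X.seq n).rk → R) := inferInstance
    exact inferInstanceAs (Projective (ModuleCat.of R (Fin (X.seq n).rk → R)))

end FGMod

theorem exists_resolution (M : Type u) [AddCommGroup M] [Module R M] [Module.Finite R M] :
    ∃ F : ProjectiveResolution (ModuleCat.of R M),
      ∀ n : ℕ, Module.Finite R (F.complex.X n) ∧ Module.Free R (F.complex.X n) := by
  let X : FGMod R := ⟨ModuleCat.of R M, inferInstanceAs (Module.Finite R M)⟩
  refine ⟨X.syz.resolution, fun n => ?_⟩
  change Module.Finite R (Fin (X.seq n).rk → R) ∧ Module.Free R (Fin (X.seq n).rk → R)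
  exact ⟨inferInstance, inferInstance⟩

end Groth.Agent.Lib.helper6.FinFreeRes
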