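import Mathlib

/-!
# Comparison of two homological δ-functors vanishing on projectives (objectwise isomorphisms)
-/

set_option autoImplicit false

namespace Groth.Agent.Lib.helper6.DeltaCompare

open CategoryTheory CategoryTheory.Limits

universe v u v' u'

variable {C : Type u} [Category.{v} C] [Abelian C] [EnoughProjectives C]
  {D : Type u'} [Category.{v'} D] [Abelian D]

/-- A sequence of functors with (non-natural) connecting maps giving the relevant part of the
long exact sequence, vanishing on projectives in positive degrees. -/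
structure IsDelta (T : ℕ → (C ⥤ D)) : Prop where
  les : ∀ (S : ShortComplex C) (_ : S.ShortExact) (n : ℕ),
    ∃ (δ : (T (n + 1)).obj S.X₃ ⟶ (T n).obj S.X₁)
      (w₁ : (T (n + 1)).map S.g ≫ δ = 0) (w₂ : δ ≫ (T n).map S.f = 0),
      (ShortComplex.mk _ _ w₁).Exact ∧ (ShortComplex.mk _ _ w₂).Exact
  vanish : ∀ (P : C) [Projective P] (n : ℕ), IsZero ((T (n + 1)).obj P)

/-- The canonical presentation `0 ⟶ K ⟶ P ⟶ M ⟶ 0` with `P` projective. -/
noncomputable def pres (M : C) : ShortComplex C :=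
  ShortComplex.mk (kernel.ι (Projective.π M)) (Projective.π M) (kernel.condition _)

lemma pres_shortExact (M : C) : (pres M).ShortExact where
  exact := ShortComplex.exact_of_f_is_kernel _ (kernelIsKernel _)
  mono_f := by dsimp [pres]; infer_instance
  epi_g := by dsimp [pres]; infer_instance

instance (M : C) : Projective (pres M).X₂ := by dsimp [pres]; infer_instance

variable {T T' : ℕ → (C ⥤ D)}

/-- `T (n+2) M ≅ T (n+1) K`. -/
lemma shift_iso (hT : IsDelta T) (M : C) (n : ℕ) :
    Nonempty ((T (n + 2)).obj M ≅ (T (n + 1)).obj (pres M).X₁) := by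
  obtain ⟨δ, w₁, w₂, h₁, h₂⟩ := hT.les (pres M) (pres_shortExact M) (n + 1)
  have hz1 : IsZero ((T (n + 2)).obj (pres M).X₂) := hT.vanish _ (n + 1)
  have hz2 : IsZero ((T (n + 1)).obj (pres M).X₂) := hT.vanish _ n
  have : Mono δ := h₁.mono_g (hz1.eq_of_src _ _)
  have : Epi δ := h₂.epi_f (hz2.eq_of_tgt _ _)
  have hiso : IsIso δ := isIso_of_mono_of_epi δ
  exact ⟨@asIso _ _ _ _ δ hiso⟩

/-- `T 1 M ≅ ker (T 0 K ⟶ T 0 P)`. -/
lemma one_iso (hT : IsDelta T) (M : C) :
    Nonempty ((T 1).obj M ≅ kernel ((T 0).map (pres M).f)) := by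
  obtain ⟨δ, w₁, w₂, h₁, h₂⟩ := hT.les (pres M) (pres_shortExact M) 0
  have hz1 : IsZero ((T 1).obj (pres M).X₂) := hT.vanish _ 0
  have : Mono δ := h₁.mono_g (hz1.eq_of_src _ _)
  have hk := h₂.fIsKernel
  exact ⟨IsLimit.conePointUniqueUpToIso hk (limit.isLimit _)⟩

theorem nonempty_iso (hT : IsDelta T) (hT' : IsDelta T') (e : T 0 ≅ T' 0) :
    ∀ (n : ℕ) (M : C), Nonempty ((T n).obj M ≅ (T' n).obj M) := by
  intro n
  induction n with
  | zero => exact fun M => ⟨e.app M⟩
  | succ n ih =>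
    intro M
    cases n with
    | zero =>
      obtain ⟨a⟩ := one_iso hT M
      obtain ⟨b⟩ := one_iso hT' M
      refine ⟨a ≪≫ ?_ ≪≫ b.symm⟩
      exact kernel.mapIso _ _ (e.app _) (e.app _) (e.hom.naturality _)
    | succ m =>
      obtain ⟨a⟩ := shift_iso hT M m
      obtain ⟨b⟩ := shift_iso hT' M m
      obtain ⟨c⟩ := ih (pres M).X₁
      exact ⟨a ≪≫ c ≪≫ b.symm⟩

end Groth.Agent.Lib.helper6.DeltaCompare
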