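import Mathlib
import Groth.Agent.Lib.helper21.LeftDerivedLES

/-!
# Resolution-side description of Mathlib's `Tor` on `ModuleCat A` and the long exact sequence
in the FIRST variable.

`Tor n M N` (Mathlib) is left-derived in the second variable `N`.  For a projective resolution
`Q` of `N` we have `Tor n M N ≅ H_n(M ⊗ Q)` naturally in `M`.
-/

set_option autoImplicit false

namespace Groth.Agent.Lib.helper6.TorRes

open CategoryTheory CategoryTheory.Limits MonoidalCategory

universe u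
variable {A : Type u} [CommRing A]

/-- The complex `M ⊗ Q`. -/
noncomputable def tc (M : ModuleCat.{u} A) (Q : ChainComplex (ModuleCat.{u} A) ℕ) :
    ChainComplex (ModuleCat.{u} A) ℕ :=
  ((tensorLeft M).mapHomologicalComplex _).obj Q

/-- The map `M ⊗ Q ⟶ M' ⊗ Q`. -/
noncomputable def tcMap {M M' : ModuleCat.{u} A} (f : M ⟶ M')
    (Q : ChainComplex (ModuleCat.{u} A) ℕ) : tc M Q ⟶ tc M' Q :=
  (NatTrans.mapHomologicalComplex ((tensoringLeft (ModuleCat.{u} A)).map f) _).app Q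

@[simp] lemma tc_X (M : ModuleCat.{u} A) (Q : ChainComplex (ModuleCat.{u} A) ℕ) (k : ℕ) :
    (tc M Q).X k = M ⊗ Q.X k := rfl

@[simp] lemma tcMap_f {M M' : ModuleCat.{u} A} (f : M ⟶ M')
    (Q : ChainComplex (ModuleCat.{u} A) ℕ) (k : ℕ) :
    (tcMap f Q).f k = f ▷ Q.X k := rfl

@[simp] lemma tcMap_id (M : ModuleCat.{u} A) (Q : ChainComplex (ModuleCat.{u} A) ℕ) :
    tcMap (𝟙 M) Q = 𝟙 _ := by
  ext k; simp

@[simp] lemma tcMap_comp {M M' M'' : ModuleCat.{u} A} (f : M ⟶ M') (g : M' ⟶ M'')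
    (Q : ChainComplex (ModuleCat.{u} A) ℕ) :
    tcMap (f ≫ g) Q = tcMap f Q ≫ tcMap g Q := by
  ext k; simp

@[simp] lemma tcMap_zero (M M' : ModuleCat.{u} A) (Q : ChainComplex (ModuleCat.{u} A) ℕ) :
    tcMap (0 : M ⟶ M') Q = 0 := by
  apply HomologicalComplex.hom_ext
  intro k
  rw [tcMap_f, MonoidalPreadditive.zero_whiskerRight]
  rfl

/-- `M ↦ M ⊗ Q` as a functor to chain complexes. -/
@[simps]
noncomputable def tcF (Q : ChainComplex (ModuleCat.{u} A) ℕ) :
    ModuleCat.{u} A ⥤ ChainComplex (ModuleCat.{u} A) ℕ where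
  obj M := tc M Q
  map f := tcMap f Q

/-- `Tor_n(M, N) ≅ H_n(M ⊗ Q)` for a projective resolution `Q` of `N`. -/
noncomputable def torIso {N : ModuleCat.{u} A} (Q : ProjectiveResolution N) (M : ModuleCat.{u} A)
    (n : ℕ) : ((Tor (ModuleCat.{u} A) n).obj M).obj N ≅ (tc M Q.complex).homology n :=
  Q.isoLeftDerivedObj (tensorLeft M) n

lemma torIso_naturality {N : ModuleCat.{u} A} (Q : ProjectiveResolution N)
    {M M' : ModuleCat.{u} A} (f : M ⟶ M') (n : ℕ) :
    ((Tor (ModuleCat.{u} A) n).map f).app N ≫ (torIso Q M' n).hom =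
      (torIso Q M n).hom ≫ HomologicalComplex.homologyMap (tcMap f Q.complex) n := by
  have h := ProjectiveResolution.leftDerived_app_eq
    ((tensoringLeft (ModuleCat.{u} A)).map f) Q n
  change (NatTrans.leftDerived ((tensoringLeft (ModuleCat.{u} A)).map f) n).app N ≫
    (Q.isoLeftDerivedObj ((tensoringLeft (ModuleCat.{u} A)).obj M') n).hom =
    (Q.isoLeftDerivedObj ((tensoringLeft (ModuleCat.{u} A)).obj M) n).hom ≫ _
  rw [h, Category.assoc, Category.assoc, Iso.inv_hom_id, Category.comp_id]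
  rfl

/-- Naturality in the second variable, for a lift of `g : N ⟶ N'` to resolutions. -/
lemma torIso_naturality₂ {N N' : ModuleCat.{u} A} (Q : ProjectiveResolution N)
    (Q' : ProjectiveResolution N') (g : N ⟶ N') (φ : Q.complex ⟶ Q'.complex)
    (hφ : φ.f 0 ≫ Q'.π.f 0 = Q.π.f 0 ≫ g) (M : ModuleCat.{u} A) (n : ℕ) :
    ((Tor (ModuleCat.{u} A) n).obj M).map g ≫ (torIso Q' M n).hom =
      (torIso Q M n).hom ≫ HomologicalComplex.homologyMap
        (((tensorLeft M).mapHomologicalComplex _).map φ) n :=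
  ProjectiveResolution.isoLeftDerivedObj_hom_naturality g Q Q' φ hφ (tensorLeft M) n

/-- `Tor_n(-, N) ≅ H_n(- ⊗ Q)` as functors. -/
noncomputable def torFlipIso {N : ModuleCat.{u} A} (Q : ProjectiveResolution N) (n : ℕ) :
    (Tor (ModuleCat.{u} A) n).flip.obj N ≅
      tcF Q.complex ⋙ HomologicalComplex.homologyFunctor _ _ n :=
  NatIso.ofComponents (fun M => torIso Q M n) (fun f => torIso_naturality Q f n)

section LES

variable (S : ShortComplex (ModuleCat.{u} A)) (Q : ChainComplex (ModuleCat.{u} A) ℕ)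

/-- The short complex of complexes `S.X₁ ⊗ Q ⟶ S.X₂ ⊗ Q ⟶ S.X₃ ⊗ Q`. -/
noncomputable def SC : ShortComplex (ChainComplex (ModuleCat.{u} A) ℕ) :=
  ShortComplex.mk (tcMap S.f Q) (tcMap S.g Q) (by rw [← tcMap_comp, S.zero, tcMap_zero])

lemma SC_shortExact (hS : S.ShortExact) (hQ : ∀ k, Module.Flat A (Q.X k)) :
    (SC S Q).ShortExact := by
  refine HomologicalComplex.shortExact_of_degreewise_shortExact _ (fun k => ?_)
  have := hQ k
  exact hS.map_of_exact (tensorRight (Q.X k))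

end LES

section LES₁

variable {N : ModuleCat.{u} A} (Q : ProjectiveResolution N)
  (S : ShortComplex (ModuleCat.{u} A)) (hS : S.ShortExact)

lemma flat_X (k : ℕ) : Module.Flat A (Q.complex.X k) := by
  have : Projective (Q.complex.X k) := Q.projective k
  infer_instance

include hS in
/-- The short exact sequence of complexes `S ⊗ Q`. -/
lemma SC_shortExact' : (SC S Q.complex).ShortExact :=
  SC_shortExact S Q.complex hS (flat_X Q)

/-- iso to homology -/
noncomputable def j₁ (n : ℕ) :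
    ((Tor (ModuleCat.{u} A) n).obj S.X₁).obj N ≅ (SC S Q.complex).X₁.homology n := torIso Q S.X₁ n
/-- iso to homology -/
noncomputable def j₂ (n : ℕ) :
    ((Tor (ModuleCat.{u} A) n).obj S.X₂).obj N ≅ (SC S Q.complex).X₂.homology n := torIso Q S.X₂ n
/-- iso to homology -/
noncomputable def j₃ (n : ℕ) :
    ((Tor (ModuleCat.{u} A) n).obj S.X₃).obj N ≅ (SC S Q.complex).X₃.homology n := torIso Q S.X₃ n

lemma j₁_nat (n : ℕ) : ((Tor (ModuleCat.{u} A) n).map S.f).app N ≫ (j₂ Q S n).hom =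
    (j₁ Q S n).hom ≫ HomologicalComplex.homologyMap (SC S Q.complex).f n :=
  torIso_naturality Q S.f n

lemma j₂_nat (n : ℕ) : ((Tor (ModuleCat.{u} A) n).map S.g).app N ≫ (j₃ Q S n).hom =
    (j₂ Q S n).hom ≫ HomologicalComplex.homologyMap (SC S Q.complex).g n :=
  torIso_naturality Q S.g n

/-- The connecting morphism `Tor_{n+1}(S.X₃, N) ⟶ Tor_n(S.X₁, N)`. -/
noncomputable def δ₁ (n : ℕ) :
    ((Tor (ModuleCat.{u} A) (n + 1)).obj S.X₃).obj N ⟶ ((Tor (ModuleCat.{u} A) n).obj S.X₁).obj N :=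
  (j₃ Q S (n + 1)).hom ≫ (SC_shortExact' Q S hS).δ (n + 1) n rfl ≫ (j₁ Q S n).inv

include Q in
lemma map_f_g (n : ℕ) :
    ((Tor (ModuleCat.{u} A) n).map S.f).app N ≫ ((Tor (ModuleCat.{u} A) n).map S.g).app N = 0 := by
  rw [← cancel_mono (j₃ Q S n).hom, Category.assoc, j₂_nat, ← Category.assoc, j₁_nat,
    Category.assoc, ← HomologicalComplex.homologyMap_comp, (SC S Q.complex).zero,
    HomologicalComplex.homologyMap_zero, comp_zero, zero_comp]

include hS in
lemma exact₂ (n : ℕ) :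
    (ShortComplex.mk (((Tor (ModuleCat.{u} A) n).map S.f).app N)
      (((Tor (ModuleCat.{u} A) n).map S.g).app N) (map_f_g Q S n)).Exact := by
  refine ShortComplex.exact_of_iso ?_ ((SC_shortExact' Q S hS).homology_exact₂ n)
  exact (ShortComplex.isoMk (j₁ Q S n) (j₂ Q S n) (j₃ Q S n)
    (j₁_nat Q S n).symm (j₂_nat Q S n).symm).symm

lemma map_g_δ (n : ℕ) : ((Tor (ModuleCat.{u} A) (n + 1)).map S.g).app N ≫ δ₁ Q S hS n = 0 := by
  have := (SC_shortExact' Q S hS).comp_δ (n + 1) n rfl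
  rw [δ₁, ← Category.assoc, j₂_nat, Category.assoc, reassoc_of% this]
  simp

lemma δ_map_f (n : ℕ) : δ₁ Q S hS n ≫ ((Tor (ModuleCat.{u} A) n).map S.f).app N = 0 := by
  have := (SC_shortExact' Q S hS).δ_comp (n + 1) n rfl
  have h2 : (j₁ Q S n).inv ≫ ((Tor (ModuleCat.{u} A) n).map S.f).app N =
      HomologicalComplex.homologyMap (SC S Q.complex).f n ≫ (j₂ Q S n).inv := by
    rw [Iso.inv_comp_eq, ← Category.assoc, ← j₁_nat, Category.assoc, Iso.hom_inv_id,
      Category.comp_id]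
  rw [δ₁, Category.assoc, Category.assoc, h2, reassoc_of% this]
  simp

lemma exact₃ (n : ℕ) :
    (ShortComplex.mk (((Tor (ModuleCat.{u} A) (n + 1)).map S.g).app N) (δ₁ Q S hS n)
      (map_g_δ Q S hS n)).Exact := by
  refine ShortComplex.exact_of_iso ?_ ((SC_shortExact' Q S hS).homology_exact₃ (n + 1) n rfl)
  refine (ShortComplex.isoMk (j₂ Q S (n + 1)) (j₃ Q S (n + 1)) (j₁ Q S n)
    (j₂_nat Q S (n + 1)).symm ?_).symm
  simp [δ₁]

lemma exact₁ (n : ℕ) :
    (ShortComplex.mk (δ₁ Q S hS n) (((Tor (ModuleCat.{u} A) n).map S.f).app N)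
      (δ_map_f Q S hS n)).Exact := by
  refine ShortComplex.exact_of_iso ?_ ((SC_shortExact' Q S hS).homology_exact₁ (n + 1) n rfl)
  refine (ShortComplex.isoMk (j₃ Q S (n + 1)) (j₁ Q S n) (j₂ Q S n)
    ?_ (j₁_nat Q S n).symm).symm
  simp [δ₁]

include hS Q in
lemma epi_map_g_zero : Epi (((Tor (ModuleCat.{u} A) 0).map S.g).app N) := by
  have hepi : Epi ((SC S Q.complex).g.f 0) := by
    have := (SC_shortExact' Q S hS).epi_g
    infer_instance
  have h1 : Epi (HomologicalComplex.opcyclesMap (SC S Q.complex).g 0) := inferInstance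
  have h2 : Epi (HomologicalComplex.homologyMap (SC S Q.complex).g 0) := by
    have e := ChainComplex.isoHomologyι₀_inv_naturality (φ := (SC S Q.complex).g)
    have : HomologicalComplex.homologyMap (SC S Q.complex).g 0 =
        (SC S Q.complex).X₂.isoHomologyι₀.hom ≫ HomologicalComplex.opcyclesMap (SC S Q.complex).g 0 ≫
          (SC S Q.complex).X₃.isoHomologyι₀.inv := by
      rw [← e, Iso.hom_inv_id_assoc]
    rw [this]
    infer_instance
  have h3 : ((Tor (ModuleCat.{u} A) 0).map S.g).app N =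
      (j₂ Q S 0).hom ≫ HomologicalComplex.homologyMap (SC S Q.complex).g 0 ≫
        (j₃ Q S 0).inv := by
    rw [← Category.assoc, ← j₂_nat, Category.assoc, Iso.hom_inv_id, Category.comp_id]
  rw [h3]
  infer_instance

end LES₁

/-- **Long exact sequence of `Tor` in the first variable.** -/
theorem tor_les₁ (S : ShortComplex (ModuleCat.{u} A)) (hS : S.ShortExact) (N : ModuleCat.{u} A)
    (n : ℕ) :
    (∃ w₀ : ((Tor (ModuleCat.{u} A) n).map S.f).app N ≫ ((Tor (ModuleCat.{u} A) n).map S.g).app N = 0,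
        (ShortComplex.mk _ _ w₀).Exact) ∧
      Epi (((Tor (ModuleCat.{u} A) 0).map S.g).app N) ∧
      ∃ (δ : ((Tor (ModuleCat.{u} A) (n + 1)).obj S.X₃).obj N ⟶ ((Tor (ModuleCat.{u} A) n).obj S.X₁).obj N)
        (w₁ : ((Tor (ModuleCat.{u} A) (n + 1)).map S.g).app N ≫ δ = 0)
        (w₂ : δ ≫ ((Tor (ModuleCat.{u} A) n).map S.f).app N = 0),
        (ShortComplex.mk _ _ w₁).Exact ∧ (ShortComplex.mk _ _ w₂).Exact :=
  let Q := ProjectiveResolution.of N
  ⟨⟨map_f_g Q S n, exact₂ Q S hS n⟩, epi_map_g_zero Q S hS,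
    ⟨δ₁ Q S hS n, map_g_δ Q S hS n, δ_map_f Q S hS n, exact₃ Q S hS n, exact₁ Q S hS n⟩⟩

end Groth.Agent.Lib.helper6.TorRes
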