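import Mathlib
import Groth.Agent.Lib.helper21.LeftDerivedLES
import Groth.Agent.Lib.helper6.TorRes
import Groth.Agent.Lib.helper6.DeltaCompare

/-!
# Balancing of `Tor` on `ModuleCat A` (objectwise isomorphisms), vanishing for flat modules,
`Tor_0 ≅ ⊗`.
-/

set_option autoImplicit false

namespace Groth.Agent.Lib.helper6.TorBal

open CategoryTheory CategoryTheory.Limits MonoidalCategory
open Groth.Agent.Lib.helper6

universe u v' u'

section General

variable {C : Type*} [Category C] [Abelian C] [HasProjectiveResolutions C]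
  {D : Type*} [Category D] [Abelian D]

/-- Naturality of `fromLeftDerivedZero` in the functor. -/
lemma fromLeftDerivedZero_naturality {F G : C ⥤ D} [F.Additive] [G.Additive] (α : F ⟶ G) (X : C) :
    (NatTrans.leftDerived α 0).app X ≫ G.fromLeftDerivedZero.app X =
      F.fromLeftDerivedZero.app X ≫ α.app X := by
  let P := projectiveResolution X
  rw [P.fromLeftDerivedZero_eq F, P.fromLeftDerivedZero_eq G, P.leftDerived_app_eq α 0]
  simp only [Category.assoc, Iso.inv_hom_id_assoc]
  congr 1
  let φ := (NatTrans.mapHomologicalComplex α (ComplexShape.down ℕ)).app P.complex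
  have h1 := HomologicalComplex.homologyι_naturality φ 0
  have h2 : HomologicalComplex.opcyclesMap φ 0 ≫ P.fromLeftDerivedZero' G =
      P.fromLeftDerivedZero' F ≫ α.app X := by
    rw [← cancel_epi (HomologicalComplex.pOpcycles _ _)]
    simp only [φ, HomologicalComplex.p_opcyclesMap_assoc, NatTrans.mapHomologicalComplex_app_f,
      ProjectiveResolution.pOpcycles_comp_fromLeftDerivedZero',
      ProjectiveResolution.pOpcycles_comp_fromLeftDerivedZero'_assoc]
    exact (α.naturality _).symm
  calc _ = (HomologicalComplex.homologyMap φ 0 ≫ HomologicalComplex.homologyι _ 0) ≫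
        P.fromLeftDerivedZero' G := by rw [Category.assoc]; rfl
    _ = HomologicalComplex.homologyι _ 0 ≫ (HomologicalComplex.opcyclesMap φ 0 ≫
        P.fromLeftDerivedZero' G) := by rw [h1, Category.assoc]
    _ = _ := by rw [h2]; rfl

end General

variable {A : Type u} [CommRing A]

/-- `Tor_{n+1}(M, N) = 0` for `M` flat. -/
lemma isZero_tor_succ_of_flat_left (M N : ModuleCat.{u} A) [Module.Flat A M] (n : ℕ) :
    IsZero (((Tor (ModuleCat.{u} A) (n + 1)).obj M).obj N) := by
  let P := ProjectiveResolution.of N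
  refine IsZero.of_iso ?_ (TorRes.torIso P M (n + 1))
  rw [← HomologicalComplex.exactAt_iff_isZero_homology, HomologicalComplex.exactAt_iff]
  have h1 : (P.complex.sc (n + 1)).Exact := (HomologicalComplex.exactAt_iff _ _).1
    (P.complex_exactAt_succ n)
  exact Module.Flat.lTensor_shortComplex_exact M _ h1

/-- `H_{n+1}(P ⊗ N) = 0` for `N` flat and `P` a projective resolution. -/
lemma isZero_homology_tensorRight_of_flat {M : ModuleCat.{u} A} (P : ProjectiveResolution M)
    (N : ModuleCat.{u} A) [Module.Flat A N] (n : ℕ) :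
    IsZero ((((tensorRight N).mapHomologicalComplex (ComplexShape.down ℕ)).obj
      P.complex).homology (n + 1)) := by
  rw [← HomologicalComplex.exactAt_iff_isZero_homology, HomologicalComplex.exactAt_iff]
  have h1 : (P.complex.sc (n + 1)).Exact := (HomologicalComplex.exactAt_iff _ _).1
    (P.complex_exactAt_succ n)
  exact Module.Flat.rTensor_shortComplex_exact N _ h1

/-- `Tor_0(M, N) ≅ M ⊗ N`, naturally in `N`. -/
noncomputable def torZeroIso (M : ModuleCat.{u} A) :
    (Tor (ModuleCat.{u} A) 0).obj M ≅ tensorLeft M :=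
  (tensorLeft M).leftDerivedZeroIsoSelf

/-- `Tor_0(M, N) ≅ M ⊗ N`, naturally in `M`. -/
noncomputable def torZeroFlipIso (N : ModuleCat.{u} A) :
    (Tor (ModuleCat.{u} A) 0).flip.obj N ≅ tensorRight N :=
  NatIso.ofComponents (fun M => (torZeroIso M).app N) (by
    intro M M' f
    exact fromLeftDerivedZero_naturality ((tensoringLeft (ModuleCat.{u} A)).map f) N)

/-- The δ-functor `Tor_n(-, N)`. -/
noncomputable def T (N : ModuleCat.{u} A) (n : ℕ) : ModuleCat.{u} A ⥤ ModuleCat.{u} A :=
  (Tor (ModuleCat.{u} A) n).flip.obj N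

/-- The δ-functor `L_n(- ⊗ N)`. -/
noncomputable def T' (N : ModuleCat.{u} A) (n : ℕ) : ModuleCat.{u} A ⥤ ModuleCat.{u} A :=
  (tensorRight N).leftDerived n

lemma isDelta_T (N : ModuleCat.{u} A) : DeltaCompare.IsDelta (T N) where
  les S hS n := (TorRes.tor_les₁ S hS N n).2.2
  vanish P _ n := isZero_tor_succ_of_flat_left P N n

lemma isDelta_T' (N : ModuleCat.{u} A) : DeltaCompare.IsDelta (T' N) where
  les S hS n := (Groth.Agent.H21.LES.leftDerived_les (tensorRight N) S hS n).2.2
  vanish _ _ _ := Functor.isZero_leftDerived_obj_projective_succ _ _ _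

/-- **Balancing**: `Tor_n(M, N) ≅ L_n(- ⊗ N)(M)`. -/
theorem nonempty_tor_iso_leftDerived_tensorRight (M N : ModuleCat.{u} A) (n : ℕ) :
    Nonempty (((Tor (ModuleCat.{u} A) n).obj M).obj N ≅ ((tensorRight N).leftDerived n).obj M) :=
  DeltaCompare.nonempty_iso (isDelta_T N) (isDelta_T' N)
    (torZeroFlipIso N ≪≫ (tensorRight N).leftDerivedZeroIsoSelf.symm) n M

/-- **Balancing**: `Tor_n(M, N) ≅ H_n(P ⊗ N)` for a projective resolution `P` of `M`. -/
theorem nonempty_tor_iso_homology_left (M N : ModuleCat.{u} A) (P : ProjectiveResolution M)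
    (n : ℕ) :
    Nonempty (((Tor (ModuleCat.{u} A) n).obj M).obj N ≅
      (((tensorRight N).mapHomologicalComplex (ComplexShape.down ℕ)).obj P.complex).homology n) := by
  obtain ⟨e⟩ := nonempty_tor_iso_leftDerived_tensorRight M N n
  exact ⟨e ≪≫ P.isoLeftDerivedObj (tensorRight N) n⟩

/-- `Tor_{n+1}(M, N) = 0` for `N` flat. -/
lemma isZero_tor_succ_of_flat_right (M N : ModuleCat.{u} A) [Module.Flat A N] (n : ℕ) :
    IsZero (((Tor (ModuleCat.{u} A) (n + 1)).obj M).obj N) := by
  obtain ⟨e⟩ := nonempty_tor_iso_homology_left M N (ProjectiveResolution.of M) (n + 1)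
  exact IsZero.of_iso (isZero_homology_tensorRight_of_flat _ N n) e

end Groth.Agent.Lib.helper6.TorBal
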