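import Mathlib
import Groth.Agent.Lib.helper6.TorBal

/-!
# Base change for `Tor`
-/

set_option autoImplicit false

namespace Groth.Agent.Lib.helper6.TorBC

open CategoryTheory CategoryTheory.Limits MonoidalCategory
open Groth.Agent.Lib.helper6

universe u

section General

variable {C D : Type*} [Category C] [Category D] [Abelian C] [Abelian D]

/-- An exact functor preserving projectives maps projective resolutions to projective
resolutions. -/
noncomputable def mapRes (F : C ⥤ D) [F.Additive] [F.PreservesHomology]
    (hproj : ∀ X : C, Projective X → Projective (F.obj X)) {Z : C} (P : ProjectiveResolution Z) :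
    ProjectiveResolution (F.obj Z) where
  complex := (F.mapHomologicalComplex _).obj P.complex
  projective n := hproj _ (P.projective n)
  π := (F.mapHomologicalComplex _).map P.π ≫
    (HomologicalComplex.singleMapHomologicalComplex F (ComplexShape.down ℕ) 0).hom.app Z
  quasiIso := inferInstance

end General

section bc

variable (A A' : Type u) [CommRing A] [CommRing A'] [Algebra A A']

/-- The base change functor `A' ⊗[A] -`. -/
noncomputable def bc : ModuleCat.{u} A ⥤ ModuleCat.{u} A' where
  obj M := ModuleCat.of A' (TensorProduct A A' M)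
  map g := ModuleCat.ofHom (LinearMap.baseChange A' g.hom)
  map_id M := by
    ext : 1
    simp
  map_comp g h := by
    ext : 1
    simp [LinearMap.baseChange_comp]

instance : (bc A A').Additive where
  map_add {M N g h} := by
    ext : 1
    simp only [bc, ModuleCat.hom_add, LinearMap.baseChange_add, ModuleCat.hom_ofHom]
    rfl

lemma bc_projective (X : ModuleCat.{u} A) (hX : Projective X) : Projective ((bc A A').obj X) := by
  rw [← IsProjective.iff_projective] at hX ⊢
  change Module.Projective A' (TensorProduct A A' X)
  infer_instance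

lemma bc_shortExact [Module.Flat A A'] (S : ShortComplex (ModuleCat.{u} A)) (hS : S.ShortExact) :
    (S.map (bc A A')).ShortExact := by
  refine ModuleCat.shortComplex_shortExact _ ?_ ?_ ?_
  · have h1 : Function.Exact S.f.hom S.g.hom :=
      (ShortComplex.ShortExact.moduleCat_exact_iff_function_exact S).1 hS.exact
    have h2 := lTensor_exact A' h1 hS.moduleCat_surjective_g
    intro x
    exact h2 x
  · have := Module.Flat.lTensor_preserves_injective_linearMap (M := A') S.f.hom
      hS.moduleCat_injective_f
    exact this
  · exact LinearMap.lTensor_surjective A' hS.moduleCat_surjective_g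

noncomputable instance [Module.Flat A A'] : (bc A A').PreservesHomology :=
  ((Functor.exact_tfae (bc A A')).out 0 2).1 (bc_shortExact A A')

end bc

section General2

variable {C D : Type*} [Category C] [Category D] [Abelian C] [Abelian D]

/-- An exact functor commutes with homology of complexes. -/
noncomputable def mapHomologyIso' (F : C ⥤ D) [F.Additive] [F.PreservesHomology]
    (K : ChainComplex C ℕ) (n : ℕ) :
    ((F.mapHomologicalComplex _).obj K).homology n ≅ F.obj (K.homology n) :=
  (K.sc n).mapHomologyIso F

end General2

section main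

variable (A A' : Type u) [CommRing A] [CommRing A'] [Algebra A A']
  (P' : Type u) [AddCommGroup P'] [Module A' P'] [Module A P'] [IsScalarTower A A' P']

/-- The component of the cancellation isomorphism, as a linear equivalence. -/
noncomputable def θequiv (X : ModuleCat.{u} A) :
    ((ModuleCat.restrictScalars (algebraMap A A')).obj
      ((ModuleCat.of A' P') ⊗ (bc A A').obj X) : Type u) ≃ₗ[A]
      (((ModuleCat.of A P') ⊗ X : ModuleCat.{u} A) : Type u) where
  toFun := fun t => TensorProduct.AlgebraTensorModule.cancelBaseChange A A' A' P' X t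
  invFun := fun t => (TensorProduct.AlgebraTensorModule.cancelBaseChange A A' A' P' X).symm t
  map_add' := fun x y => map_add _ x y
  map_smul' := fun a t => by
    let t' : TensorProduct A' P' (TensorProduct A A' X) := t
    change TensorProduct.AlgebraTensorModule.cancelBaseChange A A' A' P' X
      ((algebraMap A A' a) • t') = a • TensorProduct.AlgebraTensorModule.cancelBaseChange A A' A' P' X t'
    rw [map_smul, algebraMap_smul]
  left_inv := fun t => LinearEquiv.symm_apply_apply _ t
  right_inv := fun t => LinearEquiv.apply_symm_apply _ t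

/-- The component of the cancellation isomorphism. -/
noncomputable def θapp (X : ModuleCat.{u} A) :
    (ModuleCat.restrictScalars (algebraMap A A')).obj
      ((ModuleCat.of A' P') ⊗ (bc A A').obj X) ≅ (ModuleCat.of A P') ⊗ X :=
  (θequiv A A' P' X).toModuleIso

lemma θapp_hom_tmul (X : ModuleCat.{u} A) (p : P') (a' : A') (x : X) :
    (θapp A A' P' X).hom.hom (p ⊗ₜ[A'] (a' ⊗ₜ[A] x) : TensorProduct A' P' (TensorProduct A A' X)) =
      ((a' • p) ⊗ₜ[A] x : TensorProduct A P' X) :=
  TensorProduct.AlgebraTensorModule.cancelBaseChange_tmul ..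

omit [Module A P'] [IsScalarTower A A' P'] in
lemma addHom_ext {Z : Type*} [AddCommMonoid Z] (X : Type u) [AddCommGroup X] [Module A X]
    (φ ψ : TensorProduct A' P' (TensorProduct A A' X) →+ Z)
    (h : ∀ (p : P') (a' : A') (x : X), φ (p ⊗ₜ[A'] (a' ⊗ₜ[A] x)) = ψ (p ⊗ₜ[A'] (a' ⊗ₜ[A] x))) :
    φ = ψ := by
  ext t
  induction t using TensorProduct.induction_on with
  | zero => simp
  | add t₁ t₂ h₁ h₂ => rw [map_add, map_add, h₁, h₂]
  | tmul p s =>
    induction s using TensorProduct.induction_on with
    | zero => simp
    | add s₁ s₂ h₁ h₂ => rw [TensorProduct.tmul_add, map_add, map_add, h₁, h₂]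
    | tmul a' x => exact h p a' x

/-- The cancellation isomorphism `Res (P' ⊗[A'] (A' ⊗[A] -)) ≅ P' ⊗[A] -`. -/
noncomputable def θ :
    bc A A' ⋙ tensorLeft (ModuleCat.of A' P') ⋙ ModuleCat.restrictScalars (algebraMap A A') ≅
      tensorLeft (ModuleCat.of A P') :=
  NatIso.ofComponents (θapp A A' P') (by
    intro X Y g
    ext t
    have key := addHom_ext A A' P' X
      (Z := TensorProduct A P' Y)
      ((ModuleCat.Hom.hom ((bc A A' ⋙ tensorLeft (ModuleCat.of A' P') ⋙
        ModuleCat.restrictScalars (algebraMap A A')).map g ≫ (θapp A A' P' Y).hom)).toAddMonoidHom)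
      ((ModuleCat.Hom.hom ((θapp A A' P' X).hom ≫
        (tensorLeft (ModuleCat.of A P')).map g)).toAddMonoidHom)
      (fun p a' x => by
        change (θapp A A' P' Y).hom.hom (p ⊗ₜ[A'] (a' ⊗ₜ[A] g.hom x)) =
          ((ModuleCat.of A P') ◁ g).hom ((θapp A A' P' X).hom.hom (p ⊗ₜ[A'] (a' ⊗ₜ[A] x)))
        erw [θapp_hom_tmul])
    exact DFunLike.congr_fun key t)

/-- **Flat base change for `Tor`** (second variable resolved), as an isomorphism of `A`-modules. -/
noncomputable def torBCIso [Module.Flat A A'] (Q : ModuleCat.{u} A) (n : ℕ) :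
    ((Tor (ModuleCat.{u} A) n).obj (ModuleCat.of A P')).obj Q ≅
      (ModuleCat.restrictScalars (algebraMap A A')).obj
        (((Tor (ModuleCat.{u} A') n).obj (ModuleCat.of A' P')).obj ((bc A A').obj Q)) := by
  let R := ProjectiveResolution.of Q
  let R' := mapRes (bc A A') (bc_projective A A') R
  let G := bc A A' ⋙ tensorLeft (ModuleCat.of A' P') ⋙
    ModuleCat.restrictScalars (algebraMap A A')
  let i1 := R.isoLeftDerivedObj (tensorLeft (ModuleCat.of A P')) n
  let i2 : ((G.mapHomologicalComplex _).obj R.complex).homology n ≅
      (((tensorLeft (ModuleCat.of A P')).mapHomologicalComplex _).obj R.complex).homology n :=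
    (HomologicalComplex.homologyFunctor _ _ n).mapIso
      ((NatIso.mapHomologicalComplex (θ A A' P') _).app R.complex)
  let K' := ((tensorLeft (ModuleCat.of A' P')).mapHomologicalComplex _).obj R'.complex
  let i3 : ((G.mapHomologicalComplex _).obj R.complex) ≅
      (((ModuleCat.restrictScalars (algebraMap A A')).mapHomologicalComplex _).obj K') :=
    Iso.refl _
  let i4 := mapHomologyIso' (ModuleCat.restrictScalars (algebraMap A A')) K' n
  let i5 := R'.isoLeftDerivedObj (tensorLeft (ModuleCat.of A' P')) n
  exact i1 ≪≫ i2.symm ≪≫ (HomologicalComplex.homologyFunctor _ _ n).mapIso i3 ≪≫ i4 ≪≫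
    (ModuleCat.restrictScalars (algebraMap A A')).mapIso i5.symm

end main

section semilinear

variable {A A' : Type u} [CommRing A] [CommRing A'] [Algebra A A']

/-- An isomorphism `X ≅ Res Y` of `A`-modules gives a semilinear bijection `X → Y`. -/
noncomputable def semilinearOfIso {X : ModuleCat.{u} A} {Y : ModuleCat.{u} A'}
    (e : X ≅ (ModuleCat.restrictScalars (algebraMap A A')).obj Y) :
    X →ₛₗ[algebraMap A A'] Y where
  toFun := fun x => e.hom.hom x
  map_add' := fun x y => map_add e.hom.hom x y
  map_smul' := fun a x => by
    have h := e.hom.hom.map_smul a x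
    exact h.trans (ModuleCat.restrictScalars.smul_def (algebraMap A A') a (e.hom.hom x))

lemma semilinearOfIso_bijective {X : ModuleCat.{u} A} {Y : ModuleCat.{u} A'}
    (e : X ≅ (ModuleCat.restrictScalars (algebraMap A A')).obj Y) :
    Function.Bijective (semilinearOfIso e) :=
  (ConcreteCategory.bijective_of_isIso e.hom)

end semilinear

end Groth.Agent.Lib.helper6.TorBC
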