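import Mathlib
import Groth.Agent.Lib.helper6.FinFreeRes
import Groth.Agent.Lib.helper6.TorBC

/-!
# Projective dimension under exact functors, localization, base change
-/

set_option autoImplicit false

namespace Groth.Agent.Lib.helper6.PdLoc

open CategoryTheory CategoryTheory.Limits
open Groth.Agent.Lib.helper6

universe u

section General

variable {C : Type*} {D : Type*} [Category C] [Category D] [Abelian C] [Abelian D]

/-- An exact functor preserving projectives does not increase projective dimension. -/
theorem hasProjectiveDimensionLT_map [EnoughProjectives C] (F : C ⥤ D) [F.Additive]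
    (hex : ∀ S : ShortComplex C, S.ShortExact → (S.map F).ShortExact)
    (hproj : ∀ X : C, Projective X → Projective (F.obj X)) :
    ∀ (n : ℕ) (X : C), HasProjectiveDimensionLT X n → HasProjectiveDimensionLT (F.obj X) n := by
  intro n
  induction n with
  | zero =>
    intro X hX
    rw [hasProjectiveDimensionLT_zero_iff_isZero] at hX ⊢
    exact F.map_isZero hX
  | succ n ih =>
    intro X hX
    rcases n with _ | m
    · have : Projective X := projective_iff_hasProjectiveDimensionLT_one.mpr hX
      have := hproj X this
      infer_instance
    · let S : ShortComplex C := ShortComplex.mk (kernel.ι (Projective.π X)) (Projective.π X)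
        (kernel.condition _)
      have hS : S.ShortExact :=
        { exact := ShortComplex.exact_of_f_is_kernel _ (kernelIsKernel _) }
      have hP : Projective S.X₂ := inferInstanceAs (Projective (Projective.over X))
      have hK : HasProjectiveDimensionLT S.X₁ (m + 1) :=
        (hS.hasProjectiveDimensionLT_X₃_iff m hP).mp hX
      have hK' := ih _ hK
      have hS' := hex S hS
      have hP' : Projective (S.map F).X₂ := hproj _ hP
      exact (hS'.hasProjectiveDimensionLT_X₃_iff m hP').mpr hK'

lemma pd_le_of_forall (X : C) (Y : D)
    (h : ∀ n : ℕ, HasProjectiveDimensionLT X n → HasProjectiveDimensionLT Y n) :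
    projectiveDimension Y ≤ projectiveDimension X := by
  refine le_of_forall_ge (fun N => ?_)
  induction N with
  | bot =>
    intro hN
    have h0 : projectiveDimension X < (0 : ℕ) := by
      rw [le_bot_iff] at hN
      rw [hN]
      exact WithBot.bot_lt_coe _
    rw [projectiveDimension_lt_iff] at h0
    have h1 := h 0 h0
    rw [← projectiveDimension_lt_iff] at h1
    rw [le_bot_iff]
    exact WithBot.lt_coe_bot.mp (by simpa using h1)
  | coe N =>
    induction N with
    | top => intro _; exact le_top
    | coe n =>
      intro hN
      have h0 : projectiveDimension X ≤ (n : ℕ) := hN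
      rw [projectiveDimension_le_iff] at h0
      have h1 : HasProjectiveDimensionLE Y n := h (n + 1) h0
      rw [← projectiveDimension_le_iff] at h1
      exact h1

end General

variable {A : Type u} [CommRing A]

/-- `M.localizedModule S ≅ LocalizedModule S M`. -/
noncomputable def localizedModuleIso (S : Submonoid A) (M : Type u) [AddCommGroup M] [Module A M] :
    (ModuleCat.of A M).localizedModule S ≅
      ModuleCat.of (Localization S) (LocalizedModule S M) :=
  (Shrink.linearEquiv (Localization S) (LocalizedModule S M)).toModuleIso

lemma localizedModuleFunctor_shortExact (S : Submonoid A)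
    (T : ShortComplex (ModuleCat.{u} A)) (hT : T.ShortExact) :
    (T.map (ModuleCat.localizedModuleFunctor.{u} S)).ShortExact :=
  hT.map_of_exact _

section Syz

variable [IsNoetherianRing A]

open FinFreeRes

lemma seq_succ' (X : FGMod A) (n : ℕ) : X.seq (n + 1) = X.next.seq n := by
  induction n with
  | zero => rfl
  | succ n ih =>
    change (X.seq (n + 1)).next = (X.next.seq n).next
    rw [ih]

/-- Dimension shifting along the chosen finite free resolution, after an exact functor. -/
theorem hasProjectiveDimensionLT_iff_projective_syz {D : Type*} [Category D] [Abelian D]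
    (F : ModuleCat.{u} A ⥤ D) [F.Additive]
    (hex : ∀ S : ShortComplex (ModuleCat.{u} A), S.ShortExact → (S.map F).ShortExact)
    (hproj : ∀ X : ModuleCat.{u} A, Projective X → Projective (F.obj X)) :
    ∀ (n : ℕ) (X : FGMod A),
      HasProjectiveDimensionLT (F.obj X.M) (n + 1) ↔ Projective (F.obj (X.seq n).M) := by
  intro n
  induction n with
  | zero =>
    intro X
    exact projective_iff_hasProjectiveDimensionLT_one.symm
  | succ n ih =>
    intro X
    have hS := LinearMap.shortExact_shortComplexKer X.cover_surjective
    have hS' := hex _ hS
    have hP : Projective X.cover.shortComplexKer.X₂ := by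
      have : Module.Projective A (Fin X.rk → A) := inferInstance
      exact inferInstanceAs (Projective (ModuleCat.of A (Fin X.rk → A)))
    have hP' : Projective (X.cover.shortComplexKer.map F).X₂ := hproj _ hP
    rw [seq_succ']
    rw [← ih X.next]
    exact hS'.hasProjectiveDimensionLT_X₃_iff n hP'

variable (M : Type u) [AddCommGroup M] [Module A M] [Module.Finite A M]

variable (A) in
/-- The bundled module. -/
noncomputable def fg : FGMod A := ⟨ModuleCat.of A M, inferInstanceAs (Module.Finite A M)⟩

variable (A) in
/-- The `n`-th syzygy of the chosen resolution. -/
noncomputable def syz (n : ℕ) : ModuleCat.{u} A := ((fg A M).seq n).M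

instance (n : ℕ) : Module.Finite A (syz A M n) := ((fg A M).seq n).fin

/-- `pd (S⁻¹M) ≤ n` iff the localized `n`-th syzygy is projective. -/
theorem hasProjectiveDimensionLT_localized_iff (S : Submonoid A) (n : ℕ) :
    HasProjectiveDimensionLT (ModuleCat.of (Localization S) (LocalizedModule S M)) (n + 1) ↔
      Module.Projective (Localization S) (LocalizedModule S (syz A M n)) := by
  have h1 := hasProjectiveDimensionLT_iff_projective_syz
    (ModuleCat.localizedModuleFunctor.{u} S) (localizedModuleFunctor_shortExact S)
    (fun X hX => (ModuleCat.localizedModuleFunctor.{u} S).projective_obj_of_projective hX)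
    n (fg A M)
  have e1 := localizedModuleIso S M
  have e2 := localizedModuleIso S (syz A M n)
  constructor
  · intro h
    have h2 : HasProjectiveDimensionLT ((ModuleCat.of A M).localizedModule S) (n + 1) :=
      hasProjectiveDimensionLT_of_iso e1.symm _
    have h3 : Projective ((syz A M n).localizedModule S) := h1.mp h2
    have h4 : Projective (ModuleCat.of (Localization S) (LocalizedModule S (syz A M n))) :=
      Projective.of_iso e2 h3
    exact (IsProjective.iff_projective _).mpr h4
  · intro h
    have h4 : Projective (ModuleCat.of (Localization S) (LocalizedModule S (syz A M n))) :=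
      (IsProjective.iff_projective _).mp h
    have h3 : Projective ((syz A M n).localizedModule S) := Projective.of_iso e2.symm h4
    have h2 : HasProjectiveDimensionLT ((ModuleCat.of A M).localizedModule S) (n + 1) := h1.mpr h3
    exact hasProjectiveDimensionLT_of_iso e1 _

/-- `pd M_p ≤ n` iff `p` is in the free locus of the `n`-th syzygy. -/
theorem hasProjectiveDimensionLT_atPrime_iff (p : PrimeSpectrum A) (n : ℕ) :
    HasProjectiveDimensionLT (ModuleCat.of (Localization.AtPrime p.asIdeal)
      (LocalizedModule p.asIdeal.primeCompl M)) (n + 1) ↔ p ∈ Module.freeLocus A (syz A M n) := by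
  rw [Module.mem_freeLocus]
  rw [hasProjectiveDimensionLT_localized_iff M p.asIdeal.primeCompl n]
  constructor
  · intro h
    have h' : Module.Projective (Localization.AtPrime p.asIdeal)
        (LocalizedModule p.asIdeal.primeCompl (syz A M n)) := h
    have : Module.Flat (Localization.AtPrime p.asIdeal)
        (LocalizedModule p.asIdeal.primeCompl (syz A M n)) := Module.Flat.of_projective
    exact Module.free_of_flat_of_isLocalRing
  · intro h
    have h' : Module.Free (Localization.AtPrime p.asIdeal)
        (LocalizedModule p.asIdeal.primeCompl (syz A M n)) := h
    exact Module.Projective.of_free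

/-- `pd M_s ≤ n` iff `D(s)` is in the free locus of the `n`-th syzygy. -/
theorem hasProjectiveDimensionLT_away_iff (s : A) (n : ℕ) :
    HasProjectiveDimensionLT (ModuleCat.of (Localization.Away s)
      (LocalizedModule (Submonoid.powers s) M)) (n + 1) ↔
      (PrimeSpectrum.basicOpen s : Set (PrimeSpectrum A)) ⊆ Module.freeLocus A (syz A M n) := by
  have : Module.FinitePresentation A (syz A M n) := Module.finitePresentation_of_finite A _
  rw [Module.basicOpen_subset_freeLocus_iff]
  exact hasProjectiveDimensionLT_localized_iff M (Submonoid.powers s) n

end Syz

end Groth.Agent.Lib.helper6.PdLoc
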