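import Mathlib
import Groth.Agent.Lib.helper21.LeftDerivedLES
import Groth.Agent.Lib.helper6.TorBal

/-!
# Dimension shifting for `Tor` on `ModuleCat A` in both variables, projective dimension.
-/

set_option autoImplicit false

namespace Groth.Agent.Lib.helper6.TorDim

open CategoryTheory CategoryTheory.Limits MonoidalCategory
open Groth.Agent.Lib.helper6

universe u

variable {A : Type u} [CommRing A]

/-- LES in the second variable (from helper21). -/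
theorem tor_les₂ (M : ModuleCat.{u} A) (S : ShortComplex (ModuleCat.{u} A)) (hS : S.ShortExact)
    (n : ℕ) :
    (∃ w₀ : ((Tor (ModuleCat.{u} A) n).obj M).map S.f ≫ ((Tor (ModuleCat.{u} A) n).obj M).map S.g = 0,
        (ShortComplex.mk _ _ w₀).Exact) ∧
      Epi (((Tor (ModuleCat.{u} A) 0).obj M).map S.g) ∧
      ∃ (δ : ((Tor (ModuleCat.{u} A) (n + 1)).obj M).obj S.X₃ ⟶ ((Tor (ModuleCat.{u} A) n).obj M).obj S.X₁)
        (w₁ : ((Tor (ModuleCat.{u} A) (n + 1)).obj M).map S.g ≫ δ = 0)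
        (w₂ : δ ≫ ((Tor (ModuleCat.{u} A) n).obj M).map S.f = 0),
        (ShortComplex.mk _ _ w₁).Exact ∧ (ShortComplex.mk _ _ w₂).Exact :=
  Groth.Agent.H21.LES.leftDerived_les ((tensoringLeft (ModuleCat.{u} A)).obj M) S hS n

/-- If `Tor_{n+1}(M, S.X₂) = 0` and `Tor_n(M, S.X₁) = 0` then `Tor_{n+1}(M, S.X₃) = 0`. -/
lemma isZero_tor_X₃ (M : ModuleCat.{u} A) {S : ShortComplex (ModuleCat.{u} A)} (hS : S.ShortExact)
    (n : ℕ) (h₂ : IsZero (((Tor (ModuleCat.{u} A) (n + 1)).obj M).obj S.X₂))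
    (h₁ : IsZero (((Tor (ModuleCat.{u} A) n).obj M).obj S.X₁)) :
    IsZero (((Tor (ModuleCat.{u} A) (n + 1)).obj M).obj S.X₃) := by
  obtain ⟨-, -, δ, w₁, w₂, e₁, e₂⟩ := tor_les₂ M S hS n
  exact e₁.isZero_X₂ (h₂.eq_of_src _ _) (h₁.eq_of_tgt _ _)

/-- If `Tor_n(M, S.X₁) = 0` and `Tor_n(M, S.X₃) = 0` then `Tor_n(M, S.X₂) = 0`. -/
lemma isZero_tor_X₂ (M : ModuleCat.{u} A) {S : ShortComplex (ModuleCat.{u} A)} (hS : S.ShortExact)
    (n : ℕ) (h₁ : IsZero (((Tor (ModuleCat.{u} A) n).obj M).obj S.X₁))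
    (h₃ : IsZero (((Tor (ModuleCat.{u} A) n).obj M).obj S.X₃)) :
    IsZero (((Tor (ModuleCat.{u} A) n).obj M).obj S.X₂) := by
  obtain ⟨⟨w₀, e₀⟩, -, -⟩ := tor_les₂ M S hS n
  exact e₀.isZero_X₂ (h₁.eq_of_src _ _) (h₃.eq_of_tgt _ _)

/-- If `Tor_{n+1}(M, S.X₃) = 0` and `Tor_n(M, S.X₂) = 0` then `Tor_n(M, S.X₁) = 0`. -/
lemma isZero_tor_X₁ (M : ModuleCat.{u} A) {S : ShortComplex (ModuleCat.{u} A)} (hS : S.ShortExact)
    (n : ℕ) (h₃ : IsZero (((Tor (ModuleCat.{u} A) (n + 1)).obj M).obj S.X₃))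
    (h₂ : IsZero (((Tor (ModuleCat.{u} A) n).obj M).obj S.X₂)) :
    IsZero (((Tor (ModuleCat.{u} A) n).obj M).obj S.X₁) := by
  obtain ⟨-, -, δ, w₁, w₂, e₁, e₂⟩ := tor_les₂ M S hS n
  exact e₂.isZero_X₂ (h₃.eq_of_src _ _) (h₂.eq_of_tgt _ _)

/-- First-variable versions. -/
lemma isZero_tor_X₃' (N : ModuleCat.{u} A) {S : ShortComplex (ModuleCat.{u} A)} (hS : S.ShortExact)
    (n : ℕ) (h₂ : IsZero (((Tor (ModuleCat.{u} A) (n + 1)).obj S.X₂).obj N))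
    (h₁ : IsZero (((Tor (ModuleCat.{u} A) n).obj S.X₁).obj N)) :
    IsZero (((Tor (ModuleCat.{u} A) (n + 1)).obj S.X₃).obj N) := by
  obtain ⟨-, -, δ, w₁, w₂, e₁, e₂⟩ := TorRes.tor_les₁ S hS N n
  exact e₁.isZero_X₂ (h₂.eq_of_src _ _) (h₁.eq_of_tgt _ _)

lemma isZero_tor_X₂' (N : ModuleCat.{u} A) {S : ShortComplex (ModuleCat.{u} A)} (hS : S.ShortExact)
    (n : ℕ) (h₁ : IsZero (((Tor (ModuleCat.{u} A) n).obj S.X₁).obj N))
    (h₃ : IsZero (((Tor (ModuleCat.{u} A) n).obj S.X₃).obj N)) :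
    IsZero (((Tor (ModuleCat.{u} A) n).obj S.X₂).obj N) := by
  obtain ⟨⟨w₀, e₀⟩, -, -⟩ := TorRes.tor_les₁ S hS N n
  exact e₀.isZero_X₂ (h₁.eq_of_src _ _) (h₃.eq_of_tgt _ _)

lemma isZero_tor_X₁' (N : ModuleCat.{u} A) {S : ShortComplex (ModuleCat.{u} A)} (hS : S.ShortExact)
    (n : ℕ) (h₃ : IsZero (((Tor (ModuleCat.{u} A) (n + 1)).obj S.X₃).obj N))
    (h₂ : IsZero (((Tor (ModuleCat.{u} A) n).obj S.X₂).obj N)) :
    IsZero (((Tor (ModuleCat.{u} A) n).obj S.X₁).obj N) := by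
  obtain ⟨-, -, δ, w₁, w₂, e₁, e₂⟩ := TorRes.tor_les₁ S hS N n
  exact e₂.isZero_X₂ (h₃.eq_of_src _ _) (h₂.eq_of_tgt _ _)

/-- Projective dimension `< q + 1` in the second variable kills `Tor_i` for `i > q`. -/
theorem isZero_tor_of_hasProjectiveDimensionLT (M : ModuleCat.{u} A) :
    ∀ (q : ℕ) (N : ModuleCat.{u} A) [HasProjectiveDimensionLT N (q + 1)] (i : ℕ), q < i →
      IsZero (((Tor (ModuleCat.{u} A) i).obj M).obj N) := by
  intro q
  induction q with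
  | zero =>
    intro N hN i hi
    have : Projective N := projective_iff_hasProjectiveDimensionLT_one.mpr hN
    obtain ⟨j, rfl⟩ : ∃ j, i = j + 1 := ⟨i - 1, by omega⟩
    exact isZero_Tor_succ_of_projective _ M N j
  | succ q ih =>
    intro N hN i hi
    obtain ⟨j, rfl⟩ : ∃ j, i = j + 1 := ⟨i - 1, by omega⟩
    have hS := DeltaCompare.pres_shortExact N
    have hK : HasProjectiveDimensionLT (DeltaCompare.pres N).X₁ (q + 1) :=
      (hS.hasProjectiveDimensionLT_X₃_iff q inferInstance).mp hN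
    refine isZero_tor_X₃ M hS j ?_ (ih _ j (by omega))
    exact isZero_Tor_succ_of_projective _ M _ j

end Groth.Agent.Lib.helper6.TorDim
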