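import Mathlib
import Groth.Agent.Lib.helper6.TorDim

/-!
# `Tor` against finite length modules over a local ring
-/

set_option autoImplicit false

namespace Groth.Agent.Lib.helper6.TorLength

open CategoryTheory CategoryTheory.Limits MonoidalCategory
open Groth.Agent.Lib.helper6

universe u

variable {R : Type u} [CommRing R]

/-- Isomorphic first arguments give isomorphic `Tor`. -/
noncomputable def torMapIso₁ {N N' : ModuleCat.{u} R} (e : N ≅ N') (M : ModuleCat.{u} R) (n : ℕ) :
    ((Tor (ModuleCat.{u} R) n).obj N).obj M ≅ ((Tor (ModuleCat.{u} R) n).obj N').obj M :=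
  ((Tor (ModuleCat.{u} R) n).mapIso e).app M

/-- Isomorphic second arguments give isomorphic `Tor`. -/
noncomputable def torMapIso₂ (N : ModuleCat.{u} R) {M M' : ModuleCat.{u} R} (e : M ≅ M') (n : ℕ) :
    ((Tor (ModuleCat.{u} R) n).obj N).obj M ≅ ((Tor (ModuleCat.{u} R) n).obj N).obj M' :=
  ((Tor (ModuleCat.{u} R) n).obj N).mapIso e

/-- The short exact sequence `0 → N' → N → N/N' → 0` in `ModuleCat`. -/
noncomputable def quotSC {N : Type u} [AddCommGroup N] [Module R N] (N' : Submodule R N) :
    ShortComplex (ModuleCat.{u} R) :=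
  ShortComplex.mk (ModuleCat.ofHom N'.subtype) (ModuleCat.ofHom N'.mkQ)
    (by ext x; simp)

lemma quotSC_shortExact {N : Type u} [AddCommGroup N] [Module R N] (N' : Submodule R N) :
    (quotSC N').ShortExact := by
  refine ModuleCat.shortComplex_shortExact _ ?_ N'.injective_subtype N'.mkQ_surjective
  intro x
  change N'.mkQ x = 0 ↔ x ∈ Set.range N'.subtype
  simp only [Submodule.mkQ_apply, Submodule.Quotient.mk_eq_zero, Submodule.coe_subtype,
    Subtype.range_coe_subtype]
  rfl

/-- If `Tor_n(κ, M) = 0` over a local ring then `Tor_n(N, M) = 0` for all finite length `N`. -/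
theorem isZero_tor_of_isFiniteLength [IsLocalRing R] (M : ModuleCat.{u} R) (n : ℕ)
    (h : IsZero (((Tor (ModuleCat.{u} R) n).obj (ModuleCat.of R (IsLocalRing.ResidueField R))).obj M))
    (N : Type u) [AddCommGroup N] [Module R N] (hN : IsFiniteLength R N) :
    IsZero (((Tor (ModuleCat.{u} R) n).obj (ModuleCat.of R N)).obj M) := by
  induction hN with
  | @of_subsingleton N _ _ _ =>
    cases n with
    | zero =>
      refine IsZero.of_iso ?_ ((TorBal.torZeroIso (ModuleCat.of R N)).app M)
      rw [ModuleCat.isZero_iff_subsingleton]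
      change Subsingleton (TensorProduct R N M)
      infer_instance
    | succ n => exact TorBal.isZero_tor_succ_of_flat_left (ModuleCat.of R N) M n
  | @of_simple_quotient N _ _ N' hs _ ih =>
    have hS := quotSC_shortExact N'
    refine TorDim.isZero_tor_X₂' M hS n ih ?_
    obtain ⟨I, hI, ⟨e⟩⟩ := isSimpleModule_iff_quot_maximal.1 hs
    have hI' : I = IsLocalRing.maximalIdeal R := IsLocalRing.eq_maximalIdeal hI
    subst hI'
    let e' : (N ⧸ N') ≃ₗ[R] IsLocalRing.ResidueField R := e.trans (LinearEquiv.refl R _)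
    exact IsZero.of_iso h (torMapIso₁ e'.toModuleIso M n)

end Groth.Agent.Lib.helper6.TorLength
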