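import Mathlib
import Groth.Agent.Lib.helper6.TorDim

/-!
# `Tor_i(M, R/(x)) = 0` for `x` regular on `R` and `M`
-/

set_option autoImplicit false

namespace Groth.Agent.Lib.helper6.TorReg

open CategoryTheory CategoryTheory.Limits MonoidalCategory
open Groth.Agent.Lib.helper6

universe u

variable {R : Type u} [CommRing R]

/-- The short complex `R --x--> R --> R/(x)`. -/
noncomputable def mulSC (x : R) : ShortComplex (ModuleCat.{u} R) :=
  ShortComplex.mk (ModuleCat.ofHom (LinearMap.lsmul R R x))
    (ModuleCat.ofHom (Submodule.mkQ (Ideal.span {x})))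
    (by
      ext
      simp only [ModuleCat.hom_comp, ModuleCat.hom_ofHom, LinearMap.coe_comp, Function.comp_apply,
        LinearMap.lsmul_apply, smul_eq_mul, mul_one, Submodule.mkQ_apply, ModuleCat.hom_zero,
        LinearMap.zero_apply, Submodule.Quotient.mk_eq_zero]
      exact Ideal.mem_span_singleton_self x)

lemma mulSC_shortExact (x : R) (hxR : IsSMulRegular R x) : (mulSC x).ShortExact := by
  refine ModuleCat.shortComplex_shortExact _ ?_ ?_ (Submodule.mkQ_surjective _)
  · intro y
    change (Submodule.mkQ (Ideal.span {x})) y = 0 ↔ y ∈ Set.range (LinearMap.lsmul R R x)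
    simp only [Submodule.mkQ_apply, Submodule.Quotient.mk_eq_zero]
    rw [Ideal.mem_span_singleton']
    constructor
    · rintro ⟨a, rfl⟩; exact ⟨a, mul_comm _ _⟩
    · rintro ⟨a, rfl⟩; exact ⟨a, mul_comm _ _⟩
  · exact hxR

/-- `Tor_0(M, f)` is mono as soon as `M ⊗ f` is. -/
lemma mono_tor_zero_map_of_mono (M : ModuleCat.{u} R) {X Y : ModuleCat.{u} R} (f : X ⟶ Y)
    (h1 : Mono ((tensorLeft M).map f)) :
    Mono (((Tor (ModuleCat.{u} R) 0).obj M).map f) := by
  have hn := (TorBal.torZeroIso M).hom.naturality f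
  have i1 : IsIso ((TorBal.torZeroIso M).hom.app X) := inferInstance
  have i2 : Mono ((TorBal.torZeroIso M).hom.app X) := IsIso.mono_of_iso _
  have h5 : Mono ((TorBal.torZeroIso M).hom.app X ≫ (tensorLeft M).map f) := mono_comp _ _
  have h4 : Mono (((Tor (ModuleCat.{u} R) 0).obj M).map f ≫
      (TorBal.torZeroIso M).hom.app Y) := by
    rw [hn]
    exact h5
  exact mono_of_mono (((Tor (ModuleCat.{u} R) 0).obj M).map f)
    ((TorBal.torZeroIso M).hom.app Y)

lemma mono_tor_zero_map (M : ModuleCat.{u} R) (x : R) (hxM : IsSMulRegular M x) :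
    Mono (((Tor (ModuleCat.{u} R) 0).obj M).map (mulSC x).f) := by
  have h1 : Mono ((tensorLeft M).map (mulSC x).f) := by
    rw [ModuleCat.mono_iff_injective]
    have : ((tensorLeft M).map (mulSC x).f).hom =
        (LinearMap.lTensor M (LinearMap.lsmul R R x)) := rfl
    change Function.Injective ((tensorLeft M).map (mulSC x).f).hom
    rw [this]
    have h2 : LinearMap.lTensor M (LinearMap.lsmul R R x) = x • LinearMap.id := by
      ext m
      simp only [TensorProduct.AlgebraTensorModule.curry_apply, TensorProduct.curry_apply,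
        LinearMap.coe_restrictScalars, LinearMap.lTensor_tmul, LinearMap.lsmul_apply, smul_eq_mul,
        mul_one, LinearMap.smul_apply, LinearMap.id_coe, id_eq]
      rw [← TensorProduct.tmul_smul, smul_eq_mul, mul_one]
    rw [h2]
    intro (a : TensorProduct R M R) (b : TensorProduct R M R) hab
    have hab' : x • a = x • b := hab
    apply (TensorProduct.rid R M).injective
    apply hxM
    change x • _ = x • _
    rw [← map_smul, ← map_smul, hab']
  exact mono_tor_zero_map_of_mono M _ h1

theorem isZero_tor_quot_of_regular (M : ModuleCat.{u} R) (x : R) (hxR : IsSMulRegular R x)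
    (hxM : IsSMulRegular M x) (i : ℕ) :
    IsZero (((Tor (ModuleCat.{u} R) (i + 1)).obj M).obj (ModuleCat.of R (R ⧸ Ideal.span {x}))) := by
  have hS := mulSC_shortExact x hxR
  have hproj : Projective (ModuleCat.of R R) := by
    rw [← IsProjective.iff_projective]
    infer_instance
  have hp1 : Projective (mulSC x).X₁ := hproj
  have hp2 : Projective (mulSC x).X₂ := hproj
  cases i with
  | succ j =>
    exact TorDim.isZero_tor_X₃ M hS (j + 1) (isZero_Tor_succ_of_projective _ M _ (j + 1))
      (isZero_Tor_succ_of_projective _ M _ j)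
  | zero =>
    obtain ⟨-, -, δ, w₁, w₂, e₁, e₂⟩ := TorDim.tor_les₂ M _ hS 0
    have hz : IsZero (((Tor (ModuleCat.{u} R) (0 + 1)).obj M).obj (mulSC x).X₂) :=
      isZero_Tor_succ_of_projective _ M _ 0
    have hm : Mono δ := e₁.mono_g (hz.eq_of_src _ _)
    have hm2 := mono_tor_zero_map M x hxM
    have hδ : δ = 0 := by
      rw [← cancel_mono (((Tor (ModuleCat.{u} R) 0).obj M).map (mulSC x).f), w₂, zero_comp]
    exact @IsZero.of_mono_eq_zero _ _ _ _ _ δ hm hδ

end Groth.Agent.Lib.helper6.TorReg
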