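import Mathlib
import Groth.Agent.Lib.helper6.TorReg
import Groth.Agent.Lib.helper6.TorLength

/-!
# Projective dimension over a Noetherian local ring via `Tor(k, -)`
-/

set_option autoImplicit false

namespace Groth.Agent.Lib.helper6.TorLocal

open CategoryTheory CategoryTheory.Limits MonoidalCategory
open Groth.Agent.Lib.helper6

universe u

variable {R : Type u} [CommRing R]

/-- If `Tor_1(M, S.X₃) = 0` then `M ⊗ S.f` is a monomorphism. -/
lemma mono_tensorLeft_map_of_isZero_tor_one (M : ModuleCat.{u} R)
    {S : ShortComplex (ModuleCat.{u} R)} (hS : S.ShortExact)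
    (h : IsZero (((Tor (ModuleCat.{u} R) 1).obj M).obj S.X₃)) :
    Mono ((tensorLeft M).map S.f) := by
  obtain ⟨-, -, δ, w₁, w₂, e₁, e₂⟩ := TorDim.tor_les₂ M _ hS 0
  have hm : Mono (((Tor (ModuleCat.{u} R) 0).obj M).map S.f) := e₂.mono_g (h.eq_of_src _ _)
  have hn := (TorBal.torZeroIso M).hom.naturality S.f
  have i2 : Mono ((TorBal.torZeroIso M).hom.app S.X₂) := IsIso.mono_of_iso _
  have h5 : Mono (((Tor (ModuleCat.{u} R) 0).obj M).map S.f ≫
      (TorBal.torZeroIso M).hom.app S.X₂) := mono_comp _ _
  rw [hn] at h5
  have i3 : IsIso ((TorBal.torZeroIso M).hom.app S.X₁) := inferInstance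
  have h6 : (tensorLeft M).map S.f = inv ((TorBal.torZeroIso M).hom.app S.X₁) ≫
      ((TorBal.torZeroIso M).hom.app S.X₁ ≫ (tensorLeft M).map S.f) := by
    rw [IsIso.inv_hom_id_assoc]
  rw [h6]
  have i4 : Mono (inv ((TorBal.torZeroIso M).hom.app S.X₁)) := IsIso.mono_of_iso _
  exact mono_comp _ _

/-- Over a Noetherian local ring, a finite module with `Tor_1(k, M) = 0` is projective. -/
theorem projective_of_isZero_tor_one [IsLocalRing R] [IsNoetherianRing R]
    (M : Type u) [AddCommGroup M] [Module R M] [Module.Finite R M]
    (h : IsZero (((Tor (ModuleCat.{u} R) 1).obj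
      (ModuleCat.of R (IsLocalRing.ResidueField R))).obj (ModuleCat.of R M))) :
    Module.Free R M := by
  obtain ⟨P, _, _, _, _, f, surjf⟩ := Module.exists_finite_presentation R M
  have hS := LinearMap.shortExact_shortComplexKer surjf
  have hm := mono_tensorLeft_map_of_isZero_tor_one
    (ModuleCat.of R (IsLocalRing.ResidueField R)) hS h
  rw [ModuleCat.mono_iff_injective] at hm
  have hinj : Function.Injective
      (LinearMap.lTensor (IsLocalRing.ResidueField R) (LinearMap.ker f).subtype) := hm
  exact Module.free_of_lTensor_residueField_injective (LinearMap.ker f).subtype f surjf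
    (LinearMap.exact_subtype_ker_map f) hinj

theorem hasProjectiveDimensionLT_of_isZero_tor [IsLocalRing R] [IsNoetherianRing R] :
    ∀ (n : ℕ) (M : Type u) [AddCommGroup M] [Module R M] [Module.Finite R M],
      IsZero (((Tor (ModuleCat.{u} R) (n + 1)).obj
        (ModuleCat.of R (IsLocalRing.ResidueField R))).obj (ModuleCat.of R M)) →
      HasProjectiveDimensionLT (ModuleCat.of R M) (n + 1) := by
  intro n
  induction n with
  | zero =>
    intro M _ _ _ h
    have := projective_of_isZero_tor_one M h
    have : Projective (ModuleCat.of R M) := by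
      rw [← IsProjective.iff_projective]
      infer_instance
    exact projective_iff_hasProjectiveDimensionLT_one.mp this
  | succ n ih =>
    intro M _ _ _ h
    obtain ⟨P, _, _, _, _, f, surjf⟩ := Module.exists_finite_presentation R M
    have hS := LinearMap.shortExact_shortComplexKer surjf
    have hproj : Projective (ModuleCat.of R P) := by
      rw [← IsProjective.iff_projective]
      infer_instance
    have hproj' : Projective (f.shortComplexKer).X₂ := hproj
    have hK : IsZero (((Tor (ModuleCat.{u} R) (n + 1)).obj
        (ModuleCat.of R (IsLocalRing.ResidueField R))).obj (ModuleCat.of R (LinearMap.ker f))) :=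
      TorDim.isZero_tor_X₁ _ hS (n + 1) h (isZero_Tor_succ_of_projective _ _ _ n)
    have := ih (LinearMap.ker f) hK
    exact (hS.hasProjectiveDimensionLT_X₃_iff n hproj').mpr this

end Groth.Agent.Lib.helper6.TorLocal
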