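import Mathlib
import Groth.Agent.Lib.helper6.TorLocal
import Groth.Agent.Lib.helper6.TorDim

/-!
# Serre's converse, part A: depth zero case.

If `R` is a Noetherian local ring with an element `r ≠ 0` killed by the maximal ideal, and the
residue field has finite projective dimension, then the maximal ideal is zero.
-/

set_option autoImplicit false

namespace Groth.Agent.Lib.helper6.SerreConvA

open CategoryTheory CategoryTheory.Limits MonoidalCategory IsLocalRing
open Groth.Agent.Lib.helper6

universe u

section general

variable {A : Type u} [CommRing A]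

lemma flat_of_projective (M : ModuleCat.{u} A) [Projective M] : Module.Flat A M := by
  have h : Projective (ModuleCat.of A M) := ‹Projective M›
  rw [← IsProjective.iff_projective] at h
  infer_instance

/-- Projective dimension `< q + 1` in the first variable kills `Tor_i` for `i > q`. -/
theorem isZero_tor_of_hasProjectiveDimensionLT_left (N : ModuleCat.{u} A) :
    ∀ (q : ℕ) (M : ModuleCat.{u} A) [HasProjectiveDimensionLT M (q + 1)] (i : ℕ), q < i →
      IsZero (((Tor (ModuleCat.{u} A) i).obj M).obj N) := by
  intro q
  induction q with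
  | zero =>
    intro M hM i hi
    have : Projective M := projective_iff_hasProjectiveDimensionLT_one.mpr hM
    obtain ⟨j, rfl⟩ : ∃ j, i = j + 1 := ⟨i - 1, by omega⟩
    haveI := flat_of_projective M
    exact TorBal.isZero_tor_succ_of_flat_left M N j
  | succ q ih =>
    intro M hM i hi
    obtain ⟨j, rfl⟩ : ∃ j, i = j + 1 := ⟨i - 1, by omega⟩
    have hS := DeltaCompare.pres_shortExact M
    have hK : HasProjectiveDimensionLT (DeltaCompare.pres M).X₁ (q + 1) :=
      (hS.hasProjectiveDimensionLT_X₃_iff q inferInstance).mp hM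
    refine TorDim.isZero_tor_X₃' N hS j ?_ (ih _ j (by omega))
    haveI := flat_of_projective (DeltaCompare.pres M).X₂
    exact TorBal.isZero_tor_succ_of_flat_left _ N j

end general

variable {R : Type u} [CommRing R] [IsLocalRing R] [IsNoetherianRing R]

/-- The map `κ → R`, `1 ↦ r`, when `𝔪 r = 0`. -/
noncomputable def socleMap (r : R) (hr : ∀ a ∈ maximalIdeal R, a * r = 0) :
    ResidueField R →ₗ[R] R :=
  Submodule.liftQ (maximalIdeal R) (LinearMap.toSpanSingleton R R r) (by
    intro a ha
    simp only [LinearMap.mem_ker, LinearMap.toSpanSingleton_apply, smul_eq_mul]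
    exact hr a ha)

lemma socleMap_residue (r : R) (hr : ∀ a ∈ maximalIdeal R, a * r = 0) (a : R) :
    socleMap r hr (residue R a) = a * r := by
  change Submodule.liftQ _ _ _ (Submodule.Quotient.mk a) = _
  rw [Submodule.liftQ_apply]
  simp

lemma socleMap_injective (r : R) (hr : ∀ a ∈ maximalIdeal R, a * r = 0) (hr0 : r ≠ 0) :
    Function.Injective (socleMap r hr) := by
  rw [← LinearMap.ker_eq_bot, LinearMap.ker_eq_bot']
  intro y hy
  obtain ⟨a, rfl⟩ := residue_surjective y
  rw [socleMap_residue] at hy
  by_contra hne
  have hu : IsUnit a := by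
    by_contra hnu
    apply hne
    exact (residue_eq_zero_iff a).mpr ((mem_maximalIdeal a).mpr hnu)
  apply hr0
  obtain ⟨u, rfl⟩ := hu
  simpa using congrArg (fun z => (↑u⁻¹ : R) * z) hy

/-- key step: `pd κ < d + 2 ⇒ pd κ < d + 1` if `𝔪 r = 0`, `r ≠ 0`. -/
lemma step (r : R) (hr : ∀ a ∈ maximalIdeal R, a * r = 0) (hr0 : r ≠ 0) (d : ℕ)
    (h : HasProjectiveDimensionLT (ModuleCat.of R (ResidueField R)) (d + 2)) :
    HasProjectiveDimensionLT (ModuleCat.of R (ResidueField R)) (d + 1) := by
  let f : ModuleCat.of R (ResidueField R) ⟶ ModuleCat.of R R := ModuleCat.ofHom (socleMap r hr)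
  have hf : Mono f := (ModuleCat.mono_iff_injective _).mpr (socleMap_injective r hr hr0)
  let S : ShortComplex (ModuleCat.{u} R) :=
    ShortComplex.mk f (cokernel.π f) (cokernel.condition f)
  have hS : S.ShortExact :=
    { exact := ShortComplex.exact_cokernel f, mono_f := hf, epi_g := by dsimp [S]; infer_instance }
  apply TorLocal.hasProjectiveDimensionLT_of_isZero_tor d (ResidueField R)
  refine TorDim.isZero_tor_X₁ (ModuleCat.of R (ResidueField R)) hS (d + 1) ?_ ?_
  · exact isZero_tor_of_hasProjectiveDimensionLT_left _ (d + 1) _ (d + 2) (by omega)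
  · have : Module.Flat R (ModuleCat.of R R) := inferInstanceAs (Module.Flat R R)
    exact TorBal.isZero_tor_succ_of_flat_right (ModuleCat.of R (ResidueField R))
      (ModuleCat.of R R) d

lemma projective_residueField (r : R) (hr : ∀ a ∈ maximalIdeal R, a * r = 0) (hr0 : r ≠ 0) :
    ∀ (n : ℕ), HasProjectiveDimensionLT (ModuleCat.of R (ResidueField R)) n →
      HasProjectiveDimensionLT (ModuleCat.of R (ResidueField R)) 1 := by
  intro n
  induction n with
  | zero => intro h; exact hasProjectiveDimensionLT_of_ge _ 0 1 (by omega)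
  | succ n ih =>
    intro h
    rcases n with _ | d
    · exact h
    · exact ih (step r hr hr0 d h)

/-- **Depth zero case**: if `𝔪 r = 0` for some `r ≠ 0` and `pd κ < ∞` then `𝔪 = 0`. -/
theorem maximalIdeal_eq_bot (r : R) (hr : ∀ a ∈ maximalIdeal R, a * r = 0) (hr0 : r ≠ 0) (n : ℕ)
    (h : HasProjectiveDimensionLT (ModuleCat.of R (ResidueField R)) n) :
    maximalIdeal R = ⊥ := by
  have h1 := projective_residueField r hr hr0 n h
  have h2 : Projective (ModuleCat.of R (ResidueField R)) :=
    projective_iff_hasProjectiveDimensionLT_one.mpr h1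
  rw [← IsProjective.iff_projective] at h2
  have h3 : Module.Free R (ResidueField R) := Module.free_of_flat_of_isLocalRing
  rw [eq_bot_iff]
  intro a ha
  have h4 : ∀ x : ResidueField R, a • x = (0 : R) • x := by
    intro x
    rw [zero_smul, Algebra.smul_def]
    have : algebraMap R (ResidueField R) a = 0 := (residue_eq_zero_iff a).mpr ha
    rw [this, zero_mul]
  exact FaithfulSMul.eq_of_smul_eq_smul h4

end Groth.Agent.Lib.helper6.SerreConvA
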