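import Mathlib

/-!
# Serre's converse, part B: prime avoidance — a nonzerodivisor in `𝔪 \ 𝔪²`.
-/

set_option autoImplicit false

namespace Groth.Agent.Lib.helper6.SerreConvB

open IsLocalRing

universe u

variable {R : Type u} [CommRing R] [IsLocalRing R] [IsNoetherianRing R]

/-- prime avoidance: if no nonzero element is killed by `𝔪`, there is a nonzerodivisor in
`𝔪 \ 𝔪²`. -/
lemma exists_regular_element
    (hsoc : ∀ r : R, (∀ a ∈ maximalIdeal R, a * r = 0) → r = 0) :
    ∃ x ∈ maximalIdeal R, x ∉ maximalIdeal R ^ 2 ∧ x ∈ nonZeroDivisors R := by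
  classical
  by_contra hcon
  push Not at hcon
  have hfin : (associatedPrimes R R).Finite := associatedPrimes.finite R R
  let P : Finset (Ideal R) := insert (maximalIdeal R ^ 2) hfin.toFinset
  have hsub : ((maximalIdeal R : Ideal R) : Set R) ⊆ ⋃ i ∈ (P : Set (Ideal R)), (id i : Ideal R) := by
    intro x hx
    by_cases hx2 : x ∈ maximalIdeal R ^ 2
    · simp only [Set.mem_iUnion]
      exact ⟨maximalIdeal R ^ 2, by simp [P], hx2⟩
    · have hx3 : x ∈ ((nonZeroDivisors R : Set R))ᶜ := hcon x hx hx2
      rw [← biUnion_associatedPrimes_eq_compl_nonZeroDivisors] at hx3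
      simp only [Set.mem_iUnion] at hx3 ⊢
      obtain ⟨p, hp, hxp⟩ := hx3
      exact ⟨p, by simp [P, hp], hxp⟩
  rw [Ideal.subset_union_prime (maximalIdeal R ^ 2) (maximalIdeal R ^ 2)] at hsub
  · obtain ⟨i, hi, hle⟩ := hsub
    simp only [Finset.mem_insert, Set.Finite.mem_toFinset, P] at hi
    rcases hi with rfl | hi
    · -- m ≤ m²
      have h1 : maximalIdeal R = ⊥ := by
        apply Submodule.eq_bot_of_le_smul_of_le_jacobson_bot (maximalIdeal R) (maximalIdeal R)
          (maximalIdeal R).fg_of_isNoetherianRing
        · rw [smul_eq_mul, ← pow_two]; exact hle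
        · exact (IsLocalRing.jacobson_eq_maximalIdeal _ bot_ne_top).ge
      have h2 : (1 : R) = 0 := hsoc 1 (by
        intro a ha
        rw [h1] at ha
        simp [(Submodule.mem_bot R).mp ha])
      exact one_ne_zero h2
    · -- m ≤ p associated
      have hp : i.IsPrime := hi.isPrime
      have h1 : maximalIdeal R = i :=
        (maximalIdeal.isMaximal R).eq_of_le hp.ne_top hle
      obtain ⟨-, r, hr⟩ := isAssociatedPrime_iff.mp hi
      have h2 : r = 0 := hsoc r (by
        intro a ha
        rw [h1, hr, Submodule.mem_colon_singleton] at ha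
        simpa using ha)
      apply hp.ne_top
      rw [hr, h2]
      rw [eq_top_iff]
      intro a _
      rw [Submodule.mem_colon_singleton]
      simp
  · intro i hi h1 _
    simp only [Finset.mem_insert, Set.Finite.mem_toFinset, P] at hi
    rcases hi with rfl | hi
    · exact absurd rfl h1
    · exact hi.isPrime

end Groth.Agent.Lib.helper6.SerreConvB
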