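import Mathlib

/-!
# Serre's converse, part C: for `x ∈ 𝔪 \ 𝔪²`, the residue field of `R/x` is a retract of `𝔪/x𝔪`.
-/

set_option autoImplicit false

namespace Groth.Agent.Lib.helper6.SerreConvC

open CategoryTheory IsLocalRing

universe u

variable {R : Type u} [CommRing R] [IsLocalRing R] [IsNoetherianRing R]

section
variable (x : R) [IsLocalRing (R ⧸ Ideal.span {x})]

/-- The `R`-linear map `κ(R) → κ(R/x)`. -/
noncomputable def ι : ResidueField R →ₗ[R] ResidueField (R ⧸ Ideal.span {x}) :=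
  haveI : IsLocalHom (Ideal.Quotient.mk (Ideal.span {x})) :=
    IsLocalHom.of_surjective _ Ideal.Quotient.mk_surjective
  { toFun := ResidueField.map (Ideal.Quotient.mk (Ideal.span {x}))
    map_add' := fun a b => map_add _ a b
    map_smul' := fun r a => by
      simp only [RingHom.id_apply]
      rw [Algebra.smul_def, map_mul, Algebra.smul_def]
      congr 1 }

lemma ι_one : ι x (1 : ResidueField R) = 1 := by
  haveI : IsLocalHom (Ideal.Quotient.mk (Ideal.span {x})) :=
    IsLocalHom.of_surjective _ Ideal.Quotient.mk_surjective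
  exact map_one (ResidueField.map (Ideal.Quotient.mk (Ideal.span {x})))

/-- A `κ`-linear functional on the cotangent space taking value `1` on the class of `x`. -/
lemma exists_functional (hx : x ∈ maximalIdeal R) (hx2 : x ∉ maximalIdeal R ^ 2) :
    ∃ φ : CotangentSpace R →ₗ[ResidueField R] ResidueField R,
      φ ((maximalIdeal R).toCotangent ⟨x, hx⟩) = 1 := by
  have hv : (maximalIdeal R).toCotangent ⟨x, hx⟩ ≠ 0 := by
    rw [Ne, Ideal.toCotangent_eq_zero]
    exact hx2
  obtain ⟨g, hg⟩ := LinearMap.exists_leftInverse_of_injective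
    (LinearMap.toSpanSingleton (ResidueField R) (CotangentSpace R)
      ((maximalIdeal R).toCotangent ⟨x, hx⟩)) (LinearMap.ker_toSpanSingleton _ hv)
  refine ⟨g, ?_⟩
  have := LinearMap.congr_fun hg 1
  simpa using this

/-- The `R`-linear map `𝔪 → κ(R/x)` sending `x` to `1` -/
lemma exists_pi0 (hx : x ∈ maximalIdeal R) (hx2 : x ∉ maximalIdeal R ^ 2) :
    ∃ π₀ : maximalIdeal R →ₗ[R] ResidueField (R ⧸ Ideal.span {x}), π₀ ⟨x, hx⟩ = 1 := by
  obtain ⟨φ, hφ⟩ := exists_functional x hx hx2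
  refine ⟨(ι x) ∘ₗ (φ.restrictScalars R) ∘ₗ (maximalIdeal R).toCotangent, ?_⟩
  simp only [LinearMap.coe_comp, Function.comp_apply, LinearMap.coe_restrictScalars]
  rw [hφ, ι_one]

/-- The quotient `𝔪 / x𝔪`. -/
abbrev Nq : Type u :=
  (maximalIdeal R) ⧸ (Ideal.span {x} • (⊤ : Submodule R (maximalIdeal R)))

lemma exists_pi (hx : x ∈ maximalIdeal R) (hx2 : x ∉ maximalIdeal R ^ 2) :
    ∃ π : Nq x →ₗ[R ⧸ Ideal.span {x}] ResidueField (R ⧸ Ideal.span {x}),
      π (Submodule.Quotient.mk ⟨x, hx⟩) = 1 := by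
  obtain ⟨π₀, hπ₀⟩ := exists_pi0 x hx hx2
  have hker : Ideal.span {x} • (⊤ : Submodule R (maximalIdeal R)) ≤ LinearMap.ker π₀ := by
    rw [Submodule.smul_le]
    intro a ha e _
    rw [LinearMap.mem_ker, map_smul, Algebra.smul_def]
    have : algebraMap R (ResidueField (R ⧸ Ideal.span {x})) a = 0 := by
      rw [IsScalarTower.algebraMap_apply R (R ⧸ Ideal.span {x})]
      have : algebraMap R (R ⧸ Ideal.span {x}) a = 0 := Ideal.Quotient.eq_zero_iff_mem.mpr ha
      rw [this, map_zero]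
    rw [this, zero_mul]
  let π₁ : Nq x →ₗ[R] ResidueField (R ⧸ Ideal.span {x}) := Submodule.liftQ _ π₀ hker
  refine ⟨LinearMap.extendScalarsOfSurjective
    (Ideal.Quotient.mk_surjective (I := Ideal.span {x})) π₁, ?_⟩
  change π₁ (Submodule.Quotient.mk ⟨x, hx⟩) = 1
  rw [Submodule.liftQ_apply, hπ₀]

/-- The `R/x`-linear map `κ(R/x) → 𝔪/x𝔪`, `1 ↦ [x]`. -/
lemma exists_i (hx : x ∈ maximalIdeal R) :
    ∃ i : ResidueField (R ⧸ Ideal.span {x}) →ₗ[R ⧸ Ideal.span {x}] Nq x,
      i 1 = Submodule.Quotient.mk ⟨x, hx⟩ := by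
  have hker : maximalIdeal (R ⧸ Ideal.span {x}) ≤
      LinearMap.ker (LinearMap.toSpanSingleton (R ⧸ Ideal.span {x}) (Nq x)
        (Submodule.Quotient.mk ⟨x, hx⟩)) := by
    intro a' ha'
    obtain ⟨a, rfl⟩ := Ideal.Quotient.mk_surjective a'
    have ha : a ∈ maximalIdeal R := by
      rw [mem_maximalIdeal, mem_nonunits_iff] at ha' ⊢
      intro hu
      exact ha' (hu.map _)
    rw [LinearMap.mem_ker, LinearMap.toSpanSingleton_apply]
    change a • (Submodule.Quotient.mk (⟨x, hx⟩ : maximalIdeal R) : Nq x) = 0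
    rw [← Submodule.Quotient.mk_smul, Submodule.Quotient.mk_eq_zero]
    have h1 : a • (⟨x, hx⟩ : maximalIdeal R) = x • (⟨a, ha⟩ : maximalIdeal R) := by
      ext
      simp [mul_comm]
    rw [h1]
    exact Submodule.smul_mem_smul (Ideal.mem_span_singleton_self x) Submodule.mem_top
  refine ⟨Submodule.liftQ (maximalIdeal (R ⧸ Ideal.span {x})) _ hker, ?_⟩
  change Submodule.liftQ _ _ _ (Submodule.Quotient.mk (1 : R ⧸ Ideal.span {x})) = _
  rw [Submodule.liftQ_apply, LinearMap.toSpanSingleton_apply, one_smul]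

/-- `κ(R/x)` is a retract of `𝔪/x𝔪`. -/
theorem nonempty_retract (hx : x ∈ maximalIdeal R) (hx2 : x ∉ maximalIdeal R ^ 2) :
    Nonempty (Retract (ModuleCat.of (R ⧸ Ideal.span {x}) (ResidueField (R ⧸ Ideal.span {x})))
      (ModuleCat.of (R ⧸ Ideal.span {x}) (Nq x))) := by
  obtain ⟨π, hπ⟩ := exists_pi x hx hx2
  obtain ⟨i, hi⟩ := exists_i x hx
  refine ⟨{ i := ModuleCat.ofHom i, r := ModuleCat.ofHom π, retract := ?_ }⟩
  apply ModuleCat.hom_ext
  apply LinearMap.ext
  intro y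
  obtain ⟨b, rfl⟩ := residue_surjective y
  change π (i (residue _ b)) = residue _ b
  have h1 : residue (R ⧸ Ideal.span {x}) b = b • (1 : ResidueField (R ⧸ Ideal.span {x})) := by
    rw [Algebra.smul_def, mul_one]
    rfl
  rw [h1, map_smul, map_smul, hi, hπ]

end

end Groth.Agent.Lib.helper6.SerreConvC
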