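import Mathlib
import Groth.Agent.Lib.helper6.TorBC

/-!
# Base change for `Tor` under Tor-independence (first variable base changed)
-/

set_option autoImplicit false

namespace Groth.Agent.Lib.helper6.TorBC

open CategoryTheory CategoryTheory.Limits MonoidalCategory
open Groth.Agent.Lib.helper6

universe u

section General3

variable {C D : Type*} [Category C] [Category D] [Abelian C] [Abelian D]

/-- A right exact functor preserving projectives maps a projective resolution `P` to a projective
resolution as soon as the image complex is exact in positive degrees. -/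
noncomputable def mapRes' (F : C ⥤ D) [F.Additive] [PreservesFiniteColimits F]
    (hproj : ∀ X : C, Projective X → Projective (F.obj X)) {Z : C} (P : ProjectiveResolution Z)
    (hex : ∀ n, ((F.mapHomologicalComplex _).obj P.complex).ExactAt (n + 1)) :
    ProjectiveResolution (F.obj Z) where
  complex := (F.mapHomologicalComplex _).obj P.complex
  projective n := hproj _ (P.projective n)
  π := (F.mapHomologicalComplex _).map P.π ≫
    (HomologicalComplex.singleMapHomologicalComplex F (ComplexShape.down ℕ) 0).hom.app Z
  quasiIso := ⟨fun n => by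
    cases n with
    | zero =>
      rw [ChainComplex.quasiIsoAt₀_iff, ShortComplex.quasiIso_iff_of_zeros']
      · have h1 : (ShortComplex.mk (F.map (P.complex.d 1 0)) (F.map (P.π.f 0))
            (by rw [← F.map_comp, P.complex_d_comp_π_f_zero, F.map_zero])).Exact ∧
            Epi (F.map (P.π.f 0)) := by
          rw [ShortComplex.exact_and_epi_g_iff_g_is_cokernel]
          exact ⟨CokernelCofork.mapIsColimit _ (P.isColimitCokernelCofork) F⟩
        refine (ShortComplex.exact_and_epi_g_iff_of_iso ?_).2 h1
        refine ShortComplex.isoMk (Iso.refl _) (Iso.refl _) (Iso.refl _) ?_ ?_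
        · dsimp
          erw [Category.id_comp, Category.comp_id]
          rfl
        · dsimp
          erw [Category.id_comp, Category.comp_id]
          change F.map (P.π.f 0) = F.map (P.π.f 0) ≫
            ((HomologicalComplex.singleMapHomologicalComplex F (ComplexShape.down ℕ) 0).hom.app Z).f 0
          rw [HomologicalComplex.singleMapHomologicalComplex_hom_app_self]
          simp
      · change ((F.mapHomologicalComplex (ComplexShape.down ℕ)).obj P.complex).d 0 0 = 0
        exact HomologicalComplex.shape _ _ _ (by simp)
      · rfl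
      · rfl
    | succ n =>
      rw [quasiIsoAt_iff_exactAt']
      · exact hex n
      · apply ChainComplex.exactAt_succ_single_obj⟩

end General3

section bc3

variable (A A' : Type u) [CommRing A] [CommRing A'] [Algebra A A']

lemma bc_exact_epi (S : ShortComplex (ModuleCat.{u} A)) (hS : S.ShortExact) :
    (S.map (bc A A')).Exact ∧ Epi ((bc A A').map S.g) := by
  constructor
  · refine ModuleCat.shortComplex_exact _ ?_
    have h1 : Function.Exact S.f.hom S.g.hom :=
      (ShortComplex.ShortExact.moduleCat_exact_iff_function_exact S).1 hS.exact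
    have h2 := lTensor_exact A' h1 hS.moduleCat_surjective_g
    intro x
    exact h2 x
  · rw [ModuleCat.epi_iff_surjective]
    exact LinearMap.lTensor_surjective A' hS.moduleCat_surjective_g

noncomputable instance : PreservesFiniteColimits (bc A A') :=
  (Functor.preservesFiniteColimits_iff_forall_exact_map_and_epi (bc A A')).2 (bc_exact_epi A A')

/-- `Res (A' ⊗[A] X) ≅ A' ⊗[A] X` as `A`-modules, component. -/
noncomputable def bcResEquiv (X : ModuleCat.{u} A) :
    ((ModuleCat.restrictScalars (algebraMap A A')).obj ((bc A A').obj X) : Type u) ≃ₗ[A]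
      (((ModuleCat.of A A') ⊗ X : ModuleCat.{u} A) : Type u) where
  toFun := fun t => t
  invFun := fun t => t
  map_add' := fun _ _ => rfl
  map_smul' := fun a t => by
    let t' : TensorProduct A A' X := t
    change (algebraMap A A' a) • t' = a • t'
    rw [algebraMap_smul]
  left_inv := fun _ => rfl
  right_inv := fun _ => rfl

/-- `bc ⋙ Res ≅ A' ⊗[A] -`. -/
noncomputable def bcResIso :
    bc A A' ⋙ ModuleCat.restrictScalars (algebraMap A A') ≅ tensorLeft (ModuleCat.of A A') :=
  NatIso.ofComponents (fun X => (bcResEquiv A A' X).toModuleIso) (by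
    intro X Y g
    rfl)

lemma bc_exactAt (P : ModuleCat.{u} A) (R : ProjectiveResolution P)
    (hP : ∀ q, IsZero (((Tor (ModuleCat.{u} A) (q + 1)).obj P).obj (ModuleCat.of A A'))) (n : ℕ) :
    (((bc A A').mapHomologicalComplex _).obj R.complex).ExactAt (n + 1) := by
  rw [HomologicalComplex.exactAt_iff_isZero_homology]
  let K := ((bc A A').mapHomologicalComplex _).obj R.complex
  have h0 : IsZero ((ModuleCat.restrictScalars (algebraMap A A')).obj (K.homology (n + 1))) := by
    obtain ⟨e⟩ := TorBal.nonempty_tor_iso_homology_left P (ModuleCat.of A A') R (n + 1)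
    have hz := IsZero.of_iso (hP n) e.symm
    let e1 := mapHomologyIso' (ModuleCat.restrictScalars (algebraMap A A')) K (n + 1)
    let c1 : ((ModuleCat.restrictScalars (algebraMap A A')).mapHomologicalComplex _).obj K ≅
        ((bc A A' ⋙ ModuleCat.restrictScalars (algebraMap A A')).mapHomologicalComplex _).obj
          R.complex := Iso.refl _
    let c2 := (NatIso.mapHomologicalComplex (bcResIso A A') (ComplexShape.down ℕ)).app R.complex
    let c3 := (NatIso.mapHomologicalComplex
      (BraidedCategory.tensorLeftIsoTensorRight (ModuleCat.of A A')) (ComplexShape.down ℕ)).app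
        R.complex
    exact IsZero.of_iso hz (e1.symm ≪≫
      (HomologicalComplex.homologyFunctor _ _ (n + 1)).mapIso (c1 ≪≫ c2 ≪≫ c3))
  rw [ModuleCat.isZero_iff_subsingleton] at h0 ⊢
  exact h0

/-- **Base change for `Tor` under Tor-independence.** -/
theorem nonempty_torBC3Iso (P : ModuleCat.{u} A)
    (hP : ∀ q, IsZero (((Tor (ModuleCat.{u} A) (q + 1)).obj P).obj (ModuleCat.of A A')))
    (Q' : Type u) [AddCommGroup Q'] [Module A' Q'] [Module A Q'] [IsScalarTower A A' Q'] (n : ℕ) :
    Nonempty (((Tor (ModuleCat.{u} A) n).obj P).obj (ModuleCat.of A Q') ≅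
      (ModuleCat.restrictScalars (algebraMap A A')).obj
        (((Tor (ModuleCat.{u} A') n).obj ((bc A A').obj P)).obj (ModuleCat.of A' Q'))) := by
  let R := ProjectiveResolution.of P
  let R' := mapRes' (bc A A') (bc_projective A A') R (bc_exactAt A A' P R hP)
  obtain ⟨a1⟩ := TorBal.nonempty_tor_iso_homology_left P (ModuleCat.of A Q') R n
  obtain ⟨a2⟩ := TorBal.nonempty_tor_iso_homology_left ((bc A A').obj P) (ModuleCat.of A' Q') R' n
  let K' := ((tensorRight (ModuleCat.of A' Q')).mapHomologicalComplex _).obj R'.complex
  let a3 := mapHomologyIso' (ModuleCat.restrictScalars (algebraMap A A')) K' n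
  let G := bc A A' ⋙ tensorRight (ModuleCat.of A' Q') ⋙
    ModuleCat.restrictScalars (algebraMap A A')
  let c1 : ((ModuleCat.restrictScalars (algebraMap A A')).mapHomologicalComplex _).obj K' ≅
      (G.mapHomologicalComplex _).obj R.complex := Iso.refl _
  let κ : G ≅ tensorRight (ModuleCat.of A Q') :=
    Functor.isoWhiskerLeft (bc A A') (Functor.isoWhiskerRight
      (BraidedCategory.tensorLeftIsoTensorRight (ModuleCat.of A' Q')).symm
      (ModuleCat.restrictScalars (algebraMap A A'))) ≪≫ θ A A' Q' ≪≫
      BraidedCategory.tensorLeftIsoTensorRight (ModuleCat.of A Q')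
  let c2 := (NatIso.mapHomologicalComplex κ (ComplexShape.down ℕ)).app R.complex
  exact ⟨a1 ≪≫ (HomologicalComplex.homologyFunctor _ _ n).mapIso (c2.symm ≪≫ c1.symm) ≪≫ a3 ≪≫
    (ModuleCat.restrictScalars (algebraMap A A')).mapIso a2.symm⟩

end bc3

end Groth.Agent.Lib.helper6.TorBC
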