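import Mathlib
import Groth.Agent.Lib.helper21.SyzRes

/-!
# More constructions of syzygy data: trivial data of a projective object, and splicing
-/

set_option autoImplicit false

namespace Groth.Agent.Lib.helper6.SyzExtra

open CategoryTheory CategoryTheory.Limits Groth.Agent.H21
open ZeroObject

universe v u

variable {C : Type u} [Category.{v} C] [Abelian C]

/-- Trivial syzygy data for a projective object: `M` in degree `0` and zero above. -/
noncomputable def ofProjective (M : C) [Projective M] : SyzData C where
  X n := match n with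
    | 0 => M
    | _ + 1 => 0
  F n := match n with
    | 0 => M
    | _ + 1 => 0
  π n := match n with
    | 0 => 𝟙 M
    | _ + 1 => 0
  ι n := match n with
    | 0 => 0
    | _ + 1 => 0
  w n := by
    match n with
    | 0 => exact zero_comp
    | _ + 1 => exact zero_comp
  exact n := by
    match n with
    | 0 =>
      apply ShortComplex.exact_of_f_is_kernel
      exact KernelFork.IsLimit.ofMonoOfIsZero _ inferInstance (isZero_zero C)
    | _ + 1 => exact ShortComplex.exact_of_isZero_X₂ _ (isZero_zero C)
  epi n := by
    match n with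
    | 0 => exact inferInstanceAs (Epi (𝟙 M))
    | _ + 1 => exact ⟨fun _ _ _ => (isZero_zero C).eq_of_src _ _⟩
  mono n := by
    match n with
    | 0 => exact ⟨fun _ _ _ => (isZero_zero C).eq_of_tgt _ _⟩
    | _ + 1 => exact ⟨fun _ _ _ => (isZero_zero C).eq_of_tgt _ _⟩
  proj n := by
    match n with
    | 0 => exact inferInstanceAs (Projective M)
    | _ + 1 => exact inferInstanceAs (Projective (0 : C))

/-- Splice a projective cover `π₀ : P₀ ↠ M` with kernel `D.X 0` onto syzygy data `D`. -/
noncomputable def cons (D : SyzData C) {M P₀ : C} [Projective P₀] (π₀ : P₀ ⟶ M) [Epi π₀]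
    (ι₀ : D.X 0 ⟶ P₀) [Mono ι₀] (w₀ : ι₀ ≫ π₀ = 0)
    (h₀ : (ShortComplex.mk ι₀ π₀ w₀).Exact) : SyzData C where
  X n := match n with
    | 0 => M
    | n + 1 => D.X n
  F n := match n with
    | 0 => P₀
    | n + 1 => D.F n
  π n := match n with
    | 0 => π₀
    | n + 1 => D.π n
  ι n := match n with
    | 0 => ι₀
    | n + 1 => D.ι n
  w n := by
    match n with
    | 0 => exact w₀
    | n + 1 => exact D.w n
  exact n := by
    match n with
    | 0 => exact h₀
    | n + 1 => exact D.exact n
  epi n := by
    match n with
    | 0 => exact inferInstanceAs (Epi π₀)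
    | n + 1 => exact D.epi n
  mono n := by
    match n with
    | 0 => exact inferInstanceAs (Mono ι₀)
    | n + 1 => exact D.mono n
  proj n := by
    match n with
    | 0 => exact inferInstanceAs (Projective P₀)
    | n + 1 => exact D.proj n

/-- Finite projective dimension gives syzygy data of bounded length. -/
theorem exists_syzData_of_hasProjectiveDimensionLT [EnoughProjectives C] :
    ∀ (d : ℕ) (M : C), HasProjectiveDimensionLT M (d + 1) →
      ∃ D : SyzData C, D.X 0 = M ∧ ∀ i, d < i → IsZero (D.F i) := by
  intro d
  induction d with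
  | zero =>
    intro M hM
    have : Projective M := projective_iff_hasProjectiveDimensionLT_one.mpr hM
    refine ⟨ofProjective M, rfl, ?_⟩
    intro i hi
    obtain ⟨j, rfl⟩ : ∃ j, i = j + 1 := ⟨i - 1, by omega⟩
    exact isZero_zero C
  | succ d ih =>
    intro M hM
    let S : ShortComplex C := ShortComplex.mk (kernel.ι (Projective.π M)) (Projective.π M)
      (kernel.condition _)
    have hS : S.ShortExact :=
      { exact := ShortComplex.exact_of_f_is_kernel _ (kernelIsKernel _) }
    have hK : HasProjectiveDimensionLT S.X₁ (d + 1) :=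
      (hS.hasProjectiveDimensionLT_X₃_iff d (inferInstanceAs (Projective (Projective.over M)))).mp hM
    obtain ⟨D, hD, hz⟩ := ih S.X₁ hK
    let e : D.X 0 ≅ kernel (Projective.π M) := eqToIso hD
    have w₀ : (e.hom ≫ kernel.ι (Projective.π M)) ≫ Projective.π M = 0 := by
      rw [Category.assoc, kernel.condition, comp_zero]
    have h₀ : (ShortComplex.mk (e.hom ≫ kernel.ι (Projective.π M)) (Projective.π M) w₀).Exact := by
      refine ShortComplex.exact_of_iso ?_ hS.exact
      exact ShortComplex.isoMk e.symm (Iso.refl _) (Iso.refl _) (by simp [S]) (by simp [S])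
    refine ⟨cons D (Projective.π M) (e.hom ≫ kernel.ι (Projective.π M)) w₀ h₀, rfl, ?_⟩
    intro i hi
    obtain ⟨j, rfl⟩ : ∃ j, i = j + 1 := ⟨i - 1, by omega⟩
    exact hz j (by omega)

end Groth.Agent.Lib.helper6.SyzExtra
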