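import Mathlib
import Groth.Agent.Lib.helper6.SerreConvA
import Groth.Agent.Lib.helper6.SerreConvB
import Groth.Agent.Lib.helper6.SerreConvC
import Groth.Agent.Lib.helper5.RegLoc
import Groth.Agent.Lib.helper5.RegLoc2
import Groth.Agent.S5782

/-!
# Serre's converse: a Noetherian local ring whose residue field has finite projective dimension is
regular.
-/

set_option autoImplicit false

namespace Groth.Agent.Lib.helper6.SerreConvD

open CategoryTheory IsLocalRing
open Groth.Agent.Lib.helper6

universe u

/-- `pd_R 𝔪` is finite if `pd_R κ` is. -/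
lemma pd_maximalIdeal {R : Type u} [CommRing R] [IsLocalRing R] (n : ℕ)
    (h : HasProjectiveDimensionLT (ModuleCat.of R (ResidueField R)) n) :
    HasProjectiveDimensionLT (ModuleCat.of R (maximalIdeal R)) (n + 1) := by
  have hS := LinearMap.shortExact_shortComplexKer (f := (maximalIdeal R).mkQ)
    (Submodule.mkQ_surjective _)
  have h2 : HasProjectiveDimensionLT (ModuleCat.of R R) (n + 1) := by
    have : Projective (ModuleCat.of R R) := by
      rw [← IsProjective.iff_projective]
      infer_instance
    exact hasProjectiveDimensionLT_of_ge _ 1 _ (by omega)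
  have h3 : HasProjectiveDimensionLT (ModuleCat.of R (ResidueField R)) (n + 1 + 1) :=
    hasProjectiveDimensionLT_of_ge _ n _ (by omega)
  have h1 := hS.hasProjectiveDimensionLT_X₁ (n + 1) h2 h3
  exact hasProjectiveDimensionLT_of_iso
    (LinearEquiv.ofEq _ _ (Submodule.ker_mkQ (maximalIdeal R))).toModuleIso _

theorem main : ∀ (d : ℕ) (R : Type u) [CommRing R] [IsLocalRing R] [IsNoetherianRing R],
    ringKrullDim R = d → ∀ n : ℕ,
      HasProjectiveDimensionLT (ModuleCat.of R (ResidueField R)) n → IsRegularLocalRing R := by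
  intro d
  induction d using Nat.strong_induction_on with
  | _ d ih =>
  intro R _ _ _ hd n h
  by_cases hsoc : ∀ r : R, (∀ a ∈ maximalIdeal R, a * r = 0) → r = 0
  · obtain ⟨x, hx, hx2, hreg⟩ := SerreConvB.exists_regular_element hsoc
    haveI : Nontrivial (R ⧸ Ideal.span {x}) :=
      Ideal.Quotient.nontrivial_iff.mpr (Groth.Agent.H5.RegLoc.span_singleton_ne_top hx)
    haveI : IsLocalRing (R ⧸ Ideal.span {x}) :=
      IsLocalRing.of_surjective' (Ideal.Quotient.mk (Ideal.span {x})) Ideal.Quotient.mk_surjective
    have hdim :=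
      ringKrullDim_quotient_span_singleton_succ_eq_ringKrullDim_of_mem_nonZeroDivisors hreg hx
    obtain ⟨e, he⟩ := Groth.Agent.H5.RegLoc.exists_nat_dim (R ⧸ Ideal.span {x})
    have hlt : e < d := by
      rw [he, hd] at hdim
      have : e + 1 = d := by exact_mod_cast hdim
      omega
    have hpdE := pd_maximalIdeal n h
    have hfin : projectiveDimension (ModuleCat.of R (maximalIdeal R)) ≠ ⊤ := by
      have := projectiveDimension_lt_iff.mpr hpdE
      exact ne_top_of_lt this
    have hA : IsSMulRegular R x := Module.Flat.isSMulRegular_of_nonZeroDivisors hreg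
    have hE : IsSMulRegular (maximalIdeal R) x := by
      intro a b hab
      apply Subtype.ext
      apply hA
      simpa using congrArg Subtype.val hab
    have hle := Groth.Agent.S5782.result R (maximalIdeal R) hfin x hx hA hE
    obtain ⟨ρ⟩ := SerreConvC.nonempty_retract x hx hx2
    have hκ' : projectiveDimension (ModuleCat.of (R ⧸ Ideal.span {x})
        (ResidueField (R ⧸ Ideal.span {x}))) ≠ ⊤ :=
      ne_top_of_le_ne_top hfin (ρ.projectiveDimension_le.trans hle)
    obtain ⟨n', hn'⟩ := (projectiveDimension_ne_top_iff _).mp hκ'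
    have hreg' : IsRegularLocalRing (R ⧸ Ideal.span {x}) := ih e hlt _ he (n' + 1) hn'
    apply IsRegularLocalRing.of_spanFinrank_maximalIdeal_le
    have h1 := Groth.Agent.H5.RegLoc.spanFinrank_le_succ (Ideal.Quotient.mk (Ideal.span {x}))
      Ideal.Quotient.mk_surjective x Ideal.mk_ker
    have h2 : ((maximalIdeal (R ⧸ Ideal.span {x})).spanFinrank : WithBot ℕ∞) =
        ringKrullDim (R ⧸ Ideal.span {x}) := IsRegularLocalRing.spanFinrank_maximalIdeal
    rw [← hdim, ← h2]
    exact_mod_cast h1
  · push Not at hsoc
    obtain ⟨r, hr, hr0⟩ := hsoc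
    have hm := SerreConvA.maximalIdeal_eq_bot r hr hr0 n h
    apply IsRegularLocalRing.of_spanFinrank_maximalIdeal_le
    rw [hm, Submodule.spanFinrank_bot]
    exact_mod_cast ringKrullDim_nonneg_of_nontrivial

/-- **Serre's converse.** -/
theorem regular_of_pd_residueField (R : Type u) [CommRing R] [IsLocalRing R] [IsNoetherianRing R]
    (n : ℕ) (h : HasProjectiveDimensionLT (ModuleCat.of R (ResidueField R)) n) :
    IsRegularLocalRing R := by
  obtain ⟨d, hd⟩ := Groth.Agent.H5.RegLoc.exists_nat_dim R
  exact main d R hd n h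

end Groth.Agent.Lib.helper6.SerreConvD
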