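import Mathlib
import Groth.Agent.Lib.helper6.PdLoc

/-!
# Projective dimension and (faithfully) flat base change
-/

set_option autoImplicit false

namespace Groth.Agent.Lib.helper6.PdBC

open CategoryTheory CategoryTheory.Limits
open Groth.Agent.Lib.helper6 FinFreeRes

universe u

variable (A B : Type u) [CommRing A] [CommRing B] [Algebra A B]

/-- Flat base change does not increase projective dimension. -/
theorem pd_bc_le [Module.Flat A B] (M : Type u) [AddCommGroup M] [Module A M] :
    projectiveDimension (ModuleCat.of B (TensorProduct A B M)) ≤
      projectiveDimension (ModuleCat.of A M) :=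
  PdLoc.pd_le_of_forall (ModuleCat.of A M) (ModuleCat.of B (TensorProduct A B M))
    (fun n h => PdLoc.hasProjectiveDimensionLT_map (TorBC.bc A B) (TorBC.bc_shortExact A B)
      (TorBC.bc_projective A B) n _ h)

/-- Faithfully flat descent of projective dimension for finite modules over Noetherian rings. -/
theorem hasProjectiveDimensionLT_of_bc [IsNoetherianRing A] [Module.FaithfullyFlat A B]
    (n : ℕ) (X : FGMod A)
    (h : HasProjectiveDimensionLT ((TorBC.bc A B).obj X.M) n) :
    HasProjectiveDimensionLT X.M n := by
  have hfin := X.fin
  rcases n with _ | m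
  · rw [hasProjectiveDimensionLT_zero_iff_isZero] at h ⊢
    rw [ModuleCat.isZero_iff_subsingleton] at h ⊢
    have h' : Subsingleton (TensorProduct A B X.M) := h
    exact Module.FaithfullyFlat.lTensor_reflects_triviality A B X.M
  · have h1 := (PdLoc.hasProjectiveDimensionLT_iff_projective_syz (TorBC.bc A B)
      (TorBC.bc_shortExact A B) (TorBC.bc_projective A B) m X).mp h
    have h2 : Module.Projective B (TensorProduct A B (X.seq m).M) :=
      (IsProjective.iff_projective _).mpr h1
    have h3 : Module.Flat B (TensorProduct A B (X.seq m).M) := Module.Flat.of_projective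
    have h4 : Module.Flat A (X.seq m).M := Module.Flat.of_flat_tensorProduct A (X.seq m).M B
    have := (X.seq m).fin
    have h5 : Module.FinitePresentation A (X.seq m).M := Module.finitePresentation_of_finite A _
    have h6 : Module.Projective A (X.seq m).M := Module.Flat.projective_of_finitePresentation
    have h7 : Projective ((𝟭 (ModuleCat.{u} A)).obj (X.seq m).M) :=
      (IsProjective.iff_projective _).mp h6
    exact (PdLoc.hasProjectiveDimensionLT_iff_projective_syz (𝟭 (ModuleCat.{u} A))
      (fun S hS => hS.map_of_exact _) (fun X hX => hX) m X).mpr h7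

theorem pd_bc_eq [IsNoetherianRing A] [Module.FaithfullyFlat A B]
    (M : Type u) [AddCommGroup M] [Module A M] [Module.Finite A M] :
    projectiveDimension (ModuleCat.of B (TensorProduct A B M)) =
      projectiveDimension (ModuleCat.of A M) := by
  apply le_antisymm (pd_bc_le A B M)
  exact PdLoc.pd_le_of_forall (ModuleCat.of B (TensorProduct A B M)) (ModuleCat.of A M)
    (fun n h => hasProjectiveDimensionLT_of_bc A B n (PdLoc.fg A M) h)

end Groth.Agent.Lib.helper6.PdBC
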