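import Mathlib
import Groth.Agent.Lib.helper6.SerreConvD
import Groth.Agent.Lib.helper6.PdLoc
import Groth.Agent.S0563
import Groth.Agent.S0559
import Groth.Agent.S5786
import Groth.Agent.Lib.helper5.RegLoc3

/-!
# Consequences of Serre's characterisation of regular local rings.
-/

set_option autoImplicit false

namespace Groth.Agent.Lib.helper6.SerreConvE

open CategoryTheory IsLocalRing
open Groth.Agent.Lib.helper6

universe u

/-- Projective dimension of a module over a localization is bounded by its projective dimension
over the base ring. -/
theorem pd_localization (A : Type u) [CommRing A] (S : Submonoid A) (N : Type u) [AddCommGroup N]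
    [Module (Localization S) N] [Module A N] [IsScalarTower A (Localization S) N] (n : ℕ)
    (h : HasProjectiveDimensionLT (ModuleCat.of A N) (n + 1)) :
    HasProjectiveDimensionLT (ModuleCat.of (Localization S) N) (n + 1) := by
  haveI : HasProjectiveDimensionLE (ModuleCat.of A N) n := h
  have h1 : HasProjectiveDimensionLE ((ModuleCat.of A N).localizedModule S) n :=
    ModuleCat.localizedModule_hasProjectiveDimensionLE n S (ModuleCat.of A N)
  have e1 := PdLoc.localizedModuleIso S N
  haveI := isLocalizedModule_id S N (Localization S)
  let e2 : LocalizedModule S N ≃ₗ[Localization S] N :=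
    (IsLocalizedModule.iso S (LinearMap.id : N →ₗ[A] N)).extendScalarsOfIsLocalization S
      (Localization S)
  have h2 : HasProjectiveDimensionLT ((ModuleCat.of A N).localizedModule S) (n + 1) := h1
  exact hasProjectiveDimensionLT_of_iso (e1 ≪≫ e2.toModuleIso) _

/-- Localization of a regular local ring at a prime is regular. -/
theorem regular_localization (R : Type u) [CommRing R] [IsRegularLocalRing R] (p : Ideal R)
    [p.IsPrime] : IsRegularLocalRing (Localization.AtPrime p) := by
  obtain ⟨d, hd⟩ := Groth.Agent.H5.RegLoc.exists_nat_dim R
  have h1 := Groth.Agent.S0563.result R d hd (ResidueField (Localization.AtPrime p))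
  have h2 := pd_localization R p.primeCompl (ResidueField (Localization.AtPrime p)) d h1
  exact SerreConvD.regular_of_pd_residueField (Localization.AtPrime p) (d + 1) h2

/-- Descent of regularity along flat local homomorphisms. -/
theorem regular_of_flat_local (R : Type u) [CommRing R] [IsLocalRing R] [IsNoetherianRing R]
    (S : Type u) [CommRing S] [IsRegularLocalRing S] [Algebra R S]
    [IsLocalHom (algebraMap R S)] [Module.Flat R S] : IsRegularLocalRing R := by
  obtain ⟨d, hd⟩ := Groth.Agent.H5.RegLoc.exists_nat_dim S
  have hκ := Groth.Agent.S5786.result R S d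
    (fun N _ _ => Groth.Agent.S0563.result S d hd N) (ResidueField R)
  exact SerreConvD.regular_of_pd_residueField R (d + 1) hκ

/-- The residue field of a regular local ring of dimension `d` has projective dimension exactly
`d`. -/
lemma pd_residueField_eq (R : Type u) [CommRing R]
    [IsRegularLocalRing R] (d : ℕ) (hd : ringKrullDim R = d) :
    projectiveDimension (ModuleCat.of R (IsLocalRing.ResidueField R)) = d := by
  have hspan : (IsLocalRing.maximalIdeal R).spanFinrank = d := by
    have h := IsRegularLocalRing.spanFinrank_maximalIdeal (R := R)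
    rw [hd] at h
    exact_mod_cast h
  obtain ⟨x, hx⟩ := Groth.Agent.H5.RegLoc.exists_fin_generators R d hspan
  have hreg := Groth.Agent.S0559.result R d hd x hx
  have hpd := ModuleCat.projectiveDimension_quotient_eq_length.{u} (R := R) (List.ofFn x) hreg
  have hI : Ideal.ofList (List.ofFn x) = IsLocalRing.maximalIdeal R := by
    rw [← hx]
    unfold Ideal.ofList
    congr 1
    ext y
    simp [List.mem_ofFn]
  let e : Shrink.{u} (R ⧸ Ideal.ofList (List.ofFn x)) ≃ₗ[R] IsLocalRing.ResidueField R :=
    (Shrink.linearEquiv R _).trans (Submodule.quotEquivOfEq _ _ hI)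
  rw [projectiveDimension_eq_of_iso e.toModuleIso, List.length_ofFn] at hpd
  exact hpd

/-- `pd κ ≥ dim 𝔪/𝔪²`. -/
theorem finrank_cotangentSpace_lt {R : Type u} [CommRing R] [IsLocalRing R]
    [IsNoetherianRing R] (d : ℕ)
    (hd : HasProjectiveDimensionLT (ModuleCat.of R (IsLocalRing.ResidueField R)) d) :
    Module.finrank (IsLocalRing.ResidueField R) (IsLocalRing.CotangentSpace R) < d := by
  haveI := SerreConvD.regular_of_pd_residueField R d hd
  obtain ⟨e, he⟩ := Groth.Agent.H5.RegLoc.exists_nat_dim R
  have h1 := pd_residueField_eq R e he
  have h2 := projectiveDimension_lt_iff.mpr hd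
  rw [h1] at h2
  have h3 : e < d := by exact_mod_cast h2
  have hspan : (IsLocalRing.maximalIdeal R).spanFinrank = e := by
    have h := IsRegularLocalRing.spanFinrank_maximalIdeal (R := R)
    rw [he] at h
    exact_mod_cast h
  have h4 : Module.finrank (ResidueField R) (CotangentSpace R) =
      (maximalIdeal R).spanFinrank := by
    unfold Module.finrank Submodule.spanFinrank
    rw [IsLocalRing.rank_cotangentSpace_eq_spanrank_maximalIdeal]
  rw [h4, hspan]
  exact h3

end Groth.Agent.Lib.helper6.SerreConvE
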