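import Mathlib
import Groth.Agent.Lib.helper6.SerreConvE

/-!
# Regularity along flat local homomorphisms with `𝔪_R S = 𝔪_S`, and étale maps.
-/

set_option autoImplicit false

namespace Groth.Agent.Lib.helper6.RegEtale

open IsLocalRing

universe u

lemma spanFinrank_map_le {R S : Type u} [CommRing R] [CommRing S] (f : R →+* S) (I : Ideal R)
    (hI : I.FG) : (I.map f).spanFinrank ≤ I.spanFinrank := by
  classical
  obtain ⟨s, hs1, hs2⟩ := Submodule.FG.exists_span_finset_card_eq_spanFinrank hI
  have h1 : I.map f = Ideal.span (f '' (s : Set R)) := by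
    conv_lhs => rw [← hs2]
    exact Ideal.map_span f _
  rw [h1]
  have hfin : (f '' (s : Set R)).Finite := s.finite_toSet.image f
  refine le_trans (Submodule.spanFinrank_span_le_ncard_of_finite hfin) ?_
  refine le_trans (Set.ncard_image_le s.finite_toSet) ?_
  rw [Set.ncard_coe_finset, hs1]

/-- Ascent of regularity along a flat local homomorphism with `𝔪_R S = 𝔪_S`. -/
theorem regular_of_flat_of_map_maximalIdeal (R S : Type u) [CommRing R] [CommRing S]
    [IsRegularLocalRing R] [IsLocalRing S] [IsNoetherianRing S] [Algebra R S]
    [IsLocalHom (algebraMap R S)] [Module.Flat R S]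
    (h : (maximalIdeal R).map (algebraMap R S) = maximalIdeal S) : IsRegularLocalRing S := by
  apply IsRegularLocalRing.of_spanFinrank_maximalIdeal_le
  have h1 : (maximalIdeal S).spanFinrank ≤ (maximalIdeal R).spanFinrank := by
    rw [← h]
    exact spanFinrank_map_le _ _ (maximalIdeal R).fg_of_isNoetherianRing
  have h2 : ((maximalIdeal R).spanFinrank : WithBot ℕ∞) = ringKrullDim R :=
    IsRegularLocalRing.spanFinrank_maximalIdeal
  have h3 := Ideal.height_eq_height_add_of_liesOver_of_hasGoingDown (maximalIdeal R)
    (maximalIdeal S)
  have h4 : (maximalIdeal R).height ≤ (maximalIdeal S).height := by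
    rw [h3]; exact le_self_add
  have h5 : ringKrullDim R ≤ ringKrullDim S := by
    rw [← IsLocalRing.maximalIdeal_height_eq_ringKrullDim,
      ← IsLocalRing.maximalIdeal_height_eq_ringKrullDim]
    exact_mod_cast h4
  calc ((maximalIdeal S).spanFinrank : WithBot ℕ∞) ≤ ((maximalIdeal R).spanFinrank : WithBot ℕ∞) := by
        exact_mod_cast h1
    _ = ringKrullDim R := h2
    _ ≤ ringKrullDim S := h5

theorem isNoetherianRing_of_essFiniteType (A B : Type*) [CommRing A] [CommRing B] [Algebra A B]
    [Algebra.EssFiniteType A B] [IsNoetherianRing A] : IsNoetherianRing B := by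
  haveI : IsNoetherianRing (Algebra.EssFiniteType.subalgebra A B) :=
    Algebra.FiniteType.isNoetherianRing A _
  exact IsLocalization.isNoetherianRing (Algebra.EssFiniteType.submonoid A B) B inferInstance

theorem isNoetherianRing_of_faithfullyFlat (A B : Type*) [CommRing A] [CommRing B] [Algebra A B]
    [Module.FaithfullyFlat A B] [IsNoetherianRing B] : IsNoetherianRing A := by
  rw [isNoetherianRing_iff, isNoetherian_iff']
  have hB : WellFoundedGT (Ideal B) := by
    rw [← isNoetherian_iff', ← isNoetherianRing_iff]; infer_instance
  have hmono : StrictMono (Ideal.map (algebraMap A B)) :=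
    Monotone.strictMono_of_injective (fun _ _ h => Ideal.map_mono h)
      Ideal.map_injective_of_faithfullyFlat
  exact hmono.wellFoundedGT

/-- Regularity of local rings along étale ring maps. -/
theorem regular_iff_of_etale (A B : Type u) [CommRing A] [CommRing B]
    [Algebra A B] [Algebra.Etale A B] (q : Ideal B) [q.IsPrime] :
    IsRegularLocalRing (Localization.AtPrime (Ideal.comap (algebraMap A B) q)) ↔
      IsRegularLocalRing (Localization.AtPrime q) := by
  haveI : q.LiesOver (Ideal.comap (algebraMap A B) q) := ⟨rfl⟩
  letI := Localization.AtPrime.algebraOfLiesOver (Ideal.comap (algebraMap A B) q) q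
  haveI : Module.Flat (Localization.AtPrime (Ideal.comap (algebraMap A B) q))
      (Localization.AtPrime q) :=
    RingHom.Flat.localRingHom (f := algebraMap A B)
      (by rw [RingHom.flat_algebraMap_iff]; infer_instance) q _ Ideal.LiesOver.over
  haveI : IsLocalHom (algebraMap (Localization.AtPrime (Ideal.comap (algebraMap A B) q))
      (Localization.AtPrime q)) :=
    Localization.isLocalHom_localRingHom _ q _ Ideal.LiesOver.over
  have hmap := ((Algebra.isUnramifiedAt_iff_map_eq A (Ideal.comap (algebraMap A B) q) q).mp
    inferInstance).2
  have hmap' : (maximalIdeal (Localization.AtPrime (Ideal.comap (algebraMap A B) q))).map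
      (algebraMap (Localization.AtPrime (Ideal.comap (algebraMap A B) q))
        (Localization.AtPrime q)) = maximalIdeal (Localization.AtPrime q) := by
    rw [← Localization.AtPrime.map_eq_maximalIdeal, Ideal.map_map, ← IsScalarTower.algebraMap_eq]
    exact hmap
  haveI : Algebra.EssFiniteType (Localization.AtPrime (Ideal.comap (algebraMap A B) q))
      (Localization.AtPrime q) := .of_comp A _ _
  constructor
  · intro h
    haveI : IsNoetherianRing (Localization.AtPrime q) :=
      isNoetherianRing_of_essFiniteType (Localization.AtPrime (Ideal.comap (algebraMap A B) q)) _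
    exact regular_of_flat_of_map_maximalIdeal
      (Localization.AtPrime (Ideal.comap (algebraMap A B) q)) (Localization.AtPrime q) hmap'
  · intro h
    haveI : Module.FaithfullyFlat (Localization.AtPrime (Ideal.comap (algebraMap A B) q))
        (Localization.AtPrime q) := Module.FaithfullyFlat.of_flat_of_isLocalHom
    haveI : IsNoetherianRing (Localization.AtPrime (Ideal.comap (algebraMap A B) q)) :=
      isNoetherianRing_of_faithfullyFlat _ (Localization.AtPrime q)
    exact SerreConvE.regular_of_flat_local
      (Localization.AtPrime (Ideal.comap (algebraMap A B) q)) (Localization.AtPrime q)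

end Groth.Agent.Lib.helper6.RegEtale
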