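import Mathlib
import Groth.Agent.Lib.helper5.RegLoc
import Groth.Agent.Lib.helper5.RegLoc2
import Groth.Agent.Lib.helper5.RegLoc3
import Groth.Agent.S0560

/-!
# Regular local rings and ideals generated by regular sequences.
-/

set_option autoImplicit false

namespace Groth.Agent.Lib.helper6.RegIdeal

open IsLocalRing RingTheory.Sequence
open Groth.Agent.H5.RegLoc

universe u

/-- If `rs` is a regular sequence in a Noetherian local ring `A` and `A/(rs)` is regular then `A`
is regular. -/
theorem regular_of_quotient_regularSeq : ∀ (n : ℕ) (A : Type u) [CommRing A]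
    [IsLocalRing A] [IsNoetherianRing A] (rs : List A), rs.length = n → IsRegular A rs →
    IsRegularLocalRing (A ⧸ Ideal.ofList rs) → IsRegularLocalRing A := by
  intro n
  induction n with
  | zero =>
    intro A _ _ _ rs hlen _ hreg
    obtain rfl : rs = [] := List.eq_nil_of_length_eq_zero hlen
    exact IsRegularLocalRing.of_ringEquiv
      ((Ideal.quotEquivOfEq Ideal.ofList_nil).trans (RingEquiv.quotientBot A))
  | succ n ih =>
    intro A _ _ _ rs hlen hrs hreg
    obtain ⟨x, rs', rfl⟩ : ∃ x rs', rs = x :: rs' := by
      cases rs with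
      | nil => simp at hlen
      | cons x rs' => exact ⟨x, rs', rfl⟩
    have hlen' : rs'.length = n := by simpa using hlen
    rw [isRegular_cons_iff'] at hrs
    obtain ⟨hx, hrs'⟩ := hrs
    rw [isRegular_quotSMulTop_iff] at hrs'
    have hxm : x ∈ maximalIdeal A := by
      have h1 : Ideal.ofList (x :: rs') ≤ maximalIdeal A :=
        le_maximalIdeal_of_quotient_local _
      apply h1
      rw [Ideal.ofList_cons]
      exact Submodule.mem_sup_left (Ideal.mem_span_singleton_self x)
    haveI : Nontrivial (A ⧸ Ideal.span {x}) :=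
      Ideal.Quotient.nontrivial_iff.mpr (span_singleton_ne_top hxm)
    haveI : IsLocalRing (A ⧸ Ideal.span {x}) :=
      IsLocalRing.of_surjective' (Ideal.Quotient.mk (Ideal.span {x})) Ideal.Quotient.mk_surjective
    have e : (A ⧸ Ideal.span {x}) ⧸ Ideal.ofList (rs'.map (Ideal.Quotient.mk (Ideal.span {x})))
        ≃+* A ⧸ Ideal.ofList (x :: rs') :=
      (Ideal.quotEquivOfEq (Ideal.map_ofList _ _).symm).trans
        ((DoubleQuot.quotQuotEquivQuotSup (Ideal.span {x}) (Ideal.ofList rs')).trans
          (Ideal.quotEquivOfEq (Ideal.ofList_cons x rs').symm))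
    have hreg' : IsRegularLocalRing ((A ⧸ Ideal.span {x}) ⧸
        Ideal.ofList (rs'.map (Ideal.Quotient.mk (Ideal.span {x})))) :=
      IsRegularLocalRing.of_ringEquiv e.symm
    haveI := ih (A ⧸ Ideal.span {x}) _ (by simpa using hlen') hrs' hreg'
    exact Groth.Agent.S0560.result A x hxm
      (by
        rw [mem_nonZeroDivisors_iff_right]
        intro y hy
        apply hx
        simpa [mul_comm] using hy)

/-- In a regular local ring, an ideal with regular quotient is generated by a regular sequence. -/
theorem exists_regularSeq_of_regular_quotient (A : Type u) [CommRing A] [IsRegularLocalRing A]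
    (J : Ideal A) [IsRegularLocalRing (A ⧸ J)] :
    ∃ rs : List A, IsRegular A rs ∧ Ideal.ofList rs = J := by
  obtain ⟨d, hd⟩ := exists_nat_dim A
  obtain ⟨x, c, hc, hx, hJ⟩ := exists_generators d A hd J
  have hreg := isRegular_of_generators d A hd x hx
  refine ⟨List.ofFn (Fin.take c hc x), ?_, ?_⟩
  · apply IsRegular.of_isWeaklyRegular_of_mem_maximalIdeal
    · intro r hr
      rw [List.mem_ofFn] at hr
      obtain ⟨i, rfl⟩ := hr
      rw [← hx]
      exact Ideal.subset_span ⟨_, rfl⟩
    · rw [Fin.ofFn_take_eq_take_ofFn]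
      have h1 := hreg.toIsWeaklyRegular
      rw [← List.take_append_drop c (List.ofFn x), isWeaklyRegular_append_iff] at h1
      exact h1.1
  · rw [hJ]
    unfold Ideal.ofList
    congr 1
    ext y
    simp [List.mem_ofFn]

end Groth.Agent.Lib.helper6.RegIdeal
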