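import Mathlib
import Groth.Agent.Lib.helper9.Depth5

/-!
# Auslander–Buchsbaum, part A: depth of free modules, minimal presentations.
-/

set_option autoImplicit false

namespace Groth.Agent.Lib.helper6.AusBuchA

open CategoryTheory Abelian IsLocalRing LocCoh
open Groth.Agent.Lib.helper9.Depth

universe u

variable {R : Type u} [CommRing R]

/-- coordinate projection `Rᵏ → R` in `ModuleCat`. -/
noncomputable def pj (k : ℕ) (i : Fin k) : ModuleCat.of R (Fin k → R) ⟶ ModuleCat.of R R :=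
  ModuleCat.ofHom (LinearMap.proj i)

/-- coordinate inclusion `R → Rᵏ` in `ModuleCat`. -/
noncomputable def ιj (k : ℕ) (i : Fin k) : ModuleCat.of R R ⟶ ModuleCat.of R (Fin k → R) :=
  ModuleCat.ofHom (LinearMap.single R (fun _ => R) i)

lemma sum_pj_ιj (k : ℕ) : ∑ i, pj (R := R) k i ≫ ιj k i = 𝟙 (ModuleCat.of R (Fin k → R)) := by
  classical
  apply ModuleCat.hom_ext
  apply LinearMap.ext
  intro v
  simp only [ModuleCat.hom_id, LinearMap.id_coe, id_eq, ModuleCat.hom_sum, ModuleCat.hom_comp,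
    LinearMap.coe_sum, Finset.sum_apply, LinearMap.coe_comp, Function.comp_apply, pj, ιj,
    ModuleCat.hom_ofHom, LinearMap.coe_proj, Function.eval, LinearMap.coe_single]
  exact Finset.univ_sum_single v

lemma ιj_pj (k : ℕ) (i : Fin k) : ιj (R := R) k i ≫ pj k i = 𝟙 (ModuleCat.of R R) := by
  classical
  apply ModuleCat.hom_ext
  apply LinearMap.ext
  intro v
  simp [pj, ιj]

lemma ext_pi_eq_zero (X : ModuleCat.{u} R) (d k : ℕ)
    (h : Subsingleton (Ext X (ModuleCat.of R R) d))
    (α : Ext X (ModuleCat.of R (Fin k → R)) d) : α = 0 := by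
  have h0 : ∀ i, α.comp (Ext.mk₀ (pj k i)) (add_zero d) = 0 := fun i => Subsingleton.elim _ _
  calc α = α.comp (Ext.mk₀ (𝟙 _)) (add_zero d) := (Ext.comp_mk₀_id α).symm
    _ = ∑ i, α.comp (Ext.mk₀ (pj k i ≫ ιj k i)) (add_zero d) := by
        rw [← sum_pj_ιj, Ext.mk₀_sum, Ext.comp_sum]
    _ = ∑ i, (α.comp (Ext.mk₀ (pj k i)) (add_zero d)).comp (Ext.mk₀ (ιj k i)) (add_zero d) := by
        refine Finset.sum_congr rfl (fun i _ => ?_)
        rw [Ext.comp_assoc_of_second_deg_zero, Ext.mk₀_comp_mk₀]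
    _ = 0 := by
        refine Finset.sum_eq_zero (fun i _ => ?_)
        rw [h0 i, Ext.zero_comp]

lemma ext_pi_subsingleton (X : ModuleCat.{u} R) (d k : ℕ)
    (h : Subsingleton (Ext X (ModuleCat.of R R) d)) :
    Subsingleton (Ext X (ModuleCat.of R (Fin k → R)) d) :=
  ⟨fun a b => by rw [ext_pi_eq_zero X d k h a, ext_pi_eq_zero X d k h b]⟩

lemma ext_subsingleton_of_pi (X : ModuleCat.{u} R) (d k : ℕ) (hk : 0 < k)
    (h : Subsingleton (Ext X (ModuleCat.of R (Fin k → R)) d)) :
    Subsingleton (Ext X (ModuleCat.of R R) d) := by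
  have key : ∀ x : Ext X (ModuleCat.of R R) d, x = 0 := by
    intro x
    have h1 : x.comp (Ext.mk₀ (ιj k ⟨0, hk⟩)) (add_zero d) = 0 := Subsingleton.elim _ _
    calc x = x.comp (Ext.mk₀ (𝟙 _)) (add_zero d) := (Ext.comp_mk₀_id x).symm
      _ = (x.comp (Ext.mk₀ (ιj k ⟨0, hk⟩)) (add_zero d)).comp (Ext.mk₀ (pj k ⟨0, hk⟩))
            (add_zero d) := by
          rw [Ext.comp_assoc_of_second_deg_zero, Ext.mk₀_comp_mk₀, ιj_pj]
      _ = 0 := by rw [h1, Ext.zero_comp]
  exact ⟨fun a b => by rw [key a, key b]⟩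

variable [IsNoetherianRing R]

/-- `depth_I Rᵏ = depth_I R` for `k ≥ 1`. -/
theorem idealDepth_pi (I : Ideal R) (k : ℕ) (hk : 0 < k) :
    idealDepth I (Fin k → R) = idealDepth I R := by
  apply ENat.eq_of_forall_natCast_le_iff
  intro n
  rw [le_idealDepth_iff_ext' I (Fin k → R) n, le_idealDepth_iff_ext' I R n]
  constructor
  · intro h i hi
    exact ext_subsingleton_of_pi _ i k hk (h i hi)
  · intro h i hi
    exact ext_pi_subsingleton _ i k (h i hi)

/-- A nonzero finite free module has the depth of the ring. -/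
theorem idealDepth_of_free (I : Ideal R) (M : Type u) [AddCommGroup M] [Module R M]
    [Module.Finite R M] [Module.Free R M] [Nontrivial M] [Nontrivial R] :
    idealDepth I M = idealDepth I R := by
  let b := Module.finBasis R M
  have e : M ≃ₗ[R] (Fin (Module.finrank R M) → R) := b.equivFun
  rw [idealDepth_congr I e]
  apply idealDepth_pi
  exact (Module.finrank_pos_iff_of_free (R := R) (M := M)).mpr inferInstance

end Groth.Agent.Lib.helper6.AusBuchA
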