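import Mathlib

/-!
# Auslander–Buchsbaum, part B: minimal presentations over a local ring.
-/

set_option autoImplicit false

namespace Groth.Agent.Lib.helper6.AusBuchB

open IsLocalRing TensorProduct

universe u

variable {R : Type u} [CommRing R]

lemma mem_ideal_of_mem_smul_top_pi (I : Ideal R) (k : ℕ) (v : Fin k → R)
    (hv : v ∈ I • (⊤ : Submodule R (Fin k → R))) (j : Fin k) : v j ∈ I := by
  refine Submodule.smul_induction_on hv ?_ ?_
  · intro a ha w _
    simp only [Pi.smul_apply, smul_eq_mul]
    exact Ideal.mul_mem_right _ _ ha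
  · intro x y hx hy
    simp only [Pi.add_apply]
    exact Ideal.add_mem _ hx hy

lemma mem_smul_top_pi_of_forall (I : Ideal R) (k : ℕ) (v : Fin k → R) (h : ∀ j, v j ∈ I) :
    v ∈ I • (⊤ : Submodule R (Fin k → R)) := by
  classical
  have hv : v = ∑ j, v j • (Pi.single j (1 : R) : Fin k → R) := by
    funext i
    simp [Finset.sum_apply, Pi.single_apply]
  rw [hv]
  exact Submodule.sum_mem _ (fun j _ => Submodule.smul_mem_smul (h j) Submodule.mem_top)

variable [IsLocalRing R]

/-- Minimal free cover of a finite module over a local ring. -/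
theorem exists_minimal_presentation (M : Type u) [AddCommGroup M] [Module R M]
    [Module.Finite R M] :
    ∃ (k : ℕ) (f : (Fin k → R) →ₗ[R] M), Function.Surjective f ∧
      LinearMap.ker f ≤ maximalIdeal R • (⊤ : Submodule R (Fin k → R)) := by
  classical
  let b := Module.finBasis (ResidueField R) (ResidueField R ⊗[R] M)
  obtain ⟨v, hv⟩ := (TensorProduct.mk_surjective R M (ResidueField R)
    Ideal.Quotient.mk_surjective).comp_left b
  have hv' : ∀ i, (1 : ResidueField R) ⊗ₜ[R] v i = b i := fun i => congr_fun hv i
  refine ⟨_, Fintype.linearCombination R v, ?_, ?_⟩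
  · rw [← LinearMap.range_eq_top, Fintype.range_linearCombination]
    exact IsLocalRing.span_eq_top_of_tmul_eq_basis v b hv'
  · intro c hc
    apply mem_smul_top_pi_of_forall
    rw [LinearMap.mem_ker, Fintype.linearCombination_apply] at hc
    have h1 : ∑ i, (residue R (c i)) • b i = 0 := by
      have h2 := congrArg (fun y => (1 : ResidueField R) ⊗ₜ[R] y) hc
      simp only [TensorProduct.tmul_sum, TensorProduct.tmul_zero] at h2
      rw [← h2]
      refine Finset.sum_congr rfl (fun i _ => ?_)
      rw [← hv' i, TensorProduct.tmul_smul, TensorProduct.smul_tmul', TensorProduct.smul_tmul']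
      congr 1
    have h3 := Fintype.linearIndependent_iff.mp b.linearIndependent _ h1
    intro j
    exact (residue_eq_zero_iff _).mp (h3 j)

end Groth.Agent.Lib.helper6.AusBuchB
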