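import Mathlib
import Groth.Agent.Lib.helper6.AusBuchA
import Groth.Agent.Lib.helper6.AusBuchB

/-!
# Auslander–Buchsbaum, part C: the key vanishing for minimal presentations.
-/

set_option autoImplicit false

namespace Groth.Agent.Lib.helper6.AusBuchC

open CategoryTheory Abelian IsLocalRing LocCoh
open Groth.Agent.Lib.helper9.Depth
open Groth.Agent.Lib.helper6.AusBuchA

universe u

variable {R : Type u} [CommRing R] [IsLocalRing R]

/-- The residue field as an object of `ModuleCat`. -/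
noncomputable abbrev κ (R : Type u) [CommRing R] [IsLocalRing R] : ModuleCat.{u} R :=
  ModuleCat.of R (R ⧸ maximalIdeal R)

lemma smul_ext_eq_zero {c : R} (hc : c ∈ maximalIdeal R) (Y : ModuleCat.{u} R) {n : ℕ}
    (y : Ext (κ R) Y n) : c • y = 0 := by
  apply ext_smul_eq_zero_of_mem_annihilator_left
  have : Module.annihilator R (R ⧸ maximalIdeal R) = maximalIdeal R := Ideal.annihilator_quotient
  rw [this]
  exact hc

/-- A linear functional `Rᵃ → R` with values in `𝔪` induces zero on `Ext(κ, -)`. -/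
lemma comp_functional_eq_zero {a : ℕ} (ψ : (Fin a → R) →ₗ[R] R)
    (hψ : ∀ v, ψ v ∈ maximalIdeal R) {t : ℕ} (x : Ext (κ R) (ModuleCat.of R (Fin a → R)) t) :
    x.comp (Ext.mk₀ (ModuleCat.ofHom ψ)) (add_zero t) = 0 := by
  classical
  have h1 : ModuleCat.ofHom ψ = ∑ i, (ψ (Pi.single i 1)) • pj a i := by
    apply ModuleCat.hom_ext
    apply LinearMap.ext
    intro v
    simp only [ModuleCat.hom_ofHom, ModuleCat.hom_sum, ModuleCat.hom_smul, LinearMap.coe_sum,
      Finset.sum_apply, LinearMap.smul_apply, pj, LinearMap.coe_proj, Function.eval, smul_eq_mul]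
    conv_lhs => rw [← Finset.univ_sum_single v, map_sum]
    refine Finset.sum_congr rfl (fun i _ => ?_)
    have : (Pi.single i (v i) : Fin a → R) = v i • Pi.single i 1 := by
      funext j
      simp [Pi.single_apply]
    rw [this, map_smul, smul_eq_mul, mul_comm]
  rw [h1, Ext.mk₀_sum, Ext.comp_sum]
  refine Finset.sum_eq_zero (fun i _ => ?_)
  rw [Ext.mk₀_smul, Ext.comp_smul]
  exact smul_ext_eq_zero (hψ _) _ _

/-- A map `Rᵃ → Rᵏ` with image in `𝔪 Rᵏ` induces zero on `Ext(κ, -)`. -/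
lemma comp_eq_zero {a k : ℕ} (φ : (Fin a → R) →ₗ[R] (Fin k → R))
    (hφ : ∀ v, φ v ∈ maximalIdeal R • (⊤ : Submodule R (Fin k → R))) {t : ℕ}
    (x : Ext (κ R) (ModuleCat.of R (Fin a → R)) t) :
    x.comp (Ext.mk₀ (ModuleCat.ofHom φ)) (add_zero t) = 0 := by
  have h1 : ModuleCat.ofHom φ = ∑ j, (ModuleCat.ofHom φ ≫ pj k j) ≫ ιj k j := by
    simp only [Category.assoc]
    rw [← Preadditive.comp_sum, sum_pj_ιj, Category.comp_id]
  rw [h1, Ext.mk₀_sum, Ext.comp_sum]
  refine Finset.sum_eq_zero (fun j _ => ?_)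
  rw [← Ext.mk₀_comp_mk₀, ← Ext.comp_assoc_of_second_deg_zero]
  have h2 : ModuleCat.ofHom φ ≫ pj k j = ModuleCat.ofHom ((LinearMap.proj j).comp φ) := rfl
  rw [h2, comp_functional_eq_zero _ (fun v => ?_) x, Ext.zero_comp]
  exact AusBuchB.mem_ideal_of_mem_smul_top_pi _ k _ (hφ v) j

end Groth.Agent.Lib.helper6.AusBuchC
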