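import Mathlib
import Groth.Agent.Lib.helper6.AusBuchC

/-!
# The Auslander–Buchsbaum formula.
-/

set_option autoImplicit false

namespace Groth.Agent.Lib.helper6.AusBuchD

open CategoryTheory Abelian IsLocalRing LocCoh
open Groth.Agent.Lib.helper9.Depth
open Groth.Agent.Lib.helper6.AusBuchA Groth.Agent.Lib.helper6.AusBuchC

universe u

variable {R : Type u} [CommRing R] [IsLocalRing R] [IsNoetherianRing R]

/-- the key: for a minimal presentation `0 → Rᵃ → Rᵏ → M → 0`, if `Extⁱ(κ, M) = 0` for `i < t`
then `Extᵗ(κ, Rᵃ) = 0`. -/
theorem ext_subsingleton_of_minimal {a k : ℕ} (φ : (Fin a → R) →ₗ[R] (Fin k → R))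
    (hφ : ∀ v, φ v ∈ maximalIdeal R • (⊤ : Submodule R (Fin k → R)))
    (M : Type u) [AddCommGroup M] [Module R M]
    (f : (Fin k → R) →ₗ[R] M) (hinj : Function.Injective φ) (hsurj : Function.Surjective f)
    (hex : Function.Exact φ f) (t : ℕ)
    (ht : ∀ i < t, Subsingleton (Ext (κ R) (ModuleCat.of R M) i)) :
    Subsingleton (Ext (κ R) (ModuleCat.of R (Fin a → R)) t) := by
  let S : ShortComplex (ModuleCat.{u} R) :=
    ModuleCat.shortComplexOfCompEqZero φ f hex.linearMap_comp_eq_zero
  have hS : S.ShortExact := ModuleCat.shortComplex_shortExact S hex hinj hsurj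
  have key : ∀ x : Ext (κ R) S.X₁ t, x = 0 := by
    intro x
    have hx : x.comp (Ext.mk₀ S.f) (add_zero t) = 0 := comp_eq_zero φ hφ x
    rcases t with _ | t
    · haveI := hS.mono_f
      apply Ext.postcomp_mk₀_injective_of_mono (κ R) S.f
      rw [map_zero]
      exact hx
    · obtain ⟨x₃, rfl⟩ := Ext.covariant_sequence_exact₁ (κ R) hS x hx rfl
      haveI := ht t (by omega)
      rw [Subsingleton.elim x₃ 0, Ext.zero_comp]
  exact ⟨fun a b => by rw [key a, key b]⟩

lemma pd_ker {k : ℕ} (M : Type u) [AddCommGroup M] [Module R M]
    (f : (Fin k → R) →ₗ[R] M) (hsurj : Function.Surjective f) (e : ℕ)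
    (he : projectiveDimension (ModuleCat.of R M) = (e + 1 : ℕ)) :
    projectiveDimension (ModuleCat.of R (LinearMap.ker f)) = e := by
  have hS := LinearMap.shortExact_shortComplexKer hsurj
  have hF : Projective (ModuleCat.of R (Fin k → R)) := by
    rw [← IsProjective.iff_projective]
    infer_instance
  have hF1 : HasProjectiveDimensionLT (ModuleCat.of R (Fin k → R)) 1 :=
    projective_iff_hasProjectiveDimensionLT_one.mp hF
  have h1 : HasProjectiveDimensionLT (ModuleCat.of R M) (e + 2) := by
    rw [← projectiveDimension_lt_iff, he]
    exact_mod_cast Nat.lt_succ_self (e + 1)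
  have h2 : ¬ HasProjectiveDimensionLT (ModuleCat.of R M) (e + 1) := by
    rw [← projectiveDimension_lt_iff, he]
    exact lt_irrefl _
  apply le_antisymm
  · rw [projectiveDimension_le_iff]
    exact hS.hasProjectiveDimensionLT_X₁ (e + 1)
      (hasProjectiveDimensionLT_of_ge _ 1 (e + 1) (by omega)) h1
  · rw [projectiveDimension_ge_iff]
    intro h3
    exact h2 (hS.hasProjectiveDimensionLT_X₃ e h3
      (hasProjectiveDimensionLT_of_ge _ 1 (e + 1) (by omega)))

/-- **Auslander–Buchsbaum formula.** -/
theorem auslander_buchsbaum : ∀ (e : ℕ) (M : Type u) [AddCommGroup M] [Module R M]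
    [Module.Finite R M] [Nontrivial M],
    projectiveDimension (ModuleCat.of R M) = e → depth R R = e + depth R M := by
  intro e
  induction e with
  | zero =>
    intro M _ _ _ _ he
    have hproj : Projective (ModuleCat.of R M) :=
      ((projectiveDimension_eq_zero_iff _).mp (by exact_mod_cast he)).1
    rw [← IsProjective.iff_projective] at hproj
    haveI : Module.Free R M := Module.free_of_flat_of_isLocalRing
    rw [Nat.cast_zero, zero_add]
    exact (idealDepth_of_free (R := R) (maximalIdeal R) M).symm
  | succ e ih =>
    intro M _ _ _ _ he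
    obtain ⟨k, f, hsurj, hker⟩ := AusBuchB.exists_minimal_presentation (R := R) M
    have hpdK := pd_ker M f hsurj e (by exact_mod_cast he)
    haveI : Nontrivial (LinearMap.ker f) := by
      by_contra hnt
      rw [not_nontrivial_iff_subsingleton] at hnt
      have hz : Limits.IsZero (ModuleCat.of R (LinearMap.ker f)) :=
        ModuleCat.isZero_of_subsingleton _
      rw [← projectiveDimension_eq_bot_iff, hpdK] at hz
      exact absurd hz (by simp)
    have hK := ih (LinearMap.ker f) hpdK
    have hk : 0 < k := by
      rcases Nat.eq_zero_or_pos k with h0 | h0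
      · subst h0
        exfalso
        obtain ⟨x, y, hxy⟩ := exists_pair_ne M
        obtain ⟨x', rfl⟩ := hsurj x
        obtain ⟨y', rfl⟩ := hsurj y
        exact hxy (by rw [Subsingleton.elim x' y'])
      · exact h0
    have hF : depth R (Fin k → R) = depth R R := idealDepth_pi _ k hk
    obtain ⟨ha, hb, hc⟩ := idealDepth_shortExact (maximalIdeal R) (LinearMap.ker f).subtype f
      (Submodule.injective_subtype _) hsurj (LinearMap.exact_subtype_ker_map f)
    obtain ⟨t, ht⟩ := exists_nat_depth (R := R) R
    obtain ⟨dK, hdK⟩ := exists_nat_depth (R := R) (LinearMap.ker f)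
    obtain ⟨dM, hdM⟩ := exists_nat_depth (R := R) M
    change idealDepth (maximalIdeal R) (Fin k → R) = idealDepth (maximalIdeal R) R at hF
    change idealDepth (maximalIdeal R) R = t at ht
    change idealDepth (maximalIdeal R) (LinearMap.ker f) = dK at hdK
    change idealDepth (maximalIdeal R) M = dM at hdM
    change idealDepth (maximalIdeal R) R = e + idealDepth (maximalIdeal R) (LinearMap.ker f) at hK
    change idealDepth (maximalIdeal R) R = (e + 1 : ℕ) + idealDepth (maximalIdeal R) M
    rw [hF, ht, hdK, hdM] at hb hc
    rw [ht, hdK] at hK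
    rw [ht, hdM]
    have hK' : t = e + dK := by exact_mod_cast hK
    have hb' : t ≤ dM ∨ dK - 1 ≤ dM := by
      have : ((dK : ℕ∞) - 1) = ((dK - 1 : ℕ) : ℕ∞) := by
        rw [ENat.coe_sub, ENat.coe_one]
      rw [this] at hb
      rcases min_le_iff.mp hb with h | h
      · left; exact_mod_cast h
      · right; exact_mod_cast h
    have hc' : t ≤ dK ∨ dM + 1 ≤ dK := by
      rcases min_le_iff.mp hc with h | h
      · left; exact_mod_cast h
      · right; exact_mod_cast h
    rcases e with _ | e
    · -- crux case
      have hlt : dM < t := by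
        by_contra hge
        push Not at hge
        -- K is free
        have hprojK : Projective (ModuleCat.of R (LinearMap.ker f)) :=
          ((projectiveDimension_eq_zero_iff _).mp (by exact_mod_cast hpdK)).1
        rw [← IsProjective.iff_projective] at hprojK
        haveI : Module.Free R (LinearMap.ker f) := Module.free_of_flat_of_isLocalRing
        let b := Module.finBasis R (LinearMap.ker f)
        let e' : (LinearMap.ker f) ≃ₗ[R] (Fin (Module.finrank R (LinearMap.ker f)) → R) :=
          b.equivFun
        have ha0 : 0 < Module.finrank R (LinearMap.ker f) :=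
          (Module.finrank_pos_iff_of_free (R := R) (M := LinearMap.ker f)).mpr inferInstance
        let φ : (Fin (Module.finrank R (LinearMap.ker f)) → R) →ₗ[R] (Fin k → R) :=
          (LinearMap.ker f).subtype ∘ₗ e'.symm.toLinearMap
        have hφ : ∀ v, φ v ∈ maximalIdeal R • (⊤ : Submodule R (Fin k → R)) := by
          intro v
          exact hker (e'.symm v).2
        have hinj : Function.Injective φ :=
          (Submodule.injective_subtype _).comp e'.symm.injective
        have hex : Function.Exact φ f := by
          intro y
          constructor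
          · intro hy
            exact ⟨e' ⟨y, hy⟩, by simp [φ]⟩
          · rintro ⟨v, rfl⟩
            exact (e'.symm v).2
        have hM : ∀ i < t, Subsingleton (Ext (κ R) (ModuleCat.of R M) i) := by
          apply (le_idealDepth_iff_ext' (maximalIdeal R) M t).mp
          rw [hdM]
          exact_mod_cast hge
        have h1 := ext_subsingleton_of_minimal φ hφ M f hinj hsurj hex t hM
        have h2 := ext_subsingleton_of_pi _ t _ ha0 h1
        have hR : ∀ i < t, Subsingleton (Ext (κ R) (ModuleCat.of R R) i) := by
          apply (le_idealDepth_iff_ext' (maximalIdeal R) R t).mp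
          rw [ht]
        have h3 : ((t + 1 : ℕ) : ℕ∞) ≤ idealDepth (maximalIdeal R) R := by
          rw [le_idealDepth_iff_ext' (maximalIdeal R) R (t + 1)]
          intro i hi
          rcases Nat.lt_succ_iff_lt_or_eq.mp hi with h | h
          · exact hR i h
          · subst h; exact h2
        rw [ht] at h3
        have : t + 1 ≤ t := by exact_mod_cast h3
        omega
      have : t = 0 + 1 + dM := by omega
      exact_mod_cast this
    · have : t = e + 1 + 1 + dM := by omega
      exact_mod_cast this

end Groth.Agent.Lib.helper6.AusBuchD
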