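import Mathlib
import Groth.Agent.Lib.helper6.AusBuchD
import Groth.Agent.Lib.helper5.RegLoc3
import Groth.Agent.Lib.helper5.RegLoc2
import Groth.Agent.S0563

/-!
# Consequences of the Auslander–Buchsbaum formula over regular local rings.
-/

set_option autoImplicit false

namespace Groth.Agent.Lib.helper6.AusBuchE

open CategoryTheory Abelian IsLocalRing LocCoh
open Groth.Agent.Lib.helper9.Depth
open Groth.Agent.H5.RegLoc

universe u

/-- The projective dimension of a nonzero object of finite projective dimension is a natural
number. -/
lemma exists_nat_pd {C : Type*} [Category C] [Abelian C] (X : C) (hnz : ¬ Limits.IsZero X) (n : ℕ)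
    (h : HasProjectiveDimensionLT X n) : ∃ e : ℕ, projectiveDimension X = e := by
  have h1 := projectiveDimension_lt_iff.mpr h
  have h2 : projectiveDimension X ≠ ⊥ := fun hb => hnz ((projectiveDimension_eq_bot_iff X).mp hb)
  generalize projectiveDimension X = x at h1 h2
  induction x with
  | bot => exact absurd rfl h2
  | coe x =>
    induction x with
    | top =>
      exfalso
      have : ((⊤ : ℕ∞) : WithBot ℕ∞) = ⊤ := rfl
      rw [this] at h1
      exact not_top_lt h1
    | coe e => exact ⟨e, rfl⟩

/-- A regular local ring of dimension `d` has depth `d`. -/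
theorem depth_eq_dim (R : Type u) [CommRing R] [IsRegularLocalRing R] (d : ℕ)
    (hd : ringKrullDim R = d) : depth R R = d := by
  apply le_antisymm
  · have h1 := depth_le_supportDim (R := R) R
    rw [Module.supportDim_self_eq_ringKrullDim, hd] at h1
    exact_mod_cast h1
  · obtain ⟨x, hx⟩ := exists_fin_generators R d (spanFinrank_eq_of_dim hd)
    have hreg := isRegular_of_generators d R hd x hx
    have h2 := length_le_idealDepth (I := maximalIdeal R) hreg.toIsWeaklyRegular (by
      intro r hr
      rw [List.mem_ofFn] at hr
      obtain ⟨i, rfl⟩ := hr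
      rw [← hx]
      exact Ideal.subset_span ⟨i, rfl⟩)
    rw [List.length_ofFn] at h2
    exact h2

/-- Maximal Cohen–Macaulay modules over a regular local ring are free. -/
theorem free_of_depth_eq_dim (R : Type u) [CommRing R] [IsRegularLocalRing R] (M : Type u)
    [AddCommGroup M] [Module R M] [Module.Finite R M]
    (h : ((depth R M : ℕ∞) : WithBot ℕ∞) = ringKrullDim R) : Module.Free R M := by
  obtain ⟨d, hd⟩ := exists_nat_dim R
  rcases subsingleton_or_nontrivial M with hM | hM
  · infer_instance
  · have hpd := Groth.Agent.S0563.result R d hd M
    have hnz : ¬ Limits.IsZero (ModuleCat.of R M) := by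
      rw [ModuleCat.isZero_iff_subsingleton]
      exact not_subsingleton M
    obtain ⟨e, he⟩ := exists_nat_pd _ hnz _ hpd
    have hab := AusBuchD.auslander_buchsbaum e M he
    rw [depth_eq_dim R d hd] at hab
    rw [hd] at h
    have hM' : depth R M = d := by exact_mod_cast h
    rw [hM'] at hab
    have h0 : e = 0 := by
      have : d = e + d := by exact_mod_cast hab
      omega
    subst h0
    have hproj : Projective (ModuleCat.of R M) :=
      ((projectiveDimension_eq_zero_iff _).mp (by exact_mod_cast he)).1
    rw [← IsProjective.iff_projective] at hproj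
    exact Module.free_of_flat_of_isLocalRing

end Groth.Agent.Lib.helper6.AusBuchE
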