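import Mathlib
import Groth.Agent.Lib.helper6.SerreConvE
import Groth.Agent.Lib.helper5.RegLoc
import Groth.Agent.Lib.helper5.RegLoc2
import Groth.Agent.Lib.helper26.NormalLocus

/-!
# Regular local rings are integrally closed.
-/

set_option autoImplicit false

namespace Groth.Agent.Lib.helper6.RegNormal

open IsLocalRing Polynomial
open Groth.Agent.H5.RegLoc
open Groth.Agent.Lib.helper26.NormalLocus

universe u

/-- The ideal of denominators of an element of the fraction field. -/
def den {R : Type u} [CommRing R] [IsDomain R] (α : FractionRing R) : Ideal R where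
  carrier := {r | ∃ b : R, algebraMap R (FractionRing R) r * α = algebraMap R (FractionRing R) b}
  add_mem' := by
    rintro r s ⟨b, hb⟩ ⟨c, hc⟩
    exact ⟨b + c, by rw [map_add, add_mul, hb, hc, map_add]⟩
  zero_mem' := ⟨0, by simp⟩
  smul_mem' := by
    rintro t r ⟨b, hb⟩
    exact ⟨t * b, by rw [smul_eq_mul, map_mul, mul_assoc, hb, map_mul]⟩

lemma mem_den {R : Type u} [CommRing R] [IsDomain R] (α : FractionRing R) (r : R) :
    r ∈ den α ↔ ∃ b : R, algebraMap R (FractionRing R) r * α = algebraMap R (FractionRing R) b :=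
  Iff.rfl

/-- Key step: if `x` is a prime element, `α` is integral and `x^(n+1) α ∈ R` then `x^n α ∈ R`. -/
lemma pow_mem_den_of_succ {R : Type u} [CommRing R] [IsDomain R] (x : R) (hx0 : x ≠ 0)
    (hP : (Ideal.span {x}).IsPrime) (α : FractionRing R) (hα : IsIntegral R α) (n : ℕ)
    (h : x ^ (n + 1) ∈ den α) : x ^ n ∈ den α := by
  obtain ⟨a, ha⟩ := h
  obtain ⟨p, hp, hpα⟩ := hα
  have hinj : Function.Injective (algebraMap R (FractionRing R)) :=
    IsFractionRing.injective R (FractionRing R)
  have h1 : aeval (algebraMap R (FractionRing R) a) (scaleRoots p (x ^ (n + 1))) = 0 := by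
    rw [← ha]
    exact scaleRoots_aeval_eq_zero hpα
  have h2 : IsRoot (scaleRoots p (x ^ (n + 1))) a := by
    rw [aeval_algebraMap_apply] at h1
    rw [IsRoot.def]
    apply hinj
    rw [map_zero, ← h1]
    simp [aeval_def, eval₂_id]
  have h3 : (scaleRoots p (x ^ (n + 1))).IsWeaklyEisensteinAt (Ideal.span {x}) := by
    constructor
    intro i hi
    rw [natDegree_scaleRoots] at hi
    rw [coeff_scaleRoots]
    apply Ideal.mul_mem_left
    have h4 : p.natDegree - i = (p.natDegree - i - 1) + 1 := by omega
    rw [h4, pow_succ, pow_succ]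
    apply Ideal.mul_mem_left
    apply Ideal.mul_mem_left
    exact Ideal.mem_span_singleton_self x
  have h5 : a ^ (scaleRoots p (x ^ (n + 1))).natDegree ∈ Ideal.span {x} :=
    h3.pow_natDegree_le_of_root_of_monic_mem h2 ((monic_scaleRoots_iff _).mpr hp) _ le_rfl
  have h6 : a ∈ Ideal.span {x} := hP.mem_of_pow_mem _ h5
  obtain ⟨b, rfl⟩ := Ideal.mem_span_singleton'.mp h6
  refine ⟨b, ?_⟩
  have hxK : algebraMap R (FractionRing R) x ≠ 0 := fun h0 => hx0 (hinj (by rw [h0, map_zero]))
  apply mul_left_cancel₀ hxK
  rw [← mul_assoc, ← map_mul, ← pow_succ', ha, map_mul, mul_comm]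

lemma one_mem_den_of_pow {R : Type u} [CommRing R] [IsDomain R] (x : R) (hx0 : x ≠ 0)
    (hP : (Ideal.span {x}).IsPrime) (α : FractionRing R) (hα : IsIntegral R α) :
    ∀ n : ℕ, x ^ n ∈ den α → (1 : R) ∈ den α := by
  intro n
  induction n with
  | zero => intro h; simpa using h
  | succ n ih => intro h; exact ih (pow_mem_den_of_succ x hx0 hP α hα n h)

theorem isIntegrallyClosed_of_dim : ∀ (d : ℕ) (R : Type u) [CommRing R] [IsRegularLocalRing R],
    ringKrullDim R = d → IsIntegrallyClosed R := by
  intro d
  induction d using Nat.strong_induction_on with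
  | _ d ih =>
  intro R _ _ hd
  haveI := isDomain R
  have hinj : Function.Injective (algebraMap R (FractionRing R)) :=
    IsFractionRing.injective R (FractionRing R)
  rw [isIntegrallyClosed_iff (FractionRing R)]
  intro α hα
  suffices h1 : (1 : R) ∈ den α by
    obtain ⟨b, hb⟩ := h1
    exact ⟨b, by rw [← hb, map_one, one_mul]⟩
  rcases Nat.eq_zero_or_pos d with hd0 | hdpos
  · -- field case
    subst hd0
    have h5 : maximalIdeal R = ⊥ :=
      (Submodule.spanFinrank_eq_zero_iff_eq_bot (maximalIdeal R).fg_of_isNoetherianRing).mp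
        (spanFinrank_eq_of_dim hd)
    obtain ⟨a, s, hs, rfl⟩ := IsFractionRing.div_surjective (A := R) α
    have hs0 : s ≠ 0 := nonZeroDivisors.ne_zero hs
    have hsu : IsUnit s := by
      by_contra hnu
      have : s ∈ maximalIdeal R := (mem_maximalIdeal s).mpr hnu
      rw [h5] at this
      exact hs0 ((Submodule.mem_bot R).mp this)
    obtain ⟨u, rfl⟩ := hsu
    refine ⟨a * ↑u⁻¹, ?_⟩
    have huK : algebraMap R (FractionRing R) (u : R) ≠ 0 :=
      fun h0 => hs0 (hinj (by rw [h0, map_zero]))
    rw [map_one, one_mul, div_eq_iff huK, ← map_mul, mul_assoc, Units.inv_mul, mul_one]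
  · have hdim0 : ringKrullDim R ≠ 0 := by
      rw [hd]
      intro h0
      have : d = 0 := by exact_mod_cast h0
      omega
    obtain ⟨x, hxm, hx2, -⟩ := exists_good_element R hdim0
    have hd' : ringKrullDim R = ((d - 1) + 1 : ℕ) := by
      rw [hd]; congr 1; omega
    obtain ⟨hreg, hdS⟩ := quotient_regular hd' hxm hx2
    haveI : IsDomain (R ⧸ Ideal.span {x}) := isDomain _
    have hP : (Ideal.span {x}).IsPrime := (Ideal.Quotient.isDomain_iff_prime _).mp inferInstance
    have hx0 : x ≠ 0 := fun h0 => hx2 (h0 ▸ Ideal.zero_mem _)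
    have hxD : x ∈ (den α).radical := by
      by_contra hx
      rw [Ideal.radical_eq_sInf, Ideal.mem_sInf] at hx
      push Not at hx
      obtain ⟨p, ⟨hDp, hp⟩, hxp⟩ := hx
      haveI := hp
      haveI := SerreConvE.regular_localization R p
      obtain ⟨e, he⟩ := exists_nat_dim (Localization.AtPrime p)
      have hlt : e < d := by
        have hpm : p < maximalIdeal R :=
          lt_of_le_of_ne (le_maximalIdeal hp.ne_top) (fun h => hxp (h ▸ hxm))
        have h1 := Ideal.height_strict_mono_of_isPrime hpm
        have h2 : ((maximalIdeal R).height : WithBot ℕ∞) = ringKrullDim R :=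
          IsLocalRing.maximalIdeal_height_eq_ringKrullDim
        have h3 := IsLocalization.AtPrime.ringKrullDim_eq_height p (Localization.AtPrime p)
        rw [he] at h3
        rw [hd] at h2
        have h4 : (e : ℕ∞) = p.height := by exact_mod_cast h3
        have h5 : (maximalIdeal R).height = (d : ℕ∞) := by exact_mod_cast h2
        rw [← h4, h5] at h1
        exact_mod_cast h1
      have hic := ih e hlt (Localization.AtPrime p) he
      obtain ⟨s, hs, a, ha⟩ := (isIntegrallyClosed_atPrime_iff p).mp hic α hα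
      exact hs (hDp ⟨a, ha⟩)
    obtain ⟨n, hn⟩ := hxD
    exact one_mem_den_of_pow x hx0 hP α hα n hn

/-- A regular local ring is integrally closed. -/
theorem isIntegrallyClosed (R : Type u) [CommRing R] [IsRegularLocalRing R] :
    IsIntegrallyClosed R := by
  obtain ⟨d, hd⟩ := exists_nat_dim R
  exact isIntegrallyClosed_of_dim d R hd

end Groth.Agent.Lib.helper6.RegNormal
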