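import Mathlib
import Groth.Prelude.Def_CAlg
import Groth.Prelude.Def_EGA4b
import Groth.Agent.Lib.helper9.FlatLocal
import Groth.Agent.Lib.helper20.FiberLoc

/-! Cohen–Macaulay rings and flat local homomorphisms; ring maps with CM fibres. -/

set_option linter.style.haveILetI false

namespace Groth.Agent.Lib.helper6.CMFlat

open LocCoh Groth.Agent.Lib.helper9.Depth Groth.Agent.Lib.helper9

universe u

theorem isCM_of_ringEquiv {R S : Type u} [CommRing R] [CommRing S] (e : R ≃+* S)
    (h : IsCohenMacaulayLocalRing R) : IsCohenMacaulayLocalRing S := by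
  haveI : IsLocalRing R := h.toIsLocalRing
  haveI : IsNoetherianRing R := h.toIsNoetherian
  haveI : IsLocalRing S := e.isLocalRing
  haveI : IsNoetherianRing S := isNoetherianRing_of_ringEquiv R e
  refine { supportDim_eq_depth := ?_ }
  have h1 := h.supportDim_eq_depth
  rw [Module.supportDim_self_eq_ringKrullDim] at h1 ⊢
  rw [← ringKrullDim_eq_of_ringEquiv e, h1,
    depth_eq_of_addEquiv e e.toAddEquiv (fun r x => map_mul e r x)]

theorem isCM_quot_of_eq {R : Type u} [CommRing R] {I J : Ideal R} (h : I = J)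
    (hI : IsCohenMacaulayLocalRing (R ⧸ I)) : IsCohenMacaulayLocalRing (R ⧸ J) := by
  subst h; exact hI

theorem arith (a b : ℕ) (x y : WithBot ℕ∞) (ha : ((a : ℕ∞) : WithBot ℕ∞) ≤ x)
    (hb : ((b : ℕ∞) : WithBot ℕ∞) ≤ y)
    (h : x + y = (((a + b : ℕ) : ℕ∞) : WithBot ℕ∞)) :
    x = ((a : ℕ∞) : WithBot ℕ∞) ∧ y = ((b : ℕ∞) : WithBot ℕ∞) := by
  induction x with
  | bot => simp at ha
  | coe x =>
  induction y with
  | bot => simp at hb
  | coe y =>
    rw [← WithBot.coe_add, WithBot.coe_inj] at h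
    rw [WithBot.coe_le_coe] at ha hb
    have hx : x ≠ ⊤ := by
      rintro rfl
      rw [top_add] at h
      exact ENat.top_ne_natCast _ h
    have hy : y ≠ ⊤ := by
      rintro rfl
      rw [add_top] at h
      exact ENat.top_ne_natCast _ h
    lift x to ℕ using hx
    lift y to ℕ using hy
    norm_cast at h ha hb ⊢
    omega

/-- For a flat local homomorphism: `S` CM iff `R` and the closed fibre are CM. -/
theorem cm_iff_of_flat {R S : Type u} [CommRing R] [CommRing S] [IsLocalRing R] [IsLocalRing S]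
    [IsNoetherianRing R] [IsNoetherianRing S] [Algebra R S] [IsLocalHom (algebraMap R S)]
    [Module.Flat R S] :
    IsCohenMacaulayLocalRing S ↔
      IsCohenMacaulayLocalRing R ∧ IsCohenMacaulayLocalRing (EGA4.FibRing R S) := by
  have hdim := FlatLocal.ringKrullDim_eq_add (R := R) (S := S)
  have hdepth := FlatLocal.depth_eq_add (R := R) (S := S) (EGA4.mB R S) rfl
  change depth S S = depth R R + depth (EGA4.FibRing R S) (EGA4.FibRing R S) at hdepth
  obtain ⟨a, ha⟩ := exists_nat_depth (R := R) R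
  obtain ⟨b, hb⟩ := exists_nat_depth (R := EGA4.FibRing R S) (EGA4.FibRing R S)
  have hRle := depth_le_supportDim (R := R) R
  have hFle := depth_le_supportDim (R := EGA4.FibRing R S) (EGA4.FibRing R S)
  rw [Module.supportDim_self_eq_ringKrullDim] at hRle hFle
  rw [ha] at hRle
  rw [hb] at hFle
  constructor
  · intro h
    have hS := h.supportDim_eq_depth
    rw [Module.supportDim_self_eq_ringKrullDim, hdim, hdepth, ha, hb] at hS
    obtain ⟨h1, h2⟩ := arith a b _ _ hRle hFle (by rw [hS]; push_cast; rfl)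
    exact ⟨{ supportDim_eq_depth := by rw [Module.supportDim_self_eq_ringKrullDim, h1, ha] },
      { supportDim_eq_depth := by rw [Module.supportDim_self_eq_ringKrullDim, h2, hb] }⟩
  · rintro ⟨hR, hF⟩
    refine { supportDim_eq_depth := ?_ }
    have h1 := hR.supportDim_eq_depth
    have h2 := hF.supportDim_eq_depth
    rw [Module.supportDim_self_eq_ringKrullDim] at h1 h2 ⊢
    rw [hdim, h1, h2, hdepth]
    push_cast
    rfl

/-- flatness passes to quotients -/
theorem flat_quotient {A B : Type*} [CommRing A] [CommRing B] [Algebra A B] [Module.Flat A B]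
    (I : Ideal A) : Module.Flat (A ⧸ I) (B ⧸ I.map (algebraMap A B)) := by
  let e1 : TensorProduct A (A ⧸ I) B ≃ₗ[A] B ⧸ (I • (⊤ : Submodule A B)) :=
    TensorProduct.quotTensorEquivQuotSMul B I
  let e2 : (B ⧸ (I • (⊤ : Submodule A B))) ≃ₗ[A]
      (B ⧸ (I.map (algebraMap A B)).restrictScalars A) :=
    Submodule.quotEquivOfEq _ _ (Ideal.smul_top_eq_map I)
  let e3 : (B ⧸ (I.map (algebraMap A B)).restrictScalars A) ≃ₗ[A] (B ⧸ I.map (algebraMap A B)) :=
    Submodule.Quotient.restrictScalarsEquiv A (I.map (algebraMap A B))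
  let e : TensorProduct A (A ⧸ I) B ≃ₗ[A ⧸ I] (B ⧸ I.map (algebraMap A B)) :=
    (e1.trans (e2.trans e3)).extendScalarsOfSurjective Ideal.Quotient.mk_surjective
  exact Module.Flat.of_linearEquiv e.symm

/-- Quotient version: `C/IC` CM iff `B/I` CM and closed fibre CM. -/
theorem cm_quotient_iff {B C : Type u} [CommRing B] [CommRing C] [IsLocalRing B] [IsLocalRing C]
    [IsNoetherianRing B] [IsNoetherianRing C] [Algebra B C] [IsLocalHom (algebraMap B C)]
    [Module.Flat B C] (I : Ideal B) (hI : I ≠ ⊤) :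
    IsCohenMacaulayLocalRing (C ⧸ I.map (algebraMap B C)) ↔
      IsCohenMacaulayLocalRing (B ⧸ I) ∧ IsCohenMacaulayLocalRing (EGA4.FibRing B C) := by
  have hIm : I ≤ IsLocalRing.maximalIdeal B := IsLocalRing.le_maximalIdeal hI
  have hK : EGA4.mB B C ≤ IsLocalRing.maximalIdeal C :=
    IsLocalRing.map_maximalIdeal_le (algebraMap B C)
  have hJK : I.map (algebraMap B C) ≤ EGA4.mB B C := Ideal.map_mono hIm
  have hJ : I.map (algebraMap B C) ≠ ⊤ := by
    intro h
    exact (IsLocalRing.maximalIdeal.isMaximal C).ne_top (top_le_iff.mp (h ▸ hJK.trans hK))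
  haveI : Nontrivial (B ⧸ I) := Ideal.Quotient.nontrivial_iff.2 hI
  haveI : Nontrivial (C ⧸ I.map (algebraMap B C)) := Ideal.Quotient.nontrivial_iff.2 hJ
  haveI : IsLocalRing (B ⧸ I) :=
    IsLocalRing.of_surjective' (Ideal.Quotient.mk I) Ideal.Quotient.mk_surjective
  haveI : IsLocalRing (C ⧸ I.map (algebraMap B C)) :=
    IsLocalRing.of_surjective' (Ideal.Quotient.mk _) Ideal.Quotient.mk_surjective
  haveI : Module.Flat (B ⧸ I) (C ⧸ I.map (algebraMap B C)) := flat_quotient I
  haveI : IsLocalHom (Ideal.Quotient.mk (I.map (algebraMap B C))) :=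
    IsLocalHom.of_surjective _ Ideal.Quotient.mk_surjective
  haveI : IsLocalHom (algebraMap (B ⧸ I) (C ⧸ I.map (algebraMap B C))) := by
    constructor
    intro x hx
    obtain ⟨x, rfl⟩ := Ideal.Quotient.mk_surjective x
    rw [Ideal.Quotient.algebraMap_quotient_map_quotient] at hx
    have h1 : IsUnit (algebraMap B C x) := isUnit_of_map_unit _ _ hx
    have h2 : IsUnit x := isUnit_of_map_unit (algebraMap B C) _ h1
    exact h2.map _
  have key := cm_iff_of_flat (R := B ⧸ I) (S := C ⧸ I.map (algebraMap B C))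
  have hideal : EGA4.mB (B ⧸ I) (C ⧸ I.map (algebraMap B C)) =
      (EGA4.mB B C).map (Ideal.Quotient.mk (I.map (algebraMap B C))) := by
    change (IsLocalRing.maximalIdeal (B ⧸ I)).map _ = ((IsLocalRing.maximalIdeal B).map _).map _
    rw [← IsLocalRing.map_maximalIdeal_of_surjective (Ideal.Quotient.mk I)
      Ideal.Quotient.mk_surjective, Ideal.map_map, Ideal.map_map]
    rfl
  let e : EGA4.FibRing (B ⧸ I) (C ⧸ I.map (algebraMap B C)) ≃+* EGA4.FibRing B C :=
    (Ideal.quotEquivOfEq hideal).trans (DoubleQuot.quotQuotEquivQuotOfLE hJK)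
  constructor
  · intro h
    obtain ⟨h1, h2⟩ := key.1 h
    exact ⟨h1, isCM_of_ringEquiv e h2⟩
  · rintro ⟨h1, h2⟩
    exact key.2 ⟨h1, isCM_of_ringEquiv e.symm h2⟩

end Groth.Agent.Lib.helper6.CMFlat
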