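import Mathlib
import Groth.Agent.Lib.helper6.CMFlat

/-! Ring maps with Cohen–Macaulay fibres: local form, composition, descent. -/

set_option linter.style.haveILetI false

namespace Groth.Agent.Lib.helper6.CMFib

open LocCoh Groth.Agent.Lib.helper6.CMFlat

universe u

/-- Local form of "all fibres are CM". -/
def LocFibCM (R S : Type u) [CommRing R] [CommRing S] [Algebra R S] : Prop :=
  ∀ (r : Ideal S) [r.IsPrime], IsCohenMacaulayLocalRing
    (Localization.AtPrime r ⧸
      ((r.under R).map (algebraMap R S)).map (algebraMap S (Localization.AtPrime r)))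

section
variable {R S : Type u} [CommRing R] [CommRing S] [Algebra R S]

theorem transport (p : Ideal R) (r r' : Ideal S) [r.IsPrime] [r'.IsPrime] (h : r' = r)
    (hcm : IsCohenMacaulayLocalRing (Localization.AtPrime r' ⧸
      (p.map (algebraMap R S)).map (algebraMap S (Localization.AtPrime r')))) :
    IsCohenMacaulayLocalRing (Localization.AtPrime r ⧸
      (p.map (algebraMap R S)).map (algebraMap S (Localization.AtPrime r))) := by
  subst h; exact hcm

theorem locFibCM_of_fiber
    (h : ∀ (p : Ideal R) [p.IsPrime], IsCohenMacaulayRing (p.Fiber S)) : LocFibCM R S := by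
  intro r _
  set p := r.under R with hp
  let q : PrimeSpectrum (p.Fiber S) :=
    PrimeSpectrum.primesOverOrderIsoFiber R S p ⟨r, ⟨inferInstance, ⟨rfl⟩⟩⟩
  have hq : q.asIdeal.comap (Algebra.TensorProduct.includeRight (R := R) (A := p.ResidueField)
      (B := S)) = r := by
    have h1 := PrimeSpectrum.coe_primesOverOrderIsoFiber_symm_apply (R := R) (S := S) (p := p) q
    rw [← h1]
    simp [q]
  have hcm := (h p).isCohenMacaulayLocalRing_localization q.asIdeal
  have hcm' := isCM_of_ringEquiv (Ideal.Fiber.algEquivAux₂ p q.asIdeal).toRingEquiv hcm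
  exact transport p r _ hq hcm'

theorem fiber_of_locFibCM [IsNoetherianRing S] (h : LocFibCM R S) (p : Ideal R) [p.IsPrime] :
    IsCohenMacaulayRing (p.Fiber S) := by
  haveI := Groth.Agent.Lib.helper20.FiberLoc.fiber_isNoetherianRing R S p
  refine { isCohenMacaulayLocalRing_localization := ?_ }
  intro q _
  set r : Ideal S := q.comap (Algebra.TensorProduct.includeRight (R := R) (A := p.ResidueField)
      (B := S)) with hr
  have hrp : r.under R = p := by
    have h1 : p = q.under R := Ideal.LiesOver.over
    rw [h1]
    ext x
    simp only [Ideal.mem_comap, hr]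
    rw [AlgHom.commutes]
  have hcm := h r
  have hcm' := isCM_quot_of_eq (by rw [hrp]) hcm
  exact isCM_of_ringEquiv (Ideal.Fiber.algEquivAux₂ p q).toRingEquiv.symm hcm'

end

section Comp
variable (A B C : Type u) [CommRing A] [CommRing B] [CommRing C] [Algebra A B] [Algebra B C]
  [Algebra A C] [IsScalarTower A B C] [IsNoetherianRing B] [IsNoetherianRing C] [Module.Flat B C]

set_option maxHeartbeats 800000 in
theorem key (r : Ideal C) [r.IsPrime] :
    IsCohenMacaulayLocalRing (Localization.AtPrime r ⧸
      ((r.under A).map (algebraMap A C)).map (algebraMap C (Localization.AtPrime r))) ↔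
    IsCohenMacaulayLocalRing (Localization.AtPrime (r.under B) ⧸
      (((r.under B).under A).map (algebraMap A B)).map
        (algebraMap B (Localization.AtPrime (r.under B)))) ∧
    IsCohenMacaulayLocalRing (Localization.AtPrime r ⧸
      ((r.under B).map (algebraMap B C)).map (algebraMap C (Localization.AtPrime r))) := by
  set q := r.under B with hq
  haveI : r.LiesOver q := ⟨rfl⟩
  letI := Localization.AtPrime.algebraOfLiesOver q r
  haveI : IsLocalHom (algebraMap (Localization.AtPrime q) (Localization.AtPrime r)) :=
    inferInstanceAs (IsLocalHom (Localization.localRingHom q r (algebraMap B C) Ideal.LiesOver.over))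
  haveI : IsScalarTower A (Localization.AtPrime q) (Localization.AtPrime r) := inferInstance
  haveI : IsScalarTower B (Localization.AtPrime q) (Localization.AtPrime r) := inferInstance
  set I : Ideal (Localization.AtPrime q) :=
    ((q.under A).map (algebraMap A B)).map (algebraMap B (Localization.AtPrime q)) with hI
  have hIle : I ≤ IsLocalRing.maximalIdeal (Localization.AtPrime q) := by
    rw [← Localization.AtPrime.map_eq_maximalIdeal]
    exact Ideal.map_mono Ideal.map_comap_le
  have hItop : I ≠ ⊤ := fun h =>
    (IsLocalRing.maximalIdeal.isMaximal _).ne_top (top_le_iff.mp (h ▸ hIle))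
  have Q := cm_quotient_iff (B := Localization.AtPrime q) (C := Localization.AtPrime r) I hItop
  have hqA : q.under A = r.under A := by
    rw [hq, Ideal.under_def, Ideal.under_def, Ideal.under_def, Ideal.comap_comap,
      ← IsScalarTower.algebraMap_eq]
  have E1 : I.map (algebraMap (Localization.AtPrime q) (Localization.AtPrime r)) =
      ((r.under A).map (algebraMap A C)).map (algebraMap C (Localization.AtPrime r)) := by
    rw [hI, Ideal.map_map, Ideal.map_map, Ideal.map_map, hqA,
      ← IsScalarTower.algebraMap_eq, ← IsScalarTower.algebraMap_eq,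
      ← IsScalarTower.algebraMap_eq]
  have E2 : EGA4.mB (Localization.AtPrime q) (Localization.AtPrime r) =
      ((r.under B).map (algebraMap B C)).map (algebraMap C (Localization.AtPrime r)) := by
    change (IsLocalRing.maximalIdeal (Localization.AtPrime q)).map _ = _
    rw [← Localization.AtPrime.map_eq_maximalIdeal, Ideal.map_map, Ideal.map_map,
      ← IsScalarTower.algebraMap_eq, ← IsScalarTower.algebraMap_eq]
  constructor
  · intro h
    obtain ⟨h1, h2⟩ := Q.1 (isCM_quot_of_eq E1.symm h)
    exact ⟨h1, isCM_quot_of_eq E2 h2⟩
  · rintro ⟨h1, h2⟩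
    exact isCM_quot_of_eq E1 (Q.2 ⟨h1, isCM_quot_of_eq E2.symm h2⟩)

theorem comp (hAB : LocFibCM A B) (hBC : LocFibCM B C) : LocFibCM A C := by
  intro r _
  exact (key A B C r).2 ⟨hAB (r.under B), hBC r⟩

omit [Module.Flat B C] in
theorem descent [Module.FaithfullyFlat B C] (hAC : LocFibCM A C) : LocFibCM A B := by
  intro q _
  obtain ⟨r, hr, hrq⟩ := Ideal.exists_isPrime_liesOver_of_faithfullyFlat (A := B) (B := C) q
  have hq : q = r.under B := hrq.over
  subst hq
  exact ((key A B C r).1 (hAC r)).1

end Comp

/-- flatness descends along a faithfully flat map -/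
theorem flat_of_faithfullyFlat_comp (A B C : Type*) [CommRing A] [CommRing B] [CommRing C]
    [Algebra A B] [Algebra B C] [Algebra A C] [IsScalarTower A B C]
    [Module.FaithfullyFlat B C] [Module.Flat A C] : Module.Flat A B := by
  rw [Module.Flat.iff_lTensor_preserves_injective_linearMap]
  intro N N' _ _ _ _ L hL
  have h1 : Function.Injective (L.lTensor C) :=
    Module.Flat.lTensor_preserves_injective_linearMap L hL
  let LB : TensorProduct A B N →ₗ[B] TensorProduct A B N' :=
    TensorProduct.AlgebraTensorModule.lTensor B B L
  have key : ∀ x : TensorProduct B C (TensorProduct A B N),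
      TensorProduct.AlgebraTensorModule.cancelBaseChange A B C C N' (LB.lTensor C x) =
        L.lTensor C (TensorProduct.AlgebraTensorModule.cancelBaseChange A B C C N x) := by
    intro x
    have := congrArg (fun φ => φ x)
      (TensorProduct.AlgebraTensorModule.lTensor_comp_cancelBaseChange (R := A) (A := B) (B := C)
        (M := C) L)
    exact this.symm
  have h2 : Function.Injective (LB.lTensor C) := by
    intro x y hxy
    have := congrArg (TensorProduct.AlgebraTensorModule.cancelBaseChange A B C C N') hxy
    rw [key, key] at this
    exact (TensorProduct.AlgebraTensorModule.cancelBaseChange A B C C N).injective (h1 this)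
  exact (Module.FaithfullyFlat.lTensor_injective_iff_injective B C LB).1 h2

end Groth.Agent.Lib.helper6.CMFib
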