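import Mathlib
import Groth.Agent.Lib.helper24.AdicLocal
import Groth.Agent.S0390

/-!
# The map on completions induced by a local homomorphism; it is flat when the map is flat
-/

set_option autoImplicit false
set_option linter.style.haveILetI false
set_option linter.unusedSectionVars false

namespace Groth.Agent.Lib.helper6.CplMap

open IsLocalRing TensorProduct

universe u

section LemmaX

variable (A B C : Type u) [CommRing A] [CommRing B] [CommRing C] [Algebra A B] [Algebra B C]
  [Algebra A C] [IsScalarTower A B C] [Module.Flat A B] [Module.Flat A C]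

/-- If `B` and `C` are flat over `A` then `IB ⊗_B C → C` is injective for every ideal `I` of `A`. -/
theorem injective_lTensor_map_subtype (I : Ideal A) :
    Function.Injective (LinearMap.lTensor C ((I.map (algebraMap A B)).subtype)) := by
  set IB := I.map (algebraMap A B) with hIB
  let g : B ⊗[A] I →ₗ[B] B :=
    (AlgebraTensorModule.rid A B B).toLinearMap ∘ₗ AlgebraTensorModule.lTensor B B (I.subtype)
  have hg_apply : ∀ (b : B) (i : I), g (b ⊗ₜ i) = (i : A) • b := by
    intro b i
    simp [g]
  have hg_inj : Function.Injective g := by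
    have h1 : Function.Injective (I.subtype.lTensor B) :=
      Module.Flat.lTensor_preserves_injective_linearMap _ I.injective_subtype
    exact (AlgebraTensorModule.rid A B B).injective.comp h1
  have hg_range : LinearMap.range g = IB := by
    apply le_antisymm
    · rintro _ ⟨x, rfl⟩
      induction x using TensorProduct.induction_on with
      | zero => rw [map_zero]; exact zero_mem _
      | tmul b i =>
        rw [hg_apply, Algebra.smul_def]
        exact Ideal.mul_mem_right _ _ (Ideal.mem_map_of_mem _ i.2)
      | add x y hx hy => rw [map_add]; exact add_mem hx hy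
    · rw [hIB, Ideal.map]
      refine Ideal.span_le.2 ?_
      rintro _ ⟨i, hi, rfl⟩
      refine ⟨(1 : B) ⊗ₜ ⟨i, hi⟩, ?_⟩
      rw [hg_apply, Algebra.smul_def, mul_one]
  let e : B ⊗[A] I ≃ₗ[B] IB :=
    (LinearEquiv.ofInjective g hg_inj).trans (LinearEquiv.ofEq _ _ hg_range)
  have he : IB.subtype ∘ₗ e.toLinearMap = g := by
    ext x
    rfl
  have h2 : LinearMap.lTensor C IB.subtype ∘ₗ (LinearEquiv.lTensor C e).toLinearMap =
      LinearMap.lTensor C g := by
    rw [← he, LinearMap.lTensor_comp]
    rfl
  suffices hsuff : Function.Injective (LinearMap.lTensor C g) by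
    have h3 : LinearMap.lTensor C IB.subtype =
        LinearMap.lTensor C g ∘ₗ (LinearEquiv.lTensor C e).symm.toLinearMap := by
      rw [← h2]
      ext x
      simp
    rw [h3]
    exact hsuff.comp (LinearEquiv.injective _)
  let c1 := AlgebraTensorModule.cancelBaseChange A B C C I
  have h3 : Function.Injective ((TensorProduct.rid A C).toLinearMap ∘ₗ I.subtype.lTensor C) :=
    (TensorProduct.rid A C).injective.comp
      (Module.Flat.lTensor_preserves_injective_linearMap _ I.injective_subtype)
  have h4 : ∀ x, TensorProduct.rid B C (LinearMap.lTensor C g x) =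
      TensorProduct.rid A C (I.subtype.lTensor C (c1 x)) := by
    intro x
    induction x using TensorProduct.induction_on with
    | zero => simp
    | tmul c y =>
      induction y using TensorProduct.induction_on with
      | zero => simp
      | tmul b i =>
        simp only [LinearMap.lTensor_tmul, hg_apply, TensorProduct.rid_tmul, c1,
          AlgebraTensorModule.cancelBaseChange_tmul, Submodule.subtype_apply]
        rw [smul_assoc]
      | add y z hy hz =>
        rw [TensorProduct.tmul_add, map_add, map_add, hy, hz, map_add, map_add, map_add]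
    | add y z hy hz =>
      rw [map_add, map_add, hy, hz, map_add, map_add, map_add]
  intro x y hxy
  apply c1.injective
  apply h3
  simp only [LinearMap.comp_apply, LinearEquiv.coe_coe]
  rw [← h4, ← h4, hxy]

end LemmaX

section Cpl

variable (A A' : Type u) [CommRing A] [CommRing A'] [IsLocalRing A] [IsLocalRing A']
  [Algebra A A'] [IsLocalHom (algebraMap A A')]

lemma pow_le_comap (n : ℕ) :
    (maximalIdeal A) ^ n ≤ ((maximalIdeal A') ^ n).comap (Algebra.ofId A A') := by
  show (maximalIdeal A) ^ n ≤ ((maximalIdeal A') ^ n).comap (algebraMap A A')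
  rw [← Ideal.map_le_iff_le_comap, Ideal.map_pow]
  exact Ideal.pow_right_mono (IsLocalRing.map_maximalIdeal_le (algebraMap A A')) n

/-- level maps -/
noncomputable def lvl (n : ℕ) :
    AdicCompletion (maximalIdeal A) A →ₐ[A] A' ⧸ (maximalIdeal A') ^ n :=
  (Ideal.quotientMapₐ ((maximalIdeal A') ^ n) (Algebra.ofId A A') (pow_le_comap A A' n)).comp
    (AdicCompletion.evalₐ (maximalIdeal A) n)

lemma lvl_mk (n : ℕ) (c : AdicCompletion.AdicCauchySequence (maximalIdeal A) A) :
    lvl A A' n (AdicCompletion.mk (maximalIdeal A) A c) =
      Ideal.Quotient.mk _ (algebraMap A A' (c.val n)) := by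
  simp [lvl]

lemma lvl_compat {m n : ℕ} (hle : m ≤ n) :
    (Ideal.Quotient.factorₐ A (Ideal.pow_le_pow_right hle)).comp (lvl A A' n) = lvl A A' m := by
  ext x
  induction x using AdicCompletion.induction_on with | h c =>
  rw [AlgHom.comp_apply, lvl_mk, lvl_mk]
  simp only [Ideal.Quotient.factorₐ_apply_mk]
  rw [Ideal.Quotient.eq, ← map_sub]
  apply pow_le_comap A A' m
  have h1 := AdicCompletion.Ideal.mk_eq_mk (I := maximalIdeal A) hle c
  rw [Ideal.Quotient.eq] at h1
  exact h1

/-- the induced map on completions -/
noncomputable def cplMap :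
    AdicCompletion (maximalIdeal A) A →ₐ[A] AdicCompletion (maximalIdeal A') A' :=
  AdicCompletion.liftAlgHom (maximalIdeal A') (lvl A A') (fun hle => lvl_compat A A' hle)

lemma evalₐ_cplMap (n : ℕ) (x : AdicCompletion (maximalIdeal A) A) :
    AdicCompletion.evalₐ (maximalIdeal A') n (cplMap A A' x) = lvl A A' n x :=
  AdicCompletion.evalₐ_liftAlgHom _ _ _ _ _

end Cpl

section Flat

variable (A A' : Type u) [CommRing A] [CommRing A'] [IsNoetherianRing A] [IsNoetherianRing A']
  [IsLocalRing A] [IsLocalRing A'] [Algebra A A'] [IsLocalHom (algebraMap A A')]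

theorem isLocalRing_cpl : IsLocalRing (AdicCompletion (maximalIdeal A) A) :=
  Groth.Agent.Lib.helper24.AdicLocal.isLocalRing A _ (maximalIdeal.isMaximal A).ne_top

theorem isNoetherianRing_cpl : IsNoetherianRing (AdicCompletion (maximalIdeal A) A) :=
  Groth.Agent.S0543.result A _

theorem isScalarTower_cpl :
    IsScalarTower A A' (AdicCompletion (maximalIdeal A') A') :=
  IsScalarTower.of_algebraMap_eq (fun a => by
    apply AdicCompletion.ext_evalₐ
    intro n
    rfl)

/-- the algebra structure `Â → Â'` -/
noncomputable abbrev algCpl :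
    Algebra (AdicCompletion (maximalIdeal A) A) (AdicCompletion (maximalIdeal A') A') :=
  (cplMap A A').toRingHom.toAlgebra

theorem isScalarTower_cplMap :
    letI := algCpl A A'
    IsScalarTower A (AdicCompletion (maximalIdeal A) A) (AdicCompletion (maximalIdeal A') A') :=
  letI := algCpl A A'
  IsScalarTower.of_algebraMap_eq (fun a => ((cplMap A A').commutes a).symm)

theorem isLocalHom_cplMap :
    letI := algCpl A A'
    letI := isLocalRing_cpl A
    letI := isLocalRing_cpl A'
    IsLocalHom (algebraMap (AdicCompletion (maximalIdeal A) A)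
      (AdicCompletion (maximalIdeal A') A')) := by
  letI := algCpl A A'
  letI := isLocalRing_cpl A
  letI := isLocalRing_cpl A'
  haveI := isScalarTower_cplMap A A'
  haveI := isScalarTower_cpl A A'
  apply ((IsLocalRing.local_hom_TFAE _).out 0 2).mpr
  rw [Groth.Agent.Lib.helper24.AdicLocal.maximalIdeal_eq_map A _ (maximalIdeal.isMaximal A).ne_top,
    Groth.Agent.Lib.helper24.AdicLocal.maximalIdeal_eq_map A' _ (maximalIdeal.isMaximal A').ne_top,
    Ideal.map_map, ← IsScalarTower.algebraMap_eq,
    IsScalarTower.algebraMap_eq A A' (AdicCompletion (maximalIdeal A') A'), ← Ideal.map_map]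
  exact Ideal.map_mono (IsLocalRing.map_maximalIdeal_le (algebraMap A A'))

theorem flat_cplMap [Module.Flat A A'] :
    letI := algCpl A A'
    Module.Flat (AdicCompletion (maximalIdeal A) A) (AdicCompletion (maximalIdeal A') A') := by
  letI := algCpl A A'
  letI := isLocalRing_cpl A
  letI := isLocalRing_cpl A'
  haveI := isNoetherianRing_cpl A
  haveI := isNoetherianRing_cpl A'
  haveI := isScalarTower_cplMap A A'
  haveI := isScalarTower_cpl A A'
  haveI := isLocalHom_cplMap A A'
  haveI : Module.Flat A (AdicCompletion (maximalIdeal A') A') :=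
    Module.Flat.trans A A' (AdicCompletion (maximalIdeal A') A')
  have h := injective_lTensor_map_subtype A (AdicCompletion (maximalIdeal A) A)
    (AdicCompletion (maximalIdeal A') A') (maximalIdeal A)
  rw [← Groth.Agent.Lib.helper24.AdicLocal.maximalIdeal_eq_map A _
    (maximalIdeal.isMaximal A).ne_top] at h
  exact Groth.Agent.S0390.local_crit (R := AdicCompletion (maximalIdeal A) A)
    (S := AdicCompletion (maximalIdeal A') A') (M := AdicCompletion (maximalIdeal A') A') h

theorem faithfullyFlat_cplMap [Module.Flat A A'] :
    letI := algCpl A A'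
    Module.FaithfullyFlat (AdicCompletion (maximalIdeal A) A)
      (AdicCompletion (maximalIdeal A') A') := by
  letI := algCpl A A'
  letI := isLocalRing_cpl A
  letI := isLocalRing_cpl A'
  haveI := isLocalHom_cplMap A A'
  haveI := flat_cplMap A A'
  exact Module.FaithfullyFlat.of_flat_of_isLocalHom

end Flat

end Groth.Agent.Lib.helper6.CplMap
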