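import Mathlib

/-!
# Descent of "flat with geometrically reduced fibres" along a faithfully flat map
-/

set_option autoImplicit false
set_option linter.style.haveILetI false
set_option linter.unusedSectionVars false

namespace Groth.Agent.Lib.helper6.GeomRedDesc

open TensorProduct

universe u

variable (A B C : Type*) [CommRing A] [CommRing B] [CommRing C] [Algebra A B] [Algebra B C]
  [Algebra A C] [IsScalarTower A B C]

/-- `B ⊗ N → C ⊗ N` is injective for `B → C` faithfully flat. -/
lemma rTensor_injective [Module.FaithfullyFlat B C] (N : Type*) [AddCommGroup N] [Module A N] :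
    Function.Injective (LinearMap.rTensor N ((IsScalarTower.toAlgHom A B C).toLinearMap)) := by
  have h1 := Module.FaithfullyFlat.tensorProduct_mk_injective (A := B) (B := C) (B ⊗[A] N)
  let e := TensorProduct.AlgebraTensorModule.cancelBaseChange A B C C N
  have key : ∀ z : B ⊗[A] N,
      LinearMap.rTensor N ((IsScalarTower.toAlgHom A B C).toLinearMap) z =
        e (TensorProduct.mk B C (B ⊗[A] N) 1 z) := by
    intro z
    induction z using TensorProduct.induction_on with
    | zero => simp
    | tmul b n =>
      simp only [LinearMap.rTensor_tmul, AlgHom.toLinearMap_apply, IsScalarTower.coe_toAlgHom',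
        TensorProduct.mk_apply, e, TensorProduct.AlgebraTensorModule.cancelBaseChange_tmul]
      rw [Algebra.algebraMap_eq_smul_one]
    | add x y hx hy => simp only [map_add, hx, hy]
  intro z z' h
  apply h1
  apply e.injective
  rw [← key, ← key, h]

lemma lTensor_injective [Module.FaithfullyFlat B C] (N : Type*) [AddCommGroup N] [Module A N] :
    Function.Injective (LinearMap.lTensor N ((IsScalarTower.toAlgHom A B C).toLinearMap)) := by
  have key : ∀ z : N ⊗[A] B,
      TensorProduct.comm A N C
        (LinearMap.lTensor N ((IsScalarTower.toAlgHom A B C).toLinearMap) z) =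
      LinearMap.rTensor N ((IsScalarTower.toAlgHom A B C).toLinearMap)
        (TensorProduct.comm A N B z) := by
    intro z
    induction z using TensorProduct.induction_on with
    | zero => simp
    | tmul n b => simp
    | add x y hx hy => simp only [map_add, hx, hy]
  intro z z' h
  apply (TensorProduct.comm A N B).injective
  apply rTensor_injective A B C N
  rw [← key, ← key, h]

theorem descent [Module.FaithfullyFlat B C] [Module.Flat A C]
    (hAC : ∀ (p : Ideal A) [p.IsPrime],
      Algebra.IsGeometricallyReduced p.ResidueField (p.Fiber C)) :
    Module.Flat A B ∧ ∀ (p : Ideal A) [p.IsPrime],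
      Algebra.IsGeometricallyReduced p.ResidueField (p.Fiber B) := by
  refine ⟨?_, fun p hp => ?_⟩
  · rw [Module.Flat.iff_lTensor_preserves_injective_linearMap]
    intro N N' _ _ _ _ L hL
    have h1 : Function.Injective (L.lTensor C) :=
      Module.Flat.lTensor_preserves_injective_linearMap L hL
    let LB : B ⊗[A] N →ₗ[B] B ⊗[A] N' := TensorProduct.AlgebraTensorModule.lTensor B B L
    have key : ∀ x : C ⊗[B] (B ⊗[A] N),
        TensorProduct.AlgebraTensorModule.cancelBaseChange A B C C N' (LB.lTensor C x) =
          L.lTensor C (TensorProduct.AlgebraTensorModule.cancelBaseChange A B C C N x) := by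
      intro x
      have := congrArg (fun φ => φ x)
        (TensorProduct.AlgebraTensorModule.lTensor_comp_cancelBaseChange (R := A) (A := B) (B := C)
          (M := C) L)
      exact this.symm
    have h2 : Function.Injective (LB.lTensor C) := by
      intro x y hxy
      have := congrArg (TensorProduct.AlgebraTensorModule.cancelBaseChange A B C C N') hxy
      rw [key, key] at this
      exact (TensorProduct.AlgebraTensorModule.cancelBaseChange A B C C N).injective (h1 this)
    have h3 : Function.Injective LB :=
      (Module.FaithfullyFlat.lTensor_injective_iff_injective B C LB).1 h2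
    exact h3
  · haveI := hAC p
    let f : p.Fiber B →ₐ[p.ResidueField] p.Fiber C :=
      Algebra.TensorProduct.map (AlgHom.id p.ResidueField p.ResidueField)
        (IsScalarTower.toAlgHom A B C)
    refine Algebra.IsGeometricallyReduced.of_injective f ?_
    have key : ∀ z, f z =
        LinearMap.lTensor p.ResidueField (IsScalarTower.toAlgHom A B C).toLinearMap z := by
      intro z
      induction z using TensorProduct.induction_on with
      | zero => simp
      | tmul n b => simp [f]
      | add x y hx hy => simp only [map_add, hx, hy]
    intro z z' h
    apply lTensor_injective A B C p.ResidueField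
    rw [← key, ← key, h]

end Groth.Agent.Lib.helper6.GeomRedDesc
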