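import Mathlib
import Groth.Agent.Lib.helper7.GeomRed2
import Groth.Agent.Lib.helper12.PerfectTensor
import Groth.Agent.Lib.helper14.SepGenReduced

/-!
# Geometric reducedness: purely inseparable test, change of base field
-/

set_option autoImplicit false
set_option linter.style.haveILetI false
open TensorProduct
universe u
namespace Groth.Agent.Lib.helper6.GeomRedPI


lemma aux (k S P Ω : Type*) [Field k] [CommRing S] [Algebra k S] [Field P] [PerfectField P]
    [Algebra k P] [Field Ω] [Algebra P Ω] [Algebra k Ω] [IsScalarTower k P Ω]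
    [Algebra.IsAlgebraic P Ω] [IsReduced (P ⊗[k] S)] : IsReduced (Ω ⊗[k] S) := by
  haveI h3 : Algebra.IsGeometricallyReduced P (P ⊗[k] S) :=
    H12PT.isGeometricallyReduced_of_isReduced P (P ⊗[k] S)
  haveI h4 : IsReduced (Ω ⊗[P] (P ⊗[k] S)) := inferInstance
  let e := Algebra.TensorProduct.cancelBaseChange k P P Ω S
  exact isReduced_of_injective e.symm.toAlgHom e.symm.injective

/-- reduced after all finite purely inseparable extensions ⇒ geometrically reduced -/
theorem isGeometricallyReduced_of_purelyInseparable {k S : Type u} [Field k] [CommRing S]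
    [Algebra k S]
    (h : ∀ (k' : Type u) [Field k'] [Algebra k k'] [Module.Finite k k']
      [IsPurelyInseparable k k'], IsReduced (k' ⊗[k] S)) :
    Algebra.IsGeometricallyReduced k S := by
  -- S ⊗ P reduced
  haveI h1 : IsReduced (S ⊗[k] (perfectClosure k (AlgebraicClosure k))) := by
    refine IsReduced.tensorProduct_of_flat_of_forall_fg fun k' hk' => ?_
    have hfield : IsField k' := Subalgebra.isField_of_algebraic k'
    letI : Field k' := hfield.toField
    haveI : Algebra.FiniteType k k' := (Subalgebra.fg_iff_finiteType k').1 hk'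
    haveI : Algebra.IsIntegral k k' := Algebra.IsIntegral.of_injective k'.val Subtype.val_injective
    haveI : Module.Finite k k' := Algebra.IsIntegral.finite
    letI : Algebra k' (perfectClosure k (AlgebraicClosure k)) := k'.val.toRingHom.toAlgebra
    haveI : IsScalarTower k k' (perfectClosure k (AlgebraicClosure k)) :=
      IsScalarTower.of_algebraMap_eq (fun x => rfl)
    haveI : IsPurelyInseparable k k' :=
      IsPurelyInseparable.tower_bot k k' (perfectClosure k (AlgebraicClosure k))
    haveI := h k'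
    exact isReduced_of_injective (Algebra.TensorProduct.comm k S k').toAlgHom
      (AlgEquiv.injective _)
  haveI h2 : IsReduced ((perfectClosure k (AlgebraicClosure k)) ⊗[k] S) :=
    isReduced_of_injective (Algebra.TensorProduct.comm k _ S).toAlgHom (AlgEquiv.injective _)
  haveI : Algebra.IsAlgebraic (perfectClosure k (AlgebraicClosure k)) (AlgebraicClosure k) :=
    Algebra.IsAlgebraic.tower_top (K := k) _
  rw [Algebra.isGeometricallyReduced_field_iff]
  exact aux k S (perfectClosure k (AlgebraicClosure k)) (AlgebraicClosure k)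



/-- An integral element of a reduced algebra over a field is von Neumann regular. -/
lemma exists_eq_sq_mul {k M : Type*} [Field k] [CommRing M] [Algebra k M] [IsReduced M] (d : M)
    (hd : IsIntegral k d) : ∃ s : M, d = d * d * s := by
  let R₀ := Algebra.adjoin k {d}
  haveI : Module.Finite k R₀ := Module.Finite.iff_fg.2 hd.fg_adjoin_singleton
  haveI : IsArtinianRing R₀ := IsArtinianRing.of_finite k R₀
  let d₀ : R₀ := ⟨d, Algebra.subset_adjoin (Set.mem_singleton d)⟩
  obtain ⟨n, y, hy⟩ := IsArtinian.exists_pow_succ_smul_dvd d₀ (1 : R₀)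
  have h1 : d ^ (n + 1) * (y : M) = d ^ n := by
    have := congrArg (Subtype.val) hy
    simpa [d₀] using this
  refine ⟨y, ?_⟩
  have h3 : d ^ n * (1 - d * y) = 0 := by
    have : d ^ n * (1 - d * y) = d ^ n - d ^ (n + 1) * y := by ring
    rw [this, h1, sub_self]
  have h2 : (d - d * d * y) ^ (n + 1) = 0 := by
    have h5 : d - d * d * y = d * (1 - d * y) := by ring
    rw [h5, mul_pow, pow_succ (1 - d * (y : M)), pow_succ d]
    calc d ^ n * d * ((1 - d * y) ^ n * (1 - d * y))
        = d * (1 - d * y) ^ n * (d ^ n * (1 - d * y)) := by ring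
      _ = 0 := by rw [h3, mul_zero]
  have h4 : d - d * d * y = 0 := IsReduced.eq_zero _ ⟨n + 1, h2⟩
  exact sub_eq_zero.1 h4

theorem isReduced_of_tower {k k' K B : Type*} [Field k] [Field k'] [Algebra k k']
    [Algebra.IsAlgebraic k k']
    [Field K] [Algebra k' K] [Algebra k K] [IsScalarTower k k' K]
    [CommRing B] [Algebra k' B] [Algebra k B] [IsScalarTower k k' B]
    [IsReduced (K ⊗[k] B)] : IsReduced (K ⊗[k'] B) := by
  let π : K ⊗[k] B →ₐ[k'] K ⊗[k'] B := Algebra.TensorProduct.mapOfCompatibleSMul k' k k' K B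
  have hπ : Function.Surjective π :=
    Algebra.TensorProduct.mapOfCompatibleSMul_surjective k' k k' K B
  let dd : k' → K ⊗[k] B := fun c => (algebraMap k' K c) ⊗ₜ 1 - 1 ⊗ₜ (algebraMap k' B c)
  have hdd_int : ∀ c, IsIntegral k (dd c) := by
    intro c
    have hc : IsIntegral k c := (Algebra.IsAlgebraic.isAlgebraic c).isIntegral
    have h1 : IsIntegral k ((algebraMap k' K c) ⊗ₜ[k] (1 : B)) := by
      have := (hc.map (IsScalarTower.toAlgHom k k' K)).map
        (Algebra.TensorProduct.includeLeft : K →ₐ[k] K ⊗[k] B)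
      simpa using this
    have h2 : IsIntegral k ((1 : K) ⊗ₜ[k] (algebraMap k' B c)) := by
      have := (hc.map (IsScalarTower.toAlgHom k k' B)).map
        (Algebra.TensorProduct.includeRight : B →ₐ[k] K ⊗[k] B)
      simpa using this
    exact h1.sub h2
  have hdd : ∀ c, ∃ s, dd c = dd c * dd c * s := fun c => exists_eq_sq_mul (dd c) (hdd_int c)
  have hπdd : ∀ c, π (dd c) = 0 := by
    intro c
    simp only [dd, map_sub, π, Algebra.TensorProduct.mapOfCompatibleSMul_tmul]
    rw [Algebra.algebraMap_eq_smul_one, Algebra.algebraMap_eq_smul_one, TensorProduct.smul_tmul,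
      sub_self]
  have key : ∀ y : K ⊗[k] B, π y = 0 →
      ∃ f : K ⊗[k] B, f * f = f ∧ π (1 - f) = 0 ∧ f * y = 0 := by
    intro y hy
    have hy' : y ∈ LinearMap.ker (TensorProduct.mapOfCompatibleSMul k' k k' K B) := hy
    rw [TensorProduct.AlgebraTensorModule.ker_mapOfCompatibleSMul] at hy'
    clear hy
    induction hy' using Submodule.span_induction with
    | mem y hy =>
      obtain ⟨a, m, n, rfl⟩ := hy
      obtain ⟨s, hs⟩ := hdd a
      have hfact : (a • m) ⊗ₜ[k] n - m ⊗ₜ[k] (a • n) = dd a * (m ⊗ₜ[k] n) := by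
        simp only [dd, sub_mul, Algebra.TensorProduct.tmul_mul_tmul, one_mul]
        rw [Algebra.smul_def, Algebra.smul_def]
      refine ⟨1 - dd a * s, ?_, ?_, ?_⟩
      · have : (1 - dd a * s) * (1 - dd a * s) = 1 - dd a * s - (dd a - dd a * dd a * s) * s := by
          ring
        rw [this, ← hs, sub_self, zero_mul, sub_zero]
      · rw [sub_sub_cancel, map_mul, hπdd, zero_mul]
      · rw [hfact]
        have : (1 - dd a * s) * (dd a * (m ⊗ₜ[k] n)) =
            (dd a - dd a * dd a * s) * (m ⊗ₜ[k] n) := by ring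
        rw [this, ← hs, sub_self, zero_mul]
    | zero => exact ⟨1, by simp, by simp, by simp⟩
    | add y₁ y₂ _ _ h₁ h₂ =>
      obtain ⟨f₁, hf11, hf12, hf13⟩ := h₁
      obtain ⟨f₂, hf21, hf22, hf23⟩ := h₂
      refine ⟨f₁ * f₂, ?_, ?_, ?_⟩
      · calc f₁ * f₂ * (f₁ * f₂) = (f₁ * f₁) * (f₂ * f₂) := by ring
          _ = f₁ * f₂ := by rw [hf11, hf21]
      · have : (1 : K ⊗[k] B) - f₁ * f₂ = (1 - f₁) + f₁ * (1 - f₂) := by ring
        rw [this, map_add, map_mul, hf12, hf22, mul_zero, add_zero]
      · calc f₁ * f₂ * (y₁ + y₂) = f₂ * (f₁ * y₁) + f₁ * (f₂ * y₂) := by ring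
          _ = 0 := by rw [hf13, hf23, mul_zero, mul_zero, add_zero]
    | smul c y _ h =>
      obtain ⟨f, hf1, hf2, hf3⟩ := h
      exact ⟨f, hf1, hf2, by rw [mul_smul_comm, hf3, smul_zero]⟩
  constructor
  intro z hz
  obtain ⟨x, rfl⟩ := hπ z
  obtain ⟨n, hn⟩ := hz
  have h1 : π (x ^ n) = 0 := by rw [map_pow, hn]
  obtain ⟨f, hf1, hf2, hf3⟩ := key _ h1
  have hfi : IsIdempotentElem f := hf1
  have h2 : (f * x) ^ (n + 1) = 0 := by
    rw [mul_pow, hfi.pow_succ_eq, pow_succ, ← mul_assoc, hf3, zero_mul]
  have h3 : f * x = 0 := IsReduced.eq_zero _ ⟨n + 1, h2⟩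
  have : x = (1 - f) * x := by rw [sub_mul, one_mul, h3, sub_zero]
  rw [this, map_mul, hf2, zero_mul]


/-- `k'/k` separable algebraic, `B` geometrically reduced over `k'`: `K ⊗[k] B` is reduced for
every field `K` over `k`. -/
theorem isReduced_of_isSeparable {k k' K B : Type*} [Field k] [Field k'] [Algebra k k']
    [Algebra.IsSeparable k k'] [Field K] [Algebra k K] [CommRing B] [Algebra k' B] [Algebra k B]
    [IsScalarTower k k' B] [Algebra.IsGeometricallyReduced k' B] : IsReduced (K ⊗[k] B) := by
  haveI h1 : IsReduced (K ⊗[k] k') := H14.SG.isReduced_tensor_of_isSeparable k K k'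
  haveI h2 : IsReduced (k' ⊗[k] K) :=
    isReduced_of_injective (Algebra.TensorProduct.comm k k' K).toAlgHom (AlgEquiv.injective _)
  haveI h3 : IsReduced (B ⊗[k'] (k' ⊗[k] K)) :=
    Groth.Agent.Lib.helper7.GeomRed2.isReduced_tensorProduct (k := k') B (k' ⊗[k] K)
  let e := Algebra.TensorProduct.cancelBaseChange k k' k' B K
  haveI h4 : IsReduced (B ⊗[k] K) := isReduced_of_injective e.symm.toAlgHom e.symm.injective
  exact isReduced_of_injective (Algebra.TensorProduct.comm k K B).toAlgHom (AlgEquiv.injective _)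

end Groth.Agent.Lib.helper6.GeomRedPI
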