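import Mathlib
import Groth.Prelude.Def_EGA4b
import Groth.Agent.Lib.helper7.GeomRed2

/-!
# Base change of reduced algebras along flat maps with geometrically reduced fibres

`A → A'` flat with geometrically reduced fibres, `A` Noetherian, `B` a reduced `A`-algebra:
`A' ⊗[A] B` is reduced.
-/

set_option autoImplicit false
set_option linter.style.haveILetI false
set_option linter.unusedSectionVars false

namespace Groth.Agent.Lib.helper6.RedBC

open TensorProduct

universe u

/-- A finite product of reduced rings is reduced. -/
lemma isReduced_pi {ι : Type*} (R : ι → Type*) [∀ i, CommRing (R i)] [∀ i, IsReduced (R i)] :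
    IsReduced (∀ i, R i) := by
  constructor
  intro x hx
  funext i
  exact (hx.map (Pi.evalRingHom R i)).eq_zero

/-- The field case: `K ⊗[A] A'` is reduced when the fibres of `A → A'` are geometrically
reduced. -/
theorem isReduced_field_tensor (A A' : Type*) [CommRing A] [CommRing A'] [Algebra A A']
    (h : ∀ (p : Ideal A) [p.IsPrime],
      Algebra.IsGeometricallyReduced p.ResidueField (p.Fiber A'))
    (K : Type*) [Field K] [Algebra A K] : IsReduced (K ⊗[A] A') := by
  let p : Ideal A := RingHom.ker (algebraMap A K)
  haveI hp : p.IsPrime := RingHom.ker_isPrime _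
  let φ : p.ResidueField →+* K := Ideal.ResidueField.lift p (algebraMap A K) le_rfl (by
    intro x hx
    simp only [Submonoid.mem_comap, IsUnit.mem_submonoid_iff]
    exact isUnit_iff_ne_zero.2 (fun h0 => hx (RingHom.mem_ker.2 h0)))
  letI : Algebra p.ResidueField K := φ.toAlgebra
  haveI : IsScalarTower A p.ResidueField K := IsScalarTower.of_algebraMap_eq (fun a => by
    rw [RingHom.algebraMap_toAlgebra]
    exact (Ideal.ResidueField.lift_algebraMap p (algebraMap A K) le_rfl _ a).symm)
  haveI := h p
  haveI : IsReduced (K ⊗[p.ResidueField] p.Fiber A') :=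
    Groth.Agent.Lib.helper7.GeomRed2.isReduced_tensorProduct_left (k := p.ResidueField)
      (p.Fiber A') K
  let e := Algebra.TensorProduct.cancelBaseChange A p.ResidueField p.ResidueField K A'
  exact isReduced_of_injective e.symm.toAlgHom e.symm.injective

/-- Noetherian reduced `B`. -/
theorem isReduced_of_noetherian (A A' : Type*) [CommRing A] [CommRing A'] [Algebra A A']
    [Module.Flat A A']
    (h : ∀ (p : Ideal A) [p.IsPrime],
      Algebra.IsGeometricallyReduced p.ResidueField (p.Fiber A'))
    (B : Type*) [CommRing B] [Algebra A B] [IsNoetherianRing B] [IsReduced B] :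
    IsReduced (A' ⊗[A] B) := by
  classical
  have hfin : (minimalPrimes B).Finite := minimalPrimes.finite_of_isNoetherianRing B
  let ι := ↥(minimalPrimes B)
  haveI : Fintype ι := hfin.fintype
  haveI hprime : ∀ q : ι, q.1.IsPrime := fun q => Ideal.IsMinimalPrime.isPrime q.2
  let K : ι → Type _ := fun q => FractionRing (B ⧸ q.1)
  let ψ : B →ₐ[A] ∀ q : ι, K q :=
    AlgHom.pi (fun q => (IsScalarTower.toAlgHom A (B ⧸ q.1) (K q)).comp
      (Ideal.Quotient.mkₐ A q.1))
  have hψ : Function.Injective ψ := by
    rw [injective_iff_map_eq_zero]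
    intro b hb
    have hmem : ∀ q ∈ minimalPrimes B, b ∈ q := by
      intro q hq
      have h1 : ψ b ⟨q, hq⟩ = 0 := by rw [hb]; rfl
      have h2 : algebraMap (B ⧸ q) (FractionRing (B ⧸ q)) (Ideal.Quotient.mk q b) = 0 := h1
      haveI : q.IsPrime := Ideal.IsMinimalPrime.isPrime hq
      have h3 := (IsFractionRing.injective (B ⧸ q) (FractionRing (B ⧸ q)))
        (h2.trans (map_zero _).symm)
      exact Ideal.Quotient.eq_zero_iff_mem.1 h3
    have h4 : b ∈ sInf (minimalPrimes B) := by
      rw [Ideal.mem_sInf]
      intro q hq
      exact hmem q hq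
    have h5 : sInf (minimalPrimes B) = (⊥ : Ideal B) := by
      have := Ideal.sInf_minimalPrimes (I := (⊥ : Ideal B))
      rw [this]
      exact nilradical_eq_zero B
    rw [h5] at h4
    exact h4
  have hinj : Function.Injective (Algebra.TensorProduct.map (AlgHom.id A A') ψ) :=
    Module.Flat.lTensor_preserves_injective_linearMap (M := A') ψ.toLinearMap hψ
  haveI : ∀ q : ι, IsReduced (A' ⊗[A] K q) := fun q => by
    haveI := isReduced_field_tensor A A' h (K q)
    exact isReduced_of_injective (Algebra.TensorProduct.comm A A' (K q)).toAlgHom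
      (AlgEquiv.injective _)
  haveI : IsReduced (∀ q : ι, A' ⊗[A] K q) := isReduced_pi _
  let e := Algebra.TensorProduct.piRight A A A' K
  haveI : IsReduced (A' ⊗[A] (∀ q : ι, K q)) :=
    isReduced_of_injective e.toAlgHom e.injective
  exact isReduced_of_injective _ hinj

/-- Main statement: `A` Noetherian, `A → A'` flat with geometrically reduced fibres, `B` any
reduced `A`-algebra: `A' ⊗[A] B` is reduced. -/
theorem isReduced_tensor (A A' : Type*) [CommRing A] [CommRing A'] [IsNoetherianRing A]
    [Algebra A A'] [Module.Flat A A']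
    (h : ∀ (p : Ideal A) [p.IsPrime],
      Algebra.IsGeometricallyReduced p.ResidueField (p.Fiber A'))
    (B : Type*) [CommRing B] [Algebra A B] [IsReduced B] :
    IsReduced (A' ⊗[A] B) := by
  refine IsReduced.tensorProduct_of_flat_of_forall_fg fun B₀ hB₀ => ?_
  haveI : Algebra.FiniteType A B₀ := (Subalgebra.fg_iff_finiteType B₀).1 hB₀
  haveI : IsNoetherianRing B₀ := Algebra.FiniteType.isNoetherianRing A B₀
  haveI : IsReduced B₀ := isReduced_of_injective B₀.val Subtype.val_injective
  exact isReduced_of_noetherian A A' h B₀

/-- A normal ring (all localizations at primes are integrally closed domains) is reduced. -/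
theorem isReduced_of_isNormalRing (R : Type u) [CommRing R] (h : EGA4.IsNormalRing R) :
    IsReduced R := by
  refine isReduced_ofLocalizationMaximal R (fun J hJ => ?_)
  haveI := (h J).1
  infer_instance

/-- Geometrically normal (tested on finite extensions) implies geometrically reduced. -/
theorem isGeometricallyReduced_of_isGeomNormal (k : Type u) [Field k] (S : Type u) [CommRing S]
    [Algebra k S] (h : EGA4.IsGeomNormal k S) : Algebra.IsGeometricallyReduced k S := by
  rw [Algebra.isGeometricallyReduced_field_iff]
  haveI : IsReduced (S ⊗[k] AlgebraicClosure k) := by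
    refine IsReduced.tensorProduct_of_flat_of_forall_fg fun k' hk' => ?_
    have hfield : IsField k' := Subalgebra.isField_of_algebraic k'
    letI : Field k' := hfield.toField
    haveI : Algebra.FiniteType k k' := (Subalgebra.fg_iff_finiteType k').1 hk'
    haveI : Algebra.IsIntegral k k' := Algebra.IsIntegral.of_injective k'.val Subtype.val_injective
    haveI : Module.Finite k k' := Algebra.IsIntegral.finite
    have hn := h k' this
    haveI := isReduced_of_isNormalRing _ hn
    exact isReduced_of_injective (Algebra.TensorProduct.comm k S k').toAlgHom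
      (AlgEquiv.injective _)
  exact isReduced_of_injective (Algebra.TensorProduct.comm k _ _).toAlgHom (AlgEquiv.injective _)

/-- Composition: `A → B → C` flat with geometrically reduced fibres, `B` Noetherian. -/
theorem comp (A B C : Type u) [CommRing A] [CommRing B] [CommRing C]
    [IsNoetherianRing B] [Algebra A B] [Algebra B C] [Algebra A C] [IsScalarTower A B C]
    [Module.Flat A B] [Module.Flat B C]
    (hAB : ∀ (p : Ideal A) [p.IsPrime],
      Algebra.IsGeometricallyReduced p.ResidueField (p.Fiber B))
    (hBC : ∀ (q : Ideal B) [q.IsPrime],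
      Algebra.IsGeometricallyReduced q.ResidueField (q.Fiber C)) :
    Module.Flat A C ∧ ∀ (p : Ideal A) [p.IsPrime],
      Algebra.IsGeometricallyReduced p.ResidueField (p.Fiber C) := by
  refine ⟨Module.Flat.trans A B C, fun p hp => ?_⟩
  rw [Algebra.isGeometricallyReduced_field_iff]
  haveI := hAB p
  haveI h1 : IsReduced (AlgebraicClosure p.ResidueField ⊗[p.ResidueField] p.Fiber B) :=
    (Algebra.isGeometricallyReduced_field_iff _ _).1 (hAB p)
  let Ω := AlgebraicClosure p.ResidueField
  -- Ω ⊗[κ] (κ ⊗[A] B) ≃ Ω ⊗[A] B
  let e1 := Algebra.TensorProduct.cancelBaseChange A p.ResidueField p.ResidueField Ω B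
  haveI h2 : IsReduced (Ω ⊗[A] B) := isReduced_of_injective e1.symm.toAlgHom e1.symm.injective
  haveI h2' : IsReduced (B ⊗[A] Ω) :=
    isReduced_of_injective (Algebra.TensorProduct.comm A B Ω).toAlgHom (AlgEquiv.injective _)
  haveI h3 : IsReduced (C ⊗[B] (B ⊗[A] Ω)) := isReduced_tensor B C hBC (B ⊗[A] Ω)
  let e2 := Algebra.TensorProduct.cancelBaseChange A B B C Ω
  haveI h4 : IsReduced (C ⊗[A] Ω) := isReduced_of_injective e2.symm.toAlgHom e2.symm.injective
  haveI h5 : IsReduced (Ω ⊗[A] C) :=
    isReduced_of_injective (Algebra.TensorProduct.comm A Ω C).toAlgHom (AlgEquiv.injective _)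
  let e3 := Algebra.TensorProduct.cancelBaseChange A p.ResidueField p.ResidueField Ω C
  exact isReduced_of_injective e3.toAlgHom e3.injective

end Groth.Agent.Lib.helper6.RedBC
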