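import Mathlib
import Groth.Agent.Lib.helper6.CplMap
import Groth.Agent.Lib.helper6.CMFib
import Groth.Agent.Lib.helper6.AusBuchE
import Groth.Agent.Lib.helper6.RedBC
import Groth.Agent.Lib.helper6.GeomRedDesc
import Groth.Agent.Lib.helper6.GeomRedPI
import Groth.Agent.S9294
import Groth.Agent.S9295
import Groth.Prelude.Def_EGA4b
import Groth.Prelude.Def_Found

/-!
# Formal fibres: transfer from `A'` to `A` along a flat local homomorphism `A → A'`
-/

set_option autoImplicit false
set_option linter.style.haveILetI false
set_option linter.unusedSectionVars false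

namespace Groth.Agent.Lib.helper6.CplFib

open IsLocalRing TensorProduct LocCoh Groth.Agent.Lib.helper6.CplMap

universe u

/-- a regular local ring is Cohen–Macaulay -/
theorem isCM_of_isRegularLocalRing (R : Type u) [CommRing R] [IsRegularLocalRing R] :
    IsCohenMacaulayLocalRing R := by
  obtain ⟨d, hd⟩ := Groth.Agent.H5.RegLoc.exists_nat_dim R
  exact { supportDim_eq_depth := by
            rw [Module.supportDim_self_eq_ringKrullDim, hd,
              Groth.Agent.Lib.helper6.AusBuchE.depth_eq_dim R d hd]
            rfl }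

/-- a regular ring is a Cohen–Macaulay ring -/
theorem isCMRing_of_isRegularRing (R : Type u) [CommRing R] [IsRegularRing R] :
    IsCohenMacaulayRing R :=
  { isCohenMacaulayLocalRing_localization := fun p _ =>
      isCM_of_isRegularLocalRing (Localization.AtPrime p) }

/-- a geometrically regular algebra over a field is a regular ring -/
theorem isRegularRing_of_isGeometricallyRegular (k S : Type u) [Field k] [CommRing S] [Algebra k S]
    (h : CAlg.IsGeometricallyRegular k S) : IsRegularRing S := by
  haveI := h k inferInstance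
  exact IsRegularRing.of_ringEquiv (Algebra.TensorProduct.lid k S).toRingEquiv

/-- a regular ring is reduced -/
theorem isReduced_of_isRegularRing (R : Type u) [CommRing R] [IsRegularRing R] : IsReduced R := by
  refine isReduced_ofLocalizationMaximal R (fun P hP => ?_)
  haveI := Groth.Agent.H5.RegLoc.isDomain (Localization.AtPrime P)
  infer_instance

/-- geometrically regular implies geometrically reduced -/
theorem isGeometricallyReduced_of_isGeometricallyRegular (k S : Type u) [Field k] [CommRing S]
    [Algebra k S] (h : CAlg.IsGeometricallyRegular k S) : Algebra.IsGeometricallyReduced k S := by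
  refine GeomRedPI.isGeometricallyReduced_of_purelyInseparable (fun k' _ _ hfin _ => ?_)
  haveI := h k' hfin
  exact isReduced_of_isRegularRing _

section
variable (A A' : Type u) [CommRing A] [CommRing A'] [IsNoetherianRing A]
    [IsNoetherianRing A'] [IsLocalRing A] [IsLocalRing A'] [Algebra A A']
    [IsLocalHom (algebraMap A A')] [Module.Flat A A']

theorem hasCMFormalFibres
    (hf : ∀ (p : Ideal A) [p.IsPrime], IsCohenMacaulayRing (p.Fiber A'))
    (hA' : CAlg.IsRegularHom A' (EGA4.Cpl A')) : EGA4.HasCMFormalFibres A := by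
  intro p hp
  letI := algCpl A A'
  haveI := isNoetherianRing_cpl A
  haveI := isNoetherianRing_cpl A'
  haveI := isScalarTower_cplMap A A'
  haveI := isScalarTower_cpl A A'
  haveI := faithfullyFlat_cplMap A A'
  have h1 : CMFib.LocFibCM A A' := CMFib.locFibCM_of_fiber (fun p _ => hf p)
  have h2 : CMFib.LocFibCM A' (EGA4.Cpl A') := by
    refine CMFib.locFibCM_of_fiber (fun q _ => ?_)
    haveI := isRegularRing_of_isGeometricallyRegular _ _ (hA'.2 q).2
    exact isCMRing_of_isRegularRing _
  have h3 : CMFib.LocFibCM A (EGA4.Cpl A') := CMFib.comp A A' (EGA4.Cpl A') h1 h2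
  have h4 : CMFib.LocFibCM A (EGA4.Cpl A) := CMFib.descent A (EGA4.Cpl A) (EGA4.Cpl A') h3
  exact CMFib.fiber_of_locFibCM h4 p

theorem hasGeomReducedFormalFibres
    (hf : ∀ (p : Ideal A) [p.IsPrime],
      Algebra.IsGeometricallyReduced p.ResidueField (p.Fiber A'))
    (hA' : CAlg.IsRegularHom A' (EGA4.Cpl A')) : EGA4.HasGeomReducedFormalFibres A := by
  letI := algCpl A A'
  haveI := isNoetherianRing_cpl A
  haveI := isNoetherianRing_cpl A'
  haveI := isScalarTower_cplMap A A'
  haveI := isScalarTower_cpl A A'
  haveI := faithfullyFlat_cplMap A A'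
  have h2 : ∀ (q : Ideal A') [q.IsPrime],
      Algebra.IsGeometricallyReduced q.ResidueField (q.Fiber (EGA4.Cpl A')) := fun q _ =>
    isGeometricallyReduced_of_isGeometricallyRegular _ _ (hA'.2 q).2
  obtain ⟨h3, h4⟩ := RedBC.comp A A' (EGA4.Cpl A') (fun p _ => hf p) h2
  exact (GeomRedDesc.descent A (EGA4.Cpl A) (EGA4.Cpl A') h4).2

end

section Reg
variable (A A' : Type u) [CommRing A] [CommRing A'] [IsNoetherianRing A]
    [IsNoetherianRing A'] [IsLocalRing A] [IsLocalRing A'] [Algebra A A']
    [IsLocalHom (algebraMap A A')]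

theorem isRegularHom_cpl (hf : CAlg.IsRegularHom A A')
    (hA' : CAlg.IsRegularHom A' (EGA4.Cpl A')) : CAlg.IsRegularHom A (EGA4.Cpl A) := by
  haveI : Module.Flat A A' := hf.1
  letI := algCpl A A'
  haveI := isNoetherianRing_cpl A
  haveI := isNoetherianRing_cpl A'
  haveI := isScalarTower_cplMap A A'
  haveI := isScalarTower_cpl A A'
  haveI := faithfullyFlat_cplMap A A'
  have h1 : CAlg.IsRegularHom A (EGA4.Cpl A') :=
    Groth.Agent.S9294.result A A' (EGA4.Cpl A') hf hA'
      (fun p _ => Groth.Agent.Lib.helper20.FiberLoc.fiber_isNoetherianRing A (EGA4.Cpl A') p)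
  exact Groth.Agent.S9295.result A (EGA4.Cpl A) (EGA4.Cpl A') h1
    PrimeSpectrum.comap_surjective_of_faithfullyFlat

end Reg

end Groth.Agent.Lib.helper6.CplFib
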