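import Mathlib
import Groth.Agent.Lib.helper6.CplMap
import Groth.Agent.Lib.helper19.Completion
import Groth.Prelude.Def_EGA4b

/-!
# The completion of a quotient `A/I` of a Noetherian local ring is `Â / IÂ`
-/

set_option autoImplicit false
set_option linter.style.haveILetI false
set_option linter.unusedSectionVars false

namespace Groth.Agent.Lib.helper6.CplQuot

open IsLocalRing TensorProduct Groth.Agent.Lib.helper6.CplMap

universe u

variable (A : Type u) [CommRing A] [IsNoetherianRing A] [IsLocalRing A] (I : Ideal A)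
  [Nontrivial (A ⧸ I)]

instance isLocalHom_mk : IsLocalHom (algebraMap A (A ⧸ I)) :=
  IsLocalHom.of_surjective _ Ideal.Quotient.mk_surjective

lemma map_maximalIdeal_pow (n : ℕ) :
    (maximalIdeal (A ⧸ I)) ^ n = ((maximalIdeal A) ^ n).map (Ideal.Quotient.mk I) := by
  rw [Ideal.map_pow, IsLocalRing.map_maximalIdeal_of_surjective _ Ideal.Quotient.mk_surjective]

/-- exact lifts of a Cauchy sequence -/
lemma exists_lift (c : AdicCompletion.AdicCauchySequence (maximalIdeal (A ⧸ I)) (A ⧸ I)) :
    ∃ d : AdicCompletion.AdicCauchySequence (maximalIdeal A) A,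
      ∀ n, Ideal.Quotient.mk I (d n) = c n := by
  classical
  have hstep : ∀ (n : ℕ) (a : A), Ideal.Quotient.mk I a = c n →
      ∃ a' : A, Ideal.Quotient.mk I a' = c (n + 1) ∧ a' - a ∈ (maximalIdeal A) ^ n := by
    intro n a ha
    have h1 : c (n + 1) - c n ∈ (maximalIdeal (A ⧸ I)) ^ n := by
      have h2 := c.property (Nat.le_succ n)
      rw [SModEq.sub_mem] at h2
      have h3 : ((maximalIdeal (A ⧸ I)) ^ n • ⊤ : Submodule (A ⧸ I) (A ⧸ I)) =
          (maximalIdeal (A ⧸ I)) ^ n := by rw [smul_eq_mul, Ideal.mul_top]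
      rw [h3] at h2
      have h4 := neg_mem h2
      rwa [neg_sub] at h4
    rw [map_maximalIdeal_pow, Ideal.mem_map_iff_of_surjective _ Ideal.Quotient.mk_surjective] at h1
    obtain ⟨t, ht, hte⟩ := h1
    refine ⟨a + t, ?_, by simpa using ht⟩
    rw [map_add, ha, hte]
    ring
  choose f hf1 hf2 using hstep
  obtain ⟨a0, ha0⟩ := Ideal.Quotient.mk_surjective (c 0)
  let d : (n : ℕ) → {a : A // Ideal.Quotient.mk I a = c n} := fun n =>
    Nat.rec ⟨a0, ha0⟩ (fun n x => ⟨f n x.1 x.2, hf1 n x.1 x.2⟩) n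
  have hd : ∀ n, (d (n + 1)).1 - (d n).1 ∈ (maximalIdeal A) ^ n := fun n => hf2 n (d n).1 (d n).2
  refine ⟨AdicCompletion.AdicCauchySequence.mk _ _ (fun n => (d n).1) ?_, fun n => (d n).2⟩
  intro n
  rw [SModEq.sub_mem, smul_eq_mul, Ideal.mul_top]
  have := neg_mem (hd n)
  rwa [neg_sub] at this

/-- the completion map of `A → A/I` is surjective -/
theorem cplMap_surjective : Function.Surjective (cplMap A (A ⧸ I)) := by
  intro y
  induction y using AdicCompletion.induction_on with | h c =>
  obtain ⟨d, hd⟩ := exists_lift A I c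
  refine ⟨AdicCompletion.mk _ _ d, ?_⟩
  apply AdicCompletion.ext_evalₐ
  intro n
  rw [evalₐ_cplMap, lvl_mk, AdicCompletion.evalₐ_mk]
  congr 1
  exact hd n

/-- the kernel of the completion map of `A → A/I` is `IÂ` -/
theorem ker_cplMap : RingHom.ker (cplMap A (A ⧸ I)).toRingHom =
    I.map (algebraMap A (AdicCompletion (maximalIdeal A) A)) := by
  letI := isLocalRing_cpl A
  haveI := isNoetherianRing_cpl A
  apply le_antisymm
  · intro x hx
    rw [RingHom.mem_ker] at hx
    set IA := I.map (algebraMap A (AdicCompletion (maximalIdeal A) A)) with hIA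
    -- `x ∈ IÂ + m̂^n` for all `n`
    have key : ∀ n : ℕ, ∃ w ∈ (maximalIdeal (AdicCompletion (maximalIdeal A) A)) ^ n,
        x - w ∈ IA := by
      intro n
      have h1 : lvl A (A ⧸ I) n x = 0 := by
        have := evalₐ_cplMap A (A ⧸ I) n x
        rw [← this]
        change AdicCompletion.evalₐ _ n ((cplMap A (A ⧸ I)).toRingHom x) = 0
        rw [hx, map_zero]
      obtain ⟨a, ha⟩ := Ideal.Quotient.mk_surjective (AdicCompletion.evalₐ (maximalIdeal A) n x)
      have h2 : Ideal.Quotient.mk ((maximalIdeal (A ⧸ I)) ^ n) (algebraMap A (A ⧸ I) a) = 0 := by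
        have h3 : lvl A (A ⧸ I) n x =
            Ideal.quotientMapₐ ((maximalIdeal (A ⧸ I)) ^ n) (Algebra.ofId A (A ⧸ I))
              (pow_le_comap A (A ⧸ I) n) (AdicCompletion.evalₐ (maximalIdeal A) n x) := rfl
        rw [h3, ← ha] at h1
        exact h1
      rw [Ideal.Quotient.eq_zero_iff_mem, map_maximalIdeal_pow,
        Ideal.Quotient.algebraMap_eq, ← Ideal.mem_comap,
        Ideal.comap_map_of_surjective _ Ideal.Quotient.mk_surjective,
        ← RingHom.ker_eq_comap_bot, Ideal.mk_ker] at h2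
      obtain ⟨u, hu, i, hi, hui⟩ := Submodule.mem_sup.1 h2
      refine ⟨x - algebraMap A _ i, ?_, ?_⟩
      · have h4 : AdicCompletion.evalₐ (maximalIdeal A) n
            (x - AdicCompletion.of (maximalIdeal A) A i) = 0 := by
          rw [map_sub, AdicCompletion.evalₐ_of, ← ha, ← map_sub, Ideal.Quotient.eq_zero_iff_mem,
            ← hui]
          simpa using hu
        have h5 := Groth.Agent.Lib.helper19.mem_map_pow_of_evalₐ_eq_zero (maximalIdeal A)
          (IsNoetherian.noetherian _) n _ h4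
        rw [Ideal.map_pow, ← Groth.Agent.Lib.helper24.AdicLocal.maximalIdeal_eq_map A _
          (maximalIdeal.isMaximal A).ne_top] at h5
        exact h5
      · rw [sub_sub_cancel]
        exact Ideal.mem_map_of_mem _ hi
    -- Krull intersection in `Â / IÂ`
    have hK := Ideal.iInf_pow_smul_eq_bot_of_isLocalRing
      (M := AdicCompletion (maximalIdeal A) A ⧸ IA)
      (maximalIdeal (AdicCompletion (maximalIdeal A) A)) (maximalIdeal.isMaximal _).ne_top
    have hx0 : (Ideal.Quotient.mk IA x) ∈ (⊥ : Submodule (AdicCompletion (maximalIdeal A) A)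
        (AdicCompletion (maximalIdeal A) A ⧸ IA)) := by
      rw [← hK, Submodule.mem_iInf]
      intro n
      obtain ⟨w, hw, hxw⟩ := key n
      have h6 : Ideal.Quotient.mk IA x = Ideal.Quotient.mk IA w := by
        rw [Ideal.Quotient.eq]; exact hxw
      rw [h6]
      have h7 : Ideal.Quotient.mk IA w = w • (Ideal.Quotient.mk IA 1) := by
        rw [Algebra.smul_def, Ideal.Quotient.algebraMap_eq, ← map_mul, mul_one]
      rw [h7]
      exact Submodule.smul_mem_smul hw trivial
    rw [Submodule.mem_bot] at hx0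
    exact Ideal.Quotient.eq_zero_iff_mem.1 hx0
  · rw [Ideal.map_le_iff_le_comap]
    intro a ha
    rw [Ideal.mem_comap, RingHom.mem_ker]
    change (cplMap A (A ⧸ I)) (algebraMap A _ a) = 0
    rw [AlgHom.commutes]
    apply AdicCompletion.ext_evalₐ
    intro n
    rw [map_zero]
    change AdicCompletion.evalₐ _ n (AdicCompletion.of _ _ (algebraMap A (A ⧸ I) a)) = 0
    rw [AdicCompletion.evalₐ_of, Ideal.Quotient.algebraMap_eq,
      Ideal.Quotient.eq_zero_iff_mem.2 ha, map_zero]

/-- `Â / IÂ ≃ (A/I)^` as rings -/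
noncomputable def quotEquiv :
    (AdicCompletion (maximalIdeal A) A ⧸
      I.map (algebraMap A (AdicCompletion (maximalIdeal A) A))) ≃+*
    AdicCompletion (maximalIdeal (A ⧸ I)) (A ⧸ I) :=
  (Ideal.quotEquivOfEq (ker_cplMap A I).symm).trans
    (RingHom.quotientKerEquivOfSurjective (f := (cplMap A (A ⧸ I)).toRingHom)
      (cplMap_surjective A I))

lemma quotEquiv_mk (x : AdicCompletion (maximalIdeal A) A) :
    quotEquiv A I (Ideal.Quotient.mk _ x) = cplMap A (A ⧸ I) x := rfl

/-- `(A/I) ⊗_A Â ≃ (A/I)^` as `A/I`-algebras -/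
noncomputable def tensorEquiv :
    (A ⧸ I) ⊗[A] AdicCompletion (maximalIdeal A) A ≃ₐ[A ⧸ I]
      AdicCompletion (maximalIdeal (A ⧸ I)) (A ⧸ I) :=
  (Algebra.TensorProduct.quotIdealMapEquivQuotTensor (AdicCompletion (maximalIdeal A) A) I).symm.trans
    (AlgEquiv.ofRingEquiv (f := quotEquiv A I) (by
      intro x
      obtain ⟨a, rfl⟩ := Ideal.Quotient.mk_surjective x
      haveI := isScalarTower_cpl A (A ⧸ I)
      have h1 : algebraMap (A ⧸ I) (AdicCompletion (maximalIdeal A) A ⧸
          I.map (algebraMap A (AdicCompletion (maximalIdeal A) A))) (Ideal.Quotient.mk I a) =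
          Ideal.Quotient.mk _ (algebraMap A _ a) := rfl
      rw [h1, quotEquiv_mk, AlgHom.commutes,
        IsScalarTower.algebraMap_apply A (A ⧸ I) (AdicCompletion (maximalIdeal (A ⧸ I)) (A ⧸ I))]
      rfl))

section Chain

variable {A : Type u} [CommRing A] (I : Ideal A) (B : Type u) [CommRing B] [Algebra A B]
  (C : Type u) [CommRing C] [Algebra (A ⧸ I) C]
  (P : Ideal (A ⧸ I)) [P.IsPrime]

/-- the algebra structure `κ(p) → κ(P)` for `p = P ∩ A` -/
noncomputable abbrev resAlg :
    Algebra (P.comap (algebraMap A (A ⧸ I))).ResidueField P.ResidueField :=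
  (Ideal.ResidueField.map (P.comap (algebraMap A (A ⧸ I))) P (algebraMap A (A ⧸ I)) rfl).toAlgebra

theorem resAlg_bijective :
    letI := resAlg I P
    Function.Bijective (algebraMap (P.comap (algebraMap A (A ⧸ I))).ResidueField
      P.ResidueField) :=
  (RingHom.surjectiveOnStalks_of_surjective
    (f := algebraMap A (A ⧸ I)) Ideal.Quotient.mk_surjective).residueFieldMap_bijective _ _ rfl

/-- the fibre of `A/I → C ≃ (A/I) ⊗ B` over `P`, base changed to `K`, is the fibre of `A → B` over
`P ∩ A` base changed to `K`. -/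
theorem nonempty_fiber_equiv (e : (A ⧸ I) ⊗[A] B ≃ₐ[A ⧸ I] C)
    (K : Type u) [Field K] [Algebra P.ResidueField K] :
    letI := resAlg I P
    letI : Algebra (P.comap (algebraMap A (A ⧸ I))).ResidueField K :=
      ((algebraMap P.ResidueField K).comp
        (algebraMap (P.comap (algebraMap A (A ⧸ I))).ResidueField P.ResidueField)).toAlgebra
    Nonempty (K ⊗[P.ResidueField] (P.Fiber C) ≃+*
      K ⊗[(P.comap (algebraMap A (A ⧸ I))).ResidueField]
        ((P.comap (algebraMap A (A ⧸ I))).Fiber B)) := by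
  letI := resAlg I P
  letI : Algebra (P.comap (algebraMap A (A ⧸ I))).ResidueField K :=
    ((algebraMap P.ResidueField K).comp
      (algebraMap (P.comap (algebraMap A (A ⧸ I))).ResidueField P.ResidueField)).toAlgebra
  letI : Algebra (A ⧸ I) K :=
    ((algebraMap P.ResidueField K).comp (algebraMap (A ⧸ I) P.ResidueField)).toAlgebra
  haveI : IsScalarTower (A ⧸ I) P.ResidueField K := IsScalarTower.of_algebraMap_eq (fun _ => rfl)
  letI : Algebra A K := ((algebraMap (A ⧸ I) K).comp (algebraMap A (A ⧸ I))).toAlgebra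
  haveI : IsScalarTower A (A ⧸ I) K := IsScalarTower.of_algebraMap_eq (fun _ => rfl)
  haveI : IsScalarTower A (P.comap (algebraMap A (A ⧸ I))).ResidueField K :=
    IsScalarTower.of_algebraMap_eq (fun a => by
      change algebraMap P.ResidueField K (algebraMap (A ⧸ I) P.ResidueField
        (algebraMap A (A ⧸ I) a)) = algebraMap P.ResidueField K
          (Ideal.ResidueField.map (P.comap (algebraMap A (A ⧸ I))) P (algebraMap A (A ⧸ I)) rfl
            (algebraMap A _ a))
      rw [Ideal.ResidueField.map_algebraMap])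
  let c1 := Algebra.TensorProduct.cancelBaseChange (A ⧸ I) P.ResidueField P.ResidueField K C
  let c2 := Algebra.TensorProduct.congr (AlgEquiv.refl : K ≃ₐ[A ⧸ I] K) e.symm
  let c3 := Algebra.TensorProduct.cancelBaseChange A (A ⧸ I) (A ⧸ I) K B
  let c4 := Algebra.TensorProduct.cancelBaseChange A
    (P.comap (algebraMap A (A ⧸ I))).ResidueField (P.comap (algebraMap A (A ⧸ I))).ResidueField K B
  exact ⟨c1.toRingEquiv.trans (c2.toRingEquiv.trans (c3.toRingEquiv.trans c4.symm.toRingEquiv))⟩

/-- the fibre of `A/I → C ≃ (A/I) ⊗ B` over `P` is the fibre of `A → B` over `P ∩ A`. -/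
theorem nonempty_fiber_equiv_self (e : (A ⧸ I) ⊗[A] B ≃ₐ[A ⧸ I] C) :
    Nonempty (P.Fiber C ≃+* (P.comap (algebraMap A (A ⧸ I))).Fiber B) := by
  let f : (P.comap (algebraMap A (A ⧸ I))).ResidueField →ₐ[A] P.ResidueField :=
    Ideal.ResidueField.mapₐ (P.comap (algebraMap A (A ⧸ I))) P (Algebra.ofId A (A ⧸ I)) rfl
  have hf : Function.Bijective f := resAlg_bijective I P
  let ef : (P.comap (algebraMap A (A ⧸ I))).ResidueField ≃ₐ[A] P.ResidueField :=
    AlgEquiv.ofBijective f hf
  let c2 := Algebra.TensorProduct.congr (AlgEquiv.refl : P.ResidueField ≃ₐ[A ⧸ I] P.ResidueField)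
    e.symm
  let c3 := Algebra.TensorProduct.cancelBaseChange A (A ⧸ I) (A ⧸ I) P.ResidueField B
  let c4 := Algebra.TensorProduct.congr ef.symm (AlgEquiv.refl : B ≃ₐ[A] B)
  exact ⟨c2.toRingEquiv.trans (c3.toRingEquiv.trans c4.toRingEquiv)⟩

end Chain

end Groth.Agent.Lib.helper6.CplQuot
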