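import Mathlib
import Groth.Agent.Lib.helper6.CplQuot
import Groth.Agent.Lib.helper6.CplFib
import Groth.Agent.Lib.helper20.FiberLoc
import Groth.Agent.Lib.helper7.GeomRed2
import Groth.Prelude.Def_EGA4b
import Groth.Prelude.Def_Found

/-!
# Formal fibres of a quotient `A/I`
-/

set_option autoImplicit false
set_option linter.style.haveILetI false
set_option linter.unusedSectionVars false

namespace Groth.Agent.Lib.helper6.CplQuot

open IsLocalRing TensorProduct LocCoh Groth.Agent.Lib.helper6.CplMap

universe u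

/-- Cohen–Macaulay rings are invariant under ring isomorphisms -/
theorem isCMRing_of_ringEquiv {R S : Type u} [CommRing R] [CommRing S] (e : R ≃+* S)
    (h : IsCohenMacaulayRing R) : IsCohenMacaulayRing S := by
  haveI : IsNoetherianRing S := isNoetherianRing_of_ringEquiv R e
  refine { isCohenMacaulayLocalRing_localization := fun q _ => ?_ }
  let e' : Localization.AtPrime (q.comap e) ≃+* Localization.AtPrime q :=
    IsLocalization.ringEquivOfRingEquiv (Localization.AtPrime (q.comap e))
      (Localization.AtPrime q) e (e.map_primeCompl_comap_eq q)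
  exact Groth.Agent.Lib.helper6.CMFlat.isCM_of_ringEquiv e'
    (h.isCohenMacaulayLocalRing_localization (q.comap e))

variable (A : Type u) [CommRing A] [IsNoetherianRing A] [IsLocalRing A] (I : Ideal A)
  [Nontrivial (A ⧸ I)]

theorem hasCMFormalFibres_quotient (hA : EGA4.HasCMFormalFibres A) :
    EGA4.HasCMFormalFibres (A ⧸ I) := by
  intro P hP
  obtain ⟨e⟩ := nonempty_fiber_equiv_self I (EGA4.Cpl A) (EGA4.Cpl (A ⧸ I)) P (tensorEquiv A I)
  exact isCMRing_of_ringEquiv e.symm (hA (P.comap (algebraMap A (A ⧸ I))))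

theorem hasGeomReducedFormalFibres_quotient (hA : EGA4.HasGeomReducedFormalFibres A) :
    EGA4.HasGeomReducedFormalFibres (A ⧸ I) := by
  intro P hP
  rw [Algebra.isGeometricallyReduced_field_iff]
  letI := resAlg I P
  letI : Algebra (P.comap (algebraMap A (A ⧸ I))).ResidueField (AlgebraicClosure P.ResidueField) :=
    ((algebraMap P.ResidueField (AlgebraicClosure P.ResidueField)).comp
      (algebraMap (P.comap (algebraMap A (A ⧸ I))).ResidueField P.ResidueField)).toAlgebra
  obtain ⟨e⟩ := nonempty_fiber_equiv I (EGA4.Cpl A) (EGA4.Cpl (A ⧸ I)) P (tensorEquiv A I)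
    (AlgebraicClosure P.ResidueField)
  haveI := hA (P.comap (algebraMap A (A ⧸ I)))
  haveI : IsReduced (AlgebraicClosure P.ResidueField ⊗[(P.comap (algebraMap A (A ⧸ I))).ResidueField]
      (P.comap (algebraMap A (A ⧸ I))).Fiber (EGA4.Cpl A)) :=
    Groth.Agent.Lib.helper7.GeomRed2.isReduced_tensorProduct_left _ _
  exact isReduced_of_injective e e.injective

/-- finiteness transfers from `κ(P)` to `κ(P ∩ A)` -/
lemma finite_of_finite (P : Ideal (A ⧸ I)) [P.IsPrime] (K : Type u) [Field K]
    [Algebra P.ResidueField K] (hfin : Module.Finite P.ResidueField K) :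
    letI := resAlg I P
    letI : Algebra (P.comap (algebraMap A (A ⧸ I))).ResidueField K :=
      ((algebraMap P.ResidueField K).comp
        (algebraMap (P.comap (algebraMap A (A ⧸ I))).ResidueField P.ResidueField)).toAlgebra
    Module.Finite (P.comap (algebraMap A (A ⧸ I))).ResidueField K := by
  letI := resAlg I P
  letI : Algebra (P.comap (algebraMap A (A ⧸ I))).ResidueField K :=
    ((algebraMap P.ResidueField K).comp
      (algebraMap (P.comap (algebraMap A (A ⧸ I))).ResidueField P.ResidueField)).toAlgebra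
  haveI : IsScalarTower (P.comap (algebraMap A (A ⧸ I))).ResidueField P.ResidueField K :=
    IsScalarTower.of_algebraMap_eq (fun _ => rfl)
  haveI : Module.Finite (P.comap (algebraMap A (A ⧸ I))).ResidueField P.ResidueField :=
    Module.Finite.of_surjective (Algebra.linearMap _ _) (resAlg_bijective I P).2
  exact Module.Finite.trans P.ResidueField K

theorem hasGeomNormalFormalFibres_quotient (hA : EGA4.HasGeomNormalFormalFibres A) :
    EGA4.HasGeomNormalFormalFibres (A ⧸ I) := by
  intro P hP K _ _ hfin
  letI := resAlg I P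
  letI : Algebra (P.comap (algebraMap A (A ⧸ I))).ResidueField K :=
    ((algebraMap P.ResidueField K).comp
      (algebraMap (P.comap (algebraMap A (A ⧸ I))).ResidueField P.ResidueField)).toAlgebra
  obtain ⟨e⟩ := nonempty_fiber_equiv I (EGA4.Cpl A) (EGA4.Cpl (A ⧸ I)) P (tensorEquiv A I) K
  have h1 := hA (P.comap (algebraMap A (A ⧸ I))) K (finite_of_finite A I P K hfin)
  exact Groth.Agent.Lib.helper20.FiberLoc.normal_of_ringEquiv e.symm h1

theorem isRegularHom_quotient (hA : CAlg.IsRegularHom A (EGA4.Cpl A)) :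
    CAlg.IsRegularHom (A ⧸ I) (EGA4.Cpl (A ⧸ I)) := by
  haveI := isNoetherianRing_cpl (A ⧸ I)
  refine ⟨inferInstance, fun P hP => ⟨?_, ?_⟩⟩
  · exact Groth.Agent.Lib.helper20.FiberLoc.fiber_isNoetherianRing _ _ P
  · intro K _ _ hfin
    letI := resAlg I P
    letI : Algebra (P.comap (algebraMap A (A ⧸ I))).ResidueField K :=
      ((algebraMap P.ResidueField K).comp
        (algebraMap (P.comap (algebraMap A (A ⧸ I))).ResidueField P.ResidueField)).toAlgebra
    obtain ⟨e⟩ := nonempty_fiber_equiv I (EGA4.Cpl A) (EGA4.Cpl (A ⧸ I)) P (tensorEquiv A I) K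
    haveI h1 := (hA.2 (P.comap (algebraMap A (A ⧸ I)))).2 K (finite_of_finite A I P K hfin)
    exact IsRegularRing.of_ringEquiv
      (R := K ⊗[(P.comap (algebraMap A (A ⧸ I))).ResidueField]
        (P.comap (algebraMap A (A ⧸ I))).Fiber (EGA4.Cpl A)) e.symm

end Groth.Agent.Lib.helper6.CplQuot
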