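import Mathlib
import Groth.Prelude.Def_CAlgX
import Groth.Agent.Lib.helper19.AdicSmoothAt
import Groth.Agent.S2453
import Groth.Agent.Lib.helper12.PerfectTensor

/-! Smooth at a prime iff regular local ring, for finite type algebras over a field
with separable residue field. Glue of helper19 `AdicSmoothAt` and helper14 `S2453`. -/

namespace Groth.Agent.Lib.helper6.SmoothRegPt

set_option linter.style.haveILetI false
universe u
open IsLocalRing

/-- transfer of adic formal smoothness to the localized base -/
theorem adic_localization_base (A B : Type u) [CommRing A] [CommRing B] [Algebra A B]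
    (q : Ideal B) [q.IsPrime]
    (h : CAlgX.IsAdicFormallySmooth A (Localization.AtPrime q)
      (maximalIdeal (Localization.AtPrime q))) :
    letI := (Localization.localRingHom (Ideal.comap (algebraMap A B) q) q
      (algebraMap A B) rfl).toAlgebra
    CAlgX.IsAdicFormallySmooth (Localization.AtPrime (Ideal.comap (algebraMap A B) q))
      (Localization.AtPrime q) (IsLocalRing.maximalIdeal (Localization.AtPrime q)) := by
  letI := (Localization.localRingHom (Ideal.comap (algebraMap A B) q) q
    (algebraMap A B) rfl).toAlgebra
  haveI : IsScalarTower A (Localization.AtPrime (Ideal.comap (algebraMap A B) q))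
      (Localization.AtPrime q) := by
    refine IsScalarTower.of_algebraMap_eq' ?_
    ext a
    rw [RingHom.comp_apply, RingHom.algebraMap_toAlgebra, Localization.localRingHom_to_map,
      ← IsScalarTower.algebraMap_apply]
  intro T _ _ J hJ ψ hψ
  letI : Algebra A T := ((algebraMap (Localization.AtPrime (Ideal.comap (algebraMap A B) q)) T).comp
    (algebraMap A _)).toAlgebra
  haveI : IsScalarTower A (Localization.AtPrime (Ideal.comap (algebraMap A B) q)) T :=
    IsScalarTower.of_algebraMap_eq' rfl
  obtain ⟨χ, hχ⟩ := h T J hJ (ψ.restrictScalars A) hψ
  have hcomm : ∀ x : Localization.AtPrime (Ideal.comap (algebraMap A B) q),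
      χ (algebraMap _ (Localization.AtPrime q) x) = algebraMap _ T x := by
    intro x
    have : (χ.toRingHom.comp (algebraMap (Localization.AtPrime (Ideal.comap (algebraMap A B) q))
        (Localization.AtPrime q))) = algebraMap _ T := by
      apply IsLocalization.ringHom_ext (Ideal.comap (algebraMap A B) q).primeCompl
      ext a
      simp only [RingHom.comp_apply]
      rw [← IsScalarTower.algebraMap_apply A _ (Localization.AtPrime q),
        ← IsScalarTower.algebraMap_apply A _ T]
      exact χ.commutes a
    exact RingHom.congr_fun this x
  refine ⟨{ χ.toRingHom with commutes' := hcomm }, ?_⟩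
  ext x
  have := AlgHom.congr_fun hχ x
  exact this

/-- Adic formal smoothness over the field gives smoothness at the prime. -/
theorem isSmoothAt_of_adic (k S : Type u) [Field k] [CommRing S] [Algebra k S]
    [Algebra.FiniteType k S] (q : Ideal S) [q.IsPrime]
    (h : CAlgX.IsAdicFormallySmooth k (Localization.AtPrime q)
      (maximalIdeal (Localization.AtPrime q))) : Algebra.IsSmoothAt k q :=
  Groth.Agent.Lib.helper19.SmoothAtLift.backward q
    (Groth.Agent.Lib.helper19.AdicSmoothAt.liftProp_of_adic k S q
      (adic_localization_base k S q h))

theorem adic_of_isSmoothAt (k S : Type u) [CommRing k] [CommRing S] [Algebra k S]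
    (q : Ideal S) [q.IsPrime] (h : Algebra.IsSmoothAt k q) :
    CAlgX.IsAdicFormallySmooth k (Localization.AtPrime q)
      (maximalIdeal (Localization.AtPrime q)) := by
  haveI : Algebra.FormallySmooth k (Localization.AtPrime q) := h
  exact Groth.Agent.Lib.helper19.AdicSmoothAt.adic_of_formallySmooth _ _ _

/-- Smooth at `q` iff `S_q` regular, when `κ(q)` is separable over `k`. -/
theorem isSmoothAt_iff_isRegularLocalRing (k : Type u) [Field k]
    (S : Type u) [CommRing S] [Algebra k S] [Algebra.FiniteType k S] (q : Ideal S) [q.IsPrime]
    [Algebra.IsGeometricallyReduced k q.ResidueField] :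
    Algebra.IsSmoothAt k q ↔ IsRegularLocalRing (Localization.AtPrime q) := by
  haveI : IsNoetherianRing S := Algebra.FiniteType.isNoetherianRing k S
  haveI : Algebra.IsGeometricallyReduced k (ResidueField (Localization.AtPrime q)) :=
    ‹Algebra.IsGeometricallyReduced k q.ResidueField›
  have key := (Groth.Agent.S2453.result (k := k) (A := Localization.AtPrime q)).out 0 3
  constructor
  · intro h
    exact key.1 (adic_of_isSmoothAt k S q h)
  · intro h
    exact isSmoothAt_of_adic k S q (key.2 h)

theorem isGeometricallyReduced_residueField_of_perfectField (k : Type u) [Field k] [PerfectField k]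
    (S : Type u) [CommRing S] [Algebra k S] (q : Ideal S) [q.IsPrime] :
    Algebra.IsGeometricallyReduced k q.ResidueField :=
  Groth.Agent.H12PT.isGeometricallyReduced_of_isReduced k q.ResidueField

end Groth.Agent.Lib.helper6.SmoothRegPt
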