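import Mathlib
import Groth.Agent.Lib.helper9.FlatDepth4
import Groth.Agent.Lib.helper7.DimFT2
import Groth.Agent.S5770
import Groth.Prelude.Def_EGA4b

/-!
# The dimension formula `dim_B (N ⊗_A M) = dim_A M + dim_B (N / m_A N)` for `N` flat over `A`
-/

set_option autoImplicit false
set_option linter.style.haveILetI false
set_option linter.unusedSectionVars false

universe u

namespace Groth.Agent.Lib.helper6.DimTensor

open TensorProduct Pointwise
open Groth.Agent.Lib.helper9.FlatDepth4 Groth.Agent.Lib.helper9.Depth Groth.Agent.Lib.helper7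

section General

variable {S : Type u} [CommRing S] [IsLocalRing S] [IsNoetherianRing S]

theorem supportDim_eq_add_one_of_surjective {P P' : Type u} [AddCommGroup P] [Module S P]
    [Module.Finite S P] [AddCommGroup P'] [Module S P'] {s : S}
    (hs : s ∈ IsLocalRing.maximalIdeal S) (hreg : IsSMulRegular P s) (π : P →ₗ[S] P')
    (hπ : Function.Surjective π) (hker : LinearMap.ker π = s • (⊤ : Submodule S P)) :
    Module.supportDim S P = Module.supportDim S P' + 1 := by
  rw [← Module.supportDim_quotSMulTop_succ_eq_supportDim hreg hs,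
    Module.supportDim_eq_of_equiv (quotSMulTopEquivOfSurjective s π hπ hker)]

/-- There is an associated prime of maximal dimension. -/
theorem exists_assPrime_dim (M : Type u) [AddCommGroup M] [Module S M] [Module.Finite S M]
    [Nontrivial M] :
    ∃ p ∈ associatedPrimes S M, Module.supportDim S M ≤ ringKrullDim (S ⧸ p) := by
  set I := Module.annihilator S M with hI
  have hIne : I ≠ ⊤ := by
    intro h
    have h1 : (1 : S) ∈ Module.annihilator S M := by rw [← hI, h]; trivial
    rw [Module.mem_annihilator] at h1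
    obtain ⟨x, hx⟩ := exists_ne (0 : M)
    exact hx (by simpa using h1 x)
  haveI : Nontrivial (S ⧸ I) := Ideal.Quotient.nontrivial_iff.mpr hIne
  haveI : IsLocalRing (S ⧸ I) :=
    IsLocalRing.of_surjective' (Ideal.Quotient.mk I) Ideal.Quotient.mk_surjective
  obtain ⟨p₀, hp₀, hle, hht⟩ :=
    DimFT.exists_minimalPrimes_height_le (IsLocalRing.maximalIdeal (S ⧸ I))
  haveI : p₀.IsPrime := hp₀.1.1
  haveI : IsLocalRing ((S ⧸ I) ⧸ p₀) :=
    IsLocalRing.of_surjective' (Ideal.Quotient.mk p₀) Ideal.Quotient.mk_surjective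
  have hmax : ((IsLocalRing.maximalIdeal (S ⧸ I)).map (Ideal.Quotient.mk p₀)) =
      IsLocalRing.maximalIdeal ((S ⧸ I) ⧸ p₀) :=
    IsLocalRing.map_maximalIdeal_of_surjective _ Ideal.Quotient.mk_surjective
  rw [hmax] at hht
  have hdim : ringKrullDim (S ⧸ I) ≤ ringKrullDim ((S ⧸ I) ⧸ p₀) := by
    rw [← IsLocalRing.maximalIdeal_height_eq_ringKrullDim,
      ← IsLocalRing.maximalIdeal_height_eq_ringKrullDim]
    exact_mod_cast hht
  have hpmin : p₀.comap (Ideal.Quotient.mk I) ∈ I.minimalPrimes := by
    have h1 := Ideal.minimalPrimes_comap_of_surjective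
      (f := Ideal.Quotient.mk I) Ideal.Quotient.mk_surjective (I := ⊥) (J := p₀) hp₀
    rwa [← RingHom.ker_eq_comap_bot, Ideal.mk_ker] at h1
  refine ⟨p₀.comap (Ideal.Quotient.mk I),
    Module.associatedPrimes.minimalPrimes_annihilator_subset_associatedPrimes S M hpmin, ?_⟩
  rw [Module.supportDim_eq_ringKrullDim_quotient_annihilator]
  refine hdim.trans (le_of_eq ?_)
  have hIp : I ≤ p₀.comap (Ideal.Quotient.mk I) := hpmin.1.2
  have hmap : (p₀.comap (Ideal.Quotient.mk I)).map (Ideal.Quotient.mk I) = p₀ :=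
    Ideal.map_comap_of_surjective _ Ideal.Quotient.mk_surjective p₀
  have e := DoubleQuot.quotQuotEquivQuotOfLE hIp
  rw [hmap] at e
  exact ringKrullDim_eq_of_ringEquiv e

end General

section Main

variable {A B : Type u} [CommRing A] [CommRing B] [IsNoetherianRing A] [IsNoetherianRing B]
  [IsLocalRing A] [IsLocalRing B] [Algebra A B] [IsLocalHom (algebraMap A B)]
  (N : Type u) [AddCommGroup N] [Module B N] [Module A N] [IsScalarTower A B N]
  [Module.Finite B N] [Nontrivial N] [Module.Flat A N]

theorem eq_maximalIdeal_of_dim_zero (p : Ideal A) [p.IsPrime] (h : ringKrullDim (A ⧸ p) = 0) :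
    p = IsLocalRing.maximalIdeal A := by
  haveI : Ring.KrullDimLE 0 (A ⧸ p) := ringKrullDimZero_iff_ringKrullDim_eq_zero.mpr h
  have hf : IsField (A ⧸ p) := Ring.KrullDimLE.isField_of_isDomain
  exact IsLocalRing.eq_maximalIdeal (Ideal.Quotient.maximal_of_isField p hf)

theorem add_le_aux : ∀ (r : ℕ) (M : Type u) [AddCommGroup M] [Module A M] [Module.Finite A M]
    [Nontrivial M], Module.supportDim A M = r →
    (r : WithBot ℕ∞) + Module.supportDim B (N ⊗[A] (A ⧸ IsLocalRing.maximalIdeal A)) ≤
      Module.supportDim B (N ⊗[A] M) := by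
  intro r
  induction r with
  | zero =>
    intro M _ _ _ _ hM
    obtain ⟨p, hp, hdim⟩ := exists_assPrime_dim (S := A) M
    haveI : p.IsPrime := hp.isPrime
    obtain ⟨-, f, hf⟩ := (isAssociatedPrime_iff_exists_injective_linearMap p M).mp hp
    have h1 : Module.supportDim B (N ⊗[A] (A ⧸ p)) ≤ Module.supportDim B (N ⊗[A] M) :=
      Module.supportDim_le_of_injective (AlgebraTensorModule.lTensor B N f)
        (Module.Flat.lTensor_preserves_injective_linearMap f hf)
    have h2 : ringKrullDim (A ⧸ p) = 0 := by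
      apply le_antisymm
      · rw [← Nat.cast_zero, ← hM]
        exact ringKrullDim_quotient_le_supportDim (p := ⟨p, inferInstance⟩)
          (mem_support_of_mem_associatedPrimes hp)
      · exact ringKrullDim_nonneg_of_nontrivial
    have h3 := eq_maximalIdeal_of_dim_zero p h2
    subst h3
    simpa using h1
  | succ r ih =>
    intro M _ _ _ _ hM
    obtain ⟨p, hp, hdim⟩ := exists_assPrime_dim (S := A) M
    haveI : p.IsPrime := hp.isPrime
    obtain ⟨-, f, hf⟩ := (isAssociatedPrime_iff_exists_injective_linearMap p M).mp hp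
    have h1 : Module.supportDim B (N ⊗[A] (A ⧸ p)) ≤ Module.supportDim B (N ⊗[A] M) :=
      Module.supportDim_le_of_injective (AlgebraTensorModule.lTensor B N f)
        (Module.Flat.lTensor_preserves_injective_linearMap f hf)
    have h2 : ringKrullDim (A ⧸ p) = ((r + 1 : ℕ) : WithBot ℕ∞) := by
      apply le_antisymm
      · rw [← hM]
        exact ringKrullDim_quotient_le_supportDim (p := ⟨p, inferInstance⟩)
          (mem_support_of_mem_associatedPrimes hp)
      · rw [← hM]; exact hdim
    have hpm : p < IsLocalRing.maximalIdeal A := by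
      refine lt_of_le_of_ne (IsLocalRing.le_maximalIdeal (Ideal.IsPrime.ne_top inferInstance)) ?_
      intro h
      subst h
      have h0 : ringKrullDim (A ⧸ IsLocalRing.maximalIdeal A) = 0 :=
        ringKrullDim_eq_zero_of_isField
          ((Ideal.Quotient.maximal_ideal_iff_isField_quotient _).mp inferInstance)
      rw [h0] at h2
      have : (0 : ℕ) = r + 1 := by exact_mod_cast h2
      omega
    obtain ⟨x, hxm, hxp⟩ := SetLike.exists_of_lt hpm
    have hxreg : IsSMulRegular (A ⧸ p) x := by
      intro a b hab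
      have hab' : Ideal.Quotient.mk p x * a = Ideal.Quotient.mk p x * b := by
        simpa [Algebra.smul_def] using hab
      have hx0 : Ideal.Quotient.mk p x ≠ 0 := by
        rwa [Ne, Ideal.Quotient.eq_zero_iff_mem]
      exact mul_left_cancel₀ hx0 hab'
    haveI : Nontrivial (QuotSMulTop x (A ⧸ p)) :=
      nontrivial_quotSMulTop_of_mem_maximalIdeal (A ⧸ p) hxm
    have h3 := Module.supportDim_quotSMulTop_succ_eq_supportDim hxreg hxm
    rw [Module.supportDim_quotient_eq_ringKrullDim, h2] at h3
    obtain ⟨c, hc⟩ := Groth.Agent.Lib.helper9.SemiLocalDim.exists_nat_eq_supportDim A (QuotSMulTop x (A ⧸ p))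
    have hcr : c = r := by
      rw [hc] at h3
      have : c + 1 = r + 1 := by exact_mod_cast h3
      omega
    subst hcr
    have h4 := ih (QuotSMulTop x (A ⧸ p)) hc
    haveI := finite_tensor (R := A) (S := B) N (A ⧸ p)
    have hxB : algebraMap A B x ∈ IsLocalRing.maximalIdeal B :=
      IsLocalRing.map_maximalIdeal_le (algebraMap A B) (Ideal.mem_map_of_mem _ hxm)
    have h5 := supportDim_eq_add_one_of_surjective hxB
      (isSMulRegular_tensor_of_flat (S := B) N hxreg)
      (piX (S := B) N (A ⧸ p) x) (piX_surjective N (A ⧸ p) x) (ker_piX N (A ⧸ p) x)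
    refine le_trans ?_ h1
    rw [h5]
    calc ((c + 1 : ℕ) : WithBot ℕ∞) +
          Module.supportDim B (N ⊗[A] (A ⧸ IsLocalRing.maximalIdeal A))
        = ((c : ℕ) : WithBot ℕ∞) +
          Module.supportDim B (N ⊗[A] (A ⧸ IsLocalRing.maximalIdeal A)) + 1 := by
          push_cast; ring
      _ ≤ _ := by gcongr

/-- the closed fibre `N ⊗ k` is `N / mN`, `B`-linearly. -/
theorem nonempty_fibreEquiv : Nonempty ((N ⊗[A] (A ⧸ IsLocalRing.maximalIdeal A)) ≃ₗ[B]
    (N ⧸ (IsLocalRing.maximalIdeal A).map (algebraMap A B) • (⊤ : Submodule B N))) := by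
  let f : N →ₗ[B] N ⊗[A] (A ⧸ IsLocalRing.maximalIdeal A) :=
    { toFun := fun n => n ⊗ₜ[A] (1 : A ⧸ IsLocalRing.maximalIdeal A)
      map_add' := fun a b => TensorProduct.add_tmul a b 1
      map_smul' := fun s n => (TensorProduct.smul_tmul' s n 1) }
  have hf : Function.Surjective f := by
    intro z
    induction z using TensorProduct.induction_on with
    | zero => exact ⟨0, map_zero f⟩
    | add a b ha hb =>
      obtain ⟨a', rfl⟩ := ha
      obtain ⟨b', rfl⟩ := hb
      exact ⟨a' + b', map_add f a' b'⟩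
    | tmul n c =>
      obtain ⟨c, rfl⟩ := Ideal.Quotient.mk_surjective c
      refine ⟨c • n, ?_⟩
      change (c • n) ⊗ₜ[A] (1 : A ⧸ IsLocalRing.maximalIdeal A) = _
      rw [TensorProduct.smul_tmul, Algebra.smul_def, mul_one]
      rfl
  have hker : LinearMap.ker f =
      (IsLocalRing.maximalIdeal A).map (algebraMap A B) • (⊤ : Submodule B N) := by
    ext n
    rw [LinearMap.mem_ker]
    constructor
    · intro h0
      have h1 : n ⊗ₜ[A] (1 : A ⧸ IsLocalRing.maximalIdeal A) = 0 := h0
      have h2 := congrArg (TensorProduct.tensorQuotEquivQuotSMul N (IsLocalRing.maximalIdeal A)) h1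
      rw [map_zero] at h2
      change (TensorProduct.tensorQuotEquivQuotSMul N (IsLocalRing.maximalIdeal A))
        (n ⊗ₜ[A] (Ideal.Quotient.mk _ 1)) = 0 at h2
      rw [TensorProduct.tensorQuotEquivQuotSMul_tmul_mk, one_smul,
        Submodule.Quotient.mk_eq_zero] at h2
      exact Groth.Agent.H21.mem_map_smul_of_mem_smul (S := B) _ h2
    · intro hn
      have hn' := Groth.Agent.H21.mem_smul_of_mem_map_smul (S := B) _ hn
      change n ⊗ₜ[A] (1 : A ⧸ IsLocalRing.maximalIdeal A) = 0
      refine Submodule.smul_induction_on hn' ?_ ?_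
      · intro a ha n' _
        rw [TensorProduct.smul_tmul, Algebra.smul_def, mul_one, Ideal.Quotient.algebraMap_eq,
          Ideal.Quotient.eq_zero_iff_mem.mpr ha, TensorProduct.tmul_zero]
      · intro a b ha hb
        rw [TensorProduct.add_tmul, ha, hb, add_zero]
  exact ⟨((Submodule.quotEquivOfEq _ _ hker.symm).trans (f.quotKerEquivOfSurjective hf)).symm⟩

/-- The dimension formula (= S2598). -/
theorem supportDim_tensor (M : Type u) [AddCommGroup M] [Module A M] [Module.Finite A M]
    [Nontrivial M] :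
    Module.supportDim B (N ⊗[A] M) =
      Module.supportDim A M + Module.supportDim B (EGA4.FibMod A B N) := by
  apply le_antisymm
  · exact Groth.Agent.S5770.result A B M N
  · obtain ⟨r, hr⟩ := Groth.Agent.Lib.helper9.SemiLocalDim.exists_nat_eq_supportDim A M
    have h := add_le_aux (A := A) (B := B) N r M hr
    obtain ⟨e⟩ := nonempty_fibreEquiv (A := A) (B := B) N
    rw [Module.supportDim_eq_of_equiv e] at h
    rw [hr]
    exact h

end Main

end Groth.Agent.Lib.helper6.DimTensor
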