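import Mathlib
import Groth.Prelude.Def_CAlg
import Groth.Prelude.Def_EGA4b
import Groth.Agent.Lib.helper6.CMFlat

/-! Transfer of statements about flat local homomorphisms `R → S` with closed fibre `F`
to quotients `B/I → C/IC` and to the local rings of fibres of `A → B → C`. -/

set_option linter.style.haveILetI false

namespace Groth.Agent.Lib.helper6.FlatTransfer

open LocCoh Groth.Agent.Lib.helper6.CMFlat

universe u

/-- predicates on triples of local rings -/
abbrev Pred3 : Type (u + 1) := ∀ (R F S : Type u) [CommRing R] [CommRing F] [CommRing S]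
  [IsLocalRing R] [IsLocalRing F] [IsLocalRing S], Prop

/-- invariance under isomorphisms in the middle variable -/
def Pred3.IsoInv (W : Pred3.{u}) : Prop :=
  ∀ (R F F' S : Type u) [CommRing R] [CommRing F] [CommRing F'] [CommRing S]
    [IsLocalRing R] [IsLocalRing F] [IsLocalRing F'] [IsLocalRing S], (F ≃+* F') →
    W R F S → W R F' S

/-- validity for all flat local homomorphisms of Noetherian local rings -/
def Pred3.Holds (W : Pred3.{u}) : Prop :=
  ∀ (R S : Type u) [CommRing R] [CommRing S] [IsLocalRing R] [IsLocalRing S]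
    [IsNoetherianRing R] [IsNoetherianRing S] [Algebra R S] [IsLocalHom (algebraMap R S)]
    [Module.Flat R S], W R (EGA4.FibRing R S) S

theorem isLocalRing_quot {R : Type u} [CommRing R] [IsLocalRing R] (J : Ideal R) (hJ : J ≠ ⊤) :
    IsLocalRing (R ⧸ J) := by
  haveI : Nontrivial (R ⧸ J) := Ideal.Quotient.nontrivial_iff.2 hJ
  exact IsLocalRing.of_surjective' (Ideal.Quotient.mk J) Ideal.Quotient.mk_surjective

theorem W_congr (W : Pred3.{u}) {R : Type u} [CommRing R] [IsLocalRing R] {T : Type u}
    [CommRing T] {J J' K K' : Ideal T} (hJ : J = J') (hK : K = K')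
    [IsLocalRing (T ⧸ J)] [IsLocalRing (T ⧸ J')] [IsLocalRing (T ⧸ K)] [IsLocalRing (T ⧸ K')]
    (h : W R (T ⧸ J) (T ⧸ K)) : W R (T ⧸ J') (T ⧸ K') := by
  subst hJ; subst hK; exact h

theorem quotient_transfer (W : Pred3.{u}) (hiso : W.IsoInv) (hW : W.Holds)
    {B C : Type u} [CommRing B] [CommRing C] [IsLocalRing B] [IsLocalRing C]
    [IsNoetherianRing B] [IsNoetherianRing C] [Algebra B C] [IsLocalHom (algebraMap B C)]
    [Module.Flat B C] (I : Ideal B) (hI : I ≠ ⊤)
    [IsLocalRing (B ⧸ I)] [IsLocalRing (C ⧸ I.map (algebraMap B C))] :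
    W (B ⧸ I) (EGA4.FibRing B C) (C ⧸ I.map (algebraMap B C)) := by
  have hIm : I ≤ IsLocalRing.maximalIdeal B := IsLocalRing.le_maximalIdeal hI
  have hJK : I.map (algebraMap B C) ≤ EGA4.mB B C := Ideal.map_mono hIm
  haveI : Module.Flat (B ⧸ I) (C ⧸ I.map (algebraMap B C)) := flat_quotient I
  haveI : IsLocalHom (Ideal.Quotient.mk (I.map (algebraMap B C))) :=
    IsLocalHom.of_surjective _ Ideal.Quotient.mk_surjective
  haveI : IsLocalHom (algebraMap (B ⧸ I) (C ⧸ I.map (algebraMap B C))) := by
    constructor
    intro x hx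
    obtain ⟨x, rfl⟩ := Ideal.Quotient.mk_surjective x
    rw [Ideal.Quotient.algebraMap_quotient_map_quotient] at hx
    have h1 : IsUnit (algebraMap B C x) := isUnit_of_map_unit _ _ hx
    have h2 : IsUnit x := isUnit_of_map_unit (algebraMap B C) _ h1
    exact h2.map _
  have key := hW (B ⧸ I) (C ⧸ I.map (algebraMap B C))
  have hideal : EGA4.mB (B ⧸ I) (C ⧸ I.map (algebraMap B C)) =
      (EGA4.mB B C).map (Ideal.Quotient.mk (I.map (algebraMap B C))) := by
    change (IsLocalRing.maximalIdeal (B ⧸ I)).map _ = ((IsLocalRing.maximalIdeal B).map _).map _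
    rw [← IsLocalRing.map_maximalIdeal_of_surjective (Ideal.Quotient.mk I)
      Ideal.Quotient.mk_surjective, Ideal.map_map, Ideal.map_map]
    rfl
  let e : EGA4.FibRing (B ⧸ I) (C ⧸ I.map (algebraMap B C)) ≃+* EGA4.FibRing B C :=
    (Ideal.quotEquivOfEq hideal).trans (DoubleQuot.quotQuotEquivQuotOfLE hJK)
  exact hiso _ _ _ _ e key

section Comp
variable (A B C : Type u) [CommRing A] [CommRing B] [CommRing C] [Algebra A B] [Algebra B C]
  [Algebra A C] [IsScalarTower A B C] [IsNoetherianRing B] [IsNoetherianRing C] [Module.Flat B C]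

/-- the ideal of `S_r` generated by `r ∩ R` -/
abbrev fibIdeal (R : Type u) {S : Type u} [CommRing R] [CommRing S] [Algebra R S] (r : Ideal S)
    [r.IsPrime] : Ideal (Localization.AtPrime r) :=
  ((r.under R).map (algebraMap R S)).map (algebraMap S (Localization.AtPrime r))

theorem fibIdeal_le (R : Type u) {S : Type u} [CommRing R] [CommRing S] [Algebra R S]
    (r : Ideal S) [r.IsPrime] :
    fibIdeal R r ≤ IsLocalRing.maximalIdeal (Localization.AtPrime r) := by
  rw [← Localization.AtPrime.map_eq_maximalIdeal]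
  exact Ideal.map_mono Ideal.map_comap_le

theorem fibIdeal_ne_top (R : Type u) {S : Type u} [CommRing R] [CommRing S] [Algebra R S]
    (r : Ideal S) [r.IsPrime] : fibIdeal R r ≠ ⊤ := fun h =>
  (IsLocalRing.maximalIdeal.isMaximal _).ne_top (top_le_iff.mp (h ▸ fibIdeal_le R r))

instance isLocalRing_fib (R : Type u) {S : Type u} [CommRing R] [CommRing S] [Algebra R S]
    (r : Ideal S) [r.IsPrime] : IsLocalRing (Localization.AtPrime r ⧸ fibIdeal R r) :=
  isLocalRing_quot _ (fibIdeal_ne_top R r)

set_option maxHeartbeats 800000 in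
theorem key_transfer (W : Pred3.{u}) (hiso : W.IsoInv) (hW : W.Holds) (r : Ideal C) [r.IsPrime] :
    W (Localization.AtPrime (r.under B) ⧸ fibIdeal A (r.under B))
      (Localization.AtPrime r ⧸ fibIdeal B r) (Localization.AtPrime r ⧸ fibIdeal A r) := by
  set q := r.under B with hq
  haveI : r.LiesOver q := ⟨rfl⟩
  letI := Localization.AtPrime.algebraOfLiesOver q r
  haveI : IsLocalHom (algebraMap (Localization.AtPrime q) (Localization.AtPrime r)) :=
    inferInstanceAs (IsLocalHom (Localization.localRingHom q r (algebraMap B C) Ideal.LiesOver.over))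
  haveI : IsScalarTower A (Localization.AtPrime q) (Localization.AtPrime r) := inferInstance
  haveI : IsScalarTower B (Localization.AtPrime q) (Localization.AtPrime r) := inferInstance
  have hqA : q.under A = r.under A := by
    rw [hq, Ideal.under_def, Ideal.under_def, Ideal.under_def, Ideal.comap_comap,
      ← IsScalarTower.algebraMap_eq]
  have E1 : (fibIdeal A q).map (algebraMap (Localization.AtPrime q) (Localization.AtPrime r)) =
      fibIdeal A r := by
    unfold fibIdeal
    rw [Ideal.map_map, Ideal.map_map, Ideal.map_map, hqA,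
      ← IsScalarTower.algebraMap_eq, ← IsScalarTower.algebraMap_eq,
      ← IsScalarTower.algebraMap_eq]
  have E2 : EGA4.mB (Localization.AtPrime q) (Localization.AtPrime r) = fibIdeal B r := by
    unfold fibIdeal
    change (IsLocalRing.maximalIdeal (Localization.AtPrime q)).map _ = _
    rw [← Localization.AtPrime.map_eq_maximalIdeal, Ideal.map_map, Ideal.map_map,
      ← IsScalarTower.algebraMap_eq, ← IsScalarTower.algebraMap_eq]
  haveI : IsLocalRing (Localization.AtPrime r ⧸
      (fibIdeal A q).map (algebraMap (Localization.AtPrime q) (Localization.AtPrime r))) :=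
    isLocalRing_quot _ (E1 ▸ fibIdeal_ne_top A r)
  have Q := quotient_transfer W hiso hW (B := Localization.AtPrime q)
    (C := Localization.AtPrime r) (fibIdeal A q) (fibIdeal_ne_top A q)
  exact W_congr W E2 E1 Q

end Comp

end Groth.Agent.Lib.helper6.FlatTransfer
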