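import Mathlib
import Groth.Agent.Lib.helper6.FlatTransfer
import Groth.Agent.Lib.helper6.CMFib
import Groth.Agent.Lib.helper9.Depth11
import Groth.Agent.Lib.helper9.Depth12
import Groth.Agent.Lib.helper9.SemiLocalDim

/-! Ring maps with `(S_n)` fibres: local form, composition, descent. -/

set_option linter.style.haveILetI false

namespace Groth.Agent.Lib.helper6.SkFib

open LocCoh Groth.Agent.Lib.helper9.Depth Groth.Agent.Lib.helper9
open Groth.Agent.Lib.helper6.CMFlat Groth.Agent.Lib.helper6.FlatTransfer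

universe u

/-- `S_n` at the closed point of a local ring -/
def SkLoc (n : ℕ) (R : Type u) [CommRing R] [IsLocalRing R] : Prop :=
  min (n : WithBot ℕ∞) (ringKrullDim R) ≤ ((depth R R : ℕ∞) : WithBot ℕ∞)

theorem skLoc_of_ringEquiv {n : ℕ} {R S : Type u} [CommRing R] [CommRing S] [IsLocalRing R]
    [IsLocalRing S] (e : R ≃+* S) (h : SkLoc n R) : SkLoc n S := by
  unfold SkLoc at h ⊢
  rw [← ringKrullDim_eq_of_ringEquiv e,
    ← depth_eq_of_addEquiv e e.toAddEquiv (fun r x => map_mul e r x)]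
  exact h

theorem exists_nat_dim (R : Type u) [CommRing R] [IsLocalRing R] [IsNoetherianRing R] :
    ∃ d : ℕ, ringKrullDim R = d := by
  obtain ⟨d, hd⟩ := SemiLocalDim.exists_nat_eq_supportDim R R
  rw [Module.supportDim_self_eq_ringKrullDim] at hd
  exact ⟨d, hd⟩

/-- ascent -/
def Wa (n : ℕ) : Pred3.{u} := fun R F S _ _ _ _ _ _ => SkLoc n R → SkLoc n F → SkLoc n S

/-- descent -/
def Wb (n : ℕ) : Pred3.{u} := fun R F S _ _ _ _ _ _ => SkLoc n S → ringKrullDim F = 0 → SkLoc n R

theorem Wa_isoInv (n : ℕ) : (Wa.{u} n).IsoInv := by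
  intro R F F' S _ _ _ _ _ _ _ _ e h hR hF'
  exact h hR (skLoc_of_ringEquiv e.symm hF')

theorem Wb_isoInv (n : ℕ) : (Wb.{u} n).IsoInv := by
  intro R F F' S _ _ _ _ _ _ _ _ e h hS hF'
  exact h hS (by rw [ringKrullDim_eq_of_ringEquiv e]; exact hF')

theorem Wa_holds (n : ℕ) : (Wa.{u} n).Holds := by
  intro R S _ _ _ _ _ _ _ _ _ hR hF
  have hdim := FlatLocal.ringKrullDim_eq_add (R := R) (S := S)
  have hdepth := FlatLocal.depth_eq_add (R := R) (S := S) (EGA4.mB R S) rfl
  change depth S S = depth R R + depth (EGA4.FibRing R S) (EGA4.FibRing R S) at hdepth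
  obtain ⟨a, ha⟩ := exists_nat_depth (R := R) R
  obtain ⟨b, hb⟩ := exists_nat_depth (R := EGA4.FibRing R S) (EGA4.FibRing R S)
  obtain ⟨dR, hdR⟩ := exists_nat_dim R
  obtain ⟨dF, hdF⟩ := exists_nat_dim (EGA4.FibRing R S)
  unfold SkLoc at hR hF ⊢
  rw [hdR, ha] at hR
  rw [hdF, hb] at hF
  rw [hdim, hdepth, hdR, hdF, ha, hb]
  have h1 := (natCast_min_le_iff n dR a).1 hR
  have h2 := (natCast_min_le_iff n dF b).1 hF
  have h3 : min n (dR + dF) ≤ a + b := by omega
  have := (natCast_min_le_iff n (dR + dF) (a + b)).2 h3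
  push_cast at this ⊢
  exact this

theorem Wb_holds (n : ℕ) : (Wb.{u} n).Holds := by
  intro R S _ _ _ _ _ _ _ _ _ hS hF
  have hdim := FlatLocal.ringKrullDim_eq_add (R := R) (S := S)
  have hdepth := FlatLocal.depth_eq_add (R := R) (S := S) (EGA4.mB R S) rfl
  change depth S S = depth R R + depth (EGA4.FibRing R S) (EGA4.FibRing R S) at hdepth
  obtain ⟨a, ha⟩ := exists_nat_depth (R := R) R
  obtain ⟨dR, hdR⟩ := exists_nat_dim R
  have hb : depth (EGA4.FibRing R S) (EGA4.FibRing R S) = 0 := by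
    have h1 := depth_le_supportDim (R := EGA4.FibRing R S) (EGA4.FibRing R S)
    rw [Module.supportDim_self_eq_ringKrullDim, hF] at h1
    have h2 : depth (EGA4.FibRing R S) (EGA4.FibRing R S) ≤ 0 := by exact_mod_cast h1
    exact le_antisymm h2 bot_le
  unfold SkLoc at hS ⊢
  rw [hdim, hdepth, hF, hb, add_zero, add_zero] at hS
  exact hS

/-- Local form of "all fibres satisfy `S_n`". -/
def LocFibSk (n : ℕ) (R S : Type u) [CommRing R] [CommRing S] [Algebra R S] : Prop :=
  ∀ (r : Ideal S) [r.IsPrime], SkLoc n (Localization.AtPrime r ⧸ fibIdeal R r)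

theorem hasSk_self_iff (n : ℕ) (Φ : Type u) [CommRing Φ] :
    HasSk n Φ Φ ↔ ∀ (Q : Ideal Φ) [Q.IsPrime], SkLoc n (Localization.AtPrime Q) := by
  unfold HasSk SkLoc
  refine forall_congr' fun Q => forall_congr' fun hQ => ?_
  rw [depth_localizedModule_self Q,
    Module.supportDim_eq_of_equiv (localizedModuleSelfEquiv Q),
    Module.supportDim_self_eq_ringKrullDim]

section
variable {R S : Type u} [CommRing R] [CommRing S] [Algebra R S]

theorem transport (n : ℕ) (p : Ideal R) (r r' : Ideal S) [r.IsPrime] [r'.IsPrime] (h : r' = r)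
    [IsLocalRing (Localization.AtPrime r' ⧸
      (p.map (algebraMap R S)).map (algebraMap S (Localization.AtPrime r')))]
    [IsLocalRing (Localization.AtPrime r ⧸
      (p.map (algebraMap R S)).map (algebraMap S (Localization.AtPrime r)))]
    (hcm : SkLoc n (Localization.AtPrime r' ⧸
      (p.map (algebraMap R S)).map (algebraMap S (Localization.AtPrime r')))) :
    SkLoc n (Localization.AtPrime r ⧸
      (p.map (algebraMap R S)).map (algebraMap S (Localization.AtPrime r))) := by
  subst h; exact hcm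

theorem skLoc_quot_of_eq {n : ℕ} {T : Type u} [CommRing T] {I J : Ideal T} (h : I = J)
    [IsLocalRing (T ⧸ I)] [IsLocalRing (T ⧸ J)]
    (hI : SkLoc n (T ⧸ I)) : SkLoc n (T ⧸ J) := by
  subst h; exact hI

theorem locFibSk_of_fiber (n : ℕ)
    (h : ∀ (p : Ideal R) [p.IsPrime], HasSk n (p.Fiber S) (p.Fiber S)) : LocFibSk n R S := by
  intro r _
  set p := r.under R with hp
  let q : PrimeSpectrum (p.Fiber S) :=
    PrimeSpectrum.primesOverOrderIsoFiber R S p ⟨r, ⟨inferInstance, ⟨rfl⟩⟩⟩
  have hq : q.asIdeal.comap (Algebra.TensorProduct.includeRight (R := R) (A := p.ResidueField)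
      (B := S)) = r := by
    have h1 := PrimeSpectrum.coe_primesOverOrderIsoFiber_symm_apply (R := R) (S := S) (p := p) q
    rw [← h1]
    simp [q]
  have hcm := (hasSk_self_iff n (p.Fiber S)).1 (h p) q.asIdeal
  haveI : (Ideal.comap (Algebra.TensorProduct.includeRight (R := R) (A := p.ResidueField)
      (B := S)) q.asIdeal).IsPrime := Ideal.comap_isPrime _ _
  haveI : IsLocalRing (Localization.AtPrime (Ideal.comap
      (Algebra.TensorProduct.includeRight (R := R) (A := p.ResidueField) (B := S)) q.asIdeal) ⧸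
      (p.map (algebraMap R S)).map (algebraMap S (Localization.AtPrime (Ideal.comap
      (Algebra.TensorProduct.includeRight (R := R) (A := p.ResidueField) (B := S))
        q.asIdeal)))) :=
    (Ideal.Fiber.algEquivAux₂ p q.asIdeal).toRingEquiv.isLocalRing
  have hcm' := skLoc_of_ringEquiv (Ideal.Fiber.algEquivAux₂ p q.asIdeal).toRingEquiv hcm
  exact transport n p r _ hq hcm'

theorem fiber_of_locFibSk (n : ℕ) (h : LocFibSk n R S) (p : Ideal R) [p.IsPrime] :
    HasSk n (p.Fiber S) (p.Fiber S) := by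
  rw [hasSk_self_iff]
  intro q _
  set r : Ideal S := q.comap (Algebra.TensorProduct.includeRight (R := R) (A := p.ResidueField)
      (B := S)) with hr
  have hrp : r.under R = p := by
    have h1 : p = q.under R := Ideal.LiesOver.over
    rw [h1]
    ext x
    simp only [Ideal.mem_comap, hr]
    rw [AlgHom.commutes]
  have hcm := h r
  have hI : fibIdeal R r = (p.map (algebraMap R S)).map
      (algebraMap S (Localization.AtPrime r)) := by
    unfold fibIdeal; rw [hrp]
  haveI : IsLocalRing (Localization.AtPrime r ⧸ (p.map (algebraMap R S)).map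
      (algebraMap S (Localization.AtPrime r))) :=
    isLocalRing_quot _ (hI ▸ fibIdeal_ne_top R r)
  have hcm' := skLoc_quot_of_eq hI hcm
  exact skLoc_of_ringEquiv (Ideal.Fiber.algEquivAux₂ p q).toRingEquiv.symm hcm'

end

theorem ringKrullDim_quot_eq_zero {T : Type u} [CommRing T] [IsLocalRing T] (J : Ideal T)
    (h : IsLocalRing.maximalIdeal T ∈ J.minimalPrimes) : ringKrullDim (T ⧸ J) = 0 := by
  have hJ : J ≠ ⊤ := fun e =>
    (IsLocalRing.maximalIdeal.isMaximal T).ne_top (top_le_iff.mp (e ▸ h.1.2))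
  haveI : Nontrivial (T ⧸ J) := Ideal.Quotient.nontrivial_iff.2 hJ
  haveI : IsLocalRing (T ⧸ J) := isLocalRing_quot J hJ
  apply le_antisymm _ ringKrullDim_nonneg_of_nontrivial
  have : Ring.KrullDimLE 0 (T ⧸ J) := by
    rw [Ring.krullDimLE_zero_iff]
    intro P hP
    have hPc : (P.comap (Ideal.Quotient.mk J)).IsPrime := Ideal.comap_isPrime _ _
    have hJle : J ≤ P.comap (Ideal.Quotient.mk J) := fun x hx => by
      rw [Ideal.mem_comap, Ideal.Quotient.eq_zero_iff_mem.2 hx]; exact P.zero_mem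
    have hle : P.comap (Ideal.Quotient.mk J) ≤ IsLocalRing.maximalIdeal T :=
      IsLocalRing.le_maximalIdeal hPc.ne_top
    have heq : IsLocalRing.maximalIdeal T ≤ P.comap (Ideal.Quotient.mk J) := h.2 ⟨hPc, hJle⟩ hle
    have h1 : P.comap (Ideal.Quotient.mk J) = IsLocalRing.maximalIdeal T := le_antisymm hle heq
    have hm : ((IsLocalRing.maximalIdeal (T ⧸ J)).comap (Ideal.Quotient.mk J)).IsMaximal :=
      Ideal.comap_isMaximal_of_surjective _ Ideal.Quotient.mk_surjective
    have h2 : (IsLocalRing.maximalIdeal (T ⧸ J)).comap (Ideal.Quotient.mk J) =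
        IsLocalRing.maximalIdeal T := IsLocalRing.eq_maximalIdeal hm
    have h3 : P = IsLocalRing.maximalIdeal (T ⧸ J) :=
      Ideal.comap_injective_of_surjective _ Ideal.Quotient.mk_surjective (h1.trans h2.symm)
    rw [h3]; infer_instance
  exact Ring.krullDimLE_iff.1 this

section Comp
variable (n : ℕ) (A B C : Type u) [CommRing A] [CommRing B] [CommRing C] [Algebra A B]
  [Algebra B C] [Algebra A C] [IsScalarTower A B C] [IsNoetherianRing B] [IsNoetherianRing C]

theorem comp [Module.Flat B C] (hAB : LocFibSk n A B) (hBC : LocFibSk n B C) :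
    LocFibSk n A C := by
  intro r _
  exact key_transfer A B C (Wa n) (Wa_isoInv n) (Wa_holds n) r (hAB (r.under B)) (hBC r)

theorem descent [Module.FaithfullyFlat B C] (hAC : LocFibSk n A C) : LocFibSk n A B := by
  intro q _
  -- choose `r` minimal over `qC`
  have hqC : q.map (algebraMap B C) ≠ ⊤ := by
    intro h
    have h1 := Ideal.comap_map_eq_self_of_faithfullyFlat (A := B) (B := C) q
    rw [h, Ideal.comap_top] at h1
    exact (‹q.IsPrime›).ne_top h1.symm
  obtain ⟨⟨r, hr⟩⟩ := Ideal.nonempty_minimalPrimes hqC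
  haveI hrp : r.IsPrime := hr.1.1
  have hle : q ≤ r.under B := Ideal.map_le_iff_le_comap.1 hr.1.2
  haveI : r.LiesOver (r.under B) := ⟨rfl⟩
  obtain ⟨P, hPr, hPp, hPq⟩ := Ideal.exists_ideal_le_liesOver_of_le (p := q) (q := r.under B) r hle
  have hqP : q.map (algebraMap B C) ≤ P := by
    rw [Ideal.map_le_iff_le_comap, hPq.over]
  have hPr' : P = r := le_antisymm hPr (hr.2 ⟨hPp, hqP⟩ hPr)
  have hq : q = r.under B := by rw [← hPr']; exact hPq.over
  subst hq
  -- the closed fibre of `B_q → C_r` has dimension zero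
  have hdim : ringKrullDim (Localization.AtPrime r ⧸ fibIdeal B r) = 0 := by
    apply ringKrullDim_quot_eq_zero
    unfold fibIdeal
    rw [IsLocalization.minimalPrimes_map r.primeCompl (Localization.AtPrime r),
      Set.mem_preimage, Localization.AtPrime.under_maximalIdeal]
    exact hr
  exact key_transfer A B C (Wb n) (Wb_isoInv n) (Wb_holds n) r (hAC r) hdim

end Comp

end Groth.Agent.Lib.helper6.SkFib
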