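import Mathlib
import Groth.Agent.Lib.helper21.TorLib
import Groth.Agent.Lib.helper5.RegLoc3
import Groth.Agent.Lib.helper9.Depth6
import Groth.Agent.S0390
import Groth.Prelude.Def_EGA4b

/-!
# Miracle flatness (module version)
-/

set_option autoImplicit false
set_option linter.style.haveILetI false

namespace Groth.Agent.Lib.helper6.MiracleFlat

open CategoryTheory RingTheory.Sequence Groth.Agent.H21.TorLib TensorProduct Pointwise

universe u

variable {A : Type u} [CommRing A]

/-- `M ⊗ (N/zN) ≃ (M ⊗ N)/z(M ⊗ N)`. -/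
noncomputable def tensorQuotSMulTop (M N : Type u) [AddCommGroup M] [Module A M]
    [AddCommGroup N] [Module A N] (z : A) :
    M ⊗[A] QuotSMulTop z N ≃ₗ[A] QuotSMulTop z (M ⊗[A] N) :=
  (LinearEquiv.lTensor M (QuotSMulTop.equivTensorQuot z N)) ≪≫ₗ
    (TensorProduct.assoc A M N _).symm ≪≫ₗ (QuotSMulTop.equivTensorQuot z (M ⊗[A] N)).symm

/-- Tor induction: if `zs` is weakly regular on `N` and on `M ⊗ N` and `Tor₁(M, N) = 0`, then
`Tor₁(M, N/(zs)N) = 0`. -/
theorem tor_quot_ofList (M : Type u) [AddCommGroup M] [Module A M] (zs : List A) :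
    ∀ (N : Type u) [AddCommGroup N] [Module A N],
      IsWeaklyRegular N zs → IsWeaklyRegular (M ⊗[A] N) zs →
      Limits.IsZero (T 1 (ModuleCat.of A M) (ModuleCat.of A N)) →
      Limits.IsZero (T 1 (ModuleCat.of A M)
        (ModuleCat.of A (N ⧸ (Ideal.ofList zs • (⊤ : Submodule A N))))) := by
  induction zs with
  | nil =>
    intro N _ _ _ _ h
    have hbot : (Ideal.ofList ([] : List A) • (⊤ : Submodule A N)) = ⊥ := by
      rw [Ideal.ofList_nil, Submodule.bot_smul]
    refine (isZero_congr 1 (Iso.refl _) ?_).1 h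
    exact (Submodule.quotEquivOfEqBot _ hbot).symm.toModuleIso
  | cons z zs ih =>
    intro N _ _ hN hMN h
    rw [isWeaklyRegular_cons_iff] at hN hMN
    obtain ⟨hz, hzs⟩ := hN
    obtain ⟨hz', hzs'⟩ := hMN
    -- the SES 0 → N → N → N/zN → 0
    have hex : Function.Exact (LinearMap.lsmul A N z) (Submodule.mkQ (z • (⊤ : Submodule A N))) := by
      intro y
      rw [Submodule.mkQ_apply, Submodule.Quotient.mk_eq_zero]
      constructor
      · intro hy
        obtain ⟨w, -, rfl⟩ := (Submodule.mem_smul_pointwise_iff_exists _ _ _).1 hy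
        exact ⟨w, rfl⟩
      · rintro ⟨w, rfl⟩
        exact Submodule.smul_mem_pointwise_smul w z ⊤ trivial
    have hS := linSES_shortExact (LinearMap.lsmul A N z)
      (Submodule.mkQ (z • (⊤ : Submodule A N))) hz hex (Submodule.mkQ_surjective _)
    have h1 : Limits.IsZero (T 1 (ModuleCat.of A M) (ModuleCat.of A (QuotSMulTop z N))) := by
      refine (isZero_iff_injective_lTensor (ModuleCat.of A M) _ hS h).2 ?_
      have : (LinearMap.lTensor M (LinearMap.lsmul A N z)) =
          LinearMap.lsmul A (M ⊗[A] N) z := by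
        ext m n
        simp
      show Function.Injective (LinearMap.lTensor M (LinearMap.lsmul A N z))
      rw [this]
      exact hz'
    have h2 : IsWeaklyRegular (M ⊗[A] QuotSMulTop z N) zs :=
      ((tensorQuotSMulTop M N z).isWeaklyRegular_congr zs).2 hzs'
    have h3 := ih (QuotSMulTop z N) hzs h2 h1
    refine (isZero_congr 1 (Iso.refl _) ?_).1 h3
    exact (Submodule.quotOfListConsSMulTopEquivQuotSMulTopInner N z zs).symm.toModuleIso

/-- **Miracle flatness**, module version. -/
theorem main (A B : Type u) [CommRing A] [CommRing B] [IsRegularLocalRing A] [IsNoetherianRing B]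
    [IsLocalRing B] [Algebra A B] [IsLocalHom (algebraMap A B)]
    (M : Type u) [AddCommGroup M] [Module B M] [Module A M] [IsScalarTower A B M]
    [Module.Finite B M]
    (hCM : LocCoh.IsCohenMacaulayModule B M)
    (hdim : Module.supportDim B M =
      ringKrullDim A + Module.supportDim B (EGA4.FibMod A B M)) :
    Module.Flat A M := by
  obtain ⟨d, hd⟩ := Groth.Agent.H5.RegLoc.exists_nat_dim A
  have hsf : (IsLocalRing.maximalIdeal A).spanFinrank = d := by
    have h1 := IsRegularLocalRing.spanFinrank_maximalIdeal (R := A)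
    rw [hd] at h1
    exact_mod_cast h1
  obtain ⟨x, hx⟩ := Groth.Agent.H5.RegLoc.exists_fin_generators A d hsf
  have hreg := Groth.Agent.H5.RegLoc.isRegular_of_generators d A hd x hx
  have hofList : Ideal.ofList (List.ofFn x) = IsLocalRing.maximalIdeal A := by
    rw [← hx]
    unfold Ideal.ofList
    congr 1
    ext y
    simp [List.mem_ofFn]
  have hys : Ideal.ofList ((List.ofFn x).map (algebraMap A B)) = EGA4.mB A B := by
    rw [← Ideal.map_ofList, hofList]
  have hmem : ∀ y ∈ (List.ofFn x).map (algebraMap A B), y ∈ IsLocalRing.maximalIdeal B := by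
    intro y hy
    have h1 : y ∈ Ideal.ofList ((List.ofFn x).map (algebraMap A B)) :=
      Ideal.subset_span hy
    rw [hys] at h1
    exact IsLocalRing.map_maximalIdeal_le (algebraMap A B) h1
  have hwr : IsWeaklyRegular M ((List.ofFn x).map (algebraMap A B)) := by
    refine (Groth.Agent.Lib.helper9.Depth.isWeaklyRegular_iff_supportDim_eq hCM _ hmem).2 ?_
    rw [hys, List.length_map, List.length_ofFn, hdim, hd, add_comm]
  have hwrA : IsWeaklyRegular M (List.ofFn x) :=
    (isWeaklyRegular_map_algebraMap_iff B M (List.ofFn x)).1 hwr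
  have hwrMA : IsWeaklyRegular (M ⊗[A] A) (List.ofFn x) :=
    ((TensorProduct.rid A M).isWeaklyRegular_congr _).2 hwrA
  have h0 : Limits.IsZero (T 1 (ModuleCat.of A M) (ModuleCat.of A A)) :=
    isZero_of_projective_right _ _ 0
  have h1 := tor_quot_ofList M (List.ofFn x) A hreg.toIsWeaklyRegular hwrMA h0
  rw [hofList] at h1
  have h2 : Limits.IsZero (T 1 (ModuleCat.of A M)
      (ModuleCat.of A (A ⧸ IsLocalRing.maximalIdeal A))) := by
    refine (isZero_congr 1 (Iso.refl _) ?_).1 h1
    refine (Submodule.quotEquivOfEq _ _ ?_).toModuleIso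
    rw [smul_eq_mul, Ideal.mul_top]
  have h3 := (isZero_iff_injective_lTensor (ModuleCat.of A M)
    (quotSES (IsLocalRing.maximalIdeal A)) (quotSES_shortExact _) h0).1 h2
  exact Groth.Agent.S0390.local_crit (R := A) (S := B) (M := M) h3

end Groth.Agent.Lib.helper6.MiracleFlat
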