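import Mathlib

/-!
# Pullback of ideal sheaves, computed on affine opens (helper6)
-/

set_option autoImplicit false
universe u

open CategoryTheory AlgebraicGeometry

namespace Groth.Agent.Lib.helper6

open Scheme.IdealSheafData in
/-- Pullback of an ideal sheaf along a morphism of affine schemes is extension of the ideal
of global sections. -/
theorem comap_ideal_top_of_isAffine {X Y : Scheme.{u}} [IsAffine X] [IsAffine Y] (f : X ⟶ Y)
    (K : Y.IdealSheafData) :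
    (K.comap f).ideal ⟨⊤, isAffineOpen_top X⟩ =
      (K.ideal ⟨⊤, isAffineOpen_top Y⟩).map f.appTop.hom := by
  have key : ∀ I : X.IdealSheafData, (I.map f).ideal ⟨⊤, isAffineOpen_top Y⟩ =
      (I.ideal ⟨⊤, isAffineOpen_top X⟩).comap f.appTop.hom := by
    intro I
    exact ideal_map_of_isAffineHom I f ⟨⊤, isAffineOpen_top Y⟩
  apply le_antisymm
  · have h : K.comap f ≤ ofIdealTop ((K.ideal ⟨⊤, isAffineOpen_top Y⟩).map f.appTop.hom) := by
      rw [← le_map_iff_comap_le]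
      apply le_of_isAffine
      rw [key]
      rw [← Ideal.map_le_iff_le_comap]
      simp
    have := h ⟨⊤, isAffineOpen_top X⟩
    simpa using this
  · rw [Ideal.map_le_iff_le_comap, ← key]
    exact (le_map_comap K f) _

theorem aux {A B A' B' : CommRingCat.{u}} (m : A ⟶ B) (p : A ⟶ A') (p' : A' ⟶ A)
    (q' : B ⟶ B') (q : B' ⟶ B) (hp : p ≫ p' = 𝟙 _) (hq : q' ≫ q = 𝟙 _) :
    p ≫ (p' ≫ m ≫ q') ≫ q = m := by
  rw [Category.assoc, Category.assoc, hq, Category.comp_id, ← Category.assoc, hp, Category.id_comp]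

open Scheme.IdealSheafData in
theorem comap_ideal_of_le {X Y : Scheme.{u}} (f : X ⟶ Y) (K : Y.IdealSheafData)
    (U : X.affineOpens) (V : Y.affineOpens) (e : U.1 ≤ f ⁻¹ᵁ V.1) :
    (K.comap f).ideal U = (K.ideal V).map (f.appLE V.1 U.1 e).hom := by
  have : IsAffine (U.1 : Scheme.{u}) := U.2
  have : IsAffine (V.1 : Scheme.{u}) := V.2
  have h1 := ideal_comap_of_isOpenImmersion (K.comap f) U.1.ι ⟨⊤, isAffineOpen_top _⟩
  have h2 := ideal_comap_of_isOpenImmersion K V.1.ι ⟨⊤, isAffineOpen_top _⟩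
  have h3 : (K.comap f).comap U.1.ι = (K.comap V.1.ι).comap (f.resLE V.1 U.1 e) := by
    rw [← comap_comp, ← comap_comp, Scheme.Hom.resLE_comp_ι]
  have h4 := comap_ideal_top_of_isAffine (f.resLE V.1 U.1 e) (K.comap V.1.ι)
  rw [← h3, h1, h2] at h4
  simp only [Scheme.Opens.ι_appIso, Iso.refl_inv] at h4
  have hU : (U.1.ι ''ᵁ ⊤ : X.Opens) = U.1 := U.1.ι_image_top
  have hV : (V.1.ι ''ᵁ ⊤ : Y.Opens) = V.1 := V.1.ι_image_top
  have h5 := (K.comap f).map_ideal' (U := U)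
    (V := ⟨U.1.ι ''ᵁ ⊤, (isAffineOpen_top (U.1 : Scheme.{u})).image_of_isOpenImmersion U.1.ι⟩)
    (eqToHom (congrArg Opposite.op hU))
  have h6 := K.map_ideal' (V := V)
    (U := ⟨V.1.ι ''ᵁ ⊤, (isAffineOpen_top (V.1 : Scheme.{u})).image_of_isOpenImmersion V.1.ι⟩)
    (eqToHom (congrArg Opposite.op hV.symm))
  have h4' : (K.comap f).ideal
      ⟨U.1.ι ''ᵁ ⊤, (isAffineOpen_top (U.1 : Scheme.{u})).image_of_isOpenImmersion U.1.ι⟩ =
      Ideal.map (CommRingCat.Hom.hom (Scheme.Hom.appTop (Scheme.Hom.resLE f V.1 U.1 e)))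
        (K.ideal
          ⟨V.1.ι ''ᵁ ⊤, (isAffineOpen_top (V.1 : Scheme.{u})).image_of_isOpenImmersion V.1.ι⟩) :=
    h4
  rw [← h5, h4', ← h6]
  erw [Ideal.map_map, Ideal.map_map]
  congr 1
  have h7 := Scheme.Hom.resLE_app_top f (U := V.1) (V := U.1) e
  have key : (Y.presheaf.map (eqToHom (congrArg Opposite.op hV.symm)) : Γ(Y, V.1) ⟶ Γ(Y, V.1.ι ''ᵁ ⊤)) ≫
      (show Γ(Y, V.1.ι ''ᵁ ⊤) ⟶ Γ(X, U.1.ι ''ᵁ ⊤) from (f.resLE V.1 U.1 e).app ⊤) ≫
      (X.presheaf.map (eqToHom (congrArg Opposite.op hU)) : Γ(X, U.1.ι ''ᵁ ⊤) ⟶ Γ(X, U.1)) =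
      f.appLE V.1 U.1 e := by
    rw [h7]
    refine aux (A' := Γ(Y, V.1.ι ''ᵁ ⊤)) (B' := Γ(X, U.1.ι ''ᵁ ⊤)) _ _ _ _ _ ?_ ?_
    · exact (Y.presheaf.map_comp _ _).symm.trans
        ((congrArg Y.presheaf.map (Subsingleton.elim _ _)).trans (Y.presheaf.map_id _))
    · exact (X.presheaf.map_comp _ _).symm.trans
        ((congrArg X.presheaf.map (Subsingleton.elim _ _)).trans (X.presheaf.map_id _))
  exact congrArg CommRingCat.Hom.hom key


/-- Every point of `X` has an affine open neighbourhood mapping into an affine open of `Y`. -/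
theorem exists_affineOpens_le_preimage {X Y : Scheme.{u}} (f : X ⟶ Y) (x : X) :
    ∃ (U : X.affineOpens) (V : Y.affineOpens), x ∈ U.1 ∧ U.1 ≤ f ⁻¹ᵁ V.1 := by
  obtain ⟨V, hV, hxV⟩ : ∃ V : Y.Opens, IsAffineOpen V ∧ f x ∈ V := by
    obtain ⟨_, ⟨V, hV, rfl⟩, hx, -⟩ := (Y.isBasis_affineOpens).exists_subset_of_mem_open
      (Set.mem_univ (f x)) isOpen_univ
    exact ⟨V, hV, hx⟩
  obtain ⟨_, ⟨U, hU, rfl⟩, hx, hUV⟩ := (X.isBasis_affineOpens).exists_subset_of_mem_open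
    (show x ∈ ((f ⁻¹ᵁ V : X.Opens) : Set X) from hxV) (f ⁻¹ᵁ V).isOpen
  exact ⟨⟨U, hU⟩, ⟨V, hV⟩, hx, hUV⟩

/-- Pullback of ideal sheaves commutes with products. -/
theorem comap_mul {X Y : Scheme.{u}} (f : X ⟶ Y) (K₁ K₂ : Y.IdealSheafData) :
    (K₁ * K₂).comap f = K₁.comap f * K₂.comap f := by
  choose U V hxU hUV using exists_affineOpens_le_preimage f
  refine Scheme.IdealSheafData.ext_of_iSup_eq_top U ?_ ?_
  · rw [eq_top_iff]
    intro x _
    exact TopologicalSpace.Opens.mem_iSup.mpr ⟨x, hxU x⟩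
  · intro x
    rw [Scheme.IdealSheafData.ideal_mul, Pi.mul_apply,
      comap_ideal_of_le f _ (U x) (V x) (hUV x),
      comap_ideal_of_le f _ (U x) (V x) (hUV x),
      comap_ideal_of_le f _ (U x) (V x) (hUV x),
      Scheme.IdealSheafData.ideal_mul, Pi.mul_apply, Ideal.map_mul]

/-- Pullback of ideal sheaves commutes with powers. -/
theorem comap_pow {X Y : Scheme.{u}} (f : X ⟶ Y) (K : Y.IdealSheafData) (n : ℕ) :
    (K ^ n).comap f = (K.comap f) ^ n := by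
  induction n with
  | zero => simp
  | succ n ih => rw [pow_succ, pow_succ, comap_mul, ih]

end Groth.Agent.Lib.helper6
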