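import Mathlib
import Groth.Agent.Lib.helper6.TorRes
import Groth.Agent.Lib.helper6.TorBal

/-!
# Naturality of the connecting map of `Tor` in the first variable, and a factorization lemma
-/

set_option linter.style.haveILetI false

namespace Groth.Agent.Lib.helper6.TorFactor

open CategoryTheory CategoryTheory.Limits MonoidalCategory

universe u
variable {A : Type u} [CommRing A]

section nat

variable {N : ModuleCat.{u} A} (Q : ProjectiveResolution N)
  {S S' : ShortComplex (ModuleCat.{u} A)} (hS : S.ShortExact) (hS' : S'.ShortExact) (φ : S ⟶ S')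

/-- the induced map of short complexes of complexes -/
noncomputable def scMap : TorRes.SC S Q.complex ⟶ TorRes.SC S' Q.complex where
  τ₁ := TorRes.tcMap φ.τ₁ Q.complex
  τ₂ := TorRes.tcMap φ.τ₂ Q.complex
  τ₃ := TorRes.tcMap φ.τ₃ Q.complex
  comm₁₂ := by
    change TorRes.tcMap φ.τ₁ _ ≫ TorRes.tcMap S'.f _ = TorRes.tcMap S.f _ ≫ TorRes.tcMap φ.τ₂ _
    rw [← TorRes.tcMap_comp, ← TorRes.tcMap_comp, φ.comm₁₂]
  comm₂₃ := by
    change TorRes.tcMap φ.τ₂ _ ≫ TorRes.tcMap S'.g _ = TorRes.tcMap S.g _ ≫ TorRes.tcMap φ.τ₃ _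
    rw [← TorRes.tcMap_comp, ← TorRes.tcMap_comp, φ.comm₂₃]

lemma δ₁_naturality (n : ℕ) :
    TorRes.δ₁ Q S hS n ≫ ((Tor (ModuleCat.{u} A) n).map φ.τ₁).app N =
      ((Tor (ModuleCat.{u} A) (n + 1)).map φ.τ₃).app N ≫ TorRes.δ₁ Q S' hS' n := by
  have h := HomologicalComplex.HomologySequence.δ_naturality (scMap Q φ)
    (TorRes.SC_shortExact' Q S hS) (TorRes.SC_shortExact' Q S' hS') (n + 1) n rfl
  have h1 : ((Tor (ModuleCat.{u} A) n).map φ.τ₁).app N ≫ (TorRes.j₁ Q S' n).hom =
      (TorRes.j₁ Q S n).hom ≫ HomologicalComplex.homologyMap (scMap Q φ).τ₁ n :=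
    TorRes.torIso_naturality Q φ.τ₁ n
  have e3 : ((Tor (ModuleCat.{u} A) (n + 1)).map φ.τ₃).app N ≫ (TorRes.j₃ Q S' (n + 1)).hom =
      (TorRes.j₃ Q S (n + 1)).hom ≫ HomologicalComplex.homologyMap (scMap Q φ).τ₃ (n + 1) :=
    TorRes.torIso_naturality Q φ.τ₃ (n + 1)
  have e1 : (TorRes.j₁ Q S n).inv ≫ ((Tor (ModuleCat.{u} A) n).map φ.τ₁).app N =
      HomologicalComplex.homologyMap (scMap Q φ).τ₁ n ≫ (TorRes.j₁ Q S' n).inv := by
    rw [Iso.inv_comp_eq, ← Category.assoc, ← h1, Category.assoc, Iso.hom_inv_id, Category.comp_id]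
  calc TorRes.δ₁ Q S hS n ≫ ((Tor (ModuleCat.{u} A) n).map φ.τ₁).app N
      = (TorRes.j₃ Q S (n + 1)).hom ≫ (TorRes.SC_shortExact' Q S hS).δ (n + 1) n rfl ≫
          ((TorRes.j₁ Q S n).inv ≫ ((Tor (ModuleCat.{u} A) n).map φ.τ₁).app N) := by
        simp only [TorRes.δ₁, Category.assoc]
    _ = (TorRes.j₃ Q S (n + 1)).hom ≫ ((TorRes.SC_shortExact' Q S hS).δ (n + 1) n rfl ≫
          HomologicalComplex.homologyMap (scMap Q φ).τ₁ n) ≫ (TorRes.j₁ Q S' n).inv := by
        rw [e1]
        simp only [Category.assoc]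
    _ = ((TorRes.j₃ Q S (n + 1)).hom ≫ HomologicalComplex.homologyMap (scMap Q φ).τ₃ (n + 1)) ≫
          (TorRes.SC_shortExact' Q S' hS').δ (n + 1) n rfl ≫ (TorRes.j₁ Q S' n).inv := by
        rw [h]
        simp only [Category.assoc]
    _ = _ := by
        rw [← e3]
        simp only [TorRes.δ₁, Category.assoc]

end nat

/-- **Lemma T**: if `Tor_1(φ.τ₃, N) = 0` then `φ.τ₁ ⊗ N` kills the kernel of `S.f ⊗ N`. -/
theorem whisker_eq_zero {S S' : ShortComplex (ModuleCat.{u} A)} (hS : S.ShortExact)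
    (hS' : S'.ShortExact) (φ : S ⟶ S') (N : ModuleCat.{u} A)
    (h0 : ((Tor (ModuleCat.{u} A) 1).map φ.τ₃).app N = 0)
    (x : (S.X₁ ⊗ N : ModuleCat.{u} A)) (hx : (S.f ▷ N) x = 0) : (φ.τ₁ ▷ N) x = 0 := by
  let Q := ProjectiveResolution.of N
  let e := TorBal.torZeroFlipIso N
  have nat : ∀ {M M' : ModuleCat.{u} A} (f : M ⟶ M'),
      ((Tor (ModuleCat.{u} A) 0).map f).app N ≫ e.hom.app M' = e.hom.app M ≫ (f ▷ N) :=
    fun f => e.hom.naturality f
  have nat' : ∀ {M M' : ModuleCat.{u} A} (f : M ⟶ M'),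
      e.inv.app M ≫ ((Tor (ModuleCat.{u} A) 0).map f).app N = (f ▷ N) ≫ e.inv.app M' :=
    fun f => (e.inv.naturality f).symm
  let x' := e.inv.app S.X₁ x
  have hx' : ((Tor (ModuleCat.{u} A) 0).map S.f).app N x' = 0 := by
    have := congr($(nat' S.f) x)
    simp only [ModuleCat.hom_comp, LinearMap.comp_apply] at this
    rw [this, hx, map_zero]
  have hex := TorRes.exact₁ Q S hS 0
  rw [ShortComplex.moduleCat_exact_iff] at hex
  obtain ⟨y, hy⟩ := hex x' hx'
  have hy' : TorRes.δ₁ Q S hS 0 y = x' := hy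
  have hnat := δ₁_naturality Q hS hS' φ 0
  have h1 : ((Tor (ModuleCat.{u} A) 0).map φ.τ₁).app N x' = 0 := by
    rw [← hy']
    have := congr($hnat y)
    simp only [ModuleCat.hom_comp, LinearMap.comp_apply] at this
    rw [this, h0]
    simp
  have hxx : x = e.hom.app S.X₁ x' := by
    have := congr($(e.inv_hom_id_app S.X₁) x)
    simp only [ModuleCat.hom_comp, LinearMap.comp_apply] at this
    exact this.symm
  rw [hxx]
  have := congr($(nat φ.τ₁) x')
  simp only [ModuleCat.hom_comp, LinearMap.comp_apply] at this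
  rw [← this, h1, map_zero]

namespace Core

open TensorProduct

variable {R : Type u} [CommRing R] {n m : ℕ} (k : Fin m → (Fin n → R))

/-- the transpose map -/
noncomputable def T : (Fin n → R) →ₗ[R] (Fin m → R) := Matrix.toLin' (Matrix.of k)

lemma T_apply (w : Fin n → R) (j : Fin m) : T k w j = ∑ i, k j i * w i := by
  simp [T, Matrix.toLin'_apply, Matrix.mulVec, dotProduct]

/-- the transpose module -/
abbrev NN : Type u := (Fin m → R) ⧸ LinearMap.range (T k)

/-- generators of `NN` -/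
noncomputable def gen (j : Fin m) : NN k := (LinearMap.range (T k)).mkQ (Pi.single j 1)

lemma span_gen : Submodule.span R (Set.range (gen k)) = ⊤ := by
  rw [eq_top_iff]
  rintro x -
  obtain ⟨v, rfl⟩ := Submodule.mkQ_surjective _ x
  have hv : v = ∑ j, v j • (Pi.single j 1 : Fin m → R) := by
    ext j
    simp [Finset.sum_apply, Pi.single_apply]
  rw [hv, map_sum]
  refine Submodule.sum_mem _ fun j _ => ?_
  rw [map_smul]
  exact Submodule.smul_mem _ _ (Submodule.subset_span ⟨j, rfl⟩)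

lemma sum_smul_gen (a : Fin m → R) :
    ∑ j, a j • gen k j = (LinearMap.range (T k)).mkQ a := by
  have hv : a = ∑ j, a j • (Pi.single j 1 : Fin m → R) := by
    ext j
    simp [Finset.sum_apply, Pi.single_apply]
  conv_rhs => rw [hv]
  rw [map_sum]
  refine Finset.sum_congr rfl fun j _ => ?_
  rw [map_smul]
  rfl

/-- the canonical element goes to zero in `F ⊗ NN` -/
lemma sum_tmul_eq_zero : ∑ j, (k j) ⊗ₜ[R] gen k j = 0 := by
  have h : ∑ j, gen k j ⊗ₜ[R] (k j) = 0 := by
    apply TensorProduct.sum_tmul_eq_zero_of_vanishesTrivially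
    refine ⟨n, fun j i => k j i, fun i => Pi.single i 1, ?_, ?_⟩
    · intro j
      ext i
      simp [Finset.sum_apply, Pi.single_apply]
    · intro i
      rw [sum_smul_gen, Submodule.mkQ_apply, Submodule.Quotient.mk_eq_zero]
      refine ⟨Pi.single i 1, ?_⟩
      ext j
      rw [T_apply]
      simp [Pi.single_apply]
  have := congrArg (TensorProduct.comm R (NN k) (Fin n → R)) h
  simpa using this

/-- extension lemma -/
theorem exists_extension {K' : Type*} [AddCommGroup K'] [Module R K'] (b : Fin m → K')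
    (h : ∑ j, b j ⊗ₜ[R] gen k j = (0 : K' ⊗[R] NN k)) :
    ∃ ψ : (Fin n → R) →ₗ[R] K', ∀ j, ψ (k j) = b j := by
  have h' : ∑ j, gen k j ⊗ₜ[R] b j = (0 : NN k ⊗[R] K') := by
    have := congrArg (TensorProduct.comm R K' (NN k)) h
    simpa using this
  obtain ⟨κ, a, y, h1, h2⟩ :=
    TensorProduct.vanishesTrivially_of_sum_tmul_eq_zero R (span_gen k) h'
  have h3 : ∀ l, ∃ w : Fin n → R, T k w = fun j => a j l := by
    intro l
    have := h2 l
    rw [sum_smul_gen, Submodule.mkQ_apply, Submodule.Quotient.mk_eq_zero] at this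
    exact this
  choose w hw using h3
  refine ⟨Fintype.linearCombination R (fun i => ∑ l, w l i • y l), fun j => ?_⟩
  rw [Fintype.linearCombination_apply, h1 j]
  have : ∀ l, a j l = ∑ i, k j i * w l i := fun l => by rw [← T_apply, hw l]
  simp_rw [this, Finset.smul_sum, Finset.sum_smul, smul_smul]
  rw [Finset.sum_comm]

end Core

/-- kernel sequence -/
noncomputable def kerSC {M₁ M₂ : Type u} [AddCommGroup M₁] [Module A M₁] [AddCommGroup M₂]
    [Module A M₂] (p : M₁ →ₗ[A] M₂) : ShortComplex (ModuleCat.{u} A) :=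
  ShortComplex.mk (ModuleCat.ofHom (LinearMap.ker p).subtype) (ModuleCat.ofHom p)
    (by ext x; exact x.2)

lemma kerSC_shortExact {M₁ M₂ : Type u} [AddCommGroup M₁] [Module A M₁] [AddCommGroup M₂]
    [Module A M₂] (p : M₁ →ₗ[A] M₂) (hp : Function.Surjective p) : (kerSC p).ShortExact := by
  refine ModuleCat.shortComplex_shortExact _ ?_ (LinearMap.ker p).injective_subtype hp
  intro x
  change p x = 0 ↔ x ∈ Set.range (LinearMap.ker p).subtype
  simp only [Submodule.coe_subtype, Subtype.range_coe_subtype]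
  rfl

open TensorProduct in
/-- **Factorization through a free module** of a map inducing zero on `Tor_1`. -/
theorem factor_through_free (M M' : Type u) [AddCommGroup M] [Module A M]
    [Module.FinitePresentation A M] [AddCommGroup M'] [Module A M'] (α : M →ₗ[A] M')
    (h : ∀ (N : Type u) [AddCommGroup N] [Module A N],
      ((Tor (ModuleCat.{u} A) 1).map (ModuleCat.ofHom α)).app (ModuleCat.of A N) = 0) :
    ∃ (ι : Type u) (g : M →ₗ[A] (ι →₀ A)) (h : (ι →₀ A) →ₗ[A] M'), α = h ∘ₗ g := by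
  obtain ⟨n, p, hp⟩ := Module.Finite.exists_fin' A M
  have hK : (LinearMap.ker p).FG := Module.FinitePresentation.fg_ker p hp
  obtain ⟨m, k, hk⟩ := Submodule.fg_iff_exists_fin_generating_family.mp hK
  have hkmem : ∀ j, k j ∈ LinearMap.ker p := fun j => hk ▸ Submodule.subset_span ⟨j, rfl⟩
  let p' : (M' →₀ A) →ₗ[A] M' := Finsupp.linearCombination A id
  have hp' : Function.Surjective p' := Finsupp.linearCombination_id_surjective A M'
  obtain ⟨φ, hφ⟩ := Module.projective_lifting_property p' (α ∘ₗ p) hp'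
  have hφ' : ∀ x, p' (φ x) = α (p x) := fun x => congr($hφ x)
  have hφK : ∀ x ∈ LinearMap.ker p, φ x ∈ LinearMap.ker p' := by
    intro x hx
    rw [LinearMap.mem_ker] at hx ⊢
    rw [hφ', hx, map_zero]
  let β : LinearMap.ker p →ₗ[A] LinearMap.ker p' := φ.restrict hφK
  let Φ : kerSC p ⟶ kerSC p' :=
    { τ₁ := ModuleCat.ofHom β
      τ₂ := ModuleCat.ofHom φ
      τ₃ := ModuleCat.ofHom α
      comm₁₂ := by
        ext x
        rfl
      comm₂₃ := by
        ext x
        exact hφ' x }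
  -- the canonical element
  let ξ : (LinearMap.ker p) ⊗[A] Core.NN k := ∑ j, (⟨k j, hkmem j⟩ : LinearMap.ker p) ⊗ₜ[A] Core.gen k j
  have hξ : ((kerSC p).f ▷ ModuleCat.of A (Core.NN k)) ξ = 0 := by
    change LinearMap.rTensor (Core.NN k) (LinearMap.ker p).subtype ξ = 0
    simp only [ξ, map_sum, LinearMap.rTensor_tmul, Submodule.subtype_apply]
    exact Core.sum_tmul_eq_zero k
  have hT := whisker_eq_zero (kerSC_shortExact p hp) (kerSC_shortExact p' hp') Φ
    (ModuleCat.of A (Core.NN k)) (h (Core.NN k)) ξ hξ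
  have hT' : ∑ j, (β ⟨k j, hkmem j⟩) ⊗ₜ[A] Core.gen k j = (0 : LinearMap.ker p' ⊗[A] Core.NN k) := by
    have : LinearMap.rTensor (Core.NN k) β ξ = 0 := hT
    simpa only [ξ, map_sum, LinearMap.rTensor_tmul] using this
  obtain ⟨ψ, hψ⟩ := Core.exists_extension k (fun j => β ⟨k j, hkmem j⟩) hT'
  -- the corrected lift
  let g₀ : (Fin n → A) →ₗ[A] (M' →₀ A) := φ - (LinearMap.ker p').subtype ∘ₗ ψ
  have hg₀ : LinearMap.ker p ≤ LinearMap.ker g₀ := by
    rw [← hk, Submodule.span_le]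
    rintro _ ⟨j, rfl⟩
    change g₀ (k j) = 0
    simp only [g₀, LinearMap.sub_apply, LinearMap.comp_apply, hψ j, Submodule.subtype_apply]
    exact sub_self _
  let e := LinearMap.quotKerEquivOfSurjective p hp
  let g : M →ₗ[A] (M' →₀ A) := ((LinearMap.ker p).liftQ g₀ hg₀) ∘ₗ e.symm.toLinearMap
  have hg : ∀ v, g (p v) = g₀ v := by
    intro v
    have : e.symm (p v) = Submodule.Quotient.mk v := by
      rw [LinearEquiv.symm_apply_eq]
      rfl
    simp only [g, LinearMap.comp_apply, LinearEquiv.coe_coe, this]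
    rfl
  refine ⟨M', g, p', ?_⟩
  ext x
  obtain ⟨v, rfl⟩ := hp x
  rw [LinearMap.comp_apply, hg]
  simp only [g₀, LinearMap.sub_apply, LinearMap.comp_apply, map_sub, Submodule.subtype_apply]
  rw [hφ']
  have : p' (ψ v : M' →₀ A) = 0 := (ψ v).2
  rw [this, sub_zero]

end Groth.Agent.Lib.helper6.TorFactor
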