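import Mathlib

/-!
# Homology commutes with exact colimits

If `colim : (J ⥤ C) ⥤ C` is exact (`HasExactColimitsOfShape J C`), then for a functor
`F : B ⥤ ShortComplex C` whose three components preserve colimits of shape `J`, the functor
`F ⋙ homologyFunctor` preserves colimits of shape `J`.
-/

set_option autoImplicit false

namespace Groth.Agent.Lib.helper6.HomologyColim

open CategoryTheory CategoryTheory.Limits

universe w w' v u v' u'

variable {C : Type u} [Category.{v} C] [Abelian C] {J : Type w} [Category.{w'} J]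
  [HasColimitsOfShape J C] [HasExactColimitsOfShape J C]
  {B : Type u'} [Category.{v'} B]

section

variable (K : J ⥤ B) [HasColimit K]

/-- `H ↦ colim (K ⋙ H)`. -/
noncomputable def Φ₁ : (B ⥤ C) ⥤ C := (Functor.whiskeringLeft J B C).obj K ⋙ colim

/-- `H ↦ H (colim K)`. -/
noncomputable def Φ₂ : (B ⥤ C) ⥤ C := (evaluation B C).obj (colimit K)

/-- The comparison `colim (K ⋙ H) ⟶ H (colim K)`, natural in `H`. -/
noncomputable def τ : Φ₁ (C := C) K ⟶ Φ₂ K where
  app H := colimit.post K H
  naturality H H' α := by
    apply colimit.hom_ext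
    intro j
    simp [Φ₁, Φ₂]

instance : PreservesFiniteLimits (Φ₁ (C := C) K) := by
  dsimp only [Φ₁]
  infer_instance

instance : PreservesFiniteColimits (Φ₁ (C := C) K) := by
  dsimp only [Φ₁]
  infer_instance

instance : PreservesFiniteLimits (Φ₂ (C := C) K) := by
  dsimp only [Φ₂]
  infer_instance

instance : PreservesFiniteColimits (Φ₂ (C := C) K) := by
  dsimp only [Φ₂]
  infer_instance

/-- If the comparison maps are isomorphisms on the three terms of a short complex of functors,
then it is an isomorphism on its homology. -/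
lemma isIso_post_homology (S : ShortComplex (B ⥤ C)) (h₁ : IsIso (colimit.post K S.X₁))
    (h₂ : IsIso (colimit.post K S.X₂)) (h₃ : IsIso (colimit.post K S.X₃)) :
    IsIso (colimit.post K S.homology) := by
  have h := NatTrans.app_homology (τ (C := C) K) S
  have i₁ : IsIso (S.mapNatTrans (τ (C := C) K)).τ₁ := h₁
  have i₂ : IsIso (S.mapNatTrans (τ (C := C) K)).τ₂ := h₂
  have i₃ : IsIso (S.mapNatTrans (τ (C := C) K)).τ₃ := h₃
  have : IsIso (S.mapNatTrans (τ (C := C) K)) := ShortComplex.isIso_of_isIso _
  change IsIso ((τ (C := C) K).app S.homology)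
  rw [h]
  infer_instance

end

/-- Homology in a functor category is computed pointwise. -/
noncomputable def homologyIsoPointwise (S : ShortComplex (B ⥤ C)) :
    S.homology ≅ (ShortComplex.FunctorEquivalence.functor B C).obj S ⋙
      ShortComplex.homologyFunctor C :=
  NatIso.ofComponents (fun b => (S.mapHomologyIso ((evaluation B C).obj b)).symm) (by
    intro b b' f
    have h := NatTrans.app_homology ((evaluation B C).map f) S
    dsimp at h ⊢
    rw [h]
    simp only [Category.assoc]
    erw [Iso.hom_inv_id, Category.comp_id]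
    rfl)

/-- **Homology commutes with exact colimits.** -/
theorem preservesColimit_comp_homologyFunctor (F : B ⥤ ShortComplex C) (K : J ⥤ B) [HasColimit K]
    [PreservesColimit K (F ⋙ ShortComplex.π₁)] [PreservesColimit K (F ⋙ ShortComplex.π₂)]
    [PreservesColimit K (F ⋙ ShortComplex.π₃)] :
    PreservesColimit K (F ⋙ ShortComplex.homologyFunctor C) := by
  let S := (ShortComplex.FunctorEquivalence.inverse B C).obj F
  have h₁ : IsIso (colimit.post K S.X₁) := by
    change IsIso (colimit.post K (F ⋙ ShortComplex.π₁)); infer_instance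
  have h₂ : IsIso (colimit.post K S.X₂) := by
    change IsIso (colimit.post K (F ⋙ ShortComplex.π₂)); infer_instance
  have h₃ : IsIso (colimit.post K S.X₃) := by
    change IsIso (colimit.post K (F ⋙ ShortComplex.π₃)); infer_instance
  have := isIso_post_homology K S h₁ h₂ h₃
  have hp : PreservesColimit K S.homology := preservesColimit_of_isIso_post _ _
  have e : S.homology ≅ F ⋙ ShortComplex.homologyFunctor C :=
    homologyIsoPointwise S ≪≫
      Functor.isoWhiskerRight ((ShortComplex.FunctorEquivalence.counitIso B C).app F) _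
  exact preservesColimit_of_natIso K e

theorem preservesColimitsOfShape_comp_homologyFunctor [HasColimitsOfShape J B]
    (F : B ⥤ ShortComplex C)
    [PreservesColimitsOfShape J (F ⋙ ShortComplex.π₁)]
    [PreservesColimitsOfShape J (F ⋙ ShortComplex.π₂)]
    [PreservesColimitsOfShape J (F ⋙ ShortComplex.π₃)] :
    PreservesColimitsOfShape J (F ⋙ ShortComplex.homologyFunctor C) :=
  ⟨fun {K} => preservesColimit_comp_homologyFunctor F K⟩

section Kernel

/-- A morphism of exact short complexes with monic `f`s which is an iso on `X₂` and a mono on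
`X₃` is an iso on `X₁`. -/
lemma isIso_τ₁_of_exact {D : Type*} [Category D] [Abelian D] {S₁ S₂ : ShortComplex D}
    (φ : S₁ ⟶ S₂) (h₁ : S₁.Exact) [Mono S₁.f] [Mono S₂.f] [IsIso φ.τ₂] [Mono φ.τ₃] :
    IsIso φ.τ₁ := by
  have hm : Mono (φ.τ₁ ≫ S₂.f) := by
    rw [φ.comm₁₂]
    infer_instance
  have : Mono φ.τ₁ := mono_of_mono φ.τ₁ S₂.f
  have hk : (S₂.f ≫ inv φ.τ₂) ≫ S₁.g = 0 := by
    rw [← cancel_mono φ.τ₃, Category.assoc, Category.assoc, ← φ.comm₂₃, IsIso.inv_hom_id_assoc,
      S₂.zero, zero_comp]
  let s := h₁.lift (S₂.f ≫ inv φ.τ₂) hk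
  have hs : s ≫ φ.τ₁ = 𝟙 _ := by
    rw [← cancel_mono S₂.f, Category.assoc, φ.comm₁₂, ← Category.assoc, h₁.lift_f,
      Category.assoc, IsIso.inv_hom_id, Category.comp_id, Category.id_comp]
  have : IsSplitEpi φ.τ₁ := ⟨⟨s, hs⟩⟩
  exact isIso_of_mono_of_isSplitEpi φ.τ₁

variable (K : J ⥤ B) [HasColimit K]

/-- If `0 ⟶ Z ⟶ F ⟶ G` is pointwise exact and `F`, `G` preserve the colimit of `K`, so does `Z`. -/
theorem preservesColimit_of_pointwise_kernel {Z F G : B ⥤ C} (ι : Z ⟶ F) (α : F ⟶ G)
    (w : ι ≫ α = 0) (hmono : ∀ b, Mono (ι.app b))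
    (hex : ∀ b, (ShortComplex.mk (ι.app b) (α.app b)
      (by rw [← NatTrans.comp_app, w]; rfl)).Exact)
    [PreservesColimit K F] [PreservesColimit K G] : PreservesColimit K Z := by
  let S : ShortComplex (B ⥤ C) := ShortComplex.mk ι α w
  have hSm : Mono S.f := NatTrans.mono_of_mono_app ι
  have hSex : S.Exact := by
    rw [ShortComplex.exact_iff_isZero_homology]
    refine IsZero.of_iso ?_ (homologyIsoPointwise S)
    apply Functor.isZero
    intro b
    exact (ShortComplex.exact_iff_isZero_homology _).1 (hex b)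
  let φ : S.map (Φ₁ K) ⟶ S.map (Φ₂ K) := S.mapNatTrans (τ (C := C) K)
  have e₁ : (S.map (Φ₁ (C := C) K)).Exact := hSex.map _
  have m₁ : Mono (S.map (Φ₁ (C := C) K)).f := by
    change Mono ((Φ₁ (C := C) K).map S.f); infer_instance
  have m₂ : Mono (S.map (Φ₂ (C := C) K)).f := by
    change Mono ((Φ₂ (C := C) K).map S.f); infer_instance
  have i₂ : IsIso φ.τ₂ := by
    change IsIso (colimit.post K F); infer_instance
  have i₃ : IsIso φ.τ₃ := by
    change IsIso (colimit.post K G); infer_instance
  have i₁ : IsIso φ.τ₁ := isIso_τ₁_of_exact φ e₁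
  have : IsIso (colimit.post K Z) := i₁
  exact preservesColimit_of_isIso_post _ _

end Kernel

/-- Version for homological complexes. -/
theorem preservesColimitsOfShape_comp_homologyFunctor' [HasColimitsOfShape J B]
    {ι : Type*} (c : ComplexShape ι) (T : B ⥤ HomologicalComplex C c)
    [∀ i, PreservesColimitsOfShape J (T ⋙ HomologicalComplex.eval C c i)] (i : ι) :
    PreservesColimitsOfShape J (T ⋙ HomologicalComplex.homologyFunctor C c i) := by
  have h₁ : PreservesColimitsOfShape J
      ((T ⋙ HomologicalComplex.shortComplexFunctor C c i) ⋙ ShortComplex.π₁) :=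
    inferInstanceAs (PreservesColimitsOfShape J (T ⋙ HomologicalComplex.eval C c (c.prev i)))
  have h₂ : PreservesColimitsOfShape J
      ((T ⋙ HomologicalComplex.shortComplexFunctor C c i) ⋙ ShortComplex.π₂) :=
    inferInstanceAs (PreservesColimitsOfShape J (T ⋙ HomologicalComplex.eval C c i))
  have h₃ : PreservesColimitsOfShape J
      ((T ⋙ HomologicalComplex.shortComplexFunctor C c i) ⋙ ShortComplex.π₃) :=
    inferInstanceAs (PreservesColimitsOfShape J (T ⋙ HomologicalComplex.eval C c (c.next i)))
  have h := preservesColimitsOfShape_comp_homologyFunctor (J := J)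
    (T ⋙ HomologicalComplex.shortComplexFunctor C c i)
  have h' : PreservesColimitsOfShape J
      (T ⋙ HomologicalComplex.shortComplexFunctor C c i ⋙ ShortComplex.homologyFunctor C) := h
  exact preservesColimitsOfShape_of_natIso
    (Functor.isoWhiskerLeft T (HomologicalComplex.homologyFunctorIso C c i).symm)

end Groth.Agent.Lib.helper6.HomologyColim
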