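import Mathlib
import Groth.Agent.Lib.helper6.TorRes
import Groth.Agent.Lib.helper6.TorBal
import Groth.Agent.Lib.helper6.HomologyColim

/-!
# Naturality (in the second variable) of the connecting morphism of the first-variable LES of `Tor`
and `N ↦ Tor_p(M, N)` preserves filtered colimits.
-/

set_option autoImplicit false

namespace Groth.Agent.Lib.helper6.TorNat

open CategoryTheory CategoryTheory.Limits MonoidalCategory
open Groth.Agent.Lib.helper6 Groth.Agent.Lib.helper6.TorRes

universe u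

variable {A : Type u} [CommRing A]

section

variable {N N' : ModuleCat.{u} A} (Q : ProjectiveResolution N) (Q' : ProjectiveResolution N')
  (g : N ⟶ N') (φ : Q.complex ⟶ Q'.complex)
  (S : ShortComplex (ModuleCat.{u} A)) (hS : S.ShortExact)

/-- The morphism of short complexes of complexes `S ⊗ Q ⟶ S ⊗ Q'` induced by `φ`. -/
noncomputable def SCmap : SC S Q.complex ⟶ SC S Q'.complex where
  τ₁ := ((tensorLeft S.X₁).mapHomologicalComplex _).map φ
  τ₂ := ((tensorLeft S.X₂).mapHomologicalComplex _).map φ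
  τ₃ := ((tensorLeft S.X₃).mapHomologicalComplex _).map φ
  comm₁₂ := by
    apply HomologicalComplex.hom_ext
    intro k
    exact (whisker_exchange S.f (φ.f k))
  comm₂₃ := by
    apply HomologicalComplex.hom_ext
    intro k
    exact (whisker_exchange S.g (φ.f k))

lemma j₁_nat₂ (hφ : φ.f 0 ≫ Q'.π.f 0 = Q.π.f 0 ≫ g) (n : ℕ) :
    ((Tor (ModuleCat.{u} A) n).obj S.X₁).map g ≫ (j₁ Q' S n).hom =
      (j₁ Q S n).hom ≫ HomologicalComplex.homologyMap (SCmap Q Q' φ S).τ₁ n :=
  torIso_naturality₂ Q Q' g φ hφ S.X₁ n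

lemma j₃_nat₂ (hφ : φ.f 0 ≫ Q'.π.f 0 = Q.π.f 0 ≫ g) (n : ℕ) :
    ((Tor (ModuleCat.{u} A) n).obj S.X₃).map g ≫ (j₃ Q' S n).hom =
      (j₃ Q S n).hom ≫ HomologicalComplex.homologyMap (SCmap Q Q' φ S).τ₃ n :=
  torIso_naturality₂ Q Q' g φ hφ S.X₃ n

lemma δ₁_naturality (hφ : φ.f 0 ≫ Q'.π.f 0 = Q.π.f 0 ≫ g) (n : ℕ) :
    ((Tor (ModuleCat.{u} A) (n + 1)).obj S.X₃).map g ≫ δ₁ Q' S hS n =
      δ₁ Q S hS n ≫ ((Tor (ModuleCat.{u} A) n).obj S.X₁).map g := by
  have h3 := j₃_nat₂ Q Q' g φ S hφ (n + 1)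
  have h1 := j₁_nat₂ Q Q' g φ S hφ n
  have hδ := HomologicalComplex.HomologySequence.δ_naturality (SCmap Q Q' φ S)
    (SC_shortExact' Q S hS) (SC_shortExact' Q' S hS) (n + 1) n rfl
  have h1' : (j₁ Q S n).inv ≫ ((Tor (ModuleCat.{u} A) n).obj S.X₁).map g =
      HomologicalComplex.homologyMap (SCmap Q Q' φ S).τ₁ n ≫ (j₁ Q' S n).inv := by
    rw [Iso.inv_comp_eq, ← Category.assoc, ← h1, Category.assoc, Iso.hom_inv_id, Category.comp_id]
  unfold δ₁
  rw [← Category.assoc, h3, Category.assoc, Category.assoc, Category.assoc, h1',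
    ← Category.assoc (HomologicalComplex.homologyMap (SCmap Q Q' φ S).τ₃ (n + 1)), ← hδ,
    Category.assoc]

end

/-- The connecting morphism as a natural transformation in the second variable. -/
noncomputable def δnat (S : ShortComplex (ModuleCat.{u} A)) (hS : S.ShortExact) (n : ℕ) :
    (Tor (ModuleCat.{u} A) (n + 1)).obj S.X₃ ⟶ (Tor (ModuleCat.{u} A) n).obj S.X₁ where
  app N := δ₁ (ProjectiveResolution.of N) S hS n
  naturality N N' g :=
    δ₁_naturality (ProjectiveResolution.of N) (ProjectiveResolution.of N') g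
      (ProjectiveResolution.lift g _ _) S hS (ProjectiveResolution.lift_commutes_zero g _ _) n

/-- `N ↦ Tor_p(M, N)` preserves filtered colimits. -/
theorem preservesColimitsOfShape_tor (J : Type u) [SmallCategory J] [IsFiltered J] :
    ∀ (p : ℕ) (M : ModuleCat.{u} A),
      PreservesColimitsOfShape J ((Tor (ModuleCat.{u} A) p).obj M) := by
  intro p
  induction p with
  | zero =>
    intro M
    exact preservesColimitsOfShape_of_natIso (TorBal.torZeroIso M).symm
  | succ p ih =>
    intro M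
    let S := DeltaCompare.pres M
    have hS : S.ShortExact := DeltaCompare.pres_shortExact M
    let ι : (Tor (ModuleCat.{u} A) (p + 1)).obj M ⟶ (Tor (ModuleCat.{u} A) p).obj S.X₁ :=
      δnat S hS p
    let α : (Tor (ModuleCat.{u} A) p).obj S.X₁ ⟶ (Tor (ModuleCat.{u} A) p).obj S.X₂ :=
      (Tor (ModuleCat.{u} A) p).map S.f
    have w : ι ≫ α = 0 := by
      ext N : 2
      exact δ_map_f (ProjectiveResolution.of N) S hS p
    have hmono : ∀ N, Mono (ι.app N) := by
      intro N
      have hz : IsZero (((Tor (ModuleCat.{u} A) (p + 1)).obj S.X₂).obj N) :=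
        TorBal.isZero_tor_succ_of_flat_left _ _ p
      exact (exact₃ (ProjectiveResolution.of N) S hS p).mono_g (hz.eq_of_src _ _)
    have hex : ∀ N, (ShortComplex.mk (ι.app N) (α.app N)
        (by rw [← NatTrans.comp_app, w]; rfl)).Exact :=
      fun N => exact₁ (ProjectiveResolution.of N) S hS p
    have := ih S.X₁
    have := ih S.X₂
    exact ⟨fun {K} => HomologyColim.preservesColimit_of_pointwise_kernel K ι α w hmono hex⟩

end Groth.Agent.Lib.helper6.TorNat
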