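import Mathlib
import Groth.Agent.Lib.helper6.TorNat
import Groth.Agent.Lib.helper6.TorFactor

/-!
# Artin–Rees and the maps `Tor_1(M, R/I^m) → Tor_1(M, R/I^n)`
-/

set_option autoImplicit false
set_option linter.style.haveILetI false
set_option linter.unusedSectionVars false

namespace Groth.Agent.Lib.helper6.ARTor

open CategoryTheory CategoryTheory.Limits MonoidalCategory TensorProduct

universe u

section mod

variable {R : Type u} [CommRing R]

lemma exists_tmul_one (I : Ideal R) {K : Type*} [AddCommGroup K] [Module R K]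
    (z : K ⊗[R] (R ⧸ I)) : ∃ k : K, z = k ⊗ₜ[R] (1 : R ⧸ I) := by
  have hs : Function.Surjective (LinearMap.lTensor K (Submodule.mkQ I)) :=
    LinearMap.lTensor_surjective K (Submodule.mkQ_surjective I)
  obtain ⟨w, rfl⟩ := hs z
  refine ⟨TensorProduct.rid R K w, ?_⟩
  obtain ⟨k, rfl⟩ := (TensorProduct.rid R K).symm.surjective w
  simp only [TensorProduct.rid_symm_apply, LinearMap.lTensor_tmul, TensorProduct.rid_tmul,
    one_smul]
  rfl

lemma tmul_one_eq_zero_iff (I : Ideal R) {F : Type*} [AddCommGroup F] [Module R F] (x : F) :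
    x ⊗ₜ[R] (1 : R ⧸ I) = 0 ↔ x ∈ (I • ⊤ : Submodule R F) := by
  rw [← (TensorProduct.tensorQuotEquivQuotSMul F I).map_eq_zero_iff]
  have : (TensorProduct.tensorQuotEquivQuotSMul F I) (x ⊗ₜ[R] (1 : R ⧸ I)) =
      Submodule.Quotient.mk x := by
    have := TensorProduct.tensorQuotEquivQuotSMul_tmul_mk (M := F) I x 1
    simpa using this
  rw [this, Submodule.Quotient.mk_eq_zero]

theorem artinRees_tensor [IsNoetherianRing R] (I : Ideal R)
    {F : Type*} [AddCommGroup F] [Module R F] [Module.Finite R F] (K : Submodule R F) (n : ℕ) :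
    ∃ m, n ≤ m ∧ ∀ h : I ^ m ≤ I ^ n, ∀ z : K ⊗[R] (R ⧸ I ^ m),
      (LinearMap.rTensor (R ⧸ I ^ m) K.subtype) z = 0 →
      (LinearMap.lTensor K (Submodule.factor h)) z = 0 := by
  obtain ⟨c, hc⟩ := Ideal.exists_pow_inf_eq_pow_smul I K
  refine ⟨n + c, Nat.le_add_right n c, fun h z hz => ?_⟩
  obtain ⟨k, rfl⟩ := exists_tmul_one (I ^ (n + c)) z
  rw [LinearMap.rTensor_tmul, tmul_one_eq_zero_iff] at hz
  have h1 : (k : F) ∈ (I ^ (n + c) • ⊤ ⊓ K : Submodule R F) := ⟨hz, k.2⟩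
  rw [hc (n + c) (Nat.le_add_left c n), Nat.add_sub_cancel] at h1
  have h2 : (k : F) ∈ (I ^ n • K : Submodule R F) :=
    Submodule.smul_mono le_rfl inf_le_right h1
  have h3 : k ∈ (I ^ n • ⊤ : Submodule R K) := by
    have : (I ^ n • K : Submodule R F) = Submodule.map K.subtype (I ^ n • ⊤) := by
      rw [Submodule.map_smul'', Submodule.map_subtype_top]
    rw [this] at h2
    obtain ⟨k', hk', hk''⟩ := h2
    have : k' = k := Subtype.ext hk''
    rwa [← this]
  rw [LinearMap.lTensor_tmul]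
  have : (Submodule.factor h) (1 : R ⧸ I ^ (n + c)) = (1 : R ⧸ I ^ n) := rfl
  rw [this, tmul_one_eq_zero_iff]
  exact h3

end mod

section cat

variable {R : Type u} [CommRing R]

/-- A criterion for `Tor_1(X₃, g) = 0` from a flat presentation `0 → X₁ → X₂ → X₃ → 0`. -/
theorem tor_one_map_eq_zero_of (S : ShortComplex (ModuleCat.{u} R)) (hS : S.ShortExact)
    [Module.Flat R S.X₂] {N N' : ModuleCat.{u} R} (g : N ⟶ N')
    (h : ∀ z : (S.X₁ ⊗ N : ModuleCat.{u} R), (S.f ▷ N) z = 0 → (S.X₁ ◁ g) z = 0) :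
    ((Tor (ModuleCat.{u} R) 1).obj S.X₃).map g = 0 := by
  let ι := TorNat.δnat S hS 0
  let e := TorBal.torZeroIso S.X₁
  have hmono : Mono (ι.app N') := by
    have hz : IsZero (((Tor (ModuleCat.{u} R) (0 + 1)).obj S.X₂).obj N') :=
      TorBal.isZero_tor_succ_of_flat_left _ _ 0
    exact (TorRes.exact₃ (ProjectiveResolution.of N') S hS 0).mono_g (hz.eq_of_src _ _)
  have hnat : ((Tor (ModuleCat.{u} R) 1).obj S.X₃).map g ≫ ι.app N' =
      ι.app N ≫ ((Tor (ModuleCat.{u} R) 0).obj S.X₁).map g := ι.naturality g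
  have henat : ((Tor (ModuleCat.{u} R) 0).obj S.X₁).map g ≫ e.hom.app N' =
      e.hom.app N ≫ (S.X₁ ◁ g) := e.hom.naturality g
  have hflip : ((Tor (ModuleCat.{u} R) 0).map S.f).app N ≫ (TorBal.torZeroIso S.X₂).hom.app N =
      e.hom.app N ≫ (S.f ▷ N) := (TorBal.torZeroFlipIso N).hom.naturality S.f
  have hδf : ι.app N ≫ ((Tor (ModuleCat.{u} R) 0).map S.f).app N = 0 :=
    TorRes.δ_map_f (ProjectiveResolution.of N) S hS 0
  have hk : (ι.app N ≫ e.hom.app N) ≫ (S.f ▷ N) = 0 := by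
    rw [Category.assoc, ← hflip, ← Category.assoc, hδf, zero_comp]
  have hk2 : (ι.app N ≫ e.hom.app N) ≫ (S.X₁ ◁ g) = 0 := by
    ext x
    have h1 : (S.f ▷ N) ((ι.app N ≫ e.hom.app N) x) = 0 :=
      LinearMap.congr_fun (congrArg ModuleCat.Hom.hom hk) x
    exact h _ h1
  have henat' : ((Tor (ModuleCat.{u} R) 0).obj S.X₁).map g =
      (e.hom.app N ≫ (S.X₁ ◁ g)) ≫ e.inv.app N' := by
    rw [← henat, Category.assoc, Iso.hom_inv_id_app, Category.comp_id]
  rw [← cancel_mono (ι.app N'), zero_comp, hnat, henat', ← Category.assoc, ← Category.assoc, hk2,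
    zero_comp]

/-- **Artin–Rees for `Tor_1`**. -/
theorem tor_one_map_eq_zero [IsNoetherianRing R] (I : Ideal R)
    (M : Type u) [AddCommGroup M] [Module R M] [Module.Finite R M] (n : ℕ) :
    ∃ m : ℕ, n ≤ m ∧ ∀ h : I ^ m ≤ I ^ n,
      ((Tor (ModuleCat.{u} R) 1).obj (ModuleCat.of R M)).map
        (ModuleCat.ofHom (Submodule.factor h)) = 0 := by
  obtain ⟨r, p, hp⟩ := Module.Finite.exists_fin' R M
  obtain ⟨m, hm, H⟩ := artinRees_tensor I (LinearMap.ker p) n
  refine ⟨m, hm, fun h => ?_⟩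
  have : Module.Flat R (TorFactor.kerSC p).X₂ :=
    inferInstanceAs (Module.Flat R (Fin r → R))
  exact tor_one_map_eq_zero_of (TorFactor.kerSC p) (TorFactor.kerSC_shortExact p hp)
    (ModuleCat.ofHom (Submodule.factor h)) (fun z hz => H h z hz)

end cat

end Groth.Agent.Lib.helper6.ARTor
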