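import Mathlib
import Groth.Prelude.Def_KRR
import Groth.Agent.Lib.helper5.Adams

/-! Splitting principle tools for λ-rings with positive structure (helper6):
Fin-indexed splittings, `λ^k` of a sum of line elements as an elementary symmetric function,
`λ_{-1}` and Bott's class on split elements. -/

namespace Groth.Agent.Lib.helper6.Split

open LambdaRing Groth.Agent.H5.Adams Groth.Agent.H5.Lambda

universe u

variable {K : Type u} [CommRing K] [LambdaOps K]

omit [LambdaOps K] in
theorem esymm_cons (a : K) (s : Multiset K) (n : ℕ) :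
    (a ::ₘ s).esymm (n + 1) = s.esymm (n + 1) + a * s.esymm n := by
  rw [Multiset.esymm, Multiset.powersetCard_cons, Multiset.map_add, Multiset.sum_add,
    Multiset.map_map, Multiset.esymm, Multiset.esymm, ← Multiset.sum_map_mul_left]
  congr 2
  refine Multiset.map_congr rfl fun t _ => ?_
  simp

/-- `λ^i` of a sum of line elements is the `i`-th elementary symmetric function. -/
theorem lam_sum_lines (P : PosStructure K) (s : Multiset K) (hs : ∀ u ∈ s, P.IsLine u) (i : ℕ) :
    LambdaOps.lam i s.sum = s.esymm i := by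
  induction s using Multiset.induction_on generalizing i with
  | empty =>
    rw [Multiset.sum_zero, lam_zero_elt]
    rcases i with _ | i
    · simp [Multiset.esymm]
    · simp [Multiset.esymm]
  | cons u t ih =>
    have hu : P.IsLine u := hs u (Multiset.mem_cons_self u t)
    have ht : ∀ v ∈ t, P.IsLine v := fun v hv => hs v (Multiset.mem_cons_of_mem hv)
    rw [Multiset.sum_cons]
    rcases i with _ | i
    · simp [LambdaOps.lam_zero, Multiset.esymm]
    · rw [lam_line_add P hu, ih ht, ih ht, esymm_cons]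

/-- Fin-indexed form of the splitting principle: a positive element `e` becomes, in an extension
again having the splitting property, a sum of `ε(e)` line elements. -/
theorem exists_split_fin (P : PosStructure K) (hK : HasSplitting K P) (e : K) (he : e ∈ P.pos) :
    ∃ (L' : PosLambdaRing.{u}) (_ : HasSplitting L'.carrier L'.posStr) (f : K →+* L'.carrier),
      IsExtension P L'.posStr f ∧ ∃ u : Fin (P.aug e).toNat → L'.carrier,
        (∀ i, L'.posStr.IsLine (u i)) ∧ ∑ i, u i = f e := by
  obtain ⟨C, hKC, hC⟩ := hK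
  obtain ⟨L', hL', f, hf, s, hs, hsum⟩ := hC ⟨K, P⟩ hKC e he
  refine ⟨L', ⟨C, hL', hC⟩, f, hf, ?_⟩
  have hcard : (P.aug e).toNat = Multiset.card s := by
    have h1 := aug_sum_lines L'.posStr s hs
    rw [hsum, hf.aug_comp] at h1
    change P.aug e = _ at h1
    rw [h1]
    simp
  obtain ⟨l, rfl⟩ := Quot.exists_rep s
  have hlen : l.length = (P.aug e).toNat := by
    rw [hcard]; rfl
  refine ⟨fun i => l.get (Fin.cast hlen.symm i), fun i => hs _ ?_, ?_⟩
  · exact Multiset.mem_coe.mpr (List.get_mem _ _)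
  · rw [← hsum]
    change _ = Multiset.sum (l : Multiset L'.carrier)
    rw [Multiset.sum_coe]
    rw [← List.sum_ofFn]
    congr 1
    apply List.ext_get
    · simp [hlen]
    · intro n h1 h2
      simp

/-- `λ^k` of a Fin-indexed sum of line elements. -/
theorem lam_sum_fin (P : PosStructure K) {m : ℕ} (u : Fin m → K) (hu : ∀ i, P.IsLine (u i))
    (k : ℕ) :
    LambdaOps.lam k (∑ i, u i) = MvPolynomial.aeval u (MvPolynomial.esymm (Fin m) ℤ k) := by
  rw [MvPolynomial.aeval_esymm_eq_multiset_esymm, ← lam_sum_lines P _ ?_ k]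
  · rfl
  · intro v hv
    obtain ⟨i, -, rfl⟩ := Multiset.mem_map.mp hv
    exact hu i

theorem aug_sum_fin (P : PosStructure K) {m : ℕ} (u : Fin m → K) (hu : ∀ i, P.IsLine (u i)) :
    P.aug (∑ i, u i) = m := by
  rw [map_sum, Finset.sum_congr rfl fun i _ => (hu i).2]
  simp

omit [LambdaOps K] in
theorem sum_neg_one_pow_esymm (s : Multiset K) :
    ∑ j ∈ Finset.range (Multiset.card s + 1), (-1 : K) ^ j * s.esymm j =
      (s.map fun t => 1 - t).prod := by
  have h := congrArg (Polynomial.eval 1) (Multiset.prod_X_sub_X_eq_sum_esymm s)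
  rw [Polynomial.eval_multiset_prod, Multiset.map_map, Polynomial.eval_finsetSum] at h
  simp only [Function.comp_def, Polynomial.eval_sub, Polynomial.eval_X, Polynomial.eval_C,
    Polynomial.eval_mul, Polynomial.eval_pow, one_pow, mul_one, Polynomial.eval_neg,
    Polynomial.eval_one] at h
  exact h.symm

/-- `λ_{-1}` of a Fin-indexed sum of line elements. -/
theorem lamAlt_sum_fin (P : PosStructure K) {m : ℕ} (u : Fin m → K) (hu : ∀ i, P.IsLine (u i)) :
    KRR.lamAlt P (∑ i, u i) = ∏ i, (1 - u i) := by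
  have hs : ∀ v ∈ (Finset.univ.val.map u), P.IsLine v := by
    intro v hv
    obtain ⟨i, -, rfl⟩ := Multiset.mem_map.mp hv
    exact hu i
  have hcard : Multiset.card (Finset.univ.val.map u) = m := by simp
  rw [KRR.lamAlt, aug_sum_fin P u hu, Int.toNat_natCast]
  have h := sum_neg_one_pow_esymm (Finset.univ.val.map u)
  rw [hcard, Multiset.map_map] at h
  rw [Finset.prod, show (fun i => 1 - u i) = (fun t => 1 - t) ∘ u from rfl, ← h]
  refine Finset.sum_congr rfl fun i _ => ?_
  rw [← lam_sum_lines P _ hs i]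
  rfl

theorem map_lamAlt {K' : Type u} [CommRing K'] [LambdaOps K'] {P : PosStructure K}
    {P' : PosStructure K'} {f : K →+* K'} (hf : IsExtension P P' f) (x : K) :
    f (KRR.lamAlt P x) = KRR.lamAlt P' (f x) := by
  rw [KRR.lamAlt, KRR.lamAlt, hf.aug_comp, map_sum]
  refine Finset.sum_congr rfl fun i _ => ?_
  rw [map_mul, map_pow, map_neg, map_one, hf.isLambdaHom]

theorem bott_eq (P : PosStructure K) (j : ℕ) (e : K) (m : ℕ) (hm : (P.aug e).toNat = m) :
    KRR.bott P j e =
      MvPolynomial.aeval (fun i : Fin m => LambdaOps.lam (i.1 + 1) e) (KRR.bottPoly j m) := by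
  subst hm
  rfl

theorem map_bott {K' : Type u} [CommRing K'] [LambdaOps K'] {P : PosStructure K}
    {P' : PosStructure K'} {f : K →+* K'} (hf : IsExtension P P' f) (j : ℕ) (x : K) :
    f (KRR.bott P j x) = KRR.bott P' j (f x) := by
  rw [bott_eq P j x _ rfl, bott_eq P' j (f x) (P.aug x).toNat (by rw [hf.aug_comp])]
  have := MvPolynomial.comp_aeval_apply (R := ℤ)
    (fun i : Fin (P.aug x).toNat => LambdaOps.lam (i.1 + 1) x) f.toIntAlgHom
    (KRR.bottPoly j (P.aug x).toNat)
  simp only [RingHom.toIntAlgHom_apply] at this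
  rw [this]
  congr 2
  funext i
  exact hf.isLambdaHom _ _

theorem aeval_esymm_bottPoly (j m : ℕ) :
    MvPolynomial.aeval (fun i : Fin m => MvPolynomial.esymm (Fin m) ℤ (i.1 + 1))
      (KRR.bottPoly j m) = KRR.bottSym j m := by
  have h := (MvPolynomial.esymmAlgEquiv (Fin m) ℤ (Fintype.card_fin m)).apply_symm_apply
    ⟨KRR.bottSym j m, KRR.bottSym_isSymmetric j m⟩
  have h2 := congrArg Subtype.val h
  rw [show (MvPolynomial.esymmAlgEquiv (Fin m) ℤ (Fintype.card_fin m))
      ((MvPolynomial.esymmAlgEquiv (Fin m) ℤ (Fintype.card_fin m)).symm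
        ⟨KRR.bottSym j m, KRR.bottSym_isSymmetric j m⟩) =
      MvPolynomial.esymmAlgHom (Fin m) ℤ m (KRR.bottPoly j m) from rfl,
    MvPolynomial.esymmAlgHom_apply] at h2
  exact h2

/-- Bott's class of a Fin-indexed sum of line elements. -/
theorem bott_sum_fin (P : PosStructure K) {m : ℕ} (u : Fin m → K) (hu : ∀ i, P.IsLine (u i))
    (j : ℕ) :
    KRR.bott P j (∑ i, u i) = ∏ i, ∑ k ∈ Finset.range j, (u i) ^ k := by
  rw [bott_eq P j _ m (by rw [aug_sum_fin P u hu, Int.toNat_natCast])]
  have h1 : (fun i : Fin m => LambdaOps.lam (i.1 + 1) (∑ i, u i)) =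
      fun i : Fin m => MvPolynomial.aeval u (MvPolynomial.esymm (Fin m) ℤ (i.1 + 1)) := by
    funext i
    exact lam_sum_fin P u hu _
  rw [h1, ← MvPolynomial.aeval_bind₁]
  have h2 : MvPolynomial.bind₁ (fun i : Fin m => MvPolynomial.esymm (Fin m) ℤ (i.1 + 1))
      (KRR.bottPoly j m) = KRR.bottSym j m := aeval_esymm_bottPoly j m
  rw [h2, KRR.bottSym]
  simp

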