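import Mathlib

/-! Weighted form of the fundamental theorem of symmetric polynomials (helper6):
if `p(e_1, …, e_m)` lies in the `d`-th power of the ideal of the variables, then every monomial of
`p` has weight (`X_i` of weight `i + 1`) at least `d`. -/

namespace Groth.Agent.Lib.helper6.SymmWeight

open MvPolynomial

theorem esymm_isHomogeneous (σ R : Type*) [CommSemiring R] [Fintype σ] (n : ℕ) :
    (esymm σ R n).IsHomogeneous n := by
  rw [esymm]
  refine IsHomogeneous.sum _ _ _ fun t ht => ?_
  have := IsHomogeneous.prod t (fun i => (X i : MvPolynomial σ R)) (fun _ => 1)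
    (fun i _ => isHomogeneous_X R i)
  simpa [(Finset.mem_powersetCard.mp ht).2] using this

variable {m : ℕ}

/-- The weighted degree `Σ (i + 1) t_i` of an exponent vector. -/
def wdeg (t : Fin m →₀ ℕ) : ℕ := ∑ i, (i.1 + 1) * t i

/-- Substitution of the elementary symmetric polynomials. -/
noncomputable abbrev E (m : ℕ) : MvPolynomial (Fin m) ℤ →ₐ[ℤ] MvPolynomial (Fin m) ℤ :=
  aeval (fun i : Fin m => esymm (Fin m) ℤ (i.1 + 1))

theorem E_monomial_isHomogeneous (t : Fin m →₀ ℕ) (c : ℤ) :
    (E m (monomial t c)).IsHomogeneous (wdeg t) := by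
  rw [E, aeval_monomial]
  have h1 := IsHomogeneous.prod (Finset.univ) (fun i : Fin m => esymm (Fin m) ℤ (i.1 + 1) ^ t i)
    (fun i => (i.1 + 1) * t i) (fun i _ => (esymm_isHomogeneous _ _ _).pow _)
  have h2 : t.prod (fun i k => esymm (Fin m) ℤ (i.1 + 1) ^ k) =
      ∏ i, esymm (Fin m) ℤ (i.1 + 1) ^ t i := Finsupp.prod_fintype _ _ (by simp)
  rw [h2]
  have := (isHomogeneous_C (Fin m) c).mul h1
  simpa [wdeg] using this

theorem E_injective : Function.Injective (E m) := by
  have := esymmAlgHom_injective (σ := Fin m) ℤ (n := m) (by simp)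
  intro a b hab
  apply this
  apply Subtype.ext
  rw [esymmAlgHom_apply, esymmAlgHom_apply]
  exact hab

theorem weight_of_mem_pow (p : MvPolynomial (Fin m) ℤ) (d : ℕ)
    (h : E m p ∈ idealOfVars (Fin m) ℤ ^ d) : ∀ t ∈ p.support, d ≤ wdeg t := by
  classical
  set plo := ∑ t ∈ p.support.filter (fun t => wdeg t < d), monomial t (coeff t p) with hplo
  set phi := ∑ t ∈ p.support.filter (fun t => ¬ wdeg t < d), monomial t (coeff t p) with hphi
  have hp : p = plo + phi := by
    rw [hplo, hphi, Finset.sum_filter_add_sum_filter_not]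
    exact (support_sum_monomial_coeff p).symm
  have hhi : E m phi ∈ idealOfVars (Fin m) ℤ ^ d := by
    rw [hphi, map_sum]
    refine Ideal.sum_mem _ fun t ht => ?_
    rw [mem_pow_idealOfVars_iff]
    intro x hx
    have hh := E_monomial_isHomogeneous t (coeff t p)
    have hne : coeff x (E m (monomial t (coeff t p))) ≠ 0 := mem_support_iff.mp hx
    have hdeg : x.degree = wdeg t := by
      by_contra hd
      exact hne (hh.coeff_eq_zero hd)
    have := (Finset.mem_filter.mp ht).2
    omega
  have hlo : E m plo ∈ idealOfVars (Fin m) ℤ ^ d := by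
    rw [hp, map_add] at h
    exact (Ideal.add_mem_iff_left _ hhi).mp h
  have hlo0 : E m plo = 0 := by
    ext x
    rw [coeff_zero]
    by_cases hx : d ≤ x.degree
    · rw [hplo, map_sum, coeff_sum]
      apply Finset.sum_eq_zero
      intro t ht
      refine (E_monomial_isHomogeneous t _).coeff_eq_zero ?_
      have := (Finset.mem_filter.mp ht).2
      omega
    · exact (mem_pow_idealOfVars_iff' d _).mp hlo x (by omega)
  have hplo0 : plo = 0 := E_injective (by rw [hlo0, map_zero])
  intro t ht
  by_contra hlt
  have hc : coeff t plo = coeff t p := by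
    rw [hplo, coeff_sum, Finset.sum_eq_single t]
    · simp
    · intro b _ hb
      rw [coeff_monomial, if_neg hb]
    · intro hnot
      exfalso
      exact hnot (Finset.mem_filter.mpr ⟨ht, by omega⟩)
  rw [hplo0, coeff_zero] at hc
  exact (mem_support_iff.mp ht) hc.symm

end Groth.Agent.Lib.helper6.SymmWeight
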