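import Mathlib
import Groth.Prelude.Def_KRR
import Groth.Agent.Lib.helper5.Adams
import Groth.Agent.Lib.helper6.Split
import Groth.Agent.Lib.helper6.SymmWeight
import Groth.Agent.S3291
import Groth.Agent.S8651

/-! The γ-filtration of a λ-ring with positive structure (helper6): basic closure properties and
the congruence `ψ^j ≡ j^n` on `F^n / F^{n+1}`. -/

namespace Groth.Agent.Lib.helper6.GammaFil

open LambdaRing Groth.Agent.H5.Adams Groth.Agent.H5.Lambda Groth.Agent.Lib.helper6.Split
  Groth.Agent.Lib.helper6.SymmWeight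

universe u

variable {K : Type u} [CommRing K] [LambdaOps K] (P : PosStructure K)

theorem gammaFiltration_zero : gammaFiltration P 0 = ⊤ := by
  simp [gammaFiltration]

theorem mem_zero (x : K) : x ∈ gammaFiltration P 0 := by
  rw [gammaFiltration_zero]; exact AddSubgroup.mem_top x

theorem gammaFiltration_antitone {d d' : ℕ} (h : d ≤ d') :
    gammaFiltration P d' ≤ gammaFiltration P d := by
  by_cases hd : d = 0
  · subst hd; rw [gammaFiltration_zero]; exact le_top
  have hd' : d' ≠ 0 := by omega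
  simp only [gammaFiltration, if_neg hd, if_neg hd']
  apply AddSubgroup.closure_mono
  rintro y ⟨l, hl, hsum, rfl⟩
  exact ⟨l, hl, by omega, rfl⟩

theorem mul_mem {a b : ℕ} {x y : K} (hx : x ∈ gammaFiltration P a) (hy : y ∈ gammaFiltration P b) :
    x * y ∈ gammaFiltration P (a + b) :=
  (Groth.Agent.S3291.result K P).2 a b x y hx hy

theorem mul_mem_left {n : ℕ} (a : K) {x : K} (hx : x ∈ gammaFiltration P n) :
    a * x ∈ gammaFiltration P n :=
  (Groth.Agent.S3291.result K P).1 n a x hx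

theorem gamma_one (x : K) : gamma 1 x = x := by
  simp [gamma, Finset.sum_range_succ, LambdaOps.lam_one]

theorem gamma_zero (x : K) : gamma 0 x = 1 := by
  simp [gamma]

theorem gamma_mem {a : K} (ha : P.aug a = 0) (k : ℕ) : gamma k a ∈ gammaFiltration P k := by
  by_cases hk : k = 0
  · subst hk; exact mem_zero P _
  simp only [gammaFiltration, if_neg hk]
  apply AddSubgroup.subset_closure
  refine ⟨[(k, a)], ?_, ?_, ?_⟩
  · intro p hp
    rw [List.mem_singleton] at hp
    subst hp
    exact ha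
  · simp
  · simp

theorem pow_mem {n : ℕ} {x : K} (hx : x ∈ gammaFiltration P n) (k : ℕ) :
    x ^ k ∈ gammaFiltration P (n * k) := by
  induction k with
  | zero => rw [Nat.mul_zero]; exact mem_zero P _
  | succ k ih =>
    rw [pow_succ, Nat.mul_succ]
    exact mul_mem P ih hx

theorem prod_mem {ι : Type*} (s : Finset ι) (x : ι → K) (n : ι → ℕ)
    (h : ∀ i ∈ s, x i ∈ gammaFiltration P (n i)) :
    ∏ i ∈ s, x i ∈ gammaFiltration P (∑ i ∈ s, n i) := by
  classical
  induction s using Finset.induction_on with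
  | empty => simp only [Finset.prod_empty, Finset.sum_empty]; exact mem_zero P _
  | insert a s ha ih =>
    rw [Finset.prod_insert ha, Finset.sum_insert ha]
    exact mul_mem P (h a (Finset.mem_insert_self a s))
      (ih fun i hi => h i (Finset.mem_insert_of_mem hi))

/-- A polynomial of weight `≥ d` in the `γ^{i+1}(a)`, `ε(a) = 0`, lies in `F^d`. -/
theorem aeval_gamma_mem {m : ℕ} (p : MvPolynomial (Fin m) ℤ) (d : ℕ)
    (hp : ∀ t ∈ p.support, d ≤ wdeg t) {a : K} (ha : P.aug a = 0) :
    MvPolynomial.aeval (fun i : Fin m => gamma (i.1 + 1) a) p ∈ gammaFiltration P d := by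
  rw [p.as_sum, map_sum]
  refine AddSubgroup.sum_mem _ fun t ht => ?_
  rw [MvPolynomial.aeval_monomial, Finsupp.prod_fintype _ _ (by simp)]
  apply mul_mem_left
  apply gammaFiltration_antitone P (hp t ht)
  rw [wdeg]
  exact prod_mem P Finset.univ _ _ fun i _ => pow_mem P (gamma_mem P ha _) _


section PartC

variable {R : Type*} [CommRing R]

theorem one_add_pow_eq (x : R) (j : ℕ) : ∃ c : R, (1 + x) ^ j = 1 + j * x + x ^ 2 * c := by
  induction j with
  | zero => exact ⟨0, by simp⟩
  | succ j ih =>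
    obtain ⟨c, hc⟩ := ih
    refine ⟨(1 + x) * c + j, ?_⟩
    rw [pow_succ, hc]
    push_cast
    ring

theorem prod_sub_prod_mem (I : Ideal R) {ι : Type*} (s : Finset ι) (a b : ι → R)
    (ha : ∀ k ∈ s, a k ∈ I) (hb : ∀ k ∈ s, b k ∈ I) (hab : ∀ k ∈ s, a k - b k ∈ I ^ 2) :
    ∏ k ∈ s, a k - ∏ k ∈ s, b k ∈ I ^ (s.card + 1) := by
  classical
  induction s using Finset.induction_on with
  | empty => simp
  | insert k s hk ih =>
    rw [Finset.prod_insert hk, Finset.prod_insert hk, Finset.card_insert_of_notMem hk]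
    have h1 : a k * ∏ i ∈ s, a i - b k * ∏ i ∈ s, b i =
        a k * (∏ i ∈ s, a i - ∏ i ∈ s, b i) + (a k - b k) * ∏ i ∈ s, b i := by ring
    rw [h1]
    refine Ideal.add_mem _ ?_ ?_
    · have := Ideal.mul_mem_mul (ha k (Finset.mem_insert_self k s))
        (ih (fun i hi => ha i (Finset.mem_insert_of_mem hi))
          (fun i hi => hb i (Finset.mem_insert_of_mem hi))
          (fun i hi => hab i (Finset.mem_insert_of_mem hi)))
      rwa [← pow_succ'] at this
    · have hb' : ∏ i ∈ s, b i ∈ I ^ s.card := by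
        have := Ideal.prod_mem_prod (s := s) (I := fun _ => I) (x := b)
          (fun i hi => hb i (Finset.mem_insert_of_mem hi))
        rwa [Finset.prod_const] at this
      have := Ideal.mul_mem_mul (hab k (Finset.mem_insert_self k s)) hb'
      rw [← pow_add] at this
      have he : 2 + s.card = s.card + 1 + 1 := by omega
      rwa [he] at this

/-- The `i`-th elementary symmetric function of a Fin-indexed family. -/
def S {m : ℕ} (i : ℕ) (y : Fin m → R) : R :=
  ∑ s ∈ (Finset.univ : Finset (Fin m)).powersetCard i, ∏ k ∈ s, y k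

theorem S_eq_aeval {m : ℕ} (i : ℕ) (y : Fin m → R) :
    S i y = MvPolynomial.aeval y (MvPolynomial.esymm (Fin m) ℤ i) := by
  simp [S, MvPolynomial.esymm, map_sum, map_prod]

theorem map_S {R' : Type*} [CommRing R'] {F : Type*} [FunLike F R R'] [RingHomClass F R R'] (g : F)
    {m : ℕ} (i : ℕ) (y : Fin m → R) :
    g (S i y) = S i (fun k => g (y k)) := by
  simp [S, map_sum, map_prod]

theorem S_comp_perm {m : ℕ} (i : ℕ) (y : Fin m → R) (σ : Equiv.Perm (Fin m)) :
    S i (fun k => y (σ k)) = S i y := by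
  rw [S_eq_aeval, S_eq_aeval]
  have h := MvPolynomial.aeval_rename (R := ℤ) σ y (MvPolynomial.esymm (Fin m) ℤ i)
  rw [MvPolynomial.esymm_isSymmetric (Fin m) ℤ i σ] at h
  exact h.symm

/-- `(1 + X_k)^j - 1`. -/
noncomputable def W (m j : ℕ) (k : Fin m) : MvPolynomial (Fin m) ℤ :=
  (1 + MvPolynomial.X k) ^ j - 1

/-- `e_i((1 + X)^j - 1) - j^i e_i(X)`. -/
noncomputable def Q (m j i : ℕ) : MvPolynomial (Fin m) ℤ :=
  S i (W m j) - (j : MvPolynomial (Fin m) ℤ) ^ i * S i MvPolynomial.X

theorem Q_mem (m j i : ℕ) : Q m j i ∈ MvPolynomial.idealOfVars (Fin m) ℤ ^ (i + 1) := by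
  have hX : ∀ k : Fin m, (MvPolynomial.X k : MvPolynomial (Fin m) ℤ) ∈
      MvPolynomial.idealOfVars (Fin m) ℤ := fun k => Ideal.subset_span ⟨k, rfl⟩
  have hQ : Q m j i = ∑ s ∈ (Finset.univ : Finset (Fin m)).powersetCard i,
      (∏ k ∈ s, W m j k - ∏ k ∈ s, (j : MvPolynomial (Fin m) ℤ) * MvPolynomial.X k) := by
    rw [Q, S, S, Finset.sum_sub_distrib, Finset.mul_sum]
    congr 1
    refine Finset.sum_congr rfl fun s hs => ?_
    rw [Finset.prod_mul_distrib, Finset.prod_const, (Finset.mem_powersetCard.mp hs).2]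
  rw [hQ]
  refine Ideal.sum_mem _ fun s hs => ?_
  have hcard := (Finset.mem_powersetCard.mp hs).2
  rw [← hcard]
  have hW : ∀ k : Fin m, ∃ c, W m j k =
      (j : MvPolynomial (Fin m) ℤ) * MvPolynomial.X k + MvPolynomial.X k ^ 2 * c := by
    intro k
    obtain ⟨c, hc⟩ := one_add_pow_eq (MvPolynomial.X k : MvPolynomial (Fin m) ℤ) j
    exact ⟨c, by rw [W, hc]; ring⟩
  apply prod_sub_prod_mem
  · intro k _
    obtain ⟨c, hc⟩ := hW k
    rw [hc]
    refine Ideal.add_mem _ (Ideal.mul_mem_left _ _ (hX k)) ?_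
    rw [pow_two, mul_assoc]
    exact Ideal.mul_mem_right _ _ (hX k)
  · intro k _
    exact Ideal.mul_mem_left _ _ (hX k)
  · intro k _
    obtain ⟨c, hc⟩ := hW k
    rw [hc, add_sub_cancel_left]
    exact Ideal.mul_mem_right _ _ (Ideal.pow_mem_pow (hX k) 2)

theorem Q_symm (m j i : ℕ) : (Q m j i).IsSymmetric := by
  intro σ
  rw [Q, map_sub, map_mul, map_pow, map_natCast, map_S, map_S]
  have h1 : (fun k => (MvPolynomial.rename σ) (W m j k)) = fun k => W m j (σ k) := by
    funext k
    simp [W]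
  have h2 : (fun k => (MvPolynomial.rename σ) (MvPolynomial.X k : MvPolynomial (Fin m) ℤ)) =
      fun k => MvPolynomial.X (σ k) := by
    funext k
    simp
  change S i (fun k => (MvPolynomial.rename σ) (W m j k)) -
    _ * S i (fun k => (MvPolynomial.rename σ) (MvPolynomial.X k : MvPolynomial (Fin m) ℤ)) = _
  rw [h1, h2, S_comp_perm i (W m j) σ, S_comp_perm i MvPolynomial.X σ]

theorem exists_E_eq {m : ℕ} (q : MvPolynomial (Fin m) ℤ) (hq : q.IsSymmetric) :
    ∃ p : MvPolynomial (Fin m) ℤ, E m p = q := by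
  obtain ⟨p, hp⟩ := MvPolynomial.esymmAlgHom_surjective (σ := Fin m) ℤ (n := m) (by simp) ⟨q, hq⟩
  refine ⟨p, ?_⟩
  have := congrArg Subtype.val hp
  rwa [MvPolynomial.esymmAlgHom_apply] at this

theorem exists_p (m j i : ℕ) : ∃ p : MvPolynomial (Fin m) ℤ, E m p = Q m j i ∧
    ∀ t ∈ p.support, i + 1 ≤ wdeg t := by
  obtain ⟨p, hp⟩ := exists_E_eq (Q m j i) (Q_symm m j i)
  exact ⟨p, hp, weight_of_mem_pow p (i + 1) (by rw [hp]; exact Q_mem m j i)⟩

end PartC

end Groth.Agent.Lib.helper6.GammaFil
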