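import Mathlib
import Groth.Agent.Lib.helper6.GammaFil

/-! `ψ^j ≡ j^n` on `F^n / F^{n+1}` for the γ-filtration (helper6). -/

namespace Groth.Agent.Lib.helper6.AdamsGr

open LambdaRing Groth.Agent.H5.Adams Groth.Agent.H5.Lambda Groth.Agent.H5.Gamma
  Groth.Agent.Lib.helper6.Split Groth.Agent.Lib.helper6.SymmWeight Groth.Agent.Lib.helper6.GammaFil

universe u

variable {K : Type u} [CommRing K] [LambdaOps K]

theorem map_gamma {K' : Type u} [CommRing K'] [LambdaOps K'] {f : K →+* K'} (hf : IsLambdaHom f)
    (k : ℕ) (x : K) : f (gamma k x) = gamma k (f x) := by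
  unfold gamma
  split_ifs with hk
  · exact map_one f
  · rw [map_sum]
    refine Finset.sum_congr rfl fun i _ => ?_
    rw [map_mul, map_natCast]
    split_ifs with hi
    · rw [map_zero]
    · rw [hf]

theorem gamma_zero_elt (k : ℕ) (hk : 1 ≤ k) : gamma k (0 : K) = 0 := by
  unfold gamma
  rw [if_neg (by omega)]
  apply Finset.sum_eq_zero
  intro i _
  split_ifs with hi
  · rw [mul_zero]
  · rw [lam_zero_elt, if_neg hi, mul_zero]

variable (P : PosStructure K)

theorem adams_intCast (hK : HasSplitting K P) (j : ℕ) (c : ℤ) : adams P j (c : K) = c :=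
  map_intCast (adamsRingHom P hK j) c

theorem adams_natCast (hK : HasSplitting K P) (j : ℕ) (c : ℕ) : adams P j (c : K) = c :=
  map_natCast (adamsRingHom P hK j) c

/-- Base case: `ψ^j γ^i(e - ε(e)) ≡ j^i γ^i(e - ε(e))` modulo `F^{i+1}` for `e` positive. -/
theorem adams_gamma_base (hK : HasSplitting K P) (j : ℕ) (e : K) (he : e ∈ P.pos) (m : ℕ)
    (hm : P.aug e = m) (i : ℕ) :
    adams P j (gamma i (e - (m : K))) - (j : K) ^ i * gamma i (e - (m : K)) ∈
      gammaFiltration P (i + 1) := by
  obtain ⟨L', hL', f, hf, u, hu, hsum⟩ := exists_split_fin P hK e he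
  have hm' : (P.aug e).toNat = m := by rw [hm]; simp
  subst hm'
  set a := e - (((P.aug e).toNat : ℕ) : K) with ha
  have haug : P.aug a = 0 := by
    rw [ha, map_sub, map_natCast, hm]
    simp
  have h1 : ∀ k : ℕ, 2 ≤ k → LambdaOps.lam k (1 : L'.carrier) = 0 :=
    fun k hk => lam_line L'.posStr (isLine_one L'.posStr) k hk
  have hy : ∀ (i : Fin (P.aug e).toNat) (k : ℕ), 2 ≤ k → LambdaOps.lam k (u i) = 0 :=
    fun i k hk => lam_line L'.posStr (hu i) k hk
  have hfa : f a = ∑ i, u i - (((P.aug e).toNat : ℕ) : L'.carrier) := by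
    rw [ha, map_sub, map_natCast, hsum]
  have hγ : ∀ k, f (gamma k a) = S k (fun i => u i - 1) := by
    intro k
    rw [map_gamma hf.isLambdaHom, hfa, Groth.Agent.S8651.result L'.carrier h1 _ u hy k]
    rfl
  obtain ⟨p, hp, hw⟩ := exists_p (P.aug e).toNat j i
  have key : adams P j (gamma i a) - (j : K) ^ i * gamma i a =
      MvPolynomial.aeval (fun k : Fin (P.aug e).toNat => gamma (k.1 + 1) a) p := by
    apply hf.injective
    have hR : f (MvPolynomial.aeval (fun k : Fin (P.aug e).toNat => gamma (k.1 + 1) a) p) =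
        MvPolynomial.aeval (fun k : Fin (P.aug e).toNat => u k - 1) (Q (P.aug e).toNat j i) := by
      have h3 := MvPolynomial.comp_aeval_apply (R := ℤ)
        (fun k : Fin (P.aug e).toNat => gamma (k.1 + 1) a) f.toIntAlgHom p
      simp only [RingHom.toIntAlgHom_apply] at h3
      rw [h3, ← hp]
      change _ = MvPolynomial.aeval (fun k : Fin (P.aug e).toNat => u k - 1)
        (MvPolynomial.bind₁ (fun i : Fin (P.aug e).toNat =>
          MvPolynomial.esymm (Fin (P.aug e).toNat) ℤ (i.1 + 1)) p)
      rw [MvPolynomial.aeval_bind₁]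
      congr 2
      funext k
      rw [hγ, S_eq_aeval]
    rw [hR, map_sub, map_mul, map_pow, map_natCast, map_adams hf, hγ]
    have hψ : adams L'.posStr j (S i fun k => u k - 1) = S i (fun k => (1 + (u k - 1)) ^ j - 1) := by
      have := map_S (adamsRingHom L'.posStr hL' j) i (fun k => u k - 1)
      change adams L'.posStr j (S i fun k => u k - 1) = _ at this
      rw [this]
      congr 1
      funext k
      change adams L'.posStr j (u k - 1) = _
      rw [adams_sub, adams_one, adams_of_isLine _ _ (hu k)]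
      ring
    rw [hψ, Q, map_sub, map_mul, map_pow, map_natCast, map_S, map_S]
    simp [W]
  rw [key]
  exact aeval_gamma_mem P p (i + 1) hw haug


section Good

/-- `y ∈ F^n` and `ψ^j y ≡ j^n y` modulo `F^{n+1}`. -/
def Good (j n : ℕ) (y : K) : Prop :=
  y ∈ gammaFiltration P n ∧ adams P j y - (j : K) ^ n * y ∈ gammaFiltration P (n + 1)

variable {P}

theorem Good.zero (j n : ℕ) : Good P j n 0 :=
  ⟨zero_mem _, by rw [adams_zero, mul_zero, sub_zero]; exact zero_mem _⟩

theorem Good.add {j n : ℕ} {y y' : K} (h : Good P j n y) (h' : Good P j n y') :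
    Good P j n (y + y') := by
  refine ⟨add_mem h.1 h'.1, ?_⟩
  rw [adams_add, mul_add]
  have := add_mem h.2 h'.2
  convert this using 1
  ring

theorem Good.neg {j n : ℕ} {y : K} (h : Good P j n y) : Good P j n (-y) := by
  refine ⟨neg_mem h.1, ?_⟩
  rw [adams_neg, mul_neg]
  have := neg_mem h.2
  convert this using 1
  ring

theorem Good.sum {j n : ℕ} {ι : Type*} (s : Finset ι) (y : ι → K)
    (h : ∀ i ∈ s, Good P j n (y i)) : Good P j n (∑ i ∈ s, y i) := by
  classical
  induction s using Finset.induction_on with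
  | empty => rw [Finset.sum_empty]; exact Good.zero j n
  | insert a s ha ih =>
    rw [Finset.sum_insert ha]
    exact (h a (Finset.mem_insert_self a s)).add (ih fun i hi => h i (Finset.mem_insert_of_mem hi))

theorem Good.adams_mem {j n : ℕ} {y : K} (h : Good P j n y) :
    adams P j y ∈ gammaFiltration P n := by
  have h1 : adams P j y = (adams P j y - (j : K) ^ n * y) + (j : K) ^ n * y := by ring
  rw [h1]
  exact add_mem (gammaFiltration_antitone P (Nat.le_succ n) h.2) (mul_mem_left P _ h.1)

theorem Good.mul (hK : HasSplitting K P) {j n n' : ℕ} {y y' : K} (h : Good P j n y)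
    (h' : Good P j n' y') : Good P j (n + n') (y * y') := by
  refine ⟨GammaFil.mul_mem P h.1 h'.1, ?_⟩
  rw [adams_mul P hK]
  have e : adams P j y * adams P j y' - (j : K) ^ (n + n') * (y * y') =
      (adams P j y - (j : K) ^ n * y) * adams P j y' +
        (j : K) ^ n * (y * (adams P j y' - (j : K) ^ n' * y')) := by ring
  rw [e]
  refine add_mem ?_ ?_
  · have := GammaFil.mul_mem P h.2 h'.adams_mem
    rwa [show n + 1 + n' = n + n' + 1 by omega] at this
  · have := GammaFil.mul_mem P h.1 h'.2
    rw [← add_assoc] at this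
    exact mul_mem_left P _ this

theorem Good.one (j : ℕ) : Good P j 0 (1 : K) :=
  ⟨mem_zero P 1, by rw [adams_one, pow_zero, one_mul, sub_self]; exact zero_mem _⟩

theorem Good.of_eq {j n n' : ℕ} {y : K} (h : Good P j n y) (hn : n = n') : Good P j n' y := by
  subst hn; exact h

theorem good_gamma_pos (hK : HasSplitting K P) (j : ℕ) (e : K) (he : e ∈ P.pos) (m : ℕ)
    (hm : P.aug e = m) (i : ℕ) : Good P j i (gamma i (e - (m : K))) := by
  refine ⟨gamma_mem P ?_ i, adams_gamma_base P hK j e he m hm i⟩
  rw [map_sub, map_natCast, hm]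
  simp

theorem good_gamma_neg (hK : HasSplitting K P) (j : ℕ) (b : K)
    (hb : ∀ i, Good P j i (gamma i b)) (k : ℕ) : Good P j k (gamma k (-b)) := by
  induction k using Nat.strong_induction_on with
  | _ k ih =>
    rcases Nat.eq_zero_or_pos k with hk | hk
    · subst hk
      rw [gamma_zero]
      exact Good.one j
    · have h := gamma_add k b (-b)
      rw [add_neg_cancel, gamma_zero_elt k hk, Finset.sum_range_succ', gamma_zero, one_mul,
        Nat.sub_zero] at h
      have h2 : gamma k (-b) = -∑ i ∈ Finset.range k, gamma (i + 1) b * gamma (k - (i + 1)) (-b) := by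
        linear_combination -h
      rw [h2]
      refine (Good.sum _ _ fun i hi => ?_).neg
      have hi' := Finset.mem_range.mp hi
      exact ((hb (i + 1)).mul hK (ih (k - (i + 1)) (by omega))).of_eq (by omega)

theorem good_gamma (hK : HasSplitting K P) (j : ℕ) (x : K) (hx : P.aug x = 0) (k : ℕ) :
    Good P j k (gamma k x) := by
  obtain ⟨e₁, e₂, h₁, h₂, rfl⟩ := P.exists_sub x
  have hpos := P.aug_pos e₁ h₁
  have hm1 : P.aug e₁ = ((P.aug e₁).toNat : ℕ) := (Int.toNat_of_nonneg (le_of_lt hpos)).symm
  have hm2 : P.aug e₂ = ((P.aug e₁).toNat : ℕ) := by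
    rw [map_sub, sub_eq_zero] at hx
    rw [← hx]; exact hm1
  set m := (P.aug e₁).toNat
  have hx' : e₁ - e₂ = (e₁ - (m : K)) + -(e₂ - (m : K)) := by ring
  rw [hx', gamma_add]
  refine Good.sum _ _ fun i hi => ?_
  have hi' := Finset.mem_range.mp hi
  exact ((good_gamma_pos hK j e₁ h₁ m hm1 i).mul hK
    (good_gamma_neg hK j _ (good_gamma_pos hK j e₂ h₂ m hm2) (k - i))).of_eq (by omega)

theorem good_list (hK : HasSplitting K P) (j : ℕ) (l : List (ℕ × K))
    (hl : ∀ p ∈ l, P.aug p.2 = 0) :
    Good P j (l.map Prod.fst).sum (l.map fun p => gamma p.1 p.2).prod := by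
  induction l with
  | nil => simpa using Good.one (P := P) j
  | cons p l ih =>
    rw [List.map_cons, List.map_cons, List.sum_cons, List.prod_cons]
    exact (good_gamma hK j p.2 (hl p List.mem_cons_self) p.1).mul hK
      (ih fun q hq => hl q (List.mem_cons_of_mem _ hq))

theorem Good.of_le {j n N : ℕ} {y : K} (h : Good P j N y) (hn : n ≤ N) :
    adams P j y - (j : K) ^ n * y ∈ gammaFiltration P (n + 1) := by
  rcases Nat.eq_or_lt_of_le hn with rfl | hlt
  · exact h.2
  · refine sub_mem (gammaFiltration_antitone P hlt h.adams_mem)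
      (mul_mem_left P _ (gammaFiltration_antitone P hlt h.1))

end Good

/-- `ψ^j(x) - j^n x ∈ F^{n+1}` for `x ∈ F^n`. -/
theorem adams_sub_pow_mul_mem (hK : HasSplitting K P) (j n : ℕ) (x : K)
    (hx : x ∈ gammaFiltration P n) :
    adams P j x - (j : K) ^ n * x ∈ gammaFiltration P (n + 1) := by
  by_cases hn : n = 0
  · subst hn
    set c : K := ((P.aug x : ℤ) : K) with hc
    have h0 : P.aug (x - c) = 0 := by
      rw [map_sub, hc, map_intCast]
      simp
    have hg := good_gamma hK j (x - c) h0 1
    rw [gamma_one] at hg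
    have e : adams P j x - (j : K) ^ 0 * x =
        (adams P j (x - c) - (j : K) ^ 1 * (x - c)) + ((j : K) - 1) * (x - c) := by
      rw [adams_sub, hc, adams_intCast P hK]
      ring
    rw [e]
    exact add_mem (gammaFiltration_antitone P (by omega) hg.2) (mul_mem_left P _ hg.1)
  · have hF : gammaFiltration P n = AddSubgroup.closure
        {y | ∃ (l : List (ℕ × K)), (∀ p ∈ l, P.aug p.2 = 0) ∧ n ≤ (l.map Prod.fst).sum ∧
          y = (l.map fun p => gamma p.1 p.2).prod} := by
      simp only [gammaFiltration, if_neg hn]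
    rw [hF] at hx
    induction hx using AddSubgroup.closure_induction with
    | mem y hy =>
      obtain ⟨l, hl, hsum, rfl⟩ := hy
      exact (good_list hK j l hl).of_le hsum
    | zero => rw [adams_zero, mul_zero, sub_zero]; exact zero_mem _
    | add y y' _ _ ih ih' =>
      rw [adams_add, mul_add]
      have := add_mem ih ih'
      convert this using 1
      ring
    | neg y _ ih =>
      rw [adams_neg, mul_neg]
      have := neg_mem ih
      convert this using 1
      ring

end Groth.Agent.Lib.helper6.AdamsGr
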