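import Mathlib

/-! Abstract linear algebra (helper6): an endomorphism `Ψ` of a vector space with a finite
decreasing filtration `G` on whose graded pieces `Ψ` acts by pairwise distinct scalars `c n`
is diagonalisable, with `G m = eigenspace (c m) ⊕ G (m+1)`. -/

namespace Groth.Agent.Lib.helper6.FilEigen

open Polynomial Module

variable {k V : Type*} [Field k] [AddCommGroup V] [Module k V]

theorem aeval_apply_of_apply_eq_smul (Ψ : End k V) {μ : k} {v : V} (h : Ψ v = μ • v)
    (p : k[X]) : aeval Ψ p v = p.eval μ • v := by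
  induction p using Polynomial.induction_on' with
  | add p q hp hq => simp [hp, hq, add_smul]
  | monomial n a =>
    have hpow : ∀ n : ℕ, (Ψ ^ n) v = μ ^ n • v := by
      intro n
      induction n with
      | zero => simp
      | succ n ih => rw [pow_succ', Module.End.mul_apply, ih, map_smul, h, smul_smul, pow_succ]
    simp [← C_mul_X_pow_eq_monomial, hpow, smul_smul]
    rw [mul_comm]

structure Setup (Ψ : End k V) (G : ℕ → Submodule k V) (c : ℕ → k) (d : ℕ) : Prop where
  top : G 0 = ⊤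
  anti : Antitone G
  bot : G (d + 1) = ⊥
  inj : Function.Injective c
  step : ∀ n, ∀ v ∈ G n, Ψ v - c n • v ∈ G (n + 1)

variable {Ψ : End k V} {G : ℕ → Submodule k V} {c : ℕ → k} {d : ℕ}

namespace Setup

theorem map_mem (h : Setup Ψ G c d) {n : ℕ} {v : V} (hv : v ∈ G n) : Ψ v ∈ G n := by
  have h1 : Ψ v = (Ψ v - c n • v) + c n • v := by abel
  rw [h1]
  exact add_mem (h.anti (Nat.le_succ n) (h.step n v hv)) (Submodule.smul_mem _ _ hv)

theorem aeval_mem (h : Setup Ψ G c d) (p : k[X]) {n : ℕ} {v : V} (hv : v ∈ G n) :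
    aeval Ψ p v ∈ G n := by
  induction p using Polynomial.induction_on' with
  | add p q hp hq => rw [map_add, LinearMap.add_apply]; exact add_mem hp hq
  | monomial i a =>
    have hpow : ∀ i : ℕ, (Ψ ^ i) v ∈ G n := by
      intro i
      induction i with
      | zero => simpa using hv
      | succ i ih => rw [pow_succ', Module.End.mul_apply]; exact h.map_mem ih
    rw [← C_mul_X_pow_eq_monomial, map_mul, aeval_C, map_pow, aeval_X, Module.End.mul_apply,
      Module.algebraMap_end_apply]
    exact Submodule.smul_mem _ _ (hpow i)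

/-- The polynomial `Π_{i ∈ [m, n)} (X - c i)`. -/
noncomputable def pp (c : ℕ → k) (m n : ℕ) : k[X] := ∏ i ∈ Finset.Ico m n, (X - C (c i))

theorem pp_succ (c : ℕ → k) {m n : ℕ} (hmn : m ≤ n) :
    pp c m (n + 1) = (X - C (c n)) * pp c m n := by
  rw [pp, pp, Finset.prod_Ico_succ_top hmn, mul_comm]

theorem aeval_pp_mem (h : Setup Ψ G c d) {m n : ℕ} (hmn : m ≤ n) {v : V} (hv : v ∈ G m) :
    aeval Ψ (pp c m n) v ∈ G n := by
  induction n, hmn using Nat.le_induction with
  | base => simpa [pp] using hv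
  | succ n hmn ih =>
    rw [pp_succ c hmn, map_mul, Module.End.mul_apply]
    have := h.step n _ ih
    simpa [sub_eq_add_neg] using this

theorem eval_pp_ne_zero (h : Setup Ψ G c d) {m n l : ℕ} (hl : l < m) :
    (pp c m n).eval (c l) ≠ 0 := by
  rw [pp, eval_prod]
  refine Finset.prod_ne_zero_iff.mpr fun i hi => ?_
  rw [eval_sub, eval_X, eval_C, sub_ne_zero]
  intro hc
  have := h.inj hc
  have := (Finset.mem_Ico.mp hi).1
  omega

theorem aeval_pp_eq_zero (h : Setup Ψ G c d) {m : ℕ} {v : V} (hv : v ∈ G m) :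
    aeval Ψ (pp c m (max m (d + 1))) v = 0 := by
  have h1 := h.aeval_pp_mem (le_max_left m (d + 1)) hv
  have h2 : G (max m (d + 1)) ≤ G (d + 1) := h.anti (le_max_right _ _)
  have h3 := h2 h1
  rwa [h.bot, Submodule.mem_bot] at h3

theorem inf_eq_bot (h : Setup Ψ G c d) (m : ℕ) :
    End.eigenspace Ψ (c m) ⊓ G (m + 1) = ⊥ := by
  rw [eq_bot_iff]
  rintro v ⟨hv1, hv2⟩
  rw [SetLike.mem_coe, End.mem_eigenspace_iff] at hv1
  have h0 := h.aeval_pp_eq_zero hv2
  rw [aeval_apply_of_apply_eq_smul Ψ hv1] at h0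
  rcases smul_eq_zero.mp h0 with h0 | h0
  · exact absurd h0 (h.eval_pp_ne_zero (Nat.lt_succ_self m))
  · rw [h0]; exact Submodule.zero_mem _

theorem eigenspace_le (h : Setup Ψ G c d) (m : ℕ) : End.eigenspace Ψ (c m) ≤ G m := by
  intro v hv
  rw [End.mem_eigenspace_iff] at hv
  have key : ∀ l, l ≤ m → v ∈ G l := by
    intro l
    induction l with
    | zero => intro _; rw [h.top]; exact Submodule.mem_top
    | succ l ih =>
      intro hl
      have h1 := h.step l v (ih (by omega))
      rw [hv, ← sub_smul] at h1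
      have hne : c m - c l ≠ 0 := by
        rw [sub_ne_zero]
        intro hc
        have := h.inj hc
        omega
      exact (Submodule.smul_mem_iff _ hne).mp h1
  exact key m le_rfl

theorem sup_eq (h : Setup Ψ G c d) (m : ℕ) :
    End.eigenspace Ψ (c m) ⊔ G (m + 1) = G m := by
  apply le_antisymm
  · exact sup_le (h.eigenspace_le m) (h.anti (Nat.le_succ m))
  · intro v hv
    obtain ⟨p, hp⟩ : ∃ p, p = pp c (m + 1) (max (m + 1) (d + 1)) := ⟨_, rfl⟩
    obtain ⟨a, ha⟩ : ∃ a, a = p.eval (c m) := ⟨_, rfl⟩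
    have hane : a ≠ 0 := by rw [ha, hp]; exact h.eval_pp_ne_zero (Nat.lt_succ_self m)
    obtain ⟨t, ht⟩ : ∃ t, t = C a⁻¹ * p := ⟨_, rfl⟩
    have hteval : t.eval (c m) = 1 := by
      rw [ht, eval_mul, eval_C, ← ha, inv_mul_cancel₀ hane]
    obtain ⟨q, hq⟩ : X - C (c m) ∣ t - C (t.eval (c m)) := X_sub_C_dvd_sub_C_eval
    rw [hteval, map_one] at hq
    have hstep := h.step m v hv
    have hΨ : ∀ w : V, (aeval Ψ (X - C (c m))) w = Ψ w - c m • w := by
      intro w
      simp [Module.algebraMap_end_apply]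
    -- T v is an eigenvector
    have h1 : aeval Ψ t v ∈ End.eigenspace Ψ (c m) := by
      rw [End.mem_eigenspace_iff, ← sub_eq_zero]
      have e1 : Ψ (aeval Ψ t v) - c m • (aeval Ψ t v) = aeval Ψ ((X - C (c m)) * t) v := by
        rw [map_mul, Module.End.mul_apply, hΨ]
      rw [e1, mul_comm, map_mul, Module.End.mul_apply, hΨ, ht, map_mul, Module.End.mul_apply, hp,
        h.aeval_pp_eq_zero hstep, map_zero]
    -- v - T v ∈ G (m+1)
    have h2 : v - aeval Ψ t v ∈ G (m + 1) := by
      have e2 : v - aeval Ψ t v = -(aeval Ψ (t - 1) v) := by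
        simp
      rw [e2, hq, mul_comm, map_mul, Module.End.mul_apply, hΨ]
      exact neg_mem (h.aeval_mem q hstep)
    have e3 : v = aeval Ψ t v + (v - aeval Ψ t v) := by abel
    rw [e3]
    exact Submodule.add_mem_sup h1 h2

theorem iSup_eq_top (h : Setup Ψ G c d) :
    (⨆ m ∈ Finset.range (d + 1), End.eigenspace Ψ (c m)) = ⊤ := by
  have key : ∀ n, G 0 ≤ (⨆ m ∈ Finset.range n, End.eigenspace Ψ (c m)) ⊔ G n := by
    intro n
    induction n with
    | zero => simp
    | succ n ih =>
      refine ih.trans ?_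
      rw [← h.sup_eq n, Finset.range_add_one, Finset.iSup_insert]
      refine sup_le ?_ (sup_le ?_ ?_)
      · exact le_sup_of_le_left le_sup_right
      · exact le_sup_of_le_left le_sup_left
      · exact le_sup_right
  have := key (d + 1)
  rw [h.top, h.bot, sup_bot_eq] at this
  exact top_le_iff.mp this

/-- A commuting endomorphism acting on the graded pieces by scalars `c' n` has the
same eigenspaces. -/
theorem eigenspace_le_of_commute (h : Setup Ψ G c d) {Φ : End k V} {c' : ℕ → k}
    (hcomm : ∀ v, Ψ (Φ v) = Φ (Ψ v)) (hstep : ∀ n, ∀ v ∈ G n, Φ v - c' n • v ∈ G (n + 1))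
    (m : ℕ) : End.eigenspace Ψ (c m) ≤ End.eigenspace Φ (c' m) := by
  intro v hv
  have hvG := h.eigenspace_le m hv
  rw [End.mem_eigenspace_iff] at hv ⊢
  have h1 : Φ v - c' m • v ∈ End.eigenspace Ψ (c m) ⊓ G (m + 1) := by
    refine ⟨?_, hstep m v hvG⟩
    rw [SetLike.mem_coe, End.mem_eigenspace_iff, map_sub, map_smul, hcomm, hv, map_smul,
      smul_sub, smul_comm]
  rw [h.inf_eq_bot m, Submodule.mem_bot, sub_eq_zero] at h1
  exact h1

end Setup

end Groth.Agent.Lib.helper6.FilEigen
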