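import Mathlib
import Groth.Agent.Lib.helper6.AdamsGr
import Groth.Agent.Lib.helper6.FilEigen

/-! The Adams operation on `ℚ ⊗ K` and the rational γ-filtration (helper6). -/

namespace Groth.Agent.Lib.helper6.AdamsEigen

open LambdaRing TensorProduct Groth.Agent.H5.Adams Groth.Agent.Lib.helper6.GammaFil
  Groth.Agent.Lib.helper6.AdamsGr Groth.Agent.Lib.helper6.FilEigen

universe u

variable {K : Type u} [CommRing K] [LambdaOps K] (P : PosStructure K)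

/-- The `ℚ`-span of the image of `F^n K` in `ℚ ⊗ K`. -/
def QF (n : ℕ) : Submodule ℚ (ℚ ⊗[ℤ] K) :=
  Submodule.span ℚ ((fun x : K => (1 : ℚ) ⊗ₜ[ℤ] x) '' (gammaFiltration P n : Set K))

theorem tmul_mem_QF {n : ℕ} {x : K} (hx : x ∈ gammaFiltration P n) (q : ℚ) :
    q ⊗ₜ[ℤ] x ∈ QF P n := by
  have : q ⊗ₜ[ℤ] x = q • ((1 : ℚ) ⊗ₜ[ℤ] x) := by
    rw [TensorProduct.smul_tmul', smul_eq_mul, mul_one]
  rw [this]
  exact Submodule.smul_mem _ _ (Submodule.subset_span ⟨x, hx, rfl⟩)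

theorem QF_zero : QF P 0 = ⊤ := by
  rw [eq_top_iff]
  intro z hz
  clear hz
  induction z using TensorProduct.induction_on with
  | zero => exact Submodule.zero_mem _
  | tmul q x => exact tmul_mem_QF P (mem_zero P x) q
  | add a b ha hb => exact Submodule.add_mem _ ha hb

omit [LambdaOps K] in
theorem natCast_pow_tmul (j n : ℕ) (x : K) :
    ((j : ℚ) ^ n) ⊗ₜ[ℤ] x = (1 : ℚ) ⊗ₜ[ℤ] ((j : K) ^ n * x) := by
  have h1 : ((j : ℚ) ^ n) = ((j ^ n : ℕ) : ℤ) • (1 : ℚ) := by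
    simp
  have h2 : ((j : K) ^ n * x) = ((j ^ n : ℕ) : ℤ) • x := by
    simp
  rw [h1, h2, TensorProduct.smul_tmul]

theorem setup (hK : HasSplitting K P) (d : ℕ) (hd : gammaFiltration P (d + 1) = ⊥) (j : ℕ)
    (hj : 2 ≤ j) (Ψ : ℚ ⊗[ℤ] K →ₗ[ℚ] ℚ ⊗[ℤ] K)
    (hΨ : ∀ x : K, Ψ (1 ⊗ₜ[ℤ] x) = 1 ⊗ₜ[ℤ] adams P j x) :
    Setup (Ψ : Module.End ℚ (ℚ ⊗[ℤ] K)) (QF P) (fun n => (j : ℚ) ^ n) d where
  top := QF_zero P
  anti := by
    intro a b hab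
    exact Submodule.span_mono (Set.image_mono (gammaFiltration_antitone P hab))
  bot := by
    rw [eq_bot_iff, QF, Submodule.span_le]
    rintro _ ⟨x, hx, rfl⟩
    rw [SetLike.mem_coe, hd, AddSubgroup.mem_bot] at hx
    rw [hx]
    change (1 : ℚ) ⊗ₜ[ℤ] (0 : K) ∈ _
    rw [TensorProduct.tmul_zero]
    exact Submodule.zero_mem _
  inj := by
    apply pow_right_injective₀
    · exact_mod_cast (by omega : 0 < j)
    · exact_mod_cast (by omega : j ≠ 1)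
  step := by
    intro n v hv
    have hle : QF P n ≤ Submodule.comap (Ψ - ((j : ℚ) ^ n) • LinearMap.id) (QF P (n + 1)) := by
      rw [QF, Submodule.span_le]
      rintro _ ⟨x, hx, rfl⟩
      change (Ψ - ((j : ℚ) ^ n) • (LinearMap.id : ℚ ⊗[ℤ] K →ₗ[ℚ] ℚ ⊗[ℤ] K))
        ((1 : ℚ) ⊗ₜ[ℤ] x) ∈ QF P (n + 1)
      rw [LinearMap.sub_apply, LinearMap.smul_apply,
        LinearMap.id_apply, hΨ, TensorProduct.smul_tmul', smul_eq_mul, mul_one,
        natCast_pow_tmul, ← TensorProduct.tmul_sub]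
      exact tmul_mem_QF P (adams_sub_pow_mul_mem P hK j n x hx) 1
    have := hle hv
    rwa [Submodule.mem_comap, LinearMap.sub_apply, LinearMap.smul_apply, LinearMap.id_apply] at this

theorem commute_of_adams (hK : HasSplitting K P) (j l : ℕ)
    (Ψj Ψl : ℚ ⊗[ℤ] K →ₗ[ℚ] ℚ ⊗[ℤ] K)
    (hΨj : ∀ x : K, Ψj (1 ⊗ₜ[ℤ] x) = 1 ⊗ₜ[ℤ] adams P j x)
    (hΨl : ∀ x : K, Ψl (1 ⊗ₜ[ℤ] x) = 1 ⊗ₜ[ℤ] adams P l x) (v : ℚ ⊗[ℤ] K) :
    Ψj (Ψl v) = Ψl (Ψj v) := by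
  induction v using TensorProduct.induction_on with
  | zero => simp
  | tmul q x =>
    have : q ⊗ₜ[ℤ] x = q • ((1 : ℚ) ⊗ₜ[ℤ] x) := by
      rw [TensorProduct.smul_tmul', smul_eq_mul, mul_one]
    rw [this, map_smul, map_smul, map_smul, map_smul, hΨl, hΨj, hΨj, hΨl, adams_adams P hK,
      adams_adams P hK, mul_comm]
  | add a b ha hb => rw [map_add, map_add, map_add, map_add, ha, hb]

end Groth.Agent.Lib.helper6.AdamsEigen
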