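import Mathlib
import Groth.Agent.Lib.helper6.ArtS2d

/-!
# Flatness over an Artinian local ring from `(S_1)`, `(S_2)` and codimension `≤ 1` data
-/

set_option autoImplicit false
set_option linter.style.haveILetI false
set_option linter.unusedSectionVars false
set_option maxHeartbeats 400000

universe u

namespace Groth.Agent.Lib.helper6.ArtS2

open LocCoh IsLocalRing TensorProduct

variable {A : Type u} [CommRing A] [IsArtinianRing A] [IsLocalRing A]
  {B : Type u} [CommRing B] [Algebra A B] [IsNoetherianRing B]

theorem assLe1_all (hS1 : HasSk 1 B B) (hS2 : HasSk 2 (B ⧸ nilradical B) (B ⧸ nilradical B))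
    (hcodim : Codim1 A B) (I : Ideal A) : AssLe1 B (B ⧸ I.map (algebraMap A B)) := by
  induction I using WellFoundedLT.induction with
  | ind I ih =>
    by_cases hI : I = ⊥
    · subst hI
      rw [Ideal.map_bot]
      exact (assLe1_self hS1).of_linearEquiv
        (Submodule.quotEquivOfEqBot (⊥ : Submodule B B) rfl).symm
    · obtain ⟨I', a, ha, hma, hsup, hlt⟩ := exists_maximal_lt I hI
      rw [← hsup]
      exact (step (d2_quot_nilradical hS2) hcodim I' a ha hma (ih I' hlt)).2

theorem colon_eq (hS1 : HasSk 1 B B) (hS2 : HasSk 2 (B ⧸ nilradical B) (B ⧸ nilradical B))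
    (hcodim : Codim1 A B) (I' : Ideal A) (a : A) (ha : a ∉ I')
    (hma : ∀ r ∈ maximalIdeal A, r * a ∈ I') (b : B) :
    algebraMap A B a * b ∈ I'.map (algebraMap A B) ↔ b ∈ nilradical B :=
  (step (d2_quot_nilradical hS2) hcodim I' a ha hma (assLe1_all hS1 hS2 hcodim I')).1 b

theorem map_maximalIdeal_eq (hS1 : HasSk 1 B B)
    (hS2 : HasSk 2 (B ⧸ nilradical B) (B ⧸ nilradical B)) (hcodim : Codim1 A B) :
    (maximalIdeal A).map (algebraMap A B) = nilradical B := by
  ext b
  have h := colon_eq hS1 hS2 hcodim (maximalIdeal A) 1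
    (fun h => (maximalIdeal.isMaximal A).ne_top ((Ideal.eq_top_iff_one _).mpr h))
    (fun r hr => by rwa [mul_one]) b
  rwa [map_one, one_mul] at h

/-- = S14071 -/
theorem isReduced_fibre (hS1 : HasSk 1 B B)
    (hS2 : HasSk 2 (B ⧸ nilradical B) (B ⧸ nilradical B)) (hcodim : Codim1 A B) :
    IsReduced (B ⧸ (maximalIdeal A).map (algebraMap A B)) := by
  rw [map_maximalIdeal_eq hS1 hS2 hcodim]
  exact (Ideal.isRadical_iff_quotient_reduced _).mp (Ideal.radical_isRadical ⊥)

/-- the image of `I' ⊗ B → A ⊗ B ≅ B` lies in `I'B`. -/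
theorem lid_rTensor_mem (I' : Ideal A) (y : I' ⊗[A] B) :
    TensorProduct.lid A B (LinearMap.rTensor B I'.subtype y) ∈ I'.map (algebraMap A B) := by
  induction y using TensorProduct.induction_on with
  | zero => simp
  | tmul i c =>
    rw [LinearMap.rTensor_tmul, TensorProduct.lid_tmul, Submodule.subtype_apply, Algebra.smul_def]
    exact Ideal.mul_mem_right _ _ (Ideal.mem_map_of_mem _ i.2)
  | add x y hx hy =>
    rw [map_add, map_add]
    exact Ideal.add_mem _ hx hy

/-- = S14072 -/
theorem flat (hS1 : HasSk 1 B B)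
    (hS2 : HasSk 2 (B ⧸ nilradical B) (B ⧸ nilradical B)) (hcodim : Codim1 A B) :
    Module.Flat A B := by
  rw [Module.Flat.iff_rTensor_injective']
  intro I
  induction I using WellFoundedLT.induction with
  | ind I ih =>
    by_cases hI : I = ⊥
    · subst hI
      haveI : Subsingleton ((⊥ : Ideal A) ⊗[A] B) := by
        haveI : Subsingleton (⊥ : Ideal A) := inferInstance
        infer_instance
      exact Function.injective_of_subsingleton _
    · obtain ⟨I', a, ha, hma, hsup, hlt⟩ := exists_maximal_lt I hI
      have hle : I' ≤ I := hlt.le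
      have haI : a ∈ I := by
        rw [← hsup]; exact Ideal.mem_sup_right (Ideal.mem_span_singleton_self a)
      set ι : I' →ₗ[A] I := Submodule.inclusion hle with hι
      have hcomp : I.subtype ∘ₗ ι = I'.subtype := by
        ext x; rfl
      -- decomposition of elements of `I ⊗ B`
      have hdec : ∀ x : I ⊗[A] B, ∃ (y : I' ⊗[A] B) (b : B),
          x = LinearMap.rTensor B ι y + (⟨a, haI⟩ : I) ⊗ₜ[A] b := by
        intro x
        induction x using TensorProduct.induction_on with
        | zero => exact ⟨0, 0, by simp⟩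
        | tmul i c =>
          have hi : (i : A) ∈ I' ⊔ Ideal.span {a} := by rw [hsup]; exact i.2
          obtain ⟨i', hi', j, hj, hij⟩ := Submodule.mem_sup.mp hi
          obtain ⟨r, rfl⟩ := Ideal.mem_span_singleton'.mp hj
          refine ⟨(⟨i', hi'⟩ : I') ⊗ₜ[A] c, r • c, ?_⟩
          rw [LinearMap.rTensor_tmul, ← TensorProduct.smul_tmul,
            ← TensorProduct.add_tmul]
          congr 1
          apply Subtype.ext
          change (i : A) = i' + r * a
          exact hij.symm
        | add x y hx hy =>
          obtain ⟨y1, b1, h1⟩ := hx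
          obtain ⟨y2, b2, h2⟩ := hy
          refine ⟨y1 + y2, b1 + b2, ?_⟩
          rw [h1, h2, map_add, TensorProduct.tmul_add]
          abel
      rw [injective_iff_map_eq_zero]
      intro x hx
      obtain ⟨y, b, rfl⟩ := hdec x
      -- `a b ∈ I'B`
      have h1 : algebraMap A B a * b ∈ I'.map (algebraMap A B) := by
        have h2 := congrArg (TensorProduct.lid A B) hx
        rw [map_add, map_add, map_zero, ← LinearMap.comp_apply, ← LinearMap.rTensor_comp, hcomp,
          LinearMap.rTensor_tmul, TensorProduct.lid_tmul, Submodule.subtype_apply,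
          Algebra.smul_def] at h2
        have h3 : algebraMap A B a * b =
            -(TensorProduct.lid A B (LinearMap.rTensor B I'.subtype y)) :=
          eq_neg_of_add_eq_zero_right h2
        rw [h3]
        exact Ideal.neg_mem_iff _ |>.mpr (lid_rTensor_mem I' y)
      have h4 : b ∈ (maximalIdeal A).map (algebraMap A B) := by
        rw [map_maximalIdeal_eq hS1 hS2 hcodim]
        exact (colon_eq hS1 hS2 hcodim I' a ha hma b).mp h1
      -- `a ⊗ b` comes from `I' ⊗ B`
      have h5 : (⟨a, haI⟩ : I) ⊗ₜ[A] b ∈ LinearMap.range (LinearMap.rTensor B ι) := by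
        have h6 : b ∈ (maximalIdeal A) • (⊤ : Submodule A B) := by
          rw [Ideal.smul_top_eq_map, Submodule.restrictScalars_mem]
          exact h4
        refine Submodule.smul_induction_on h6 (fun r hr c _ => ?_) (fun c d hc hd => ?_)
        · refine ⟨(⟨r * a, hma r hr⟩ : I') ⊗ₜ[A] c, ?_⟩
          rw [LinearMap.rTensor_tmul, ← TensorProduct.smul_tmul]
          congr 1
        · rw [TensorProduct.tmul_add]
          exact Submodule.add_mem _ hc hd
      obtain ⟨y', hy'⟩ := h5
      rw [← hy', ← map_add] at hx ⊢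
      rw [← LinearMap.comp_apply, ← LinearMap.rTensor_comp, hcomp] at hx
      have h0 : y + y' = 0 := ih I' hlt (hx.trans (map_zero _).symm)
      rw [h0, map_zero]

end Groth.Agent.Lib.helper6.ArtS2
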