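import Mathlib
import Groth.Agent.Lib.helper6.CplQuot
import Groth.Agent.Lib.helper20.RegQuot5
import Groth.Prelude.Def_Pi1

set_option maxHeartbeats 400000
set_option autoImplicit false
set_option linter.style.haveILetI false
set_option linter.unusedSectionVars false

/-! A regular local ring modulo a regular sequence is a complete intersection
(`Pi1.IsCompleteIntersection`). -/

namespace Groth.Agent.H6.CIReg

open IsLocalRing Groth.Agent.Lib.helper6.CplMap Groth.Agent.Lib.helper6.CplQuot

universe u

/-- The completion of a regular local ring is regular. -/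
theorem isRegularLocalRing_cpl (A : Type u) [CommRing A] [IsRegularLocalRing A] :
    IsRegularLocalRing (AdicCompletion (maximalIdeal A) A) := by
  haveI := isNoetherianRing_cpl A
  exact Groth.Agent.Lib.helper20.RegQuot.regular_of_flat_of_map_maximalIdeal A
    (AdicCompletion (maximalIdeal A) A) (AdicCompletion.maximalIdeal_eq_map).symm

/-- General form: `A` regular local, `R → A` flat, `rs` a weakly regular sequence of `R` mapping
into the maximal ideal of `A`. Then `A/(rs)` is a complete intersection. -/
theorem isCI_of_flat {R : Type u} [CommRing R] (A : Type u) [CommRing A] [IsRegularLocalRing A]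
    [Algebra R A] [Module.Flat R A] (rs : List R)
    (hmem : ∀ r ∈ rs, algebraMap R A r ∈ maximalIdeal A)
    (hreg : RingTheory.Sequence.IsWeaklyRegular R rs)
    [IsLocalRing (A ⧸ Ideal.map (algebraMap R A) (Ideal.ofList rs))] :
    Pi1.IsCompleteIntersection (A ⧸ Ideal.map (algebraMap R A) (Ideal.ofList rs)) := by
  set I : Ideal A := Ideal.map (algebraMap R A) (Ideal.ofList rs) with hI
  set B := AdicCompletion (maximalIdeal A) A with hB
  haveI : IsNoetherianRing B := isNoetherianRing_cpl A
  haveI hBreg : IsRegularLocalRing B := isRegularLocalRing_cpl A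
  haveI tower : IsScalarTower R A B := IsScalarTower.of_algebraMap_eq (fun a => by
    apply AdicCompletion.ext_evalₐ
    intro n
    rfl)
  haveI : Module.Flat R B := Module.Flat.trans R A B
  have hw : RingTheory.Sequence.IsWeaklyRegular B (rs.map (algebraMap R B)) :=
    RingTheory.Sequence.IsWeaklyRegular.of_flat hreg
  have hmemB : ∀ r ∈ rs.map (algebraMap R B), r ∈ maximalIdeal B := by
    intro r hr
    rw [List.mem_map] at hr
    obtain ⟨r0, hr0, rfl⟩ := hr
    rw [AdicCompletion.maximalIdeal_eq_map, IsScalarTower.algebraMap_apply R A B]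
    exact Ideal.mem_map_of_mem _ (hmem r0 hr0)
  have hregB : RingTheory.Sequence.IsRegular B (rs.map (algebraMap R B)) :=
    (IsLocalRing.isRegular_iff_isWeaklyRegular_of_subset_maximalIdeal hmemB).mpr hw
  have hideal : I.map (algebraMap A B) = Ideal.span {r | r ∈ rs.map (algebraMap R B)} := by
    rw [hI, Ideal.map_map, ← IsScalarTower.algebraMap_eq, Ideal.ofList, Ideal.map_span]
    congr 1
    ext x
    simp only [Set.mem_image, Set.mem_ofPred_eq, List.mem_map]
  haveI : Nontrivial (A ⧸ I) := inferInstance
  refine ⟨B, inferInstance, hBreg, rs.map (algebraMap R B), hmemB, hregB, ⟨?_⟩⟩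
  exact (quotEquiv A I).symm.trans (Ideal.quotEquivOfEq hideal)

/-- S2165. -/
theorem main {R : Type u} [CommRing R] [IsRegularRing R]
    (p : Ideal R) [p.IsPrime] (rs : List R) (hmem : ∀ r ∈ rs, r ∈ p)
    (hreg : RingTheory.Sequence.IsRegular R rs)
    [IsLocalRing (Localization.AtPrime p ⧸
      Ideal.map (algebraMap R (Localization.AtPrime p)) (Ideal.ofList rs))] :
    Pi1.IsCompleteIntersection (Localization.AtPrime p ⧸
      Ideal.map (algebraMap R (Localization.AtPrime p)) (Ideal.ofList rs)) := by
  haveI : Module.Flat R (Localization.AtPrime p) := IsLocalization.flat _ p.primeCompl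
  apply isCI_of_flat (Localization.AtPrime p) rs _ hreg.toIsWeaklyRegular
  intro r hr
  rw [← Localization.AtPrime.map_eq_maximalIdeal]
  exact Ideal.mem_map_of_mem _ (hmem r hr)

end Groth.Agent.H6.CIReg
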