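import Mathlib
import Groth.Agent.S5758
import Groth.Agent.Lib.helper9.Depth24

/-!
# In a Cohen–Macaulay local ring, parameters form a regular sequence
-/

set_option autoImplicit false
set_option linter.style.haveILetI false
set_option linter.unusedSectionVars false

universe u

namespace Groth.Agent.Lib.helper6.CMSeq

open LocCoh
open Groth.Agent.Lib.helper9.Depth

theorem ringKrullDim_le_quotient_ofList_add_length (R : Type u) [CommRing R] [IsLocalRing R]
    [IsNoetherianRing R] (xs : List R) (hxs : ∀ x ∈ xs, x ∈ IsLocalRing.maximalIdeal R) :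
    ringKrullDim R ≤ ringKrullDim (R ⧸ Ideal.ofList xs) + (xs.length : WithBot ℕ∞) := by
  classical
  have h1 := ringKrullDim_le_ringKrullDim_quotient_add_card (R := R) xs.toFinset (by
    intro x hx
    rw [IsLocalRing.ringJacobson_eq_maximalIdeal]
    exact hxs x (by simpa using hx))
  have h2 : Ideal.span ((xs.toFinset : Finset R) : Set R) = Ideal.ofList xs := by
    unfold Ideal.ofList
    congr 1
    ext x
    simp
  rw [h2] at h1
  refine h1.trans ?_
  gcongr
  exact_mod_cast List.toFinset_card_le xs

/-- In a CM local ring, a list in the maximal ideal cutting the dimension down by its length is a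
regular sequence, and the quotient is CM. -/
theorem regular_of_dim (R : Type u) [CommRing R] [IsCohenMacaulayLocalRing R] (xs : List R)
    (hxs : ∀ x ∈ xs, x ∈ IsLocalRing.maximalIdeal R)
    (hdim : ringKrullDim (R ⧸ Ideal.ofList xs) + (xs.length : WithBot ℕ∞) ≤ ringKrullDim R) :
    RingTheory.Sequence.IsRegular R xs ∧ IsCohenMacaulayLocalRing (R ⧸ Ideal.ofList xs) := by
  have heq : ringKrullDim (R ⧸ Ideal.ofList xs) + (xs.length : WithBot ℕ∞) = ringKrullDim R :=
    le_antisymm hdim (ringKrullDim_le_quotient_ofList_add_length R xs hxs)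
  have hM : IsCohenMacaulayModule R R := IsCohenMacaulayLocalRing.supportDim_eq_depth
  have hle : Ideal.ofList xs ≤ IsLocalRing.maximalIdeal R := by
    unfold Ideal.ofList
    rw [Ideal.span_le]
    exact fun x hx => hxs x hx
  have hne : Ideal.ofList xs ≠ ⊤ := fun h =>
    (IsLocalRing.maximalIdeal.isMaximal R).ne_top (top_le_iff.mp (h ▸ hle))
  obtain ⟨h1, h2⟩ := Groth.Agent.S5758.result R R hM xs hxs
  have hsm : Ideal.ofList xs • (⊤ : Submodule R R) = Ideal.ofList xs := by
    rw [smul_eq_mul, Ideal.mul_top]
  rw [hsm] at h1 h2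
  have hw : RingTheory.Sequence.IsWeaklyRegular R xs := by
    rw [h1, Module.supportDim_quotient_eq_ringKrullDim, Module.supportDim_self_eq_ringKrullDim]
    exact heq
  refine ⟨⟨hw, ?_⟩, ?_⟩
  · rw [hsm]
    exact fun h => hne h.symm
  · have hcm := h2 hw
    haveI : Nontrivial (R ⧸ Ideal.ofList xs) := Ideal.Quotient.nontrivial_iff.2 hne
    haveI : IsLocalRing (R ⧸ Ideal.ofList xs) :=
      IsLocalRing.of_surjective' (Ideal.Quotient.mk _) Ideal.Quotient.mk_surjective
    refine { supportDim_eq_depth := ?_ }
    unfold IsCohenMacaulayModule at hcm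
    rw [Module.supportDim_quotient_eq_ringKrullDim] at hcm
    rw [Module.supportDim_self_eq_ringKrullDim, hcm,
      depth_eq_of_surjective (R' := R) (S' := R ⧸ Ideal.ofList xs)
        (N := R ⧸ Ideal.ofList xs) Ideal.Quotient.mk_surjective]

end Groth.Agent.Lib.helper6.CMSeq
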