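import Mathlib

set_option maxHeartbeats 400000
set_option linter.style.haveILetI false
set_option linter.unusedSectionVars false

/-! First Koszul homology of a linear form `ℓ : F → A`, in elementary terms:
`H ℓ = ker ℓ / span {ℓ u • v - ℓ v • u}`.  Invariance under linear automorphisms and the effect of
adding redundant generators. -/

universe u v w

namespace Groth.Agent.H6.KosInv

variable {A : Type u} [CommRing A]

section Basic

variable {F : Type v} [AddCommGroup F] [Module A F] (ℓ : F →ₗ[A] A)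

/-- trivial relations of a linear form -/
def T : Submodule A F :=
  Submodule.span A (Set.range fun p : F × F => ℓ p.1 • p.2 - ℓ p.2 • p.1)

lemma gen_mem_T (u v : F) : ℓ u • v - ℓ v • u ∈ T ℓ := Submodule.subset_span ⟨(u, v), rfl⟩

lemma T_le_ker : T ℓ ≤ LinearMap.ker ℓ := by
  refine Submodule.span_le.mpr ?_
  rintro _ ⟨p, rfl⟩
  simp [mul_comm]

/-- trivial relations inside the kernel -/
def TK : Submodule A (LinearMap.ker ℓ) := (T ℓ).comap (LinearMap.ker ℓ).subtype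

/-- the first Koszul homology -/
abbrev H : Type v := (LinearMap.ker ℓ) ⧸ TK ℓ

/-- the numerical invariant -/
noncomputable def h : ℕ∞ := Module.length A (H ℓ)

end Basic

section Equiv

variable {F : Type v} {F' : Type w} [AddCommGroup F] [Module A F] [AddCommGroup F'] [Module A F']
  (ℓ : F →ₗ[A] A) (ℓ' : F' →ₗ[A] A) (g : F ≃ₗ[A] F') (hg : ∀ a, ℓ' (g a) = ℓ a)

include hg in
lemma T_map : (T ℓ).map (g : F →ₗ[A] F') = T ℓ' := by
  unfold T
  rw [Submodule.map_span]
  congr 1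
  ext y
  constructor
  · rintro ⟨_, ⟨p, rfl⟩, rfl⟩
    refine ⟨(g p.1, g p.2), ?_⟩
    simp [hg]
  · rintro ⟨p, rfl⟩
    refine ⟨_, ⟨(g.symm p.1, g.symm p.2), rfl⟩, ?_⟩
    simp [← hg]

include hg in
lemma ker_map : (LinearMap.ker ℓ).map (g : F →ₗ[A] F') = LinearMap.ker ℓ' := by
  ext y
  constructor
  · rintro ⟨x, hx, rfl⟩
    rw [SetLike.mem_coe, LinearMap.mem_ker] at hx
    rw [LinearMap.mem_ker]
    change ℓ' (g x) = 0
    rw [hg, hx]
  · intro hy
    rw [LinearMap.mem_ker] at hy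
    refine ⟨g.symm y, ?_, by simp⟩
    rw [SetLike.mem_coe, LinearMap.mem_ker, ← hg, g.apply_symm_apply, hy]

/-- the induced equivalence of kernels -/
noncomputable def kerEquiv : LinearMap.ker ℓ ≃ₗ[A] LinearMap.ker ℓ' :=
  LinearEquiv.ofSubmodules g _ _ (ker_map ℓ ℓ' g hg)

lemma kerEquiv_coe (x : LinearMap.ker ℓ) : (kerEquiv ℓ ℓ' g hg x : F') = g x := rfl

lemma TK_map : (TK ℓ).map (kerEquiv ℓ ℓ' g hg : LinearMap.ker ℓ →ₗ[A] LinearMap.ker ℓ') =
    TK ℓ' := by
  ext ⟨y, hy⟩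
  simp only [Submodule.mem_map, TK, Submodule.mem_comap, Submodule.subtype_apply]
  constructor
  · rintro ⟨⟨x, hx⟩, hxT, hxy⟩
    have h1 : g x = y := congrArg Subtype.val hxy
    rw [← h1, ← T_map ℓ ℓ' g hg]
    exact Submodule.mem_map_of_mem hxT
  · intro hyT
    rw [← T_map ℓ ℓ' g hg] at hyT
    obtain ⟨x, hxT, rfl⟩ := hyT
    exact ⟨⟨x, T_le_ker ℓ hxT⟩, hxT, Subtype.ext rfl⟩

/-- invariance of `H` under linear equivalences -/
noncomputable def hEquiv : H ℓ ≃ₗ[A] H ℓ' :=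
  Submodule.Quotient.equiv (TK ℓ) (TK ℓ') (kerEquiv ℓ ℓ' g hg) (TK_map ℓ ℓ' g hg)

include hg in
theorem h_eq_of_equiv : h ℓ = h ℓ' := (hEquiv ℓ ℓ' g hg).length_eq

end Equiv

section Zero

variable {F : Type v} [AddCommGroup F] [Module A F] (ℓ : F →ₗ[A] A) (n : ℕ)

/-- `ℓ ⊕ 0` on `F × Aⁿ` -/
def L0 : (F × (Fin n → A)) →ₗ[A] A := ℓ.comp (LinearMap.fst A F (Fin n → A))

lemma L0_apply (p : F × (Fin n → A)) : L0 ℓ n p = ℓ p.1 := rfl

/-- the ideal of values -/
def J : Ideal A := LinearMap.range ℓ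

lemma mem_J (u : F) : ℓ u ∈ J ℓ := LinearMap.mem_range_self ℓ u

/-- coordinatewise reduction -/
def q : (Fin n → A) →ₗ[A] (Fin n → A ⧸ J ℓ) := LinearMap.compLeft (Submodule.mkQ (J ℓ)) (Fin n)

lemma q_apply (a : Fin n → A) (j : Fin n) : q ℓ n a j = Submodule.Quotient.mk (a j) := rfl

lemma T_L0_le_fst : (T (L0 ℓ n)).map (LinearMap.fst A F (Fin n → A)) ≤ T ℓ := by
  rw [Submodule.map_le_iff_le_comap]
  refine Submodule.span_le.mpr ?_
  rintro _ ⟨p, rfl⟩
  simp only [SetLike.mem_coe, Submodule.mem_comap, map_sub, map_smul, LinearMap.fst_apply,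
    L0_apply]
  exact gen_mem_T ℓ p.1.1 p.2.1

lemma T_L0_le_snd : T (L0 ℓ n) ≤ LinearMap.ker ((q ℓ n).comp (LinearMap.snd A F (Fin n → A))) := by
  refine Submodule.span_le.mpr ?_
  rintro _ ⟨p, rfl⟩
  rw [SetLike.mem_coe, LinearMap.mem_ker]
  funext j
  simp only [LinearMap.comp_apply, LinearMap.snd_apply, q_apply, L0_apply, Prod.snd_sub,
    Prod.smul_snd, Pi.sub_apply, Pi.smul_apply, smul_eq_mul, Pi.zero_apply]
  rw [Submodule.Quotient.mk_eq_zero]
  exact (J ℓ).sub_mem ((J ℓ).mul_mem_right _ (mem_J ℓ _)) ((J ℓ).mul_mem_right _ (mem_J ℓ _))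

lemma zero_smul_mem (u : F) (v' : Fin n → A) : ((0 : F), ℓ u • v') ∈ T (L0 ℓ n) := by
  have h1 := gen_mem_T (L0 ℓ n) (u, 0) (0, v')
  simp only [L0_apply, map_zero, zero_smul, sub_zero] at h1
  convert h1 using 1
  simp

lemma zero_mem_of_forall_mem (a' : Fin n → A) (ha' : ∀ j, a' j ∈ J ℓ) :
    ((0 : F), a') ∈ T (L0 ℓ n) := by
  classical
  choose u hu using fun j => (ha' j)
  have h1 : a' = ∑ j, ℓ (u j) • (Pi.single j (1 : A) : Fin n → A) := by
    funext i
    simp [Finset.sum_apply, Pi.single_apply, hu]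
  have h2 : ((0 : F), a') = ∑ j, ((0 : F), ℓ (u j) • (Pi.single j (1 : A) : Fin n → A)) := by
    rw [Prod.ext_iff]
    refine ⟨?_, ?_⟩
    · simp [Prod.fst_sum]
    · rw [Prod.snd_sum]
      exact h1
  rw [h2]
  exact Submodule.sum_mem _ fun j _ => zero_smul_mem ℓ n (u j) _

/-- `ker ℓ → ker (ℓ ⊕ 0)` -/
def ι : LinearMap.ker ℓ →ₗ[A] LinearMap.ker (L0 ℓ n) :=
  LinearMap.codRestrict _ ((LinearMap.inl A F (Fin n → A)).comp (LinearMap.ker ℓ).subtype)
    (fun x => by
      rw [LinearMap.mem_ker, L0_apply]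
      exact x.2)

lemma ι_coe (x : LinearMap.ker ℓ) : (ι ℓ n x : F × (Fin n → A)) = ((x : F), 0) := rfl

lemma hι : TK ℓ ≤ (TK (L0 ℓ n)).comap (ι ℓ n) := by
  intro x hx
  simp only [TK, Submodule.mem_comap, Submodule.subtype_apply, ι_coe] at hx ⊢
  -- `(x, 0) ∈ T (L0)`
  have h1 : (T ℓ).map (LinearMap.inl A F (Fin n → A)) ≤ T (L0 ℓ n) := by
    rw [Submodule.map_le_iff_le_comap]
    refine Submodule.span_le.mpr ?_
    rintro _ ⟨p, rfl⟩
    simp only [SetLike.mem_coe, Submodule.mem_comap, map_sub, map_smul]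
    exact gen_mem_T (L0 ℓ n) (p.1, 0) (p.2, 0)
  exact h1 (Submodule.mem_map_of_mem hx)

/-- `H ℓ → H (ℓ ⊕ 0)` -/
def ιbar : H ℓ →ₗ[A] H (L0 ℓ n) := Submodule.mapQ (TK ℓ) (TK (L0 ℓ n)) (ι ℓ n) (hι ℓ n)

/-- `ker (ℓ ⊕ 0) → (A/J)ⁿ` -/
def π : LinearMap.ker (L0 ℓ n) →ₗ[A] (Fin n → A ⧸ J ℓ) :=
  ((q ℓ n).comp (LinearMap.snd A F (Fin n → A))).comp (LinearMap.ker (L0 ℓ n)).subtype

lemma π_apply (x : LinearMap.ker (L0 ℓ n)) : π ℓ n x = q ℓ n (x : F × (Fin n → A)).2 := rfl

lemma hπ : TK (L0 ℓ n) ≤ LinearMap.ker (π ℓ n) := by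
  intro x hx
  simp only [TK, Submodule.mem_comap, Submodule.subtype_apply] at hx
  exact T_L0_le_snd ℓ n hx

/-- `H (ℓ ⊕ 0) → (A/J)ⁿ` -/
def πbar : H (L0 ℓ n) →ₗ[A] (Fin n → A ⧸ J ℓ) := Submodule.liftQ (TK (L0 ℓ n)) (π ℓ n) (hπ ℓ n)

lemma ιbar_injective : Function.Injective (ιbar ℓ n) := by
  rw [injective_iff_map_eq_zero]
  intro y hy
  obtain ⟨x, rfl⟩ := Submodule.mkQ_surjective _ y
  simp only [ιbar, Submodule.mkQ_apply, Submodule.mapQ_apply] at hy
  rw [Submodule.Quotient.mk_eq_zero] at hy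
  simp only [TK, Submodule.mem_comap, Submodule.subtype_apply, ι_coe] at hy
  rw [Submodule.mkQ_apply, Submodule.Quotient.mk_eq_zero]
  simp only [TK, Submodule.mem_comap, Submodule.subtype_apply]
  exact T_L0_le_fst ℓ n (Submodule.mem_map_of_mem (f := LinearMap.fst A F (Fin n → A)) hy)

lemma πbar_surjective : Function.Surjective (πbar ℓ n) := by
  intro c
  choose a' ha' using fun j => Submodule.mkQ_surjective (J ℓ) (c j)
  have hmem : ((0 : F), a') ∈ LinearMap.ker (L0 ℓ n) := by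
    rw [LinearMap.mem_ker, L0_apply, map_zero]
  refine ⟨Submodule.Quotient.mk ⟨_, hmem⟩, ?_⟩
  simp only [πbar, Submodule.liftQ_apply, π_apply]
  funext j
  rw [q_apply]
  exact ha' j

lemma exact_ιbar_πbar : Function.Exact (ιbar ℓ n) (πbar ℓ n) := by
  intro y
  constructor
  · intro hy
    obtain ⟨⟨⟨a, a'⟩, hx⟩, rfl⟩ := Submodule.mkQ_surjective _ y
    simp only [πbar, Submodule.mkQ_apply, Submodule.liftQ_apply, π_apply] at hy
    have ha' : ∀ j, a' j ∈ J ℓ := by
      intro j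
      have := congrFun hy j
      rw [q_apply, Pi.zero_apply, Submodule.Quotient.mk_eq_zero] at this
      exact this
    have ha : a ∈ LinearMap.ker ℓ := by
      rw [LinearMap.mem_ker, L0_apply] at hx
      exact hx
    refine ⟨Submodule.Quotient.mk ⟨a, ha⟩, ?_⟩
    simp only [ιbar, Submodule.mapQ_apply, Submodule.mkQ_apply]
    rw [Submodule.Quotient.eq]
    simp only [TK, Submodule.mem_comap, Submodule.subtype_apply, Submodule.coe_sub, ι_coe]
    have h1 : ((a, (0 : Fin n → A)) - (a, a') : F × (Fin n → A)) = -((0 : F), a') := by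
      simp
    rw [h1]
    exact Submodule.neg_mem _ (zero_mem_of_forall_mem ℓ n a' ha')
  · rintro ⟨x, rfl⟩
    obtain ⟨x, rfl⟩ := Submodule.mkQ_surjective _ x
    simp only [ιbar, πbar, Submodule.mkQ_apply, Submodule.mapQ_apply, Submodule.liftQ_apply,
      π_apply, ι_coe]
    funext j
    rw [q_apply, Pi.zero_apply, Pi.zero_apply, Submodule.Quotient.mk_zero]

/-- adding `n` zero generators adds `n · length (A/J)` to the invariant -/
theorem h_L0 : h (L0 ℓ n) = h ℓ + n * Module.length A (A ⧸ J ℓ) := by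
  unfold h
  rw [Module.length_eq_add_of_exact (ιbar ℓ n) (πbar ℓ n) (ιbar_injective ℓ n)
    (πbar_surjective ℓ n) (exact_ιbar_πbar ℓ n), Module.length_pi_of_fintype]
  simp

end Zero

section Coprod

variable {F : Type v} [AddCommGroup F] [Module A F] (ℓ : F →ₗ[A] A) {n : ℕ}

/-- the linear form attached to a finite family -/
noncomputable abbrev lin {n : ℕ} (z : Fin n → A) : (Fin n → A) →ₗ[A] A :=
  Fintype.linearCombination A z

lemma lin_apply {n : ℕ} (z : Fin n → A) (a : Fin n → A) : lin z a = ∑ i, a i * z i := by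
  rw [Fintype.linearCombination_apply]
  rfl

lemma J_lin {n : ℕ} (z : Fin n → A) : J (lin z) = Ideal.span (Set.range z) := by
  unfold J
  rw [Fintype.range_linearCombination]

/-- the shear `(a, a') ↦ (a + C a', a')` -/
noncomputable def shear (C : (Fin n → A) →ₗ[A] F) :
    (F × (Fin n → A)) ≃ₗ[A] (F × (Fin n → A)) :=
  LinearEquiv.ofLinearMap
    ((LinearMap.fst A F (Fin n → A) + C.comp (LinearMap.snd A F (Fin n → A))).prod
      (LinearMap.snd A F (Fin n → A)))
    ((LinearMap.fst A F (Fin n → A) - C.comp (LinearMap.snd A F (Fin n → A))).prod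
      (LinearMap.snd A F (Fin n → A)))
    (by
      apply LinearMap.ext
      rintro ⟨a, a'⟩
      simp)
    (by
      apply LinearMap.ext
      rintro ⟨a, a'⟩
      simp)

lemma shear_apply (C : (Fin n → A) →ₗ[A] F) (p : F × (Fin n → A)) :
    shear C p = (p.1 + C p.2, p.2) := rfl

/-- adding `n` redundant generators -/
theorem h_coprod (z' : Fin n → A) (hz' : ∀ j, z' j ∈ J ℓ) :
    h (ℓ.coprod (lin z')) = h ℓ + n * Module.length A (A ⧸ J ℓ) := by
  choose c hc using hz'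
  let C : (Fin n → A) →ₗ[A] F := Fintype.linearCombination A c
  have hC : ∀ a', ℓ (C a') = lin z' a' := by
    intro a'
    simp only [C, Fintype.linearCombination_apply, map_sum, map_smul, hc]
  rw [← h_L0]
  refine h_eq_of_equiv _ _ (shear C) ?_
  rintro ⟨a, a'⟩
  rw [shear_apply, L0_apply, LinearMap.coprod_apply, map_add, hC]

theorem h_coprod_comm {F' : Type w} [AddCommGroup F'] [Module A F'] (ℓ' : F' →ₗ[A] A) :
    h (ℓ.coprod ℓ') = h (ℓ'.coprod ℓ) := by
  refine h_eq_of_equiv _ _ (LinearEquiv.prodComm A F F') ?_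
  rintro ⟨a, a'⟩
  simp [add_comm]

/-- comparison of the invariants of two generating families of the same ideal -/
theorem h_add_comm {n n' : ℕ} (z : Fin n → A) (z' : Fin n' → A)
    (hJ : Ideal.span (Set.range z) = Ideal.span (Set.range z')) :
    h (lin z) + n' * Module.length A (A ⧸ Ideal.span (Set.range z)) =
      h (lin z') + n * Module.length A (A ⧸ Ideal.span (Set.range z)) := by
  have h1 : h ((lin z).coprod (lin z')) =
      h (lin z) + n' * Module.length A (A ⧸ J (lin z)) :=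
    h_coprod (lin z) z' (fun j => by
      rw [J_lin, hJ]; exact Ideal.subset_span (Set.mem_range_self j))
  have h2 : h ((lin z').coprod (lin z)) =
      h (lin z') + n * Module.length A (A ⧸ J (lin z')) :=
    h_coprod (lin z') z (fun j => by
      rw [J_lin, ← hJ]; exact Ideal.subset_span (Set.mem_range_self j))
  rw [h_coprod_comm, h2] at h1
  rw [J_lin, J_lin, ← hJ] at h1
  exact h1.symm

end Coprod

end Groth.Agent.H6.KosInv
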