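import Mathlib
import Groth.Agent.Lib.helper6.KosInv
import Groth.Agent.Lib.helper19.Koszul1
import Groth.Agent.Lib.helper19.CotTReg
import Groth.Agent.Lib.helper5.RegLoc3

set_option maxHeartbeats 400000
set_option linter.style.haveILetI false
set_option linter.unusedSectionVars false

/-! `H₁` of the image of a Koszul-acyclic generating family `x` of an ideal `m` of `B` in a quotient
`A = B/I` (with `I ≤ m`) is `I / mI`. -/

universe u

namespace Groth.Agent.H6.KosInv

open Groth.Agent.Lib.helper19.Koszul1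

section Quot

variable {B : Type u} [CommRing B] {A : Type u} [CommRing A] [Algebra B A]
  (hsurj : Function.Surjective (algebraMap B A)) {n : ℕ} (x : Fin n → B)

/-- coordinatewise reduction `Bⁿ → Aⁿ` -/
def red (n : ℕ) : (Fin n → B) →ₗ[B] (Fin n → A) :=
  LinearMap.compLeft (Algebra.linearMap B A) (Fin n)

lemma red_apply (b : Fin n → B) (i : Fin n) : red (A := A) n b i = algebraMap B A (b i) := rfl

/-- the image family -/
def zz : Fin n → A := fun i => algebraMap B A (x i)

lemma red_lin (b : Fin n → B) : algebraMap B A (lin x b) = lin (zz (A := A) x) (red n b) := by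
  rw [lin_apply, lin_apply, map_sum]
  refine Finset.sum_congr rfl fun i _ => ?_
  rw [map_mul]
  rfl

include hsurj in
lemma red_surjective : Function.Surjective (red (B := B) (A := A) n) := by
  intro a
  choose b hb using fun i => hsurj (a i)
  exact ⟨b, funext fun i => hb i⟩

lemma red_smul (β : B) (b : Fin n → B) :
    red (A := A) n (β • b) = algebraMap B A β • red (A := A) n b := by
  funext i
  simp [red_apply]

lemma red_mem_T {t : Fin n → B} (ht : t ∈ T (lin x)) : red n t ∈ T (lin (zz (A := A) x)) := by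
  induction ht using Submodule.span_induction with
  | mem y hy =>
    obtain ⟨p, rfl⟩ := hy
    simp only [map_sub, red_smul, red_lin]
    exact gen_mem_T _ _ _
  | zero => rw [map_zero]; exact Submodule.zero_mem _
  | add y w _ _ hy hw => rw [map_add]; exact Submodule.add_mem _ hy hw
  | smul β y _ hy => rw [red_smul]; exact Submodule.smul_mem _ _ hy

include hsurj in
lemma exists_lift_T {y : Fin n → A} (hy : y ∈ T (lin (zz (A := A) x))) :
    ∃ t ∈ T (lin x), red n t = y := by
  induction hy using Submodule.span_induction with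
  | mem y hy =>
    obtain ⟨p, rfl⟩ := hy
    obtain ⟨u, hu⟩ := red_surjective hsurj p.1
    obtain ⟨v, hv⟩ := red_surjective hsurj p.2
    refine ⟨lin x u • v - lin x v • u, gen_mem_T _ _ _, ?_⟩
    simp only [map_sub, red_smul, red_lin, hu, hv]
  | zero => exact ⟨0, Submodule.zero_mem _, map_zero _⟩
  | add y w _ _ hy hw =>
    obtain ⟨t1, h1, e1⟩ := hy
    obtain ⟨t2, h2, e2⟩ := hw
    exact ⟨t1 + t2, Submodule.add_mem _ h1 h2, by rw [map_add, e1, e2]⟩
  | smul a y _ hy =>
    obtain ⟨t, h1, e1⟩ := hy
    obtain ⟨β, rfl⟩ := hsurj a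
    exact ⟨β • t, Submodule.smul_mem _ _ h1, by rw [red_smul, e1]⟩

lemma exists_sum_of_mem_mul (K : Ideal B) {c : B} (hc : c ∈ Ideal.span (Set.range x) * K) :
    ∃ η : Fin n → B, (∀ i, η i ∈ K) ∧ c = ∑ i, η i * x i := by
  refine Submodule.mul_induction_on
    (C := fun c => ∃ η : Fin n → B, (∀ i, η i ∈ K) ∧ c = ∑ i, η i * x i) hc ?_ ?_
  · intro a ha k hk
    obtain ⟨e, rfl⟩ := Ideal.mem_span_range_iff_exists_fun.mp ha
    refine ⟨fun i => e i * k, fun i => K.mul_mem_left _ hk, ?_⟩
    rw [Finset.sum_mul]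
    exact Finset.sum_congr rfl fun i _ => by ring
  · intro y w hy hw
    obtain ⟨η1, h1, e1⟩ := hy
    obtain ⟨η2, h2, e2⟩ := hw
    refine ⟨η1 + η2, fun i => K.add_mem (h1 i) (h2 i), ?_⟩
    rw [e1, e2]
    simp [add_mul, Finset.sum_add_distrib]

/-- the ideal `I = ker (B → A)` -/
abbrev II : Ideal B := RingHom.ker (algebraMap B A)

/-- the submodule of `Bⁿ` of families with `∑ bᵢxᵢ ∈ I` -/
noncomputable def PP : Submodule B (Fin n → B) := Submodule.comap (lin x) (II (B := B) (A := A))

lemma red_mem_ker (b : PP (A := A) x) : red n (b : Fin n → B) ∈ LinearMap.ker (lin (zz (A := A) x)) := by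
  rw [LinearMap.mem_ker, ← red_lin]
  exact b.2

/-- `P → H₁(z; A)` -/
noncomputable def f1 : PP (A := A) x →ₗ[B] H (lin (zz (A := A) x)) where
  toFun b := Submodule.Quotient.mk ⟨red n (b : Fin n → B), red_mem_ker x b⟩
  map_add' b c := by
    rw [← Submodule.Quotient.mk_add]
    congr 1
    apply Subtype.ext
    simp
  map_smul' β b := by
    rw [RingHom.id_apply, ← algebraMap_smul A β (Submodule.Quotient.mk _),
      ← Submodule.Quotient.mk_smul]
    congr 1
    apply Subtype.ext
    simp

lemma f1_apply (b : PP (A := A) x) :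
    f1 x b = Submodule.Quotient.mk ⟨red n (b : Fin n → B), red_mem_ker x b⟩ := rfl

/-- `P → I / mI` -/
noncomputable def f2 : PP (A := A) x →ₗ[B]
    (II (B := B) (A := A)) ⧸ (Ideal.span (Set.range x) • (⊤ : Submodule B (II (B := B) (A := A)))) :=
  (Submodule.mkQ _).comp
    (LinearMap.codRestrict (II (B := B) (A := A)) ((lin x).comp (PP (A := A) x).subtype)
      (fun b => b.2))

lemma f2_apply (b : PP (A := A) x) :
    f2 x b = Submodule.Quotient.mk ⟨lin x (b : Fin n → B), b.2⟩ := rfl

include hsurj in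
lemma f1_surjective : Function.Surjective (f1 (A := A) x) := by
  intro y
  obtain ⟨⟨a, ha⟩, rfl⟩ := Submodule.mkQ_surjective _ y
  obtain ⟨b, rfl⟩ := red_surjective hsurj a
  have hb : b ∈ PP (A := A) x := by
    show lin x b ∈ RingHom.ker (algebraMap B A)
    rw [RingHom.mem_ker, red_lin]
    exact ha
  exact ⟨⟨b, hb⟩, rfl⟩

lemma f2_surjective (hI : II (B := B) (A := A) ≤ Ideal.span (Set.range x)) :
    Function.Surjective (f2 (A := A) x) := by
  intro y
  obtain ⟨⟨c, hc⟩, rfl⟩ := Submodule.mkQ_surjective _ y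
  obtain ⟨b, hb⟩ := Ideal.mem_span_range_iff_exists_fun.mp (hI hc)
  have hb' : lin x b = c := by rw [lin_apply]; exact hb
  have hbP : b ∈ PP (A := A) x := by
    show lin x b ∈ II (B := B) (A := A)
    rw [hb']; exact hc
  refine ⟨⟨b, hbP⟩, ?_⟩
  rw [f2_apply, Submodule.mkQ_apply]
  congr 1
  exact Subtype.ext hb'

include hsurj in
lemma ker_f1_eq_ker_f2 (hkos : ∀ b : Fin n → B, lin x b = 0 → b ∈ T (lin x)) :
    LinearMap.ker (f1 (A := A) x) = LinearMap.ker (f2 (A := A) x) := by
  ext ⟨b, hbP⟩
  rw [LinearMap.mem_ker, LinearMap.mem_ker, f1_apply, f2_apply, Submodule.Quotient.mk_eq_zero,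
    Submodule.Quotient.mk_eq_zero, Submodule.mem_smul_top_iff]
  simp only [TK, Submodule.mem_comap, Submodule.subtype_apply, smul_eq_mul]
  constructor
  · intro h1
    obtain ⟨t, ht, hte⟩ := exists_lift_T hsurj x h1
    have hI : ∀ i, b i - t i ∈ II (B := B) (A := A) := by
      intro i
      rw [RingHom.mem_ker, map_sub, sub_eq_zero]
      have := congrFun hte i
      rw [red_apply, red_apply] at this
      exact this.symm
    have h2 : lin x b = lin x (b - t) := by
      rw [map_sub, (LinearMap.mem_ker.mp (T_le_ker _ ht)), sub_zero]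
    rw [h2, lin_apply]
    refine Ideal.sum_mem _ fun i _ => ?_
    have hc : (b - t) i * x i = x i * (b i - t i) := by rw [Pi.sub_apply]; ring
    rw [hc]
    exact Ideal.mul_mem_mul (Ideal.subset_span (Set.mem_range_self i)) (hI i)
  · intro h1
    obtain ⟨η, hη, he⟩ := exists_sum_of_mem_mul x _ h1
    have h2 : lin x (b - η) = 0 := by
      rw [map_sub, lin_apply x η, ← he, sub_self]
    have h3 := red_mem_T (A := A) x (hkos _ h2)
    have h4 : red (A := A) n η = 0 := by
      funext i
      rw [red_apply]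
      exact (RingHom.mem_ker).mp (hη i)
    rw [map_sub, h4, sub_zero] at h3
    exact h3

include hsurj in
/-- the length computation -/
theorem length_H_eq (hI : II (B := B) (A := A) ≤ Ideal.span (Set.range x))
    (hkos : ∀ b : Fin n → B, lin x b = 0 → b ∈ T (lin x)) :
    Module.length B (H (lin (zz (A := A) x))) =
      Module.length B ((II (B := B) (A := A)) ⧸
        (Ideal.span (Set.range x) • (⊤ : Submodule B (II (B := B) (A := A))))) := by
  have e1 := (LinearMap.quotKerEquivOfSurjective _ (f1_surjective hsurj x)).length_eq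
  have e2 := (LinearMap.quotKerEquivOfSurjective _ (f2_surjective x hI)).length_eq
  have e3 := (Submodule.quotEquivOfEq _ _ (ker_f1_eq_ker_f2 hsurj x hkos)).length_eq
  rw [← e1, e3, e2]

end Quot

end Groth.Agent.H6.KosInv
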