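import Mathlib
import Groth.Agent.Lib.helper6.KosInv2

set_option maxHeartbeats 400000
set_option linter.style.haveILetI false
set_option linter.unusedSectionVars false

/-! For a surjection `B → A` from a regular local ring, the Koszul invariant of `A` computes the
minimal number of generators of the kernel; consequently `dim B - μ(ker)` does not depend on the
presentation. -/

universe u

namespace Groth.Agent.H6.KosInv

open IsLocalRing Groth.Agent.Lib.helper19.Koszul1 Groth.Agent.Lib.helper19.CotTReg

lemma kosz_le_T {B : Type u} [CommRing B] {n : ℕ} (x : Fin n → B) : kosz x ≤ T (lin x) := by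
  classical
  refine Submodule.span_le.mpr ?_
  rintro y ⟨j, k, rfl⟩
  have h1 : ∀ j : Fin n, lin x (Pi.single j (1 : B)) = x j := by
    intro j
    rw [lin_apply]
    simp [Pi.single_apply]
  have h2 := gen_mem_T (lin x) (Pi.single j (1 : B)) (Pi.single k (1 : B))
  rw [h1, h1] at h2
  exact h2

lemma span_range_getF {B : Type u} [CommRing B] (rs : List B) :
    Ideal.span (Set.range (getF rs)) = Ideal.ofList rs := by
  unfold Ideal.ofList
  congr 1
  ext y
  simp only [Set.mem_range, Set.mem_ofPred_eq]
  constructor
  · rintro ⟨i, rfl⟩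
    exact List.getElem_mem i.2
  · intro hy
    obtain ⟨i, hi, rfl⟩ := List.getElem_of_mem hy
    exact ⟨⟨i, hi⟩, rfl⟩

/-- length over `B` of `I/mI` is the minimal number of generators -/
lemma length_quot_eq_spanFinrank {B : Type u} [CommRing B] [IsLocalRing B] [IsNoetherianRing B]
    (I : Ideal B) :
    Module.length B (I ⧸ (maximalIdeal B • (⊤ : Submodule B I))) = (I.spanFinrank : ℕ∞) := by
  have fg : (I : Submodule B B).FG := IsNoetherian.noetherian I
  rw [IsLocalRing.spanFinrank_eq_finrank_quotient I fg]
  letI := Ideal.Quotient.field (maximalIdeal B)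
  rw [Module.length_eq_of_surjective (S := B) (R := B ⧸ maximalIdeal B)
    (M := I ⧸ (maximalIdeal B • (⊤ : Submodule B I))) Ideal.Quotient.mk_surjective]
  haveI : Module.Finite (B ⧸ maximalIdeal B) (I ⧸ (maximalIdeal B • (⊤ : Submodule B I))) :=
    Module.Finite.of_restrictScalars_finite B _ _
  exact Module.length_eq_finrank _ _

theorem exists_h_eq_spanFinrank {B A : Type u} [CommRing B] [IsRegularLocalRing B] [CommRing A]
    [Nontrivial A] [Algebra B A] (hsurj : Function.Surjective (algebraMap B A)) (d : ℕ)
    (hd : ringKrullDim B = d) :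
    ∃ (n : ℕ) (z : Fin n → A), n = d ∧
      Ideal.span (Set.range z) = (maximalIdeal B).map (algebraMap B A) ∧
      h (lin z) = ((RingHom.ker (algebraMap B A)).spanFinrank : ℕ∞) := by
  have hsf := Groth.Agent.H5.RegLoc.spanFinrank_eq_of_dim hd
  obtain ⟨x0, hx0⟩ := Groth.Agent.H5.RegLoc.exists_fin_generators B d hsf
  have hreg := Groth.Agent.H5.RegLoc.isRegular_of_generators d B hd x0 hx0
  set rs : List B := List.ofFn x0 with hrs
  have hset : {r | r ∈ List.ofFn x0} = Set.range x0 := by
    ext y; simp only [Set.mem_ofPred_eq, List.mem_ofFn, Set.mem_range]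
  have hspan : Ideal.span (Set.range (getF rs)) = maximalIdeal B := by
    rw [span_range_getF, hrs, Ideal.ofList, hset, hx0]
  have hkos : ∀ b : Fin rs.length → B, lin (getF rs) b = 0 → b ∈ T (lin (getF rs)) := by
    intro b hb
    apply kosz_le_T
    refine koszul_h1 rs.length (getF rs) (hreg_of_isWeaklyRegular rs hreg.toIsWeaklyRegular) b ?_
    rw [← lin_apply]; exact hb
  have hI : II (B := B) (A := A) ≤ Ideal.span (Set.range (getF rs)) := by
    rw [hspan]
    exact IsLocalRing.le_maximalIdeal (RingHom.ker_ne_top _)
  refine ⟨rs.length, zz (A := A) (getF rs), by rw [hrs, List.length_ofFn], ?_, ?_⟩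
  · rw [← hspan, Ideal.map_span, ← Set.range_comp]
    rfl
  · unfold h
    rw [← Module.length_eq_of_surjective (S := B) (R := A) hsurj,
      length_H_eq hsurj (getF rs) hI hkos, hspan]
    exact length_quot_eq_spanFinrank _

/-- `dim B - μ(ker)` is independent of the presentation -/
theorem presentation_invariant (A : Type u) [CommRing A] [IsLocalRing A]
    (B B' : Type u) [CommRing B] [CommRing B'] [IsRegularLocalRing B]
    [IsRegularLocalRing B'] (f : B →+* A) (hf : Function.Surjective f) (f' : B' →+* A)
    (hf' : Function.Surjective f') (d d' : ℕ) (hd : ringKrullDim B = d)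
    (hd' : ringKrullDim B' = d') :
    (d : ℤ) - ((RingHom.ker f).spanFinrank : ℤ) =
      (d' : ℤ) - ((RingHom.ker f').spanFinrank : ℤ) := by
  have hm : ∀ (C : Type u) [CommRing C] [IsLocalRing C] (g : C →+* A), Function.Surjective g →
      (maximalIdeal C).map g = maximalIdeal A := by
    intro C _ _ g hg
    exact IsLocalRing.map_maximalIdeal_of_surjective g hg
  obtain ⟨n, z, hn, hz, hh⟩ := by
    letI := f.toAlgebra
    exact exists_h_eq_spanFinrank (B := B) (A := A) hf d hd
  obtain ⟨n', z', hn', hz', hh'⟩ := by
    letI := f'.toAlgebra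
    exact exists_h_eq_spanFinrank (B := B') (A := A) hf' d' hd'
  have hz1 : Ideal.span (Set.range z) = maximalIdeal A := hz.trans (hm B f hf)
  have hz2 : Ideal.span (Set.range z') = maximalIdeal A := hz'.trans (hm B' f' hf')
  have key := h_add_comm z z' (hz1.trans hz2.symm)
  have hlen : Module.length A (A ⧸ Ideal.span (Set.range z)) = 1 := by
    rw [hz1, Module.length_eq_one_iff, isSimpleModule_iff_isCoatom]
    exact (Ideal.isMaximal_def.mp (maximalIdeal.isMaximal A))
  rw [hlen, mul_one, mul_one, hh, hh', hn, hn'] at key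
  have key2 : (RingHom.ker f).spanFinrank + d' = (RingHom.ker f').spanFinrank + d := by
    exact_mod_cast key
  omega

end Groth.Agent.H6.KosInv
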