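import Mathlib
import Groth.Agent.Lib.helper25.SmoothDim
import Groth.Prelude.Def_RegImm

/-!
# Global complete intersections from presentations; generators of primes in polynomial rings
-/

set_option autoImplicit false
set_option linter.style.haveILetI false
set_option linter.unusedSectionVars false
set_option maxHeartbeats 400000

universe u v w

namespace Groth.Agent.Lib.helper6.GCIField

open MvPolynomial IsLocalRing

/-- a finite presentation with the right dimension gives a global complete intersection. -/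
theorem isGlobalCI_of_presentation {k T : Type u} [Field k] [CommRing T] [Algebra k T]
    {ι : Type v} {σ : Type w} [Finite ι] [Finite σ] (P : Algebra.Presentation k T ι σ)
    (hle : Nat.card σ ≤ Nat.card ι)
    (hdim : ringKrullDim T = ((Nat.card ι - Nat.card σ : ℕ) : WithBot ℕ∞)) :
    Synt.IsGlobalCI k T := by
  right
  haveI := Fintype.ofFinite ι
  haveI := Fintype.ofFinite σ
  let P' := P.reindex (Fintype.equivFin ι).symm (Fintype.equivFin σ).symm
  rw [Nat.card_eq_fintype_card, Nat.card_eq_fintype_card] at hle hdim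
  refine ⟨Fintype.card ι, Fintype.card σ, hle, MvPolynomial.aeval P'.val, P'.relation, ?_, ?_, hdim⟩
  · have := P'.algebraMap_surjective
    rwa [P'.algebraMap_eq] at this
  · rw [P'.span_range_relation_eq_ker, P'.ker_eq_ker_aeval_val]
    rfl

/-- a uniform multiplier. -/
theorem exists_mul_mem_of_forall {R : Type u} [CommRing R] [IsNoetherianRing R] (p I : Ideal R)
    [p.IsPrime] (h : ∀ x ∈ p, ∃ t, t ∉ p ∧ t * x ∈ I) : ∃ g, g ∉ p ∧ ∀ x ∈ p, g * x ∈ I := by
  classical
  obtain ⟨S, hS⟩ := (IsNoetherian.noetherian p : p.FG)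
  have h' : ∀ x : R, ∃ t, t ∉ p ∧ (x ∈ p → t * x ∈ I) := by
    intro x
    by_cases hx : x ∈ p
    · obtain ⟨t, ht, htx⟩ := h x hx
      exact ⟨t, ht, fun _ => htx⟩
    · exact ⟨1, fun h1 => (Ideal.IsPrime.ne_top inferInstance) ((Ideal.eq_top_iff_one p).mpr h1),
        fun h => absurd h hx⟩
  choose t ht1 ht2 using h'
  refine ⟨∏ x ∈ S, t x, ?_, ?_⟩
  · intro hmem
    rw [Ideal.IsPrime.prod_mem_iff] at hmem
    obtain ⟨x, -, hx⟩ := hmem
    exact ht1 x hx
  · intro x hx
    rw [← hS] at hx
    refine Submodule.span_induction (p := fun x _ => (∏ x ∈ S, t x) * x ∈ I) ?_ ?_ ?_ ?_ hx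
    · intro y hy
      have hyS : y ∈ S := hy
      have hyp : y ∈ p := by rw [← hS]; exact Ideal.subset_span hy
      rw [← Finset.mul_prod_erase S t hyS, mul_assoc, mul_comm, mul_assoc]
      apply Ideal.mul_mem_left
      rw [mul_comm]
      exact ht2 y hyp
    · simp
    · intro a b _ _ ha hb
      rw [mul_add]
      exact I.add_mem ha hb
    · intro a b _ hb
      rw [smul_eq_mul, mul_left_comm]
      exact I.mul_mem_left a hb

/-- in a polynomial ring over a field, a prime `p` of height `c` is generated, up to a multiplier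
outside `p`, by `c` elements. -/
theorem exists_gens (k : Type u) [Field k] (n : ℕ) (p : Ideal (MvPolynomial (Fin n) k))
    [p.IsPrime] :
    ∃ (c : ℕ) (f : Fin c → MvPolynomial (Fin n) k), (c : ℕ∞) = p.height ∧ (∀ j, f j ∈ p) ∧
      ∃ g, g ∉ p ∧ ∀ x ∈ p, g * x ∈ Ideal.span (Set.range f) := by
  classical
  haveI : IsRegularRing (MvPolynomial (Fin n) k) := inferInstance
  set Rp := Localization.AtPrime p with hRp
  haveI : IsRegularLocalRing Rp := IsRegularRing.isRegularLocalRing_localization p
  have hreg : ((maximalIdeal Rp).spanFinrank : WithBot ℕ∞) = ringKrullDim Rp :=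
    IsRegularLocalRing.spanFinrank_maximalIdeal
  have hdim : ringKrullDim Rp = p.height := IsLocalization.AtPrime.ringKrullDim_eq_height p Rp
  obtain ⟨s, hcard, hspan⟩ := Submodule.FG.exists_span_finset_card_eq_spanFinrank
    (IsNoetherian.noetherian (maximalIdeal Rp))
  have hsurj : ∀ y : Rp, ∃ a : MvPolynomial (Fin n) k × p.primeCompl,
      y * algebraMap _ Rp (a.2 : MvPolynomial (Fin n) k) = algebraMap _ Rp a.1 :=
    fun y => IsLocalization.surj p.primeCompl y
  choose a ha using hsurj
  set e := s.equivFin with he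
  refine ⟨s.card, fun j => (a (e.symm j : Rp)).1, ?_, ?_, ?_⟩
  · have h1 : (((s.card : ℕ) : ℕ∞) : WithBot ℕ∞) = ((p.height : ℕ∞) : WithBot ℕ∞) := by
      rw [← hdim, ← hreg, hcard]
      rfl
    exact_mod_cast h1
  · intro j
    have hy : ((e.symm j : s) : Rp) ∈ maximalIdeal Rp := by
      rw [← hspan]
      exact Ideal.subset_span (e.symm j).2
    have h2 := ha (e.symm j : Rp)
    rw [← IsLocalization.AtPrime.to_map_mem_maximal_iff Rp p, ← h2]
    exact Ideal.mul_mem_right _ _ hy
  · set I := Ideal.span (Set.range fun j => (a (e.symm j : Rp)).1) with hI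
    apply exists_mul_mem_of_forall p I
    have hle : maximalIdeal Rp ≤ I.map (algebraMap _ Rp) := by
      rw [← hspan, Ideal.span_le]
      intro y hy
      have hyS : y ∈ s := hy
      have hu : IsUnit (algebraMap (MvPolynomial (Fin n) k) Rp ((a y).2 : MvPolynomial (Fin n) k)) :=
        IsLocalization.map_units Rp (a y).2
      have h2 := ha y
      have h3 : y = algebraMap _ Rp (a y).1 * ↑(hu.unit⁻¹) := by
        rw [← h2, mul_assoc, IsUnit.mul_val_inv, mul_one]
      rw [SetLike.mem_coe, h3]
      apply Ideal.mul_mem_right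
      apply Ideal.mem_map_of_mem
      rw [hI]
      apply Ideal.subset_span
      refine ⟨e ⟨y, hyS⟩, ?_⟩
      simp
    intro x hx
    have hx1 : algebraMap _ Rp x ∈ I.map (algebraMap _ Rp) := by
      apply hle
      rw [IsLocalization.AtPrime.to_map_mem_maximal_iff Rp p]
      exact hx
    rw [IsLocalization.mem_map_algebraMap_iff p.primeCompl Rp] at hx1
    obtain ⟨⟨i, t⟩, hit⟩ := hx1
    rw [← map_mul, IsLocalization.eq_iff_exists p.primeCompl Rp] at hit
    obtain ⟨t', ht'⟩ := hit
    refine ⟨t'.1 * t.1, (t' * t).2, ?_⟩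
    have : t'.1 * t.1 * x = t'.1 * (x * t.1) := by ring
    rw [this, ht']
    exact Ideal.mul_mem_left _ _ i.2

end Groth.Agent.Lib.helper6.GCIField
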