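import Mathlib
import Groth.Prelude.Def_RegImm
import Groth.Agent.Lib.helper6.GCIFieldA
import Groth.Agent.Lib.helper7.DimFT
import Groth.Agent.Lib.helper3.SyntTransport

/-!
# Localization away from an element preserves global / local complete intersections over a field
-/

set_option autoImplicit false
set_option linter.style.haveILetI false
set_option linter.unusedSectionVars false
set_option maxHeartbeats 400000

universe u

namespace Groth.Agent.Lib.helper6.GCILoc

open MvPolynomial

variable {k : Type u} [Field k]

/-- presentation from the data of a global complete intersection -/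
noncomputable def presOf {S : Type u} [CommRing S] [Algebra k S] {n c : ℕ}
    (φ : MvPolynomial (Fin n) k →ₐ[k] S) (r : Fin c → MvPolynomial (Fin n) k)
    (hφ : Function.Surjective φ) (hker : RingHom.ker φ.toRingHom = Ideal.span (Set.range r)) :
    Algebra.Presentation k S (Fin n) (Fin c) where
  __ := Algebra.Generators.ofSurjective (fun i => φ (X i)) (by
    have : (aeval fun i => φ (X i)) = φ := (MvPolynomial.aeval_unique φ).symm
    rw [this]
    exact hφ)
  relation := r
  span_range_relation_eq_ker := by
    rw [Algebra.Generators.ker_eq_ker_aeval_val, ← hker]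
    have : (aeval fun i => φ (X i)) = φ := (MvPolynomial.aeval_unique φ).symm
    ext x
    rw [RingHom.mem_ker, RingHom.mem_ker]
    change φ x = 0 ↔ aeval (fun i => φ (X i)) x = 0
    rw [this]

theorem ringKrullDim_le_of_isLocalization {R : Type*} [CommRing R] (M : Submonoid R)
    (T : Type*) [CommRing T] [Algebra R T] [IsLocalization M T] :
    ringKrullDim T ≤ ringKrullDim R := by
  apply Order.krullDim_le_of_strictMono (PrimeSpectrum.comap (algebraMap R T))
  apply Monotone.strictMono_of_injective
  · intro P Q hPQ
    exact Ideal.comap_mono hPQ
  · exact PrimeSpectrum.localization_comap_injective T M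

theorem arith (x : WithBot ℕ∞) (a b : ℕ) (h : (a : WithBot ℕ∞) ≤ x + (b : WithBot ℕ∞)) :
    ((a - b : ℕ) : WithBot ℕ∞) ≤ x := by
  induction x with
  | bot =>
    rw [WithBot.bot_add] at h
    exact absurd h (by simp)
  | coe y =>
    induction y with
    | top => exact le_top
    | coe m =>
      have h' : a ≤ m + b := by exact_mod_cast h
      have h1 : a - b ≤ m := by omega
      have h2 : ((a - b : ℕ) : ℕ∞) ≤ (m : ℕ∞) := Nat.cast_le.mpr h1
      exact (WithBot.coe_le_coe.mpr h2)

/-- a nonzero algebra presented by `card ι` generators and `card σ` relations has dimension at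
least `card ι - card σ`. -/
theorem card_le_dim_add {T : Type u} [CommRing T] [Algebra k T] [Nontrivial T] {ι σ : Type}
    [Finite ι] [Finite σ] (P : Algebra.Presentation k T ι σ) :
    (Nat.card ι : WithBot ℕ∞) ≤ ringKrullDim T + (Nat.card σ : WithBot ℕ∞) := by
  classical
  haveI := Fintype.ofFinite ι
  haveI := Fintype.ofFinite σ
  have hI : Ideal.span (Set.range P.relation) = P.ker := P.span_range_relation_eq_ker
  have hne : P.ker ≠ ⊤ := by
    intro h
    have h1 : (1 : P.Ring) ∈ P.ker := by
      rw [h]
      trivial
    have h2 : algebraMap P.Ring T 1 = 0 := h1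
    rw [map_one] at h2
    exact one_ne_zero h2
  obtain ⟨p, hp⟩ := Ideal.nonempty_minimalPrimes hne
  haveI := hp.1.1
  have hht : p.height ≤ (Finset.univ.image P.relation).card := by
    apply Ideal.height_le_card_of_mem_minimalPrimes_span_finset
    rw [Finset.coe_image, Finset.coe_univ, Set.image_univ, hI]
    exact hp
  have hcard : (Finset.univ.image P.relation).card ≤ Fintype.card σ :=
    Finset.card_image_le.trans (by simp)
  have hsum := Groth.Agent.Lib.helper7.DimFT.ringKrullDim_quotient_add_height (k := k)
    (MvPolynomial ι k) p
  have hdimR : ringKrullDim (MvPolynomial ι k) = (Fintype.card ι : WithBot ℕ∞) := by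
    rw [MvPolynomial.ringKrullDim_of_isNoetherianRing]
    simp
  have h1 : ringKrullDim (MvPolynomial ι k ⧸ p) ≤ ringKrullDim (MvPolynomial ι k ⧸ P.ker) :=
    ringKrullDim_le_of_surjective (Ideal.Quotient.factor hp.1.2)
      (Ideal.Quotient.factor_surjective _)
  have h2 : ringKrullDim (MvPolynomial ι k ⧸ P.ker) = ringKrullDim T :=
    ringKrullDim_eq_of_ringEquiv
      (RingHom.quotientKerEquivOfSurjective P.algebraMap_surjective)
  rw [Nat.card_eq_fintype_card, Nat.card_eq_fintype_card, ← hdimR, ← hsum]
  refine add_le_add (h1.trans h2.le) ?_
  have : p.height ≤ (Fintype.card σ : ℕ∞) := hht.trans (by exact_mod_cast hcard)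
  exact_mod_cast this

theorem isGlobalCI_away {S : Type u} [CommRing S] [Algebra k S] (g : S)
    (h : Synt.IsGlobalCI k S) : Synt.IsGlobalCI k (Localization.Away g) := by
  by_cases hsub : Subsingleton (Localization.Away g)
  · exact Or.inl hsub
  rw [not_subsingleton_iff_nontrivial] at hsub
  rcases h with h | ⟨n, c, hcn, φ, r, hφ, hker, hdim⟩
  · exfalso
    haveI := h
    haveI : Subsingleton (Localization.Away g) := Module.subsingleton S _
    exact not_subsingleton (Localization.Away g) inferInstance
  · let P₁ := presOf φ r hφ hker
    let P₂ : Algebra.Presentation S (Localization.Away g) Unit Unit :=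
      Algebra.Presentation.localizationAway _ g
    let P₃ := P₂.comp P₁
    apply Groth.Agent.Lib.helper6.GCIField.isGlobalCI_of_presentation P₃
    · simp only [Nat.card_sum, Nat.card_unique, Nat.card_fin]
      omega
    · simp only [Nat.card_sum, Nat.card_unique, Nat.card_fin]
      have e : 1 + n - (1 + c) = n - c := by omega
      rw [e]
      apply le_antisymm
      · rw [← hdim]
        exact ringKrullDim_le_of_isLocalization (Submonoid.powers g) _
      · have h1 := card_le_dim_add P₃
        simp only [Nat.card_sum, Nat.card_unique, Nat.card_fin] at h1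
        have h2 := arith _ _ _ h1
        rwa [e] at h2

theorem isLCIOver_away {S : Type u} [CommRing S] [Algebra k S] (g : S)
    (h : Synt.IsLCIOver k S) : Synt.IsLCIOver k (Localization.Away g) := by
  obtain ⟨hft, hloc⟩ := h
  refine ⟨?_, ?_⟩
  · haveI := hft
    haveI : Algebra.FiniteType S (Localization.Away g) :=
      (Algebra.Presentation.localizationAway (Localization.Away g) g).toGenerators.finiteType
    exact Algebra.FiniteType.trans hft this
  · intro P
    obtain ⟨t, htP, hGCI⟩ := hloc (PrimeSpectrum.comap (algebraMap S (Localization.Away g)) P)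
    refine ⟨algebraMap S _ t, htP, ?_⟩
    have hT2 : Synt.IsGlobalCI k (Localization.Away (algebraMap S (Localization.Away t) g)) :=
      isGlobalCI_away (algebraMap S (Localization.Away t) g) hGCI
    haveI : IsLocalization.Away (g * t)
        (Localization.Away (algebraMap S (Localization.Away g) t)) :=
      IsLocalization.Away.mul' (Localization.Away g) _ g t
    haveI : IsLocalization.Away (g * t)
        (Localization.Away (algebraMap S (Localization.Away t) g)) :=
      IsLocalization.Away.mul (Localization.Away t) _ t g
    let e : Localization.Away (algebraMap S (Localization.Away t) g) ≃ₐ[S]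
        Localization.Away (algebraMap S (Localization.Away g) t) :=
      IsLocalization.algEquiv (Submonoid.powers (g * t)) _ _
    exact Groth.Agent.Lib.helper3.SyntTransport.isGlobalCI_of_algEquiv (e.restrictScalars k) hT2

end Groth.Agent.Lib.helper6.GCILoc
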