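import Mathlib
import Groth.Agent.Lib.helper6.CIOpen
import Groth.Agent.Lib.helper6.GCILoc
import Groth.Agent.Lib.helper6.GCIFieldA
import Groth.Agent.Lib.helper7.DimFT

set_option maxHeartbeats 400000
set_option autoImplicit false
set_option linter.style.haveILetI false
set_option linter.unusedSectionVars false

/-! Global complete intersections over a field, pointwise criteria. -/

namespace Groth.Agent.H6.GCIPoint

open IsLocalRing Groth.Agent.H6.CIReg Groth.Agent.H6.CIOpen

universe u

section Num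

variable {B : Type u} [CommRing B] [IsRegularRing B] (I : Ideal B) (q : Ideal (B ⧸ I)) [q.IsPrime]

theorem JQ_ne_top : JQ I (q.comap (Ideal.Quotient.mk I)) ≠ ⊤ := by
  obtain ⟨e⟩ := nonempty_locQuotEquiv I q
  haveI : IsLocalRing (Localization.AtPrime (q.comap (Ideal.Quotient.mk I)) ⧸
      JQ I (q.comap (Ideal.Quotient.mk I))) := e.isLocalRing
  exact Ideal.Quotient.nontrivial_iff.mp inferInstance

theorem isLocalRing_quot : IsLocalRing (Localization.AtPrime (q.comap (Ideal.Quotient.mk I)) ⧸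
      JQ I (q.comap (Ideal.Quotient.mk I))) := by
  obtain ⟨e⟩ := nonempty_locQuotEquiv I q
  exact e.isLocalRing

theorem height_JQ (c : ℕ) (hc : (c : ℕ∞) + q.height = (q.comap (Ideal.Quotient.mk I)).height) :
    (JQ I (q.comap (Ideal.Quotient.mk I))).height = c := by
  set Q := q.comap (Ideal.Quotient.mk I) with hQ
  have hJ := JQ_ne_top I q
  haveI : IsRegularRing (Localization.AtPrime Q) :=
    Groth.Agent.Lib.helper20.RegQuot.isRegularRing_localization Q.primeCompl
  have h1 := dim_eq_add_height (Localization.AtPrime Q) (JQ I Q) hJ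
  have h2 : ringKrullDim (Localization.AtPrime Q) = Q.height :=
    IsLocalization.AtPrime.ringKrullDim_eq_height Q _
  obtain ⟨e⟩ := nonempty_locQuotEquiv I q
  have h3 : ringKrullDim (Localization.AtPrime Q ⧸ JQ I Q) = q.height := by
    rw [← ringKrullDim_eq_of_ringEquiv e]
    exact IsLocalization.AtPrime.ringKrullDim_eq_height q _
  rw [h2, h3] at h1
  obtain ⟨a, ha⟩ := ENat.ne_top_iff_exists.mp (Ideal.height_ne_top_of_isPrime (I := q))
  obtain ⟨b, hb⟩ := ENat.ne_top_iff_exists.mp (Ideal.height_ne_top hJ)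
  obtain ⟨d, hd⟩ := ENat.ne_top_iff_exists.mp (Ideal.height_ne_top_of_isPrime (I := Q))
  rw [← ha, ← hd] at hc
  rw [← ha, ← hb, ← hd] at h1
  rw [← hb]
  have h1' : d = a + b := by exact_mod_cast h1
  have hc' : c + a = d := by exact_mod_cast hc
  have : b = c := by omega
  exact_mod_cast this

theorem good_iff (c : ℕ) (hc : (c : ℕ∞) + q.height = (q.comap (Ideal.Quotient.mk I)).height) :
    Good I (q.comap (Ideal.Quotient.mk I)) ↔
      (JQ I (q.comap (Ideal.Quotient.mk I))).spanFinrank = c := by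
  have hJ := JQ_ne_top I q
  have hht := height_JQ I q c hc
  have hkr := Ideal.height_le_spanFinrank _ hJ
  unfold Good
  rw [hht] at hkr ⊢
  constructor
  · intro h
    have h1 : (JQ I (q.comap (Ideal.Quotient.mk I))).spanFinrank ≤ c := by exact_mod_cast h
    have h2 : c ≤ (JQ I (q.comap (Ideal.Quotient.mk I))).spanFinrank := by exact_mod_cast hkr
    omega
  · intro h
    rw [h]

theorem two_iff (c : ℕ) (hc : (c : ℕ∞) + q.height = (q.comap (Ideal.Quotient.mk I)).height) :
    (∃ s : Finset (Localization.AtPrime (q.comap (Ideal.Quotient.mk I))), s.card = c ∧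
      Ideal.span (s : Set _) = JQ I (q.comap (Ideal.Quotient.mk I))) ↔
    Good I (q.comap (Ideal.Quotient.mk I)) := by
  constructor
  · rintro ⟨s, hs, hspan⟩
    unfold Good
    rw [height_JQ I q c hc, ← hspan]
    have h1 : (Ideal.span (s : Set (Localization.AtPrime
        (q.comap (Ideal.Quotient.mk I))))).spanFinrank ≤ c := by
      refine (Submodule.spanFinrank_span_le_ncard_of_finite (Finset.finite_toSet _)).trans ?_
      rw [Set.ncard_coe_finset, hs]
    exact_mod_cast h1
  · intro h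
    have hμ := (good_iff I q c hc).mp h
    have fg : (JQ I (q.comap (Ideal.Quotient.mk I)) : Submodule _ _).FG :=
      IsNoetherian.noetherian _
    obtain ⟨s, hs1, hs2⟩ := Submodule.FG.exists_span_finset_card_eq_spanFinrank fg
    exact ⟨s, hs1.trans hμ, hs2⟩

theorem five_iff :
    (∃ rs : List (Localization.AtPrime (q.comap (Ideal.Quotient.mk I))),
      RingTheory.Sequence.IsRegular (Localization.AtPrime (q.comap (Ideal.Quotient.mk I))) rs ∧
      Ideal.ofList rs = JQ I (q.comap (Ideal.Quotient.mk I))) ↔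
    Good I (q.comap (Ideal.Quotient.mk I)) := by
  set Q := q.comap (Ideal.Quotient.mk I) with hQ
  have hJ := JQ_ne_top I q
  haveI := isLocalRing_quot I q
  haveI : IsRegularRing (Localization.AtPrime Q) :=
    Groth.Agent.Lib.helper20.RegQuot.isRegularRing_localization Q.primeCompl
  have h1 := isCI_iff (JQ I Q) hJ
  have h2 := isCI_iff_spanFinrank_le_height (Localization.AtPrime Q) (JQ I Q) hJ
  show _ ↔ (((JQ I Q).spanFinrank : ℕ) : ℕ∞) ≤ (JQ I Q).height
  rw [← h2, h1]
  constructor
  · rintro ⟨rs, h, h'⟩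
    exact ⟨rs, h', h⟩
  · rintro ⟨rs, h, h'⟩
    exact ⟨rs, h', h⟩

end Num

section PartB

variable (k : Type u) [Field k]

open MvPolynomial

theorem ci_congr {S : Type u} [CommRing S] (p p' : Ideal S) [p.IsPrime] [p'.IsPrime]
    (h : p' = p) (hci : Pi1.IsCompleteIntersection (Localization.AtPrime p')) :
    Pi1.IsCompleteIntersection (Localization.AtPrime p) := by
  subst h
  exact hci

/-- the local rings of a global complete intersection over a field are complete intersections -/
theorem isCI_atPrime_of_isGlobalCI {T : Type u} [CommRing T] [Algebra k T]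
    (h : Synt.IsGlobalCI k T) (𝔮 : Ideal T) [h𝔮 : 𝔮.IsPrime] :
    Pi1.IsCompleteIntersection (Localization.AtPrime 𝔮) := by
  classical
  rcases h with h | ⟨m, c', hcm, φ, r, hφ, hker, hdim⟩
  · exfalso
    haveI := h
    exact h𝔮.ne_top (Subsingleton.elim _ _)
  set K : Ideal (MvPolynomial (Fin m) k) := Ideal.span (Set.range r) with hK
  let e : (MvPolynomial (Fin m) k ⧸ K) ≃+* T :=
    (Ideal.quotEquivOfEq hker.symm).trans (RingHom.quotientKerEquivOfSurjective hφ)
  have hdimK : ringKrullDim (MvPolynomial (Fin m) k ⧸ K) = ((m - c' : ℕ) : WithBot ℕ∞) := by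
    rw [ringKrullDim_eq_of_ringEquiv e]
    exact hdim
  set Qb : Ideal (MvPolynomial (Fin m) k ⧸ K) := 𝔮.comap (e : _ →+* T) with hQb
  haveI : Qb.IsPrime := Ideal.comap_isPrime _ _
  have e2 : Localization.AtPrime Qb ≃+* Localization.AtPrime 𝔮 :=
    Localization.localRingEquiv Qb 𝔮 e rfl
  refine isCI_of_ringEquiv (A := Localization.AtPrime Qb) (A' := Localization.AtPrime 𝔮) e2 ?_
  haveI : IsRegularRing (MvPolynomial (Fin m) k) := inferInstance
  rw [isCI_localization_iff K Qb]
  set Q' := Qb.comap (Ideal.Quotient.mk K) with hQ'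
  unfold Good
  have hμ : (JQ K Q').spanFinrank ≤ c' := by
    have h1 : JQ K Q' = Ideal.span (((Finset.univ.image
        (fun i => algebraMap (MvPolynomial (Fin m) k) (Localization.AtPrime Q') (r i)) :
          Finset (Localization.AtPrime Q')) : Set (Localization.AtPrime Q'))) := by
      show Ideal.map (algebraMap (MvPolynomial (Fin m) k) (Localization.AtPrime Q'))
        (Ideal.span (Set.range r)) = _
      rw [Ideal.map_span]
      congr 1
      ext y
      simp
    rw [h1]
    refine (Submodule.spanFinrank_span_le_ncard_of_finite (Finset.finite_toSet _)).trans ?_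
    rw [Set.ncard_coe_finset]
    refine Finset.card_image_le.trans ?_
    simp
  have hht : (c' : ℕ∞) ≤ (JQ K Q').height := by
    rw [(JQ K Q').height_eq_inf_minimalPrimes]
    refine le_iInf₂ fun 𝔓' h𝔓' => ?_
    haveI := h𝔓'.isPrime
    have hmin : 𝔓'.under (MvPolynomial (Fin m) k) ∈ K.minimalPrimes := by
      have := IsLocalization.minimalPrimes_map Q'.primeCompl (Localization.AtPrime Q') K
      rw [this] at h𝔓'
      exact h𝔓'
    haveI : (𝔓'.under (MvPolynomial (Fin m) k)).IsPrime := hmin.1.1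
    rw [← IsLocalization.height_under Q'.primeCompl 𝔓']
    set P₀ := 𝔓'.under (MvPolynomial (Fin m) k) with hP₀
    have hsum := Groth.Agent.Lib.helper7.DimFT.ringKrullDim_quotient_add_height (k := k)
      (MvPolynomial (Fin m) k) P₀
    have hdimR : ringKrullDim (MvPolynomial (Fin m) k) = (m : WithBot ℕ∞) := by
      rw [MvPolynomial.ringKrullDim_of_isNoetherianRing]
      simp
    have h1 : ringKrullDim (MvPolynomial (Fin m) k ⧸ P₀) ≤
        ringKrullDim (MvPolynomial (Fin m) k ⧸ K) :=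
      ringKrullDim_le_of_surjective (Ideal.Quotient.factor hmin.1.2)
        (Ideal.Quotient.factor_surjective _)
    obtain ⟨h₀, hh₀⟩ := ENat.ne_top_iff_exists.mp (Ideal.height_ne_top_of_isPrime (I := P₀))
    rw [← hh₀]
    rw [hdimR, ← hh₀] at hsum
    rw [hdimK] at h1
    have h2 : (m : WithBot ℕ∞) ≤ ((m - c' : ℕ) : WithBot ℕ∞) + ((h₀ : ℕ∞) : WithBot ℕ∞) := by
      rw [← hsum]
      exact add_le_add_left h1 _
    have h2' : ((m : ℕ∞) : WithBot ℕ∞) ≤
        ((((m - c' : ℕ) : ℕ∞) + (h₀ : ℕ∞) : ℕ∞) : WithBot ℕ∞) := by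
      rw [WithBot.coe_add]
      exact h2
    have h2'' : (m : ℕ∞) ≤ ((m - c' : ℕ) : ℕ∞) + (h₀ : ℕ∞) := WithBot.coe_le_coe.mp h2'
    have h3 : m ≤ (m - c') + h₀ := by exact_mod_cast h2''
    have h4 : c' ≤ h₀ := by omega
    exact_mod_cast h4
  exact le_trans (by exact_mod_cast hμ) hht

variable {k} in
/-- (1) implies the numerical condition -/
theorem good_of_isGlobalCI_away {n : ℕ} (I : Ideal (MvPolynomial (Fin n) k))
    (q : Ideal (MvPolynomial (Fin n) k ⧸ I)) [hq : q.IsPrime]
    (g : MvPolynomial (Fin n) k ⧸ I) (hg : g ∉ q)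
    (h : Synt.IsGlobalCI k (Localization.Away g)) :
    Good I (q.comap (Ideal.Quotient.mk I)) := by
  haveI : IsRegularRing (MvPolynomial (Fin n) k) := inferInstance
  rw [← isCI_localization_iff I q]
  have hdisj : Disjoint (Submonoid.powers g : Set (MvPolynomial (Fin n) k ⧸ I)) (q : Set _) := by
    rw [Set.disjoint_left]
    rintro x ⟨j, rfl⟩ hx
    exact hg (hq.mem_of_pow_mem j hx)
  set 𝔮 : Ideal (Localization.Away g) := q.map (algebraMap _ (Localization.Away g)) with h𝔮
  haveI : 𝔮.IsPrime :=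
    IsLocalization.isPrime_of_isPrime_disjoint (Submonoid.powers g) _ q hq hdisj
  have hcomap : 𝔮.comap (algebraMap (MvPolynomial (Fin n) k ⧸ I) (Localization.Away g)) = q :=
    IsLocalization.under_map_of_isPrime_disjoint (Submonoid.powers g) _ hq hdisj
  have h1 := isCI_atPrime_of_isGlobalCI k h 𝔮
  have e := IsLocalization.localizationLocalizationAtPrimeIsoLocalization
    (Submonoid.powers g) 𝔮
  have h2 := isCI_of_ringEquiv (A := Localization.AtPrime 𝔮)
    (A' := Localization.AtPrime (𝔮.comap (algebraMap (MvPolynomial (Fin n) k ⧸ I)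
      (Localization.Away g)))) e.symm.toRingEquiv h1
  exact ci_congr q _ hcomap h2

end PartB

section PartC

variable {k : Type u} [Field k] {n : ℕ}

open MvPolynomial Groth.Agent.Lib.helper6.GCILoc

theorem ringKrullDim_mvPolynomial_fin :
    ringKrullDim (MvPolynomial (Fin n) k) = (n : WithBot ℕ∞) := by
  rw [MvPolynomial.ringKrullDim_of_isNoetherianRing]
  simp

/-- upper bound for the dimension of a basic open of `k[x]/I` -/
theorem dim_away_le (I : Ideal (MvPolynomial (Fin n) k)) (g' : MvPolynomial (Fin n) k) (c : ℕ)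
    (hmin : ∀ 𝔭 ∈ I.minimalPrimes, g' ∉ 𝔭 → (c : ℕ∞) ≤ 𝔭.height) :
    ringKrullDim (Localization.Away (Ideal.Quotient.mk I g')) ≤ ((n - c : ℕ) : WithBot ℕ∞) := by
  classical
  let f : MvPolynomial (Fin n) k →+* Localization.Away (Ideal.Quotient.mk I g') :=
    (algebraMap (MvPolynomial (Fin n) k ⧸ I) _).comp (Ideal.Quotient.mk I)
  let Φ : PrimeSpectrum (Localization.Away (Ideal.Quotient.mk I g')) →
      PrimeSpectrum (MvPolynomial (Fin n) k) := PrimeSpectrum.comap f
  have hΦ : StrictMono Φ := by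
    apply Monotone.strictMono_of_injective
    · intro P Q hPQ
      exact Ideal.comap_mono hPQ
    · have h1 := PrimeSpectrum.comap_injective_of_surjective (Ideal.Quotient.mk I)
        Ideal.Quotient.mk_surjective
      have h2 := PrimeSpectrum.localization_comap_injective
        (Localization.Away (Ideal.Quotient.mk I g')) (Submonoid.powers (Ideal.Quotient.mk I g'))
      exact h1.comp h2
  show Order.krullDim (PrimeSpectrum (Localization.Away (Ideal.Quotient.mk I g'))) ≤ _
  unfold Order.krullDim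
  refine iSup_le fun p => ?_
  have hI𝔭₀ : I ≤ (Φ p.head).asIdeal := by
    intro x hx
    show f x ∈ p.head.asIdeal
    have : f x = 0 := by
      show algebraMap (MvPolynomial (Fin n) k ⧸ I) _ (Ideal.Quotient.mk I x) = 0
      rw [Ideal.Quotient.eq_zero_iff_mem.mpr hx, map_zero]
    rw [this]
    exact Ideal.zero_mem _
  have hg𝔭₀ : g' ∉ (Φ p.head).asIdeal := by
    intro hx
    have hx' : algebraMap (MvPolynomial (Fin n) k ⧸ I) _ (Ideal.Quotient.mk I g') ∈
        p.head.asIdeal := hx
    have hu : IsUnit (algebraMap (MvPolynomial (Fin n) k ⧸ I)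
        (Localization.Away (Ideal.Quotient.mk I g')) (Ideal.Quotient.mk I g')) :=
      IsLocalization.map_units (M := Submonoid.powers (Ideal.Quotient.mk I g')) _
        ⟨_, Submonoid.mem_powers _⟩
    exact p.head.isPrime.ne_top (Ideal.eq_top_of_isUnit_mem _ hx' hu)
  haveI := (Φ p.head).isPrime
  obtain ⟨𝔭, h𝔭, h𝔭le⟩ := Ideal.exists_minimalPrimes_le hI𝔭₀
  have hc𝔭 := hmin 𝔭 h𝔭 (fun h => hg𝔭₀ (h𝔭le h))
  have hc₀ : (c : ℕ∞) ≤ Order.height (Φ p.head) := by
    rw [← PrimeSpectrum.height_eq_orderHeight]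
    exact hc𝔭.trans (Ideal.height_mono h𝔭le)
  obtain ⟨p₀, hp₀l, hp₀len⟩ := Order.exists_series_of_le_height (Φ p.head) hc₀
  have hconn : p₀.last = (p.map Φ hΦ).head := by
    rw [hp₀l]
    exact (LTSeries.head_map p Φ hΦ).symm
  have hle := Order.LTSeries.length_le_krullDim (p₀.smash (p.map Φ hΦ) hconn)
  have hlen : (p₀.smash (p.map Φ hΦ) hconn).length = c + p.length := by
    rw [RelSeries.smash_length, hp₀len]
    rfl
  rw [hlen] at hle
  have hdimR := ringKrullDim_mvPolynomial_fin (k := k) (n := n)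
  have hle' : ((c + p.length : ℕ) : WithBot ℕ∞) ≤ (n : WithBot ℕ∞) := by
    rw [← hdimR]
    exact hle
  have h3 : c + p.length ≤ n := by exact_mod_cast hle'
  have h4 : p.length ≤ n - c := by omega
  exact_mod_cast h4

/-- the localization of `B/I` away from `g'` is also the localization of `B/K₀` away from `g'`,
when `g' I ⊆ K₀ ⊆ I`. -/
theorem isLocalization_away_factor {B : Type u} [CommRing B] (K₀ I : Ideal B) (hle : K₀ ≤ I)
    (g' : B) (hmul : ∀ y ∈ I, g' * y ∈ K₀) :
    letI : Algebra (B ⧸ K₀) (Localization.Away (Ideal.Quotient.mk I g')) :=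
      ((algebraMap (B ⧸ I) (Localization.Away (Ideal.Quotient.mk I g'))).comp
        (Ideal.Quotient.factor hle)).toAlgebra
    IsLocalization.Away (Ideal.Quotient.mk K₀ g')
      (Localization.Away (Ideal.Quotient.mk I g')) := by
  letI : Algebra (B ⧸ K₀) (Localization.Away (Ideal.Quotient.mk I g')) :=
      ((algebraMap (B ⧸ I) (Localization.Away (Ideal.Quotient.mk I g'))).comp
        (Ideal.Quotient.factor hle)).toAlgebra
  have halg : ∀ b : B, algebraMap (B ⧸ K₀) (Localization.Away (Ideal.Quotient.mk I g'))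
      (Ideal.Quotient.mk K₀ b) = algebraMap (B ⧸ I) _ (Ideal.Quotient.mk I b) := fun b => rfl
  show IsLocalization (Submonoid.powers (Ideal.Quotient.mk K₀ g')) _
  rw [isLocalization_iff]
  refine ⟨?_, ?_, ?_⟩
  · rintro ⟨y, j, rfl⟩
    show IsUnit (algebraMap (B ⧸ K₀) _ ((Ideal.Quotient.mk K₀ g') ^ j))
    rw [map_pow, halg]
    exact (IsLocalization.map_units (M := Submonoid.powers (Ideal.Quotient.mk I g')) _
      ⟨_, Submonoid.mem_powers _⟩).pow j
  · intro z
    obtain ⟨⟨a, ⟨y, j, rfl⟩⟩, h⟩ := IsLocalization.surj (Submonoid.powers (Ideal.Quotient.mk I g')) z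
    obtain ⟨a', rfl⟩ := Ideal.Quotient.mk_surjective a
    refine ⟨⟨Ideal.Quotient.mk K₀ a', ⟨(Ideal.Quotient.mk K₀ g') ^ j, j, rfl⟩⟩, ?_⟩
    show z * algebraMap (B ⧸ K₀) _ ((Ideal.Quotient.mk K₀ g') ^ j) =
      algebraMap (B ⧸ K₀) _ (Ideal.Quotient.mk K₀ a')
    rw [← map_pow, halg, halg, map_pow]
    exact h
  · intro x y hxy
    obtain ⟨x', rfl⟩ := Ideal.Quotient.mk_surjective x
    obtain ⟨y', rfl⟩ := Ideal.Quotient.mk_surjective y
    rw [halg, halg] at hxy
    obtain ⟨⟨_, j, rfl⟩, hc⟩ :=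
      (IsLocalization.eq_iff_exists (Submonoid.powers (Ideal.Quotient.mk I g')) _).mp hxy
    have hc' : (Ideal.Quotient.mk I g') ^ j * Ideal.Quotient.mk I x' =
        (Ideal.Quotient.mk I g') ^ j * Ideal.Quotient.mk I y' := hc
    have h1 : g' ^ j * (x' - y') ∈ I := by
      rw [← Ideal.Quotient.eq_zero_iff_mem, map_mul, map_sub, map_pow, mul_sub, hc', sub_self]
    have h2 := hmul _ h1
    refine ⟨⟨(Ideal.Quotient.mk K₀ g') ^ (j + 1), j + 1, rfl⟩, ?_⟩
    show (Ideal.Quotient.mk K₀ g') ^ (j + 1) * Ideal.Quotient.mk K₀ x' =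
      (Ideal.Quotient.mk K₀ g') ^ (j + 1) * Ideal.Quotient.mk K₀ y'
    rw [← sub_eq_zero, ← mul_sub, ← map_pow, ← map_sub, ← map_mul,
      Ideal.Quotient.eq_zero_iff_mem]
    have : g' ^ (j + 1) * (x' - y') = g' * (g' ^ j * (x' - y')) := by ring
    rw [this]
    exact h2

theorem isGlobalCI_away_of_gens (I : Ideal (MvPolynomial (Fin n) k)) (l : ℕ)
    (v : Fin l → MvPolynomial (Fin n) k) (g' : MvPolynomial (Fin n) k)
    (hle : Ideal.span (Set.range v) ≤ I)
    (hmul : ∀ y ∈ I, g' * y ∈ Ideal.span (Set.range v)) (hln : l ≤ n)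
    [Nontrivial (Localization.Away (Ideal.Quotient.mk I g'))]
    (hdim : ringKrullDim (Localization.Away (Ideal.Quotient.mk I g')) ≤
      ((n - l : ℕ) : WithBot ℕ∞)) :
    Synt.IsGlobalCI k (Localization.Away (Ideal.Quotient.mk I g')) := by
  letI : Algebra (MvPolynomial (Fin n) k ⧸ Ideal.span (Set.range v))
      (Localization.Away (Ideal.Quotient.mk I g')) :=
    ((algebraMap (MvPolynomial (Fin n) k ⧸ I) (Localization.Away (Ideal.Quotient.mk I g'))).comp
      (Ideal.Quotient.factor hle)).toAlgebra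
  haveI : IsScalarTower k (MvPolynomial (Fin n) k ⧸ Ideal.span (Set.range v))
      (Localization.Away (Ideal.Quotient.mk I g')) := by
    refine IsScalarTower.of_algebraMap_eq (R := k)
      (S := MvPolynomial (Fin n) k ⧸ Ideal.span (Set.range v))
      (A := Localization.Away (Ideal.Quotient.mk I g')) (fun x => ?_)
    rw [IsScalarTower.algebraMap_apply k (MvPolynomial (Fin n) k ⧸ I) _ x]
    rfl
  haveI : IsLocalization.Away (Ideal.Quotient.mk (Ideal.span (Set.range v)) g')
      (Localization.Away (Ideal.Quotient.mk I g')) :=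
    isLocalization_away_factor (Ideal.span (Set.range v)) I hle g' hmul
  let P₁ : Algebra.Presentation k (MvPolynomial (Fin n) k ⧸ Ideal.span (Set.range v))
      (Fin n) (Fin l) := Algebra.Presentation.naive (v := v)
  let P₂ : Algebra.Presentation (MvPolynomial (Fin n) k ⧸ Ideal.span (Set.range v))
      (Localization.Away (Ideal.Quotient.mk I g')) Unit Unit :=
    Algebra.Presentation.localizationAway _ (Ideal.Quotient.mk (Ideal.span (Set.range v)) g')
  let P₃ := P₂.comp P₁
  apply Groth.Agent.Lib.helper6.GCIField.isGlobalCI_of_presentation P₃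
  · simp only [Nat.card_sum, Nat.card_unique, Nat.card_fin]
    omega
  · simp only [Nat.card_sum, Nat.card_unique, Nat.card_fin]
    have e : 1 + n - (1 + l) = n - l := by omega
    rw [e]
    apply le_antisymm hdim
    have h1 := card_le_dim_add P₃
    simp only [Nat.card_sum, Nat.card_unique, Nat.card_fin] at h1
    have h2 := arith _ _ _ h1
    rwa [e] at h2

theorem nontrivial_away {S : Type u} [CommRing S] (q : Ideal S) [hq : q.IsPrime] (g : S)
    (hg : g ∉ q) : Nontrivial (Localization.Away g) := by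
  have hdisj : Disjoint (Submonoid.powers g : Set S) (q : Set _) := by
    rw [Set.disjoint_left]
    rintro x ⟨j, rfl⟩ hx
    exact hg (hq.mem_of_pow_mem j hx)
  have h𝔮 : (q.map (algebraMap S (Localization.Away g))).IsPrime :=
    IsLocalization.isPrime_of_isPrime_disjoint (Submonoid.powers g) _ q hq hdisj
  refine ⟨⟨0, 1, fun h => (Ideal.ne_top_iff_one _).mp h𝔮.ne_top ?_⟩⟩
  rw [← h]
  exact Ideal.zero_mem _

/-- the numerical condition implies (1) -/
theorem isGlobalCI_away_of_good (I : Ideal (MvPolynomial (Fin n) k))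
    (q : Ideal (MvPolynomial (Fin n) k ⧸ I)) [hq : q.IsPrime] (c : ℕ)
    (hc : (c : ℕ∞) + q.height = (q.comap (Ideal.Quotient.mk I)).height)
    (hgood : Good I (q.comap (Ideal.Quotient.mk I))) :
    ∃ g : MvPolynomial (Fin n) k ⧸ I, g ∉ q ∧ Synt.IsGlobalCI k (Localization.Away g) := by
  classical
  haveI : IsRegularRing (MvPolynomial (Fin n) k) := inferInstance
  have hμ := (good_iff I q c hc).mp hgood
  have hhtJ := height_JQ I q c hc
  set Q := q.comap (Ideal.Quotient.mk I) with hQ
  obtain ⟨gs, hgs1, hgs2, hgs3⟩ := exists_gens I Q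
  obtain ⟨s₁, hs₁, hs₁I⟩ := exists_s1 I Q (Ideal.ofList gs) (by
    rw [Ideal.map_ofList, hgs3])
  obtain ⟨s₂, hs₂, hs₂p⟩ := exists_s2 I Q
  have hg'Q : s₂ * s₁ ∉ Q := by
    intro h
    rcases (inferInstance : Q.IsPrime).mem_or_mem h with h | h
    · exact hs₂ h
    · exact hs₁ h
  have hgq : Ideal.Quotient.mk I (s₂ * s₁) ∉ q := hg'Q
  refine ⟨Ideal.Quotient.mk I (s₂ * s₁), hgq, ?_⟩
  have hK₀eq : Ideal.span (Set.range gs.get) = Ideal.ofList gs := by
    unfold Ideal.ofList
    congr 1
    ext y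
    simp [List.mem_iff_get]
  have hK₀I : Ideal.span (Set.range gs.get) ≤ I := by
    rw [hK₀eq]
    unfold Ideal.ofList
    rw [Ideal.span_le]
    exact fun g hg => hgs1 g hg
  have hmul : ∀ y ∈ I, (s₂ * s₁) * y ∈ Ideal.span (Set.range gs.get) := by
    intro y hy
    rw [hK₀eq, mul_assoc]
    exact Ideal.mul_mem_left _ _ (hs₁I y hy)
  have hlen : gs.length = c := hgs2.trans hμ
  have hmin : ∀ 𝔭 ∈ I.minimalPrimes, s₂ * s₁ ∉ 𝔭 → (c : ℕ∞) ≤ 𝔭.height := by
    intro 𝔭 h𝔭 hg𝔭
    haveI := h𝔭.1.1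
    have hle : 𝔭 ≤ Q := by
      by_contra hnle
      exact hg𝔭 (𝔭.mul_mem_right _ (hs₂p 𝔭 h𝔭 hnle))
    have hdisj : Disjoint (Q.primeCompl : Set (MvPolynomial (Fin n) k)) (𝔭 : Set _) := by
      rw [Set.disjoint_left]
      intro x hx hx𝔭
      exact hx (hle hx𝔭)
    have hunder : (𝔭.map (algebraMap _ (Localization.AtPrime Q))).under _ = 𝔭 :=
      IsLocalization.under_map_of_isPrime_disjoint Q.primeCompl _ h𝔭.1.1 hdisj
    have h2 : (𝔭.map (algebraMap _ (Localization.AtPrime Q))).height = 𝔭.height := by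
      rw [← IsLocalization.height_under Q.primeCompl
        (𝔭.map (algebraMap _ (Localization.AtPrime Q))), hunder]
    rw [← h2, ← hhtJ]
    exact Ideal.height_mono (Ideal.map_mono h𝔭.1.2)
  have hdim_le := dim_away_le I (s₂ * s₁) c hmin
  haveI := nontrivial_away q _ hgq
  have hcn : c ≤ n := by
    have h1 : (c : ℕ∞) ≤ Q.height := by
      rw [← hc]
      exact le_self_add
    have h2 := Ideal.height_le_ringKrullDim_of_ne_top (inferInstance : Q.IsPrime).ne_top
    rw [ringKrullDim_mvPolynomial_fin] at h2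
    have h3 : ((c : ℕ∞) : WithBot ℕ∞) ≤ ((n : ℕ∞) : WithBot ℕ∞) :=
      (WithBot.coe_le_coe.mpr h1).trans h2
    have h4 : (c : ℕ∞) ≤ (n : ℕ∞) := WithBot.coe_le_coe.mp h3
    exact_mod_cast h4
  rw [← hlen] at hdim_le hcn
  exact isGlobalCI_away_of_gens I gs.length gs.get (s₂ * s₁) hK₀I hmul hcn hdim_le

end PartC

end Groth.Agent.H6.GCIPoint
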