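import Mathlib
import Groth.Agent.Lib.helper6.GCIPoint

set_option maxHeartbeats 400000
set_option autoImplicit false
set_option linter.style.haveILetI false
set_option linter.unusedSectionVars false

/-! Complete intersections over a field: local rings versus global complete intersections. -/

namespace Groth.Agent.H6.GCIPoint

open IsLocalRing Groth.Agent.H6.CIReg Groth.Agent.H6.CIOpen MvPolynomial
  Groth.Agent.Lib.helper6.GCILoc

universe u

section Transport

variable (k : Type u) [Field k]

theorem isGlobalCI_of_algEquiv {T T' : Type u} [CommRing T] [CommRing T'] [Algebra k T]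
    [Algebra k T'] (e : T ≃ₐ[k] T') (h : Synt.IsGlobalCI k T) : Synt.IsGlobalCI k T' := by
  rcases h with h | ⟨n, c, hcn, φ, r, hφ, hker, hdim⟩
  · left
    haveI := h
    exact e.symm.injective.subsingleton
  · right
    refine ⟨n, c, hcn, (e : T →ₐ[k] T').comp φ, r, e.surjective.comp hφ, ?_, ?_⟩
    · rw [← hker]
      ext x
      simp [RingHom.mem_ker]
    · rw [← ringKrullDim_eq_of_ringEquiv e.toRingEquiv]
      exact hdim

theorem isCIOver_of_algEquiv {S S' : Type u} [CommRing S] [CommRing S'] [IsLocalRing S]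
    [IsLocalRing S'] [Algebra k S] [Algebra k S'] (e : S ≃ₐ[k] S') (h : Synt.IsCIOver k S) :
    Synt.IsCIOver k S' := by
  obtain ⟨R, i1, i2, i3, hft, rs, hm, hreg, ⟨ε⟩⟩ := h
  exact ⟨R, i1, i2, i3, hft, rs, hm, hreg, ⟨e.symm.trans ε⟩⟩

theorem isCIOver_congr {S : Type u} [CommRing S] [Algebra k S] (p p' : Ideal S) [p.IsPrime]
    [p'.IsPrime] (h : p' = p) (hci : Synt.IsCIOver k (Localization.AtPrime p')) :
    Synt.IsCIOver k (Localization.AtPrime p) := by
  subst h
  exact hci

theorem isCI_of_isCIOver {S : Type u} [CommRing S] [IsLocalRing S] [Algebra k S]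
    (h : Synt.IsCIOver k S) : Pi1.IsCompleteIntersection S := by
  obtain ⟨R, i1, i2, i3, hft, rs, hm, hreg, ⟨ε⟩⟩ := h
  haveI : IsLocalRing (R ⧸ Ideal.ofList rs) := ε.toRingEquiv.isLocalRing
  have := isCI_quotient R (Ideal.ofList rs) rs rfl hm hreg.toIsWeaklyRegular
  exact isCI_of_ringEquiv ε.toRingEquiv.symm this

/-- `k`-algebra version of `nonempty_locQuotEquiv` -/
theorem nonempty_locQuotAlgEquiv {B : Type u} [CommRing B] [Algebra k B] (I : Ideal B)
    (q : Ideal (B ⧸ I)) [q.IsPrime] :
    Nonempty (Localization.AtPrime q ≃ₐ[k]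
      (Localization.AtPrime (q.comap (Ideal.Quotient.mk I)) ⧸
        JQ I (q.comap (Ideal.Quotient.mk I)))) := by
  set Q := q.comap (Ideal.Quotient.mk I) with hQ
  have hsub : Algebra.algebraMapSubmonoid (B ⧸ I) Q.primeCompl = q.primeCompl := by
    ext a
    constructor
    · rintro ⟨b, hb, rfl⟩
      exact hb
    · intro ha
      obtain ⟨b, rfl⟩ := Ideal.Quotient.mk_surjective a
      exact ⟨b, ha, rfl⟩
  haveI : IsLocalization q.primeCompl (Localization.AtPrime Q ⧸ JQ I Q) := by
    rw [← hsub]; infer_instance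
  haveI : IsScalarTower k (B ⧸ I) (Localization.AtPrime Q ⧸ JQ I Q) := by
    refine IsScalarTower.of_algebraMap_eq (R := k) (S := B ⧸ I)
      (A := Localization.AtPrime Q ⧸ JQ I Q) (fun x => ?_)
    rfl
  exact ⟨(IsLocalization.algEquiv q.primeCompl (Localization.AtPrime q)
    (Localization.AtPrime Q ⧸ JQ I Q)).restrictScalars k⟩

/-- a presentation of the right dimension is numerically a complete intersection at all primes -/
theorem good_of_dim (m c' : ℕ) (r : Fin c' → MvPolynomial (Fin m) k)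
    (hdimK : ringKrullDim (MvPolynomial (Fin m) k ⧸ Ideal.span (Set.range r)) =
      ((m - c' : ℕ) : WithBot ℕ∞)) (hcm : c' ≤ m)
    (Q' : Ideal (MvPolynomial (Fin m) k)) [Q'.IsPrime] :
    Good (Ideal.span (Set.range r)) Q' := by
  classical
  unfold Good
  have hμ : (JQ (Ideal.span (Set.range r)) Q').spanFinrank ≤ c' := by
    have h1 : JQ (Ideal.span (Set.range r)) Q' = Ideal.span (((Finset.univ.image
        (fun i => algebraMap (MvPolynomial (Fin m) k) (Localization.AtPrime Q') (r i)) :
          Finset (Localization.AtPrime Q')) : Set (Localization.AtPrime Q'))) := by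
      show Ideal.map (algebraMap (MvPolynomial (Fin m) k) (Localization.AtPrime Q'))
        (Ideal.span (Set.range r)) = _
      rw [Ideal.map_span]
      congr 1
      ext y
      simp
    rw [h1]
    refine (Submodule.spanFinrank_span_le_ncard_of_finite (Finset.finite_toSet _)).trans ?_
    rw [Set.ncard_coe_finset]
    refine Finset.card_image_le.trans ?_
    simp
  have hht : (c' : ℕ∞) ≤ (JQ (Ideal.span (Set.range r)) Q').height := by
    rw [(JQ (Ideal.span (Set.range r)) Q').height_eq_inf_minimalPrimes]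
    refine le_iInf₂ fun 𝔓' h𝔓' => ?_
    haveI := h𝔓'.isPrime
    have hmin : 𝔓'.under (MvPolynomial (Fin m) k) ∈ (Ideal.span (Set.range r)).minimalPrimes := by
      have := IsLocalization.minimalPrimes_map Q'.primeCompl (Localization.AtPrime Q')
        (Ideal.span (Set.range r))
      rw [this] at h𝔓'
      exact h𝔓'
    haveI : (𝔓'.under (MvPolynomial (Fin m) k)).IsPrime := hmin.1.1
    rw [← IsLocalization.height_under Q'.primeCompl 𝔓']
    set P₀ := 𝔓'.under (MvPolynomial (Fin m) k) with hP₀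
    have hsum := Groth.Agent.Lib.helper7.DimFT.ringKrullDim_quotient_add_height (k := k)
      (MvPolynomial (Fin m) k) P₀
    have hdimR : ringKrullDim (MvPolynomial (Fin m) k) = (m : WithBot ℕ∞) :=
      ringKrullDim_mvPolynomial_fin
    have h1 : ringKrullDim (MvPolynomial (Fin m) k ⧸ P₀) ≤
        ringKrullDim (MvPolynomial (Fin m) k ⧸ Ideal.span (Set.range r)) :=
      ringKrullDim_le_of_surjective (Ideal.Quotient.factor hmin.1.2)
        (Ideal.Quotient.factor_surjective _)
    obtain ⟨h₀, hh₀⟩ := ENat.ne_top_iff_exists.mp (Ideal.height_ne_top_of_isPrime (I := P₀))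
    rw [← hh₀]
    rw [hdimR, ← hh₀] at hsum
    rw [hdimK] at h1
    have h2 : (m : WithBot ℕ∞) ≤ ((m - c' : ℕ) : WithBot ℕ∞) + ((h₀ : ℕ∞) : WithBot ℕ∞) := by
      rw [← hsum]
      exact add_le_add_left h1 _
    have h2' : ((m : ℕ∞) : WithBot ℕ∞) ≤
        ((((m - c' : ℕ) : ℕ∞) + (h₀ : ℕ∞) : ℕ∞) : WithBot ℕ∞) := by
      rw [WithBot.coe_add]
      exact h2
    have h2'' : (m : ℕ∞) ≤ ((m - c' : ℕ) : ℕ∞) + (h₀ : ℕ∞) := WithBot.coe_le_coe.mp h2'
    have h3 : m ≤ (m - c') + h₀ := by exact_mod_cast h2''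
    have h4 : c' ≤ h₀ := by omega
    exact_mod_cast h4
  exact le_trans (by exact_mod_cast hμ) hht

/-- the local rings of a global complete intersection over `k` are complete intersections over
`k`. -/
theorem isCIOver_atPrime_of_isGlobalCI {A : Type u} [CommRing A] [Algebra k A]
    (h : Synt.IsGlobalCI k A) (a : Ideal A) [ha : a.IsPrime] :
    Synt.IsCIOver k (Localization.AtPrime a) := by
  classical
  rcases h with h | ⟨m, c', hcm, φ, r, hφ, hker, hdim⟩
  · exfalso
    haveI := h
    exact ha.ne_top (Subsingleton.elim _ _)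
  have hker' : Ideal.span (Set.range r) = RingHom.ker φ := by
    rw [← hker]
    rfl
  let e : (MvPolynomial (Fin m) k ⧸ Ideal.span (Set.range r)) ≃ₐ[k] A :=
    (Ideal.quotientEquivAlgOfEq k hker').trans (Ideal.quotientKerAlgEquivOfSurjective hφ)
  have hdimK : ringKrullDim (MvPolynomial (Fin m) k ⧸ Ideal.span (Set.range r)) =
      ((m - c' : ℕ) : WithBot ℕ∞) := by
    rw [ringKrullDim_eq_of_ringEquiv e.toRingEquiv]
    exact hdim
  set Qb : Ideal (MvPolynomial (Fin m) k ⧸ Ideal.span (Set.range r)) := a.comap e with hQb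
  haveI : Qb.IsPrime := Ideal.comap_isPrime _ _
  have e2 : Localization.AtPrime Qb ≃ₐ[k] Localization.AtPrime a :=
    Localization.localAlgEquiv Qb a e rfl
  obtain ⟨e3⟩ := nonempty_locQuotAlgEquiv k (Ideal.span (Set.range r)) Qb
  haveI : IsRegularRing (MvPolynomial (Fin m) k) := inferInstance
  have hgood := good_of_dim k m c' r hdimK hcm (Qb.comap (Ideal.Quotient.mk _))
  obtain ⟨rs, hreg, hrs⟩ := (five_iff (Ideal.span (Set.range r)) Qb).mpr hgood
  have hne := JQ_ne_top (Ideal.span (Set.range r)) Qb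
  have hm : ∀ x ∈ rs, x ∈ maximalIdeal (Localization.AtPrime (Qb.comap (Ideal.Quotient.mk _))) := by
    intro x hx
    apply IsLocalRing.le_maximalIdeal hne
    rw [← hrs]
    exact Ideal.subset_span hx
  exact ⟨Localization.AtPrime (Qb.comap (Ideal.Quotient.mk _)), inferInstance, inferInstance,
    inferInstance, inferInstance, rs, hm, hreg,
    ⟨e2.symm.trans (e3.trans (Ideal.quotientEquivAlgOfEq k hrs.symm))⟩⟩

end Transport

section Main

variable (k : Type u) [Field k]

theorem exists_c {B : Type u} [CommRing B] [IsRegularRing B] (I : Ideal B) (q : Ideal (B ⧸ I))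
    [q.IsPrime] : ∃ c : ℕ, (c : ℕ∞) + q.height = (q.comap (Ideal.Quotient.mk I)).height := by
  set Q := q.comap (Ideal.Quotient.mk I) with hQ
  have hJ := JQ_ne_top I q
  haveI : IsRegularRing (Localization.AtPrime Q) :=
    Groth.Agent.Lib.helper20.RegQuot.isRegularRing_localization Q.primeCompl
  have h1 := dim_eq_add_height (Localization.AtPrime Q) (JQ I Q) hJ
  have h2 : ringKrullDim (Localization.AtPrime Q) = Q.height :=
    IsLocalization.AtPrime.ringKrullDim_eq_height Q _
  obtain ⟨e⟩ := nonempty_locQuotEquiv I q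
  have h3 : ringKrullDim (Localization.AtPrime Q ⧸ JQ I Q) = q.height := by
    rw [← ringKrullDim_eq_of_ringEquiv e]
    exact IsLocalization.AtPrime.ringKrullDim_eq_height q _
  rw [h2, h3] at h1
  obtain ⟨a, ha⟩ := ENat.ne_top_iff_exists.mp (Ideal.height_ne_top_of_isPrime (I := q))
  obtain ⟨b, hb⟩ := ENat.ne_top_iff_exists.mp (Ideal.height_ne_top hJ)
  obtain ⟨d, hd⟩ := ENat.ne_top_iff_exists.mp (Ideal.height_ne_top_of_isPrime (I := Q))
  rw [← ha, ← hb, ← hd] at h1
  rw [← ha, ← hd]
  have h1' : d = a + b := by exact_mod_cast h1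
  refine ⟨b, ?_⟩
  have : b + a = d := by omega
  exact_mod_cast this

/-- L3 -/
theorem exists_isGlobalCI_away_of_isCI {n : ℕ} (I : Ideal (MvPolynomial (Fin n) k))
    (q : Ideal (MvPolynomial (Fin n) k ⧸ I)) [q.IsPrime]
    (h : Pi1.IsCompleteIntersection (Localization.AtPrime q)) :
    ∃ g : MvPolynomial (Fin n) k ⧸ I, g ∉ q ∧ Synt.IsGlobalCI k (Localization.Away g) := by
  haveI : IsRegularRing (MvPolynomial (Fin n) k) := inferInstance
  obtain ⟨c, hc⟩ := exists_c I q
  exact isGlobalCI_away_of_good I q c hc ((isCI_localization_iff I q).mp h)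

/-- (b) -/
theorem isCIOver_atPrime_of_isGlobalCI_away {S : Type u} [CommRing S] [Algebra k S]
    (q : Ideal S) [hq : q.IsPrime] (g : S) (hg : g ∉ q)
    (h : Synt.IsGlobalCI k (Localization.Away g)) :
    Synt.IsCIOver k (Localization.AtPrime q) := by
  have hdisj : Disjoint (Submonoid.powers g : Set S) (q : Set _) := by
    rw [Set.disjoint_left]
    rintro x ⟨j, rfl⟩ hx
    exact hg (hq.mem_of_pow_mem j hx)
  set 𝔮 : Ideal (Localization.Away g) := q.map (algebraMap _ (Localization.Away g)) with h𝔮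
  haveI : 𝔮.IsPrime :=
    IsLocalization.isPrime_of_isPrime_disjoint (Submonoid.powers g) _ q hq hdisj
  have hcomap : 𝔮.comap (algebraMap S (Localization.Away g)) = q :=
    IsLocalization.under_map_of_isPrime_disjoint (Submonoid.powers g) _ hq hdisj
  have h1 := isCIOver_atPrime_of_isGlobalCI k h 𝔮
  have e := IsLocalization.localizationLocalizationAtPrimeIsoLocalization
    (Submonoid.powers g) 𝔮
  have h2 := isCIOver_of_algEquiv k (S := Localization.AtPrime 𝔮)
    (S' := Localization.AtPrime (𝔮.comap (algebraMap S (Localization.Away g))))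
    (e.restrictScalars k).symm h1
  exact isCIOver_congr k q _ hcomap h2

/-- (a) -/
theorem exists_isGlobalCI_away_of_isCIOver {S : Type u} [CommRing S] [Algebra k S]
    [Algebra.FiniteType k S] (q : Ideal S) [hq : q.IsPrime]
    (h : Synt.IsCIOver k (Localization.AtPrime q)) :
    ∃ g : S, g ∉ q ∧ Synt.IsGlobalCI k (Localization.Away g) := by
  obtain ⟨n, ψ, hψ⟩ := Algebra.FiniteType.iff_quotient_mvPolynomial''.mp
    (inferInstance : Algebra.FiniteType k S)
  let e : (MvPolynomial (Fin n) k ⧸ RingHom.ker ψ) ≃ₐ[k] S :=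
    Ideal.quotientKerAlgEquivOfSurjective hψ
  set q₀ : Ideal (MvPolynomial (Fin n) k ⧸ RingHom.ker ψ) := q.comap e with hq₀
  haveI : q₀.IsPrime := Ideal.comap_isPrime _ _
  have e2 : Localization.AtPrime q₀ ≃ₐ[k] Localization.AtPrime q :=
    Localization.localAlgEquiv q₀ q e rfl
  have h1 := isCI_of_isCIOver k h
  have h2 := isCI_of_ringEquiv (A := Localization.AtPrime q) (A' := Localization.AtPrime q₀)
    e2.symm.toRingEquiv h1
  obtain ⟨g₀, hg₀, hgci⟩ := exists_isGlobalCI_away_of_isCI k (RingHom.ker ψ) q₀ h2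
  refine ⟨e g₀, hg₀, ?_⟩
  have H : Submonoid.map e (Submonoid.powers g₀) = Submonoid.powers (e g₀) :=
    Submonoid.map_powers _ _
  exact isGlobalCI_of_algEquiv k
    (IsLocalization.algEquivOfAlgEquiv (Localization.Away g₀) (Localization.Away (e g₀)) e H) hgci

/-- (c) -/
theorem isLCIOver_of_isGlobalCI {T : Type u} [CommRing T] [Algebra k T]
    [Algebra.FiniteType k T] (h : Synt.IsGlobalCI k T) : Synt.IsLCIOver k T := by
  refine ⟨inferInstance, fun p => ⟨1, ?_, isGlobalCI_away (1 : T) h⟩⟩
  exact fun h1 => p.isPrime.ne_top ((Ideal.eq_top_iff_one _).mpr h1)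

/-- (d) -/
theorem isCIOver_atPrime_of_isLCIOver_away {S : Type u} [CommRing S] [Algebra k S]
    (q : Ideal S) [hq : q.IsPrime] (g : S) (hg : g ∉ q)
    (h : Synt.IsLCIOver k (Localization.Away g)) :
    Synt.IsCIOver k (Localization.AtPrime q) := by
  have hdisj : Disjoint (Submonoid.powers g : Set S) (q : Set _) := by
    rw [Set.disjoint_left]
    rintro x ⟨j, rfl⟩ hx
    exact hg (hq.mem_of_pow_mem j hx)
  set 𝔮 : Ideal (Localization.Away g) := q.map (algebraMap _ (Localization.Away g)) with h𝔮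
  haveI : 𝔮.IsPrime :=
    IsLocalization.isPrime_of_isPrime_disjoint (Submonoid.powers g) _ q hq hdisj
  have hcomap : 𝔮.comap (algebraMap S (Localization.Away g)) = q :=
    IsLocalization.under_map_of_isPrime_disjoint (Submonoid.powers g) _ hq hdisj
  obtain ⟨h', hh', hgci⟩ := h.2 ⟨𝔮, inferInstance⟩
  have h1 := isCIOver_atPrime_of_isGlobalCI_away k 𝔮 h' hh' hgci
  have e := IsLocalization.localizationLocalizationAtPrimeIsoLocalization
    (Submonoid.powers g) 𝔮
  have h2 := isCIOver_of_algEquiv k (S := Localization.AtPrime 𝔮)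
    (S' := Localization.AtPrime (𝔮.comap (algebraMap S (Localization.Away g))))
    (e.restrictScalars k).symm h1
  exact isCIOver_congr k q _ hcomap h2

theorem isCIOver_atPrime_of_isLCIOver {S : Type u} [CommRing S] [Algebra k S]
    (h : Synt.IsLCIOver k S) (q : Ideal S) [hq : q.IsPrime] :
    Synt.IsCIOver k (Localization.AtPrime q) := by
  obtain ⟨g, hg, hgci⟩ := h.2 ⟨q, hq⟩
  exact isCIOver_atPrime_of_isGlobalCI_away k q g hg hgci

end Main

end Groth.Agent.H6.GCIPoint
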