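import Mathlib
import Groth.Agent.Lib.helper6.GCIPoint2
import Groth.Agent.Lib.helper6.CMFlat

set_option maxHeartbeats 400000
set_option autoImplicit false
set_option linter.style.haveILetI false
set_option linter.unusedSectionVars false

/-! A Cohen–Macaulay algebra of finite type over a field decomposes by dimension. -/

namespace Groth.Agent.H6.CMDecomp

open IsLocalRing LocCoh Groth.Agent.Lib.helper9.Depth Groth.Agent.H6.CIOpen
  Groth.Agent.H6.GCIPoint

universe u

theorem isCMRing_atPrime (S : Type u) [CommRing S] [hS : IsCohenMacaulayRing S] (m : Ideal S)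
    [m.IsPrime] : IsCohenMacaulayRing (Localization.AtPrime m) := by
  haveI : IsNoetherianRing (Localization.AtPrime m) :=
    IsLocalization.isNoetherianRing m.primeCompl _ inferInstance
  refine { isCohenMacaulayLocalRing_localization := fun 𝔓 _ => ?_ }
  have e := IsLocalization.localizationLocalizationAtPrimeIsoLocalization m.primeCompl 𝔓
  exact Groth.Agent.Lib.helper6.CMFlat.isCM_of_ringEquiv e.toRingEquiv
    (hS.isCohenMacaulayLocalRing_localization _)

/-- the dimension formula in a Cohen–Macaulay local ring -/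
theorem dim_eq_add_height_of_isCM (R : Type u) [CommRing R] [IsLocalRing R]
    (hCMl : IsCohenMacaulayLocalRing R) (hCM : IsCohenMacaulayRing R)
    (J : Ideal R) (hJ : J ≠ ⊤) :
    ringKrullDim R = ringKrullDim (R ⧸ J) + ((J.height : ℕ∞) : WithBot ℕ∞) := by
  haveI : IsNoetherianRing R := by
    haveI := hCM
    infer_instance
  have hM : IsCohenMacaulayModule R R := hCMl.supportDim_eq_depth
  have h1 := supportDim_eq_add_idealDepth_of_isCohenMacaulayModule J hJ R hM
  have h2 := (isCohenMacaulayRing_iff_idealDepth_eq_height).1 hCM J hJ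
  have h3 : Module.supportDim R (R ⧸ (J • (⊤ : Submodule R R))) = ringKrullDim (R ⧸ J) := by
    have : (J • (⊤ : Submodule R R)) = J := by rw [smul_eq_mul, Ideal.mul_top]
    rw [this]
    exact Module.supportDim_quotient_eq_ringKrullDim J
  rw [Module.supportDim_self_eq_ringKrullDim, h3, h2] at h1
  exact h1

section FT

theorem height_comap_eq (k : Type u) [Field k] (S : Type u) [CommRing S] [Algebra k S]
    [Algebra.FiniteType k S] [hS : IsCohenMacaulayRing S] (p : Ideal S) [p.IsPrime] (q : Ideal (S ⧸ p)) [q.IsPrime] :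
    (q.comap (Ideal.Quotient.mk p)).height = p.height + q.height := by
  set Q := q.comap (Ideal.Quotient.mk p) with hQ
  obtain ⟨e⟩ := nonempty_locQuotAlgEquiv k p q
  haveI : IsLocalRing (Localization.AtPrime Q ⧸ JQ p Q) := e.toRingEquiv.isLocalRing
  have hJ : JQ p Q ≠ ⊤ := Ideal.Quotient.nontrivial_iff.mp inferInstance
  have hCMl : IsCohenMacaulayLocalRing (Localization.AtPrime Q) :=
    hS.isCohenMacaulayLocalRing_localization Q
  have h1 := dim_eq_add_height_of_isCM (Localization.AtPrime Q) hCMl (isCMRing_atPrime S Q)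
    (JQ p Q) hJ
  have h2 : ringKrullDim (Localization.AtPrime Q) = Q.height :=
    IsLocalization.AtPrime.ringKrullDim_eq_height Q _
  have h3 : ringKrullDim (Localization.AtPrime Q ⧸ JQ p Q) = q.height := by
    rw [← ringKrullDim_eq_of_ringEquiv e.toRingEquiv]
    exact IsLocalization.AtPrime.ringKrullDim_eq_height q _
  have hpQ : p ≤ Q := by
    intro x hx
    show Ideal.Quotient.mk p x ∈ q
    rw [Ideal.Quotient.eq_zero_iff_mem.mpr hx]
    exact q.zero_mem
  have hdisj : Disjoint (Q.primeCompl : Set S) (p : Set S) := by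
    rw [Set.disjoint_left]
    intro x hx hxp
    exact hx (hpQ hxp)
  have h4 : (JQ p Q).height = p.height := by
    rw [← IsLocalization.height_under Q.primeCompl (JQ p Q)]
    congr 1
    exact IsLocalization.under_map_of_isPrime_disjoint Q.primeCompl _ inferInstance hdisj
  rw [h2, h3, h4] at h1
  have h5 : ((Q.height : ℕ∞) : WithBot ℕ∞) = ((q.height + p.height : ℕ∞) : WithBot ℕ∞) := by
    rw [WithBot.coe_add]
    exact h1
  rw [WithBot.coe_inj.mp h5, add_comm]

theorem height_of_maximal_ge (k : Type u) [Field k] (S : Type u) [CommRing S] [Algebra k S]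
    [Algebra.FiniteType k S] [hS : IsCohenMacaulayRing S] (p : Ideal S) [p.IsPrime] (m : Ideal S) [hm : m.IsMaximal]
    (hpm : p ≤ m) :
    ((m.height : ℕ∞) : WithBot ℕ∞) = ((p.height : ℕ∞) : WithBot ℕ∞) + ringKrullDim (S ⧸ p) := by
  have hker : RingHom.ker (Ideal.Quotient.mk p) ≤ m := by
    rw [Ideal.mk_ker]; exact hpm
  haveI hq : (m.map (Ideal.Quotient.mk p)).IsMaximal :=
    Ideal.IsMaximal.map_of_surjective_of_ker_le Ideal.Quotient.mk_surjective hker
  have hcm : (m.map (Ideal.Quotient.mk p)).comap (Ideal.Quotient.mk p) = m := by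
    rw [Ideal.comap_map_of_surjective' _ Ideal.Quotient.mk_surjective, Ideal.mk_ker]
    exact sup_eq_left.mpr hpm
  have h1 := height_comap_eq k S p (m.map (Ideal.Quotient.mk p))
  rw [hcm] at h1
  have h2 := Groth.Agent.Lib.helper7.DimFT.height_of_isMaximal (k := k) (S ⧸ p)
    (m.map (Ideal.Quotient.mk p))
  rw [h1, WithBot.coe_add, h2]

end FT

section Clopen

variable (k : Type u) [Field k] (S : Type u) [CommRing S] [Algebra k S] [Algebra.FiniteType k S]
  [hS : IsCohenMacaulayRing S]

/-- primes lying in a maximal ideal of height `d` -/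
def U (d : ℕ) : Set (PrimeSpectrum S) :=
  {p | ∃ m : Ideal S, m.IsMaximal ∧ p.asIdeal ≤ m ∧ m.height = d}

include k in
theorem U_unique {d : ℕ} (p : PrimeSpectrum S) (hp : p ∈ U S d) (m : Ideal S) [hm : m.IsMaximal]
    (hpm : p.asIdeal ≤ m) : m.height = d := by
  obtain ⟨m₀, hm₀, hpm₀, hd⟩ := hp
  have h1 := height_of_maximal_ge k S p.asIdeal m hpm
  have h2 := height_of_maximal_ge k S p.asIdeal m₀ hpm₀
  rw [← h2] at h1
  rw [WithBot.coe_inj.mp h1, hd]

include k in
theorem U_disjoint {d d' : ℕ} (p : PrimeSpectrum S) (hp : p ∈ U S d) (hp' : p ∈ U S d') :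
    d = d' := by
  obtain ⟨m₀, hm₀, hpm₀, hd⟩ := hp
  have := U_unique k S p hp' m₀ hpm₀
  rw [hd] at this
  exact_mod_cast this

include k in
theorem exists_bound : ∃ N : ℕ, ∀ m : Ideal S, m.IsMaximal → m.height ≤ N := by
  obtain ⟨n, ψ, hψ⟩ := Algebra.FiniteType.iff_quotient_mvPolynomial''.mp
    (inferInstance : Algebra.FiniteType k S)
  refine ⟨n, fun m hm => ?_⟩
  have h1 := Ideal.height_le_ringKrullDim_of_ne_top hm.ne_top
  have h2 : ringKrullDim S ≤ (n : WithBot ℕ∞) := by
    rw [← ringKrullDim_mvPolynomial_fin (k := k) (n := n)]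
    exact ringKrullDim_le_of_surjective ψ.toRingHom hψ
  have h3 : ((m.height : ℕ∞) : WithBot ℕ∞) ≤ ((n : ℕ∞) : WithBot ℕ∞) := h1.trans h2
  exact WithBot.coe_le_coe.mp h3

theorem U_cover (p : PrimeSpectrum S) : ∃ d : ℕ, p ∈ U S d := by
  haveI : IsNoetherianRing S := by
    haveI := hS
    infer_instance
  obtain ⟨m, hm, hpm⟩ := Ideal.exists_le_maximal p.asIdeal p.isPrime.ne_top
  haveI := hm
  obtain ⟨d, hd⟩ := ENat.ne_top_iff_exists.mp (Ideal.height_ne_top_of_isPrime (I := m))
  exact ⟨d, m, hm, hpm, hd.symm⟩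

include k in
theorem isClosed_U (d : ℕ) : IsClosed (U S d) := by
  haveI : IsNoetherianRing S := by
    haveI := hS
    infer_instance
  have hfin : (minimalPrimes S).Finite := minimalPrimes.finite_of_isNoetherianRing S
  have heq : U S d = ⋃ P ∈ {P ∈ minimalPrimes S | ∃ hP : P.IsPrime, (⟨P, hP⟩ : PrimeSpectrum S) ∈ U S d},
      PrimeSpectrum.zeroLocus (P : Set S) := by
    ext p
    simp only [Set.mem_iUnion, Set.mem_ofPred_eq, PrimeSpectrum.mem_zeroLocus, exists_prop]
    constructor
    · intro hp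
      obtain ⟨m, hm, hpm, hd⟩ := hp
      obtain ⟨P, hP, hPp⟩ := Ideal.exists_minimalPrimes_le (bot_le : (⊥ : Ideal S) ≤ p.asIdeal)
      exact ⟨P, ⟨hP, hP.1.1, m, hm, hPp.trans hpm, hd⟩, hPp⟩
    · rintro ⟨P, ⟨hP, hPprime, hPU⟩, hPp⟩
      obtain ⟨m, hm, hpm⟩ := Ideal.exists_le_maximal p.asIdeal p.isPrime.ne_top
      haveI := hm
      have hle : P ≤ m := fun x hx => hpm (hPp hx)
      exact ⟨m, hm, hpm, U_unique k S ⟨P, hPprime⟩ hPU m hle⟩
  rw [heq]
  refine Set.Finite.isClosed_biUnion (hfin.subset fun P hP => hP.1) fun P _ => ?_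
  exact PrimeSpectrum.isClosed_zeroLocus _

include k in
theorem isClopen_U (d : ℕ) : IsClopen (U S d) := by
  refine ⟨isClosed_U k S d, ?_⟩
  obtain ⟨N, hN⟩ := exists_bound k S
  have heq : (U S d)ᶜ = ⋃ d' ∈ {d' ∈ Finset.range (N + 1) | d' ≠ d}, U S d' := by
    ext p
    simp only [Set.mem_compl_iff, Set.mem_iUnion, Finset.mem_filter, Finset.mem_range,
      exists_prop]
    constructor
    · intro hp
      obtain ⟨d', hd'⟩ := U_cover S p
      obtain ⟨m, hm, hpm, hd⟩ := hd'
      have h1 := hN m hm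
      rw [hd] at h1
      have h2 : d' ≤ N := by exact_mod_cast h1
      refine ⟨d', ⟨by omega, ?_⟩, m, hm, hpm, hd⟩
      rintro rfl
      exact hp ⟨m, hm, hpm, hd⟩
    · rintro ⟨d', ⟨_, hne⟩, hd'⟩ hp
      exact hne (U_disjoint k S p hd' hp)
  rw [← isClosed_compl_iff, heq]
  refine Set.Finite.isClosed_biUnion (Finset.finite_toSet _) fun d' _ => isClosed_U k S d'

end Clopen

section Main

variable (k : Type u) [Field k] (S : Type u) [CommRing S] [Algebra k S] [Algebra.FiniteType k S]
  [hS : IsCohenMacaulayRing S]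

include k in
theorem main : ∃ (N : ℕ) (T : Fin (N + 1) → Type u) (_ : ∀ d, CommRing (T d))
    (_ : ∀ d, Algebra k (T d)),
      Nonempty (S ≃ₐ[k] ((d : Fin (N + 1)) → T d)) ∧
        ∀ (d : Fin (N + 1)) (m : Ideal (T d)), m.IsMaximal → m.height = (d : ℕ) := by
  classical
  haveI : IsNoetherianRing S := by
    haveI := hS
    infer_instance
  obtain ⟨N, hN⟩ := exists_bound k S
  have hcl : ∀ d : ℕ, ∃ e : S, IsIdempotentElem e ∧ U S d = PrimeSpectrum.basicOpen e :=
    fun d => PrimeSpectrum.isClopen_iff.mp (isClopen_U k S d)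
  choose e he heU using hcl
  let I : Fin (N + 1) → Ideal S := fun d => Ideal.span {1 - e d}
  have hmem : ∀ (d : ℕ) (p : PrimeSpectrum S),
      Ideal.span {1 - e d} ≤ p.asIdeal ↔ p ∈ U S d := by
    intro d p
    rw [heU d, Ideal.span_singleton_le_iff_mem]
    show _ ↔ e d ∉ p.asIdeal
    constructor
    · intro h1 h2
      apply p.isPrime.ne_top
      rw [Ideal.eq_top_iff_one]
      have := p.asIdeal.add_mem h1 h2
      rwa [sub_add_cancel] at this
    · intro h
      have h1 : (1 - e d) * e d ∈ p.asIdeal := by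
        rw [sub_mul, one_mul, (he d).eq, sub_self]
        exact zero_mem _
      exact (p.isPrime.mem_or_mem h1).resolve_right h
  have hcop : Pairwise (Function.onFun IsCoprime I) := by
    intro d d' hdd'
    show IsCoprime (I d) (I d')
    rw [Ideal.isCoprime_iff_sup_eq]
    by_contra hne
    obtain ⟨m, hm, hle⟩ := Ideal.exists_le_maximal _ hne
    have h1 := (hmem d ⟨m, hm.isPrime⟩).mp (le_sup_left.trans hle)
    have h2 := (hmem d' ⟨m, hm.isPrime⟩).mp (le_sup_right.trans hle)
    exact hdd' (Fin.ext (U_disjoint k S _ h1 h2))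
  have hinf : ⨅ d, I d = ⊥ := by
    rw [eq_bot_iff]
    intro x hx
    rw [Ideal.mem_iInf] at hx
    rw [Ideal.mem_bot]
    apply eq_zero_of_localization
    intro m hm
    obtain ⟨d, hd⟩ := U_cover S ⟨m, hm.isPrime⟩
    have hdN : d ≤ N := by
      obtain ⟨m₁, hm₁, _, hd₁⟩ := hd
      have h1 := hN m₁ hm₁
      rw [hd₁] at h1
      exact_mod_cast h1
    have hxd : x ∈ Ideal.span {1 - e d} := hx ⟨d, by omega⟩
    obtain ⟨a, rfl⟩ := Ideal.mem_span_singleton'.mp hxd
    have hed : e d ∉ m := by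
      rw [heU d] at hd
      exact hd
    rw [IsLocalization.map_eq_zero_iff m.primeCompl]
    refine ⟨⟨e d, hed⟩, ?_⟩
    show e d * (a * (1 - e d)) = 0
    have : e d * (a * (1 - e d)) = a * (e d - e d * e d) := by ring
    rw [this, (he d).eq, sub_self, mul_zero]
  let e1 : S ≃+* S ⧸ ⨅ d, I d :=
    (RingEquiv.quotientBot S).symm.trans (Ideal.quotEquivOfEq hinf.symm)
  let e2 := Ideal.quotientInfRingEquivPiQuotient I hcop
  let eAlg : S ≃ₐ[k] ((d : Fin (N + 1)) → S ⧸ I d) :=
    AlgEquiv.ofRingEquiv (f := e1.trans e2) (fun r => by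
      ext d
      rfl)
  refine ⟨N, fun d => S ⧸ I d, fun d => inferInstance, fun d => inferInstance, ⟨eAlg⟩, ?_⟩
  intro d mb hmb
  haveI : IsLocalization.Away (e d) (S ⧸ I d) :=
    IsLocalization.Away.quotient_of_isIdempotentElem (he d)
  haveI := hmb.isPrime
  have h1 : (mb.under S).height = mb.height :=
    IsLocalization.height_under (Submonoid.powers (e (d : ℕ))) mb
  have hmax : (mb.comap (Ideal.Quotient.mk (I d))).IsMaximal :=
    Ideal.comap_isMaximal_of_surjective _ Ideal.Quotient.mk_surjective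
  have hle : Ideal.span {1 - e d} ≤ mb.comap (Ideal.Quotient.mk (I d)) := by
    intro x hx
    show Ideal.Quotient.mk (I d) x ∈ mb
    rw [Ideal.Quotient.eq_zero_iff_mem.mpr hx]
    exact mb.zero_mem
  have hU := (hmem d ⟨mb.comap (Ideal.Quotient.mk (I d)), hmax.isPrime⟩).mp hle
  have h2 := U_unique k S _ hU (mb.comap (Ideal.Quotient.mk (I d))) le_rfl
  rw [← h1]
  exact h2

end Main

end Groth.Agent.H6.CMDecomp
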