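import Mathlib
import Groth.Agent.Lib.helper6.QFFlat
import Groth.Agent.Lib.helper6.AusBuchE
import Groth.Agent.Lib.helper6.PdLoc
import Groth.Agent.Lib.helper6.SkFib
import Groth.Agent.Lib.helper9.Depth24
import Groth.Agent.Lib.helper9.TopDim

/-!
# The Cohen–Macaulay locus of a finite type algebra over a field is open
-/

set_option autoImplicit false
set_option linter.style.haveILetI false
set_option linter.unusedSectionVars false

universe u

namespace Groth.Agent.Lib.helper6.CMOpen

open LocCoh CategoryTheory
open Groth.Agent.Lib.helper9.Depth Groth.Agent.Lib.helper9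
open Groth.Agent.Lib.helper7 Groth.Agent.Lib.helper7.TensorDim

/-- `trdeg κ(q) = trdeg κ(q ∩ P)` for a quasi-finite `P`-algebra. -/
theorem trdeg_eq_of_quasiFinite (k P S : Type u) [Field k] [CommRing P] [CommRing S] [Algebra k P]
    [Algebra k S] [Algebra P S] [IsScalarTower k P S] [Algebra.QuasiFinite P S]
    (q : Ideal S) [q.IsPrime] (r : ℕ)
    (hr : Algebra.trdeg k (q.under P).ResidueField = r) :
    Algebra.trdeg k q.ResidueField = r := by
  let p : Ideal P := q.under P
  haveI : q.LiesOver p := ⟨rfl⟩
  letI := Localization.AtPrime.algebraOfLiesOver p q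
  haveI : Module.Finite p.ResidueField q.ResidueField := inferInstance
  haveI : Algebra.IsAlgebraic p.ResidueField q.ResidueField := inferInstance
  have h1 := trdeg_add_eq k p.ResidueField (A := q.ResidueField)
  have h2 : Algebra.trdeg p.ResidueField q.ResidueField = 0 := trdeg_eq_zero
  rw [h2, add_zero] at h1
  rw [← h1]
  exact hr

section

variable (k : Type u) [Field k] (n : ℕ) (S : Type u) [CommRing S] [Algebra k S]
  [Algebra.FiniteType k S]
  [Algebra (MvPolynomial (Fin n) k) S] [IsScalarTower k (MvPolynomial (Fin n) k) S]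

include k in
theorem nontrivial_localized (hs : Function.Surjective (algebraMap (MvPolynomial (Fin n) k) S))
    (q : Ideal S) [q.IsPrime] :
    Nontrivial (LocalizedModule (q.comap (algebraMap (MvPolynomial (Fin n) k) S)).primeCompl S) := by
  haveI : Module.Finite (MvPolynomial (Fin n) k) S :=
    Module.Finite.of_surjective (Algebra.linearMap _ S) hs
  have h : (⟨q.comap (algebraMap (MvPolynomial (Fin n) k) S), inferInstance⟩ :
      PrimeSpectrum (MvPolynomial (Fin n) k)) ∈ Module.support (MvPolynomial (Fin n) k) S := by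
    rw [Module.mem_support_iff_of_finite]
    intro x hx
    rw [Module.mem_annihilator] at hx
    have h1 := hx 1
    rw [Algebra.smul_def, mul_one] at h1
    change algebraMap _ S x ∈ q
    rw [h1]
    exact q.zero_mem
  exact Module.mem_support_iff.mp h

/-- Pointwise criterion: `S_q` is CM iff `pd_{P_Q} S_Q + dim_q Spec S ≤ n`. -/
theorem cm_iff (hs : Function.Surjective (algebraMap (MvPolynomial (Fin n) k) S))
    (q : Ideal S) [q.IsPrime] (e ℓ : ℕ)
    (he : projectiveDimension (ModuleCat.of
      (Localization.AtPrime (q.comap (algebraMap (MvPolynomial (Fin n) k) S)))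
      (LocalizedModule (q.comap (algebraMap (MvPolynomial (Fin n) k) S)).primeCompl S)) = e)
    (hℓ : FlatMor.localDim (PrimeSpectrum S) ⟨q, inferInstance⟩ = (ℓ : WithBot ℕ∞)) :
    IsCohenMacaulayLocalRing (Localization.AtPrime q) ↔ e + ℓ ≤ n := by
  haveI : Module.Finite (MvPolynomial (Fin n) k) S :=
    Module.Finite.of_surjective (Algebra.linearMap _ S) hs
  haveI : IsNoetherianRing S := Algebra.FiniteType.isNoetherianRing k S
  haveI : IsNoetherianRing (Localization.AtPrime q) :=
    IsLocalization.isNoetherianRing q.primeCompl _ inferInstance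
  haveI : Algebra.Smooth k (MvPolynomial (Fin n) k) := ⟨inferInstance, inferInstance⟩
  haveI : IsRegularRing (MvPolynomial (Fin n) k) :=
    Groth.Agent.Lib.helper20.SmoothReg.isRegularRing_of_smooth k _
  haveI := nontrivial_localized k n S hs q
  -- abbreviations
  set Q : Ideal (MvPolynomial (Fin n) k) := q.comap (algebraMap (MvPolynomial (Fin n) k) S)
    with hQ
  haveI : Q.IsPrime := Ideal.comap_isPrime _ _
  haveI : IsRegularLocalRing (Localization.AtPrime Q) :=
    IsRegularRing.isRegularLocalRing_localization Q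
  obtain ⟨b, hb⟩ := Groth.Agent.H5.RegLoc.exists_nat_dim (Localization.AtPrime Q)
  obtain ⟨t, ht⟩ := QFFlat.exists_trdeg k (MvPolynomial (Fin n) k) Q
  have htq : Algebra.trdeg k q.ResidueField = t := by
    apply trdeg_eq_of_quasiFinite k (MvPolynomial (Fin n) k) S q t
    exact ht
  have hbt : b + t = n := by
    have h1 := QFFlat.height_add_trdeg k n Q t ht
    have h2 : ringKrullDim (Localization.AtPrime Q) = Q.height :=
      IsLocalization.AtPrime.ringKrullDim_eq_height Q _
    rw [hb] at h2
    have h3 : (b : ℕ∞) = Q.height := by exact_mod_cast h2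
    rw [← h3] at h1
    exact_mod_cast h1
  have hloc := DimSpec.localDim_eq k S q t htq
  obtain ⟨a, ha⟩ := SkFib.exists_nat_dim (Localization.AtPrime q)
  have hℓ' : ℓ = a + t := by
    rw [hℓ, ha] at hloc
    exact_mod_cast hloc
  obtain ⟨δ, hδ⟩ := exists_nat_depth (R := Localization.AtPrime q) (Localization.AtPrime q)
  have hle : δ ≤ a := by
    have h1 := depth_le_supportDim (R := Localization.AtPrime q) (Localization.AtPrime q)
    rw [Module.supportDim_self_eq_ringKrullDim, ha, hδ] at h1
    exact_mod_cast h1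
  have hAB := AusBuchD.auslander_buchsbaum (R := Localization.AtPrime Q) e
    (LocalizedModule Q.primeCompl S) he
  have hdepP := AusBuchE.depth_eq_dim (Localization.AtPrime Q) b hb
  have hdep1 := (depth_supportDim_localization_of_surjective (M := S) hs q).1
  have hdep2 := depth_eq_of_isLocalizedModule q (Localization.AtPrime q)
    (Algebra.linearMap S (Localization.AtPrime q))
  rw [hdepP, hdep1, hdep2, hδ] at hAB
  have hbe : b = e + δ := by exact_mod_cast hAB
  constructor
  · intro hcm
    have h1 := hcm.supportDim_eq_depth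
    rw [Module.supportDim_self_eq_ringKrullDim, ha, hδ] at h1
    have h2 : a = δ := by exact_mod_cast h1
    omega
  · intro h
    refine { supportDim_eq_depth := ?_ }
    rw [Module.supportDim_self_eq_ringKrullDim, ha, hδ]
    have h2 : a = δ := by omega
    rw [h2]
    rfl

include k in
theorem exists_nat_localDim (q : Ideal S) [q.IsPrime] :
    ∃ ℓ : ℕ, FlatMor.localDim (PrimeSpectrum S) ⟨q, inferInstance⟩ = (ℓ : WithBot ℕ∞) := by
  haveI : IsNoetherianRing S := Algebra.FiniteType.isNoetherianRing k S
  haveI : IsNoetherianRing (Localization.AtPrime q) :=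
    IsLocalization.isNoetherianRing q.primeCompl _ inferInstance
  obtain ⟨t, ht⟩ := QFFlat.exists_trdeg k S q
  obtain ⟨a, ha⟩ := SkFib.exists_nat_dim (Localization.AtPrime q)
  refine ⟨a + t, ?_⟩
  rw [DimSpec.localDim_eq k S q t ht, ha]
  push_cast
  rfl

theorem exists_nat_pd (hs : Function.Surjective (algebraMap (MvPolynomial (Fin n) k) S))
    (q : Ideal S) [q.IsPrime] : ∃ e : ℕ, projectiveDimension (ModuleCat.of
      (Localization.AtPrime (q.comap (algebraMap (MvPolynomial (Fin n) k) S)))
      (LocalizedModule (q.comap (algebraMap (MvPolynomial (Fin n) k) S)).primeCompl S)) = e := by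
  haveI : Algebra.Smooth k (MvPolynomial (Fin n) k) := ⟨inferInstance, inferInstance⟩
  haveI : IsRegularRing (MvPolynomial (Fin n) k) :=
    Groth.Agent.Lib.helper20.SmoothReg.isRegularRing_of_smooth k _
  haveI := nontrivial_localized k n S hs q
  haveI : IsRegularLocalRing
      (Localization.AtPrime (q.comap (algebraMap (MvPolynomial (Fin n) k) S))) :=
    IsRegularRing.isRegularLocalRing_localization _
  obtain ⟨b, hb⟩ := Groth.Agent.H5.RegLoc.exists_nat_dim
    (Localization.AtPrime (q.comap (algebraMap (MvPolynomial (Fin n) k) S)))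
  have hpd := Groth.Agent.S0563.result _ b hb
    (LocalizedModule (q.comap (algebraMap (MvPolynomial (Fin n) k) S)).primeCompl S)
  have hnz : ¬ Limits.IsZero (ModuleCat.of
      (Localization.AtPrime (q.comap (algebraMap (MvPolynomial (Fin n) k) S)))
      (LocalizedModule (q.comap (algebraMap (MvPolynomial (Fin n) k) S)).primeCompl S)) := by
    rw [ModuleCat.isZero_iff_subsingleton]
    exact not_subsingleton _
  exact AusBuchE.exists_nat_pd _ hnz _ hpd

theorem isOpen_cm_aux (hs : Function.Surjective (algebraMap (MvPolynomial (Fin n) k) S)) :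
    IsOpen {q : PrimeSpectrum S | IsCohenMacaulayLocalRing (Localization.AtPrime q.asIdeal)} := by
  haveI : Module.Finite (MvPolynomial (Fin n) k) S :=
    Module.Finite.of_surjective (Algebra.linearMap _ S) hs
  rw [isOpen_iff_forall_mem_open]
  intro q₀ hq₀
  obtain ⟨ℓ₀, hℓ₀⟩ := exists_nat_localDim k S q₀.asIdeal
  obtain ⟨e₀, he₀⟩ := exists_nat_pd k n S hs q₀.asIdeal
  have h0 := (cm_iff k n S hs q₀.asIdeal e₀ ℓ₀ he₀ hℓ₀).mp hq₀
  obtain ⟨V, hqV, hV⟩ := Groth.Agent.H9TopDim.exists_open_dim_eq_localDim q₀
  haveI : Module.FinitePresentation (MvPolynomial (Fin n) k)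
      (PdLoc.syz (MvPolynomial (Fin n) k) S e₀) := Module.finitePresentation_of_finite _ _
  refine ⟨(PrimeSpectrum.comap (algebraMap (MvPolynomial (Fin n) k) S)) ⁻¹'
    (Module.freeLocus (MvPolynomial (Fin n) k) (PdLoc.syz (MvPolynomial (Fin n) k) S e₀)) ∩ V,
    ?_, ?_, ?_⟩
  · rintro q ⟨hq1, hq2⟩
    have hpd := (PdLoc.hasProjectiveDimensionLT_atPrime_iff S
      (PrimeSpectrum.comap (algebraMap (MvPolynomial (Fin n) k) S) q) e₀).mpr hq1
    obtain ⟨e, he⟩ := exists_nat_pd k n S hs q.asIdeal
    have hee : e ≤ e₀ := by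
      have h1 := projectiveDimension_lt_iff.mpr hpd
      change projectiveDimension (ModuleCat.of
        (Localization.AtPrime (q.asIdeal.comap (algebraMap (MvPolynomial (Fin n) k) S)))
        (LocalizedModule (q.asIdeal.comap
          (algebraMap (MvPolynomial (Fin n) k) S)).primeCompl S)) < _ at h1
      rw [he] at h1
      have h2 : (e : WithBot ℕ∞) < ((e₀ + 1 : ℕ) : WithBot ℕ∞) := by exact_mod_cast h1
      have h3 : e < e₀ + 1 := by exact_mod_cast h2
      omega
    obtain ⟨ℓ, hℓ⟩ := exists_nat_localDim k S q.asIdeal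
    have hll : ℓ ≤ ℓ₀ := by
      have h1 := Groth.Agent.H9TopDim.localDim_le_dim_open V q hq2
      rw [hV, hℓ₀] at h1
      change FlatMor.localDim (PrimeSpectrum S) ⟨q.asIdeal, inferInstance⟩ ≤ _ at h1
      rw [hℓ] at h1
      exact_mod_cast h1
    exact (cm_iff k n S hs q.asIdeal e ℓ he hℓ).mpr (by omega)
  · exact (Module.isOpen_freeLocus.preimage
      (PrimeSpectrum.continuous_comap (algebraMap (MvPolynomial (Fin n) k) S))).inter V.isOpen
  · refine ⟨?_, hqV⟩
    apply (PdLoc.hasProjectiveDimensionLT_atPrime_iff S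
      (PrimeSpectrum.comap (algebraMap (MvPolynomial (Fin n) k) S) q₀) e₀).mp
    rw [← projectiveDimension_lt_iff]
    change projectiveDimension (ModuleCat.of
      (Localization.AtPrime (q₀.asIdeal.comap (algebraMap (MvPolynomial (Fin n) k) S)))
      (LocalizedModule (q₀.asIdeal.comap
        (algebraMap (MvPolynomial (Fin n) k) S)).primeCompl S)) < _
    rw [he₀]
    exact_mod_cast Nat.lt_succ_self e₀

end

/-- The Cohen–Macaulay locus of a finite type algebra over a field is open (= S9152). -/
theorem isOpen_cm (k S : Type u) [Field k] [CommRing S] [Algebra k S] [Algebra.FiniteType k S] :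
    IsOpen {q : PrimeSpectrum S | IsCohenMacaulayLocalRing (Localization.AtPrime q.asIdeal)} := by
  obtain ⟨n, φ, hφ⟩ := Algebra.FiniteType.iff_quotient_mvPolynomial''.mp
    (inferInstance : Algebra.FiniteType k S)
  letI : Algebra (MvPolynomial (Fin n) k) S := φ.toRingHom.toAlgebra
  haveI : IsScalarTower k (MvPolynomial (Fin n) k) S :=
    IsScalarTower.of_algebraMap_eq fun x => (φ.commutes x).symm
  exact isOpen_cm_aux k n S hφ

end Groth.Agent.Lib.helper6.CMOpen
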