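import Mathlib
import Groth.Prelude.Def_MoreMor
import Groth.Agent.Lib.helper6.CMFlat
import Groth.Agent.Lib.helper7.FibDim

/-! CM along flat morphisms of locally Noetherian schemes. -/

set_option linter.style.haveILetI false

open AlgebraicGeometry CategoryTheory Limits IsLocalRing

universe u

namespace Groth.Agent.Lib.helper6.CMSch

open LocCoh Groth.Agent.Lib.helper6.CMFlat

theorem aux {X Y : Scheme.{u}} (f : X ⟶ Y) [IsLocallyNoetherian X] [IsLocallyNoetherian Y]
    [Flat f] (x : X) (hx : IsCohenMacaulayLocalRing (X.presheaf.stalk x)) :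
    IsCohenMacaulayLocalRing (Y.presheaf.stalk (f x)) ∧
    IsCohenMacaulayLocalRing (X.presheaf.stalk x ⧸
      Ideal.map (f.stalkMap x).hom (maximalIdeal (Y.presheaf.stalk (f x)))) := by
  algebraize [(f.stalkMap x).hom]
  haveI : IsLocalHom (algebraMap (Y.presheaf.stalk (f x)) (X.presheaf.stalk x)) :=
    inferInstanceAs (IsLocalHom (f.stalkMap x).hom)
  haveI : Module.Flat (Y.presheaf.stalk (f x)) (X.presheaf.stalk x) := Flat.stalkMap f x
  have := (cm_iff_of_flat (R := Y.presheaf.stalk (f x)) (S := X.presheaf.stalk x)).1 hx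
  exact ⟨this.1, this.2⟩

theorem main {X Y : Scheme.{u}} (f : X ⟶ Y) [IsLocallyNoetherian X] [IsLocallyNoetherian Y]
    [Flat f]
    (hX : ∀ x : X, LocCoh.IsCohenMacaulayLocalRing ↑(X.presheaf.stalk x)) (x : X) :
    MoreMor.IsCMAt f x ∧ LocCoh.IsCohenMacaulayLocalRing ↑(Y.presheaf.stalk (f x)) := by
  have hxx : f.fiberι (f x) (f.asFiber x) = x := f.fiberι_asFiber x
  have h := aux f (f.fiberι (f x) (f.asFiber x)) (hX _)
  refine ⟨⟨Flat.stalkMap f x, ?_⟩, ?_⟩
  · exact isCM_of_ringEquiv (Groth.Agent.Lib.helper7.FibDim.fiberStalkEquiv f (f x) (f.asFiber x)) h.2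
  · have h1 := h.1
    rw [hxx] at h1
    exact h1

end Groth.Agent.Lib.helper6.CMSch
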