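import Mathlib
import Groth.Agent.Lib.helper6.CMSeq
import Groth.Agent.Lib.helper7.DimFT2
import Groth.Agent.Lib.helper6.QFFlat

/-!
# Regular sequences in Cohen–Macaulay finite type algebras over a field
-/

set_option autoImplicit false
set_option linter.style.haveILetI false
set_option linter.unusedSectionVars false

universe u

namespace Groth.Agent.Lib.helper6.CMSeq2

open LocCoh
open Groth.Agent.Lib.helper7

theorem ringKrullDim_localization_quotient (S : Type u) [CommRing S] (I q : Ideal S) [q.IsPrime]
    (hIq : I ≤ q) :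
    ringKrullDim (Localization.AtPrime q ⧸ I.map (algebraMap S (Localization.AtPrime q))) =
      ((q.map (Ideal.Quotient.mk I)).height : WithBot ℕ∞) := by
  haveI : (q.map (Ideal.Quotient.mk I)).IsPrime := Ideal.isPrime_map_quotientMk_of_isPrime hIq
  have hsub : Algebra.algebraMapSubmonoid (S ⧸ I) q.primeCompl =
      (q.map (Ideal.Quotient.mk I)).primeCompl := by
    ext y
    constructor
    · rintro ⟨x, hx, rfl⟩
      change algebraMap S (S ⧸ I) x ∉ q.map (Ideal.Quotient.mk I)
      rw [Ideal.Quotient.algebraMap_eq, Ideal.mem_quotient_iff_mem hIq]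
      exact hx
    · intro hy
      obtain ⟨x, rfl⟩ := Ideal.Quotient.mk_surjective y
      refine ⟨x, ?_, rfl⟩
      change x ∉ q
      intro hxq
      exact hy ((Ideal.mem_quotient_iff_mem hIq).mpr hxq)
  have hloc : IsLocalization.AtPrime
      (Localization.AtPrime q ⧸ I.map (algebraMap S (Localization.AtPrime q)))
      (q.map (Ideal.Quotient.mk I)) := by
    unfold IsLocalization.AtPrime
    rw [← hsub]
    infer_instance
  exact IsLocalization.AtPrime.ringKrullDim_eq_height (q.map (Ideal.Quotient.mk I)) _

section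

variable (k S : Type u) [Field k] [CommRing S] [Algebra k S] [Algebra.FiniteType k S]

include k in
theorem height_map_add_le (d : ℕ) (heq : ∀ p ∈ minimalPrimes S, ringKrullDim (S ⧸ p) = d)
    (J q : Ideal S) [q.IsPrime] (hJq : J ≤ q) (e : ℕ) (hJ : ringKrullDim (S ⧸ J) ≤ e) (i : ℕ)
    (hei : e + i ≤ d) :
    (q.map (Ideal.Quotient.mk J)).height + i ≤ q.height := by
  haveI : IsNoetherianRing S := Algebra.FiniteType.isNoetherianRing k S
  haveI hqb : (q.map (Ideal.Quotient.mk J)).IsPrime := Ideal.isPrime_map_quotientMk_of_isPrime hJq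
  obtain ⟨t, ht⟩ := QFFlat.exists_trdeg k S q
  have hdq := TensorDim.ringKrullDim_quotient_eq_of_trdeg_residueField k S q t ht
  obtain ⟨p₀, hp₀, -, h1⟩ := DimFT.exists_minimalPrimes_ringKrullDim_eq (k := k) S q
  rw [heq p₀ hp₀, hdq] at h1
  obtain ⟨p₁, hp₁, -, h2⟩ := DimFT.exists_minimalPrimes_ringKrullDim_eq (k := k) (S ⧸ J)
    (q.map (Ideal.Quotient.mk J))
  have h3 : ringKrullDim ((S ⧸ J) ⧸ p₁) ≤ e := (ringKrullDim_quotient_le p₁).trans hJ
  rw [h2, ringKrullDim_eq_of_ringEquiv (DoubleQuot.quotQuotEquivQuotOfLE hJq), hdq] at h3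
  obtain ⟨a, ha⟩ := ENat.ne_top_iff_exists.mp (Ideal.height_ne_top_of_isPrime (I := q))
  obtain ⟨b, hb⟩ := ENat.ne_top_iff_exists.mp
    (Ideal.height_ne_top_of_isPrime (I := q.map (Ideal.Quotient.mk J)))
  rw [← ha] at h1 ⊢
  rw [← hb] at h3 ⊢
  have h1' : d = t + a := by exact_mod_cast h1
  have h3' : t + b ≤ e := by exact_mod_cast h3
  have : b + i ≤ a := by omega
  exact_mod_cast this

include k in
/-- In an equidimensional CM finite type algebra, elements cutting the dimension down by their
number form a regular sequence at every prime containing them (= S9154). -/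
theorem main [IsCohenMacaulayRing S] (d : ℕ)
    (heq : ∀ p ∈ minimalPrimes S, ringKrullDim (S ⧸ p) = d) (f : List S) (hi : f.length ≤ d)
    (hne : Ideal.ofList f ≠ ⊤)
    (hle : ringKrullDim (S ⧸ Ideal.ofList f) ≤ ((d - f.length : ℕ) : WithBot ℕ∞)) :
    ringKrullDim (S ⧸ Ideal.ofList f) = ((d - f.length : ℕ) : WithBot ℕ∞) ∧
      ∀ (q : Ideal S) [q.IsPrime], Ideal.ofList f ≤ q →
        RingTheory.Sequence.IsRegular (Localization.AtPrime q)
          (f.map (algebraMap S (Localization.AtPrime q))) := by
  haveI : IsNoetherianRing S := Algebra.FiniteType.isNoetherianRing k S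
  have key : ∀ (q : Ideal S) [q.IsPrime], Ideal.ofList f ≤ q →
      RingTheory.Sequence.IsRegular (Localization.AtPrime q)
          (f.map (algebraMap S (Localization.AtPrime q))) ∧
        (q.map (Ideal.Quotient.mk (Ideal.ofList f))).height + f.length = q.height := by
    intro q _ hfq
    haveI : IsCohenMacaulayLocalRing (Localization.AtPrime q) :=
      IsCohenMacaulayRing.isCohenMacaulayLocalRing_localization q
    have hxs : ∀ x ∈ f.map (algebraMap S (Localization.AtPrime q)),
        x ∈ IsLocalRing.maximalIdeal (Localization.AtPrime q) := by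
      intro x hx
      obtain ⟨y, hy, rfl⟩ := List.mem_map.mp hx
      rw [IsLocalization.AtPrime.to_map_mem_maximal_iff (Localization.AtPrime q) q]
      exact hfq (Ideal.subset_span hy)
    have hlen : (f.map (algebraMap S (Localization.AtPrime q))).length = f.length :=
      List.length_map _
    have hineq := height_map_add_le k S d heq (Ideal.ofList f) q hfq (d - f.length) hle f.length
      (by omega)
    have hdimq : ringKrullDim (Localization.AtPrime q ⧸
        Ideal.ofList (f.map (algebraMap S (Localization.AtPrime q)))) =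
        ((q.map (Ideal.Quotient.mk (Ideal.ofList f))).height : WithBot ℕ∞) := by
      rw [← Ideal.map_ofList]
      exact ringKrullDim_localization_quotient S (Ideal.ofList f) q hfq
    have hdimR : ringKrullDim (Localization.AtPrime q) = q.height :=
      IsLocalization.AtPrime.ringKrullDim_eq_height q _
    have hdim : ringKrullDim (Localization.AtPrime q ⧸
        Ideal.ofList (f.map (algebraMap S (Localization.AtPrime q)))) +
        ((f.map (algebraMap S (Localization.AtPrime q))).length : WithBot ℕ∞) ≤
        ringKrullDim (Localization.AtPrime q) := by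
      rw [hdimq, hdimR, hlen]
      exact_mod_cast hineq
    refine ⟨(CMSeq.regular_of_dim _ _ hxs hdim).1, ?_⟩
    have hge := CMSeq.ringKrullDim_le_quotient_ofList_add_length (Localization.AtPrime q)
      (f.map (algebraMap S (Localization.AtPrime q))) hxs
    rw [hdimq, hdimR, hlen] at hge
    apply le_antisymm hineq
    exact_mod_cast hge
  refine ⟨?_, fun q _ hfq => (key q hfq).1⟩
  apply le_antisymm hle
  obtain ⟨m, hm, hfm⟩ := Ideal.exists_le_maximal _ hne
  haveI := hm.isPrime
  have h1 := (key m hfm).2
  -- ht m = d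
  obtain ⟨p₀, hp₀, -, h2⟩ := DimFT.exists_minimalPrimes_ringKrullDim_eq (k := k) S m
  rw [heq p₀ hp₀] at h2
  have h3 : ringKrullDim (S ⧸ m) = 0 := by
    haveI : IsJacobsonRing S := isJacobsonRing_of_finiteType (A := k)
    exact ringKrullDim_eq_zero_of_isField ((Ideal.Quotient.maximal_ideal_iff_isField_quotient _).mp hm)
  rw [h3, zero_add] at h2
  have h4 : m.height = d := by exact_mod_cast h2.symm
  haveI hmb : (m.map (Ideal.Quotient.mk (Ideal.ofList f))).IsPrime :=
    Ideal.isPrime_map_quotientMk_of_isPrime hfm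
  have h5 : ((m.map (Ideal.Quotient.mk (Ideal.ofList f))).height : WithBot ℕ∞) ≤
      ringKrullDim (S ⧸ Ideal.ofList f) := Ideal.height_le_ringKrullDim_of_isPrime
  refine le_trans ?_ h5
  rw [h4] at h1
  obtain ⟨b, hb⟩ := ENat.ne_top_iff_exists.mp
    (Ideal.height_ne_top_of_isPrime (I := m.map (Ideal.Quotient.mk (Ideal.ofList f))))
  rw [← hb] at h1 ⊢
  have h6 : b + f.length = d := by exact_mod_cast h1
  have h7 : d - f.length ≤ b := by omega
  have h8 : ((d - f.length : ℕ) : ℕ∞) ≤ (b : ℕ∞) := by exact_mod_cast h7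
  exact WithBot.coe_le_coe.mpr h8

end

end Groth.Agent.Lib.helper6.CMSeq2
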