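import Mathlib
import Groth.Prelude.Def_KGr
import Groth.Agent.Lib.helper13.NewtonZ

/-! The Chern character polynomial `KGr.chPoly d` in terms of Newton polynomials (helper6). -/

set_option autoImplicit false

namespace Groth.Agent.Lib.helper6.ChPoly

open MvPolynomial Finset Groth.Agent.Lib.helper13.Newton

universe u

/-- Extension by zero of a `Fin d`-indexed family. -/
def ext0 {R : Type*} [Zero R] {d : ℕ} (a : Fin d → R) : ℕ → R :=
  fun i => if h : i < d then a ⟨i, h⟩ else 0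

theorem map_ext0 {R R' : Type*} [CommRing R] [CommRing R'] (φ : R →+* R') {d : ℕ}
    (a : Fin d → R) : (fun i => φ (ext0 a i)) = ext0 (fun i => φ (a i)) := by
  funext i
  unfold ext0
  split_ifs
  · rfl
  · exact map_zero φ

theorem esymm_eq_zero_of_card_lt (σ : Type*) [Fintype σ] (R : Type*) [CommSemiring R] {n : ℕ}
    (h : Fintype.card σ < n) : esymm σ R n = 0 := by
  rw [esymm, Finset.powersetCard_eq_empty.mpr (by simpa using h), Finset.sum_empty]

theorem ext0_esymm (d : ℕ) :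
    ext0 (fun i : Fin d => esymm (Fin d) ℚ (i + 1)) = fun i => esymm (Fin d) ℚ (i + 1) := by
  funext i
  unfold ext0
  split_ifs with h
  · rfl
  · rw [esymm_eq_zero_of_card_lt]
    simp
    omega

/-- The universal form of the Chern character polynomial. -/
noncomputable def chUniv (d : ℕ) : MvPolynomial (Fin d) ℚ :=
  C (d : ℚ) + ∑ k ∈ range d, C (1 / ((k + 1).factorial : ℚ)) *
    aeval (ext0 (X : Fin d → MvPolynomial (Fin d) ℚ)) (nuZ k)

theorem sum_aeval_expTrunc (d : ℕ) :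
    (∑ i : Fin d, Polynomial.aeval (X i : MvPolynomial (Fin d) ℚ) (KGr.expTrunc d)) =
      C (d : ℚ) + ∑ k ∈ range d, C (1 / ((k + 1).factorial : ℚ)) * psum (Fin d) ℚ (k + 1) := by
  unfold KGr.expTrunc
  simp only [map_sum, map_mul, Polynomial.aeval_C, map_pow, Polynomial.aeval_X]
  rw [Finset.sum_comm]
  rw [Finset.sum_range_succ']
  simp only [pow_zero, mul_one, Nat.factorial_zero, Nat.cast_one, ne_eq, one_ne_zero,
    not_false_eq_true, div_self, map_one, Finset.sum_const, Finset.card_univ, Fintype.card_fin,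
    nsmul_eq_mul]
  rw [add_comm]
  congr 1
  apply Finset.sum_congr rfl
  intro k _
  rw [psum, Finset.mul_sum]
  rfl

theorem chPoly_eq (d : ℕ) : KGr.chPoly d = chUniv d := by
  unfold KGr.chPoly
  rw [AlgEquiv.symm_apply_eq]
  apply Subtype.ext
  rw [esymmAlgEquiv_apply, esymmAlgHom_apply]
  change (∑ i : Fin d, Polynomial.aeval (X i : MvPolynomial (Fin d) ℚ) (KGr.expTrunc d)) = _
  rw [sum_aeval_expTrunc, chUniv, map_add, aeval_C, map_sum]
  congr 1
  apply Finset.sum_congr rfl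
  intro k _
  rw [map_mul, aeval_C]
  congr 1
  have h1 := ringHom_aeval
    ((aeval (fun i : Fin d => esymm (Fin d) ℚ (i + 1)) :
      MvPolynomial (Fin d) ℚ →ₐ[ℚ] MvPolynomial (Fin d) ℚ).toRingHom)
    (ext0 (X : Fin d → MvPolynomial (Fin d) ℚ)) (nuZ k)
  rw [AlgHom.toRingHom_eq_coe, RingHom.coe_coe] at h1
  rw [h1]
  have h2 : (fun i => (aeval (fun i : Fin d => esymm (Fin d) ℚ (i + 1)) :
      MvPolynomial (Fin d) ℚ →ₐ[ℚ] MvPolynomial (Fin d) ℚ)
      (ext0 (X : Fin d → MvPolynomial (Fin d) ℚ) i)) =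
      fun i => esymm (Fin d) ℚ (i + 1) := by
    rw [← ext0_esymm]
    funext i
    unfold ext0
    split_ifs
    · rw [aeval_X]
    · rw [map_zero]
  rw [h2]
  exact eq_aeval_nuZ (NR_esymm_psum (Fin d) ℚ) k

theorem aeval_chPoly {R : Type u} [CommRing R] [Algebra ℚ R] {d : ℕ} (a : Fin d → R) :
    aeval a (KGr.chPoly d) = algebraMap ℚ R d +
      ∑ k ∈ range d, algebraMap ℚ R (1 / ((k + 1).factorial : ℚ)) * aeval (ext0 a) (nuZ k) := by
  rw [chPoly_eq, chUniv, map_add, aeval_C, map_sum]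
  congr 1
  apply Finset.sum_congr rfl
  intro k _
  rw [map_mul, aeval_C]
  congr 1
  have h1 := ringHom_aeval ((aeval a : MvPolynomial (Fin d) ℚ →ₐ[ℚ] R).toRingHom)
    (ext0 (X : Fin d → MvPolynomial (Fin d) ℚ)) (nuZ k)
  rw [AlgHom.toRingHom_eq_coe, RingHom.coe_coe] at h1
  rw [h1]
  congr 2
  funext i
  unfold ext0
  split_ifs
  · rw [aeval_X]
  · rw [map_zero]

end Groth.Agent.Lib.helper6.ChPoly
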