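import Mathlib
import Groth.Agent.Lib.helper13.NewtonZ

/-! Newton relation in power-series form (`A' = A * B`), additivity of Newton polynomials under
products of series (helper6). -/

set_option autoImplicit false

namespace Groth.Agent.Lib.helper6.NewtonPS

open PowerSeries Finset Groth.Agent.Lib.helper13.Newton

universe u

variable {R : Type u} [CommRing R]

/-- The series `1 + a_0 t + a_1 t^2 + ⋯`. -/
noncomputable def ser (a : ℕ → R) : R⟦X⟧ := PowerSeries.mk fun k => if k = 0 then 1 else a (k - 1)

/-- The series `Σ (-1)^n b_n t^n`. -/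
noncomputable def bser (b : ℕ → R) : R⟦X⟧ := PowerSeries.mk fun n => (-1) ^ n * b n

theorem coeff_ser_zero (a : ℕ → R) : coeff 0 (ser a) = 1 := by
  rw [ser, coeff_mk, if_pos rfl]

theorem coeff_ser_succ (a : ℕ → R) (k : ℕ) : coeff (k + 1) (ser a) = a k := by
  rw [ser, coeff_mk, if_neg (Nat.succ_ne_zero k), Nat.add_sub_cancel]

theorem coeff_bser (b : ℕ → R) (n : ℕ) : coeff n (bser b) = (-1) ^ n * b n := by
  rw [bser, coeff_mk]

theorem bser_add (b b' : ℕ → R) : bser (b + b') = bser b + bser b' := by
  ext n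
  rw [map_add, coeff_bser, coeff_bser, coeff_bser, Pi.add_apply, mul_add]

theorem NR_iff (a b : ℕ → R) : NR a b ↔ d⁄dX R (ser a) = ser a * bser b := by
  have key : ∀ n : ℕ, (coeff n (d⁄dX R (ser a)) = coeff n (ser a * bser b)) ↔
      ((n : R) + 1) * a n =
        (-1) ^ n * b n + ∑ i ∈ range n, (-1) ^ (n - 1 - i) * (a i * b (n - 1 - i)) := by
    intro n
    rw [coeff_derivative, coeff_mul, Finset.Nat.sum_antidiagonal_eq_sum_range_succ_mk,
      Finset.sum_range_succ', coeff_ser_succ, coeff_ser_zero, coeff_bser, Nat.sub_zero, one_mul]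
    have hs : ∑ i ∈ range n, coeff (i + 1) (ser a) * coeff (n - (i + 1)) (bser b) =
        ∑ i ∈ range n, (-1) ^ (n - 1 - i) * (a i * b (n - 1 - i)) := by
      apply Finset.sum_congr rfl
      intro i hi
      have hi' := Finset.mem_range.mp hi
      have h1 : n - (i + 1) = n - 1 - i := by omega
      rw [coeff_ser_succ, coeff_bser, h1]
      ring
    rw [hs, mul_comm (a n)]
    change _ = _ + (-1) ^ n * b n ↔ _
    constructor <;> intro h <;> linear_combination h
  constructor
  · intro h
    ext n
    exact (key n).mpr (h n)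
  · intro h n
    exact (key n).mp (by rw [h])

/-- Newton relation is additive with respect to products of series. -/
theorem NR_mul {a a' c b b' : ℕ → R} (h : NR a b) (h' : NR a' b')
    (hc : ser c = ser a * ser a') : NR c (b + b') := by
  rw [NR_iff] at h h' ⊢
  rw [hc, Derivation.leibniz, h, h', bser_add]
  simp only [smul_eq_mul]
  ring

theorem aeval_nuZ_mul {a a' c : ℕ → R} (hc : ser c = ser a * ser a') (n : ℕ) :
    MvPolynomial.aeval c (nuZ n) = MvPolynomial.aeval a (nuZ n) + MvPolynomial.aeval a' (nuZ n) := by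
  have h := NR_mul (NR_aeval_nuZ a) (NR_aeval_nuZ a') hc
  exact (eq_aeval_nuZ h n).symm

/-- `ser` of a sequence vanishing from index 1 on: `1 + v t`. -/
theorem NR_single (v : R) : NR (fun i => if i = 0 then v else 0) (fun n => v ^ (n + 1)) := by
  intro n
  rcases n with _ | n
  · simp
  · beta_reduce
    rw [if_neg (Nat.succ_ne_zero n), mul_zero, Finset.sum_range_succ']
    have hs : ∑ i ∈ range n, (-1 : R) ^ (n + 1 - 1 - (i + 1)) *
        ((if i + 1 = 0 then v else 0) * v ^ (n + 1 - 1 - (i + 1) + 1)) = 0 := by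
      apply Finset.sum_eq_zero
      intro i _
      rw [if_neg (Nat.succ_ne_zero i), zero_mul, mul_zero]
    rw [hs, zero_add, if_pos rfl]
    simp only [Nat.add_sub_cancel, Nat.sub_zero]
    ring

theorem aeval_nuZ_single (v : R) (n : ℕ) :
    MvPolynomial.aeval (fun i => if i = 0 then v else 0) (nuZ n) = v ^ (n + 1) :=
  (eq_aeval_nuZ (NR_single v) n).symm

end Groth.Agent.Lib.helper6.NewtonPS
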