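import Mathlib
import Groth.Agent.Lib.helper6.AdamsGr
import Groth.Agent.Lib.helper6.NewtonPS

/-! Newton polynomials of the γ-operations in terms of Adams operations (helper6):
`N_m(γ^1 y, …, γ^m y) = Σ_j (-1)^(m-j) C(m,j) ψ^j(x)` for `y = x - ε(x)`. -/

set_option autoImplicit false

namespace Groth.Agent.Lib.helper6.ChernNewton

open LambdaRing Finset Groth.Agent.H5.Adams Groth.Agent.H5.Lambda Groth.Agent.H5.Gamma
  Groth.Agent.Lib.helper6.Split Groth.Agent.Lib.helper6.GammaFil
  Groth.Agent.Lib.helper6.AdamsGr Groth.Agent.Lib.helper6.NewtonPS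
  Groth.Agent.Lib.helper13.Newton

universe u

variable {K : Type u} [CommRing K] [LambdaOps K]

/-- `ν_n(x) = N_{n+1}(γ^1 x, γ^2 x, …)`. -/
noncomputable def nu (n : ℕ) (x : K) : K :=
  MvPolynomial.aeval (fun i => gamma (i + 1) x) (nuZ n)

theorem ser_gamma (x : K) :
    ser (fun i => gamma (i + 1) x) = PowerSeries.mk (fun k => gamma k x) := by
  ext k
  rcases k with _ | k
  · rw [coeff_ser_zero, PowerSeries.coeff_mk, gamma_zero]
  · rw [coeff_ser_succ, PowerSeries.coeff_mk]

theorem ser_gamma_add (x y : K) :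
    ser (fun i => gamma (i + 1) (x + y)) =
      ser (fun i => gamma (i + 1) x) * ser (fun i => gamma (i + 1) y) := by
  rw [ser_gamma, ser_gamma, ser_gamma]
  ext k
  rw [PowerSeries.coeff_mk, PowerSeries.coeff_mul, gamma_add,
    Finset.Nat.sum_antidiagonal_eq_sum_range_succ_mk]
  apply Finset.sum_congr rfl
  intro i _
  rw [PowerSeries.coeff_mk, PowerSeries.coeff_mk]

theorem nu_add (n : ℕ) (x y : K) : nu n (x + y) = nu n x + nu n y :=
  aeval_nuZ_mul (ser_gamma_add x y) n

/-- `ν_n` as an additive map. -/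
noncomputable def nuHom (n : ℕ) : K →+ K := AddMonoidHom.mk' (nu n) (nu_add n)

theorem nuHom_apply (n : ℕ) (x : K) : nuHom n x = nu n x := rfl

theorem nu_zero (n : ℕ) : nu n (0 : K) = 0 := map_zero (nuHom n)

theorem nu_sub (n : ℕ) (x y : K) : nu n (x - y) = nu n x - nu n y := map_sub (nuHom n) x y

theorem map_nu {K' : Type u} [CommRing K'] [LambdaOps K'] {f : K →+* K'} (hf : IsLambdaHom f)
    (n : ℕ) (x : K) : f (nu n x) = nu n (f x) := by
  unfold nu
  rw [ringHom_aeval f]
  congr 2
  funext i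
  exact map_gamma hf _ _

variable (P : PosStructure K)

theorem gamma_line_sub_one {u : K} (hu : P.IsLine u) (k : ℕ) (hk : 2 ≤ k) :
    gamma k (u - 1) = 0 := by
  have h1 : ∀ k : ℕ, 2 ≤ k → LambdaOps.lam k (1 : K) = 0 :=
    fun k hk => lam_line P (isLine_one P) k hk
  have h := Groth.Agent.S8651.result K h1 1 (fun _ => u) (fun _ j hj => lam_line P hu j hj) k
  simp only [Finset.univ_unique, Fin.default_eq_zero, Fin.isValue, Finset.sum_const,
    Finset.card_singleton, one_smul, Nat.cast_one] at h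
  rw [h, Finset.powersetCard_eq_empty.mpr (by simp; omega), Finset.sum_empty]

theorem nu_line_sub_one {u : K} (hu : P.IsLine u) (n : ℕ) : nu n (u - 1) = (u - 1) ^ (n + 1) := by
  unfold nu
  have : (fun i => gamma (i + 1) (u - 1)) = fun i => if i = 0 then u - 1 else 0 := by
    funext i
    rcases i with _ | i
    · rw [if_pos rfl, zero_add, gamma_one]
    · rw [if_neg (Nat.succ_ne_zero i), gamma_line_sub_one P hu _ (by omega)]
  rw [this, aeval_nuZ_single]

/-- `L_n(x) = ν_n(x - ε(x))`. -/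
noncomputable def L (n : ℕ) (x : K) : K := nu n (x - ((P.aug x : ℤ) : K))

theorem L_add (n : ℕ) (x y : K) : L P n (x + y) = L P n x + L P n y := by
  unfold L
  rw [← nu_add, map_add, Int.cast_add]
  congr 1
  ring

/-- `ρ_m(x) = Σ_j (-1)^(m-j) C(m,j) ψ^j(x)`. -/
noncomputable def rho (m : ℕ) (x : K) : K :=
  ∑ j ∈ range (m + 1), ((-1 : K) ^ (m - j) * (m.choose j : K)) * adams P j x

theorem rho_add (m : ℕ) (x y : K) : rho P m (x + y) = rho P m x + rho P m y := by
  unfold rho
  rw [← Finset.sum_add_distrib]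
  apply Finset.sum_congr rfl
  intro j _
  rw [adams_add, mul_add]

theorem rho_line {u : K} (hu : P.IsLine u) (m : ℕ) : rho P m u = (u - 1) ^ m := by
  unfold rho
  rw [sub_eq_add_neg, add_pow]
  apply Finset.sum_congr rfl
  intro j _
  rw [adams_of_isLine P u hu]
  ring

theorem map_rho {K' : Type u} [CommRing K'] [LambdaOps K'] {P' : PosStructure K'} {f : K →+* K'}
    (hf : IsExtension P P' f) (m : ℕ) (x : K) : f (rho P m x) = rho P' m (f x) := by
  unfold rho
  rw [map_sum]
  apply Finset.sum_congr rfl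
  intro j _
  rw [map_mul, map_mul, map_pow, map_neg, map_one, map_natCast, map_adams hf]

theorem map_L {K' : Type u} [CommRing K'] [LambdaOps K'] {P' : PosStructure K'} {f : K →+* K'}
    (hf : IsExtension P P' f) (n : ℕ) (x : K) : f (L P n x) = L P' n (f x) := by
  unfold L
  rw [map_nu hf.isLambdaHom, map_sub, map_intCast, hf.aug_comp]

theorem L_line {u : K} (hu : P.IsLine u) (n : ℕ) : L P n u = (u - 1) ^ (n + 1) := by
  unfold L
  rw [hu.2, Int.cast_one, nu_line_sub_one P hu]

theorem L_sum_fin {m : ℕ} (u : Fin m → K) (n : ℕ) :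
    L P n (∑ i, u i) = ∑ i, L P n (u i) :=
  map_sum (AddMonoidHom.mk' (L P n) (L_add P n)) u Finset.univ

theorem rho_sum_fin {m : ℕ} (u : Fin m → K) (n : ℕ) :
    rho P n (∑ i, u i) = ∑ i, rho P n (u i) :=
  map_sum (AddMonoidHom.mk' (rho P n) (rho_add P n)) u Finset.univ

theorem L_eq_rho_pos (hK : HasSplitting K P) (n : ℕ) (e : K) (he : e ∈ P.pos) :
    L P n e = rho P (n + 1) e := by
  obtain ⟨L', hL', f, hf, u, hu, hsum⟩ := exists_split_fin P hK e he
  apply hf.injective
  rw [map_L P hf, map_rho P hf, ← hsum, L_sum_fin, rho_sum_fin]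
  apply Finset.sum_congr rfl
  intro i _
  rw [L_line _ (hu i), rho_line _ (hu i)]

theorem L_eq_rho (hK : HasSplitting K P) (n : ℕ) (x : K) : L P n x = rho P (n + 1) x := by
  obtain ⟨e, e', he, he', rfl⟩ := P.exists_sub x
  have h1 : L P n e = L P n (e - e') + L P n e' := by
    rw [← L_add, sub_add_cancel]
  have h2 : rho P (n + 1) e = rho P (n + 1) (e - e') + rho P (n + 1) e' := by
    rw [← rho_add, sub_add_cancel]
  rw [L_eq_rho_pos P hK n e he, L_eq_rho_pos P hK n e' he', h2] at h1
  exact (add_right_cancel h1).symm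

/-- Main identity for elements of augmentation zero. -/
theorem nu_eq_rho (hK : HasSplitting K P) (n : ℕ) {x : K} (hx : P.aug x = 0) :
    nu n x = rho P (n + 1) x := by
  have := L_eq_rho P hK n x
  unfold L at this
  rwa [hx, Int.cast_zero, sub_zero] at this

end Groth.Agent.Lib.helper6.ChernNewton
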