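import Mathlib
import Groth.Agent.Lib.helper6.AdamsGr

/-! The γ-filtration lies in the augmentation ideal (helper6). -/

set_option autoImplicit false

namespace Groth.Agent.Lib.helper6.GammaAug

open LambdaRing Finset Groth.Agent.H5.Adams Groth.Agent.H5.Lambda Groth.Agent.H5.Gamma
  Groth.Agent.Lib.helper6.Split Groth.Agent.Lib.helper6.GammaFil
  Groth.Agent.Lib.helper6.AdamsGr

universe u

variable {K : Type u} [CommRing K] [LambdaOps K] (P : PosStructure K)

/-- The series `Σ ε(γ^k x) t^k ∈ ℤ⟦t⟧`. -/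
noncomputable def E (x : K) : PowerSeries ℤ := PowerSeries.mk fun k => P.aug (gamma k x)

theorem E_add (x y : K) : E P (x + y) = E P x * E P y := by
  ext k
  rw [E, PowerSeries.coeff_mk, PowerSeries.coeff_mul, gamma_add, map_sum,
    Finset.Nat.sum_antidiagonal_eq_sum_range_succ_mk]
  apply Finset.sum_congr rfl
  intro i _
  rw [E, E, PowerSeries.coeff_mk, PowerSeries.coeff_mk, map_mul]

theorem S_zero {m : ℕ} (k : ℕ) (hk : 1 ≤ k) : S k (fun _ : Fin m => (0 : ℤ)) = 0 := by
  unfold S
  apply Finset.sum_eq_zero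
  intro s hs
  rw [Finset.mem_powersetCard] at hs
  have hne : s.Nonempty := by
    rw [← Finset.card_pos]
    omega
  obtain ⟨i, hi⟩ := hne
  exact Finset.prod_eq_zero hi rfl

theorem E_pos (hK : HasSplitting K P) (e : K) (he : e ∈ P.pos) :
    E P (e - (((P.aug e).toNat : ℕ) : K)) = 1 := by
  obtain ⟨L', hL', f, hf, u, hu, hsum⟩ := exists_split_fin P hK e he
  set a := e - (((P.aug e).toNat : ℕ) : K) with ha
  have h1 : ∀ k : ℕ, 2 ≤ k → LambdaOps.lam k (1 : L'.carrier) = 0 :=
    fun k hk => lam_line L'.posStr (isLine_one L'.posStr) k hk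
  have hy : ∀ (i : Fin (P.aug e).toNat) (k : ℕ), 2 ≤ k → LambdaOps.lam k (u i) = 0 :=
    fun i k hk => lam_line L'.posStr (hu i) k hk
  have hfa : f a = ∑ i, u i - (((P.aug e).toNat : ℕ) : L'.carrier) := by
    rw [ha, map_sub, map_natCast, hsum]
  ext k
  rw [E, PowerSeries.coeff_mk, PowerSeries.coeff_one]
  split_ifs with hk
  · subst hk
    rw [gamma_zero, map_one]
  · rw [← hf.aug_comp, map_gamma hf.isLambdaHom, hfa,
      Groth.Agent.S8651.result L'.carrier h1 _ u hy k]
    change L'.posStr.aug (S k (fun i => u i - 1)) = 0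
    rw [map_S]
    have : (fun i => L'.posStr.aug (u i - 1)) = fun _ => (0 : ℤ) := by
      funext i
      rw [map_sub, (hu i).2, map_one, sub_self]
    rw [this]
    exact S_zero k (by omega)

theorem E_eq_one (hK : HasSplitting K P) {a : K} (ha : P.aug a = 0) : E P a = 1 := by
  obtain ⟨e, e', he, he', rfl⟩ := P.exists_sub a
  have haug : P.aug e = P.aug e' := by
    rw [map_sub, sub_eq_zero] at ha
    exact ha
  have h1 : e - (((P.aug e).toNat : ℕ) : K) =
      (e - e') + (e' - (((P.aug e').toNat : ℕ) : K)) := by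
    rw [haug]
    ring
  have h2 := E_add P (e - e') (e' - (((P.aug e').toNat : ℕ) : K))
  rw [← h1, E_pos P hK e he, E_pos P hK e' he', mul_one] at h2
  exact h2.symm

theorem aug_gamma_eq_zero (hK : HasSplitting K P) {a : K} (ha : P.aug a = 0) {k : ℕ}
    (hk : 1 ≤ k) : P.aug (gamma k a) = 0 := by
  have h := congrArg (PowerSeries.coeff k) (E_eq_one P hK ha)
  rw [E, PowerSeries.coeff_mk, PowerSeries.coeff_one, if_neg (by omega)] at h
  exact h

/-- `F^n ⊆ ker ε` for `n ≥ 1`. -/
theorem aug_eq_zero_of_mem (hK : HasSplitting K P) {n : ℕ} (hn : 1 ≤ n) {x : K}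
    (hx : x ∈ gammaFiltration P n) : P.aug x = 0 := by
  unfold gammaFiltration at hx
  rw [if_neg (by omega)] at hx
  induction hx using AddSubgroup.closure_induction with
  | mem y hy =>
    obtain ⟨l, hl, hsum, rfl⟩ := hy
    rw [map_list_prod, List.map_map]
    apply List.prod_eq_zero
    by_contra hne
    have hall : ∀ p ∈ l, p.1 = 0 := by
      intro p hp
      by_contra hp0
      apply hne
      rw [List.mem_map]
      exact ⟨p, hp, aug_gamma_eq_zero P hK (hl p hp) (by omega)⟩
    have : (l.map Prod.fst).sum = 0 := by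
      apply List.sum_eq_zero
      intro z hz
      rw [List.mem_map] at hz
      obtain ⟨p, hp, rfl⟩ := hz
      exact hall p hp
    omega
  | zero => exact map_zero _
  | add x y _ _ hx hy => rw [map_add, hx, hy, add_zero]
  | neg x _ hx => rw [map_neg, hx, neg_zero]

end Groth.Agent.Lib.helper6.GammaAug
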