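import Mathlib
import Groth.Prelude.Def_KGr
import Groth.Agent.Lib.helper6.GammaFil

/-! Structure of the extended Rees ring of the γ-filtration and of `KGr.GrZ` (helper6). -/

set_option autoImplicit false

namespace Groth.Agent.Lib.helper6.KGrRees

open LambdaRing KGr LaurentPolynomial TensorProduct Groth.Agent.Lib.helper6.GammaFil

universe v

variable {K : Type v} [CommRing K] [LambdaOps K] (P : PosStructure K)

theorem single_mem_rees {m : ℤ} {x : K} (hx : x ∈ gammaFiltration P (-m).toNat) :
    (AddMonoidAlgebra.single m x : LaurentPolynomial K) ∈ rees P := by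
  rcases le_or_gt m 0 with hm | hm
  · have h1 : (AddMonoidAlgebra.single m x : LaurentPolynomial K) =
        C x * T (-(((-m).toNat : ℕ) : ℤ)) := by
      rw [← single_eq_C_mul_T]
      congr 1
      omega
    rw [h1]
    exact Subring.subset_closure (Or.inr ⟨(-m).toNat, x, hx, rfl⟩)
  · have h1 : (AddMonoidAlgebra.single m x : LaurentPolynomial K) =
        (C x * T (-((0 : ℕ) : ℤ))) * (T 1) ^ m.toNat := by
      rw [T_pow, mul_T_assoc, ← single_eq_C_mul_T]
      congr 1
      have : ((m.toNat : ℕ) : ℤ) = m := Int.toNat_of_nonneg hm.le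
      rw [this]
      simp
    rw [h1]
    refine Subring.mul_mem _ ?_ (Subring.pow_mem _ ?_ _)
    · exact Subring.subset_closure (Or.inr ⟨0, x, mem_zero P x, rfl⟩)
    · exact Subring.subset_closure (Or.inl rfl)

theorem coeff_mem_of_mem_rees {p : LaurentPolynomial K} (hp : p ∈ rees P) (m : ℤ) :
    p.coeff m ∈ gammaFiltration P (-m).toNat := by
  induction hp using Subring.closure_induction generalizing m with
  | mem x hx =>
    rcases hx with rfl | ⟨n, y, hy, rfl⟩
    · rw [T_apply]
      split_ifs with h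
      · subst h
        exact mem_zero P 1
      · exact zero_mem _
    · rw [← single_eq_C_mul_T, AddMonoidAlgebra.coeff_single, Finsupp.single_apply]
      split_ifs with h
      · subst h
        simpa using hy
      · exact zero_mem _
  | zero => simp
  | one =>
    rw [AddMonoidAlgebra.one_def, AddMonoidAlgebra.coeff_single, Finsupp.single_apply]
    split_ifs with h
    · subst h
      exact mem_zero P 1
    · exact zero_mem _
  | add x y _ _ hx hy =>
    rw [AddMonoidAlgebra.coeff_add]
    exact add_mem (hx m) (hy m)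
  | neg x _ hx =>
    rw [AddMonoidAlgebra.coeff_neg]
    exact neg_mem (hx m)
  | mul x y _ _ hx hy =>
    rw [AddMonoidAlgebra.coeff_mul_apply_left]
    refine sum_mem fun h _ => ?_
    have h1 := mul_mem P (hx h) (hy (-h + m))
    refine gammaFiltration_antitone P ?_ h1
    omega

theorem mem_rees_iff (p : LaurentPolynomial K) :
    p ∈ rees P ↔ ∀ m : ℤ, p.coeff m ∈ gammaFiltration P (-m).toNat := by
  refine ⟨fun hp m => coeff_mem_of_mem_rees P hp m, fun h => ?_⟩
  rw [← AddMonoidAlgebra.sum_coeff_single p]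
  exact Subring.sum_mem _ fun m _ => single_mem_rees P (h m)


/-- Membership in the ideal `(t)` of the Rees ring. -/
theorem mem_span_t_iff (p : rees P) :
    p ∈ Ideal.span {tGen P} ↔
      ∀ n : ℕ, (p : LaurentPolynomial K).coeff (-(n : ℤ)) ∈ gammaFiltration P (n + 1) := by
  constructor
  · intro hp n
    obtain ⟨q, rfl⟩ := Ideal.mem_span_singleton'.mp hp
    change ((q : LaurentPolynomial K) * T 1).coeff (-(n : ℤ)) ∈ _
    rw [T, AddMonoidAlgebra.coeff_mul_single_apply, mul_one]
    have := coeff_mem_of_mem_rees P q.2 (-(n : ℤ) + -1)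
    refine gammaFiltration_antitone P ?_ this
    omega
  · intro h
    have hq : (p : LaurentPolynomial K) * T (-1) ∈ rees P := by
      rw [mem_rees_iff]
      intro m
      rw [T, AddMonoidAlgebra.coeff_mul_single_apply, mul_one]
      rcases le_or_gt (m + 1) 0 with hm | hm
      · have h1 := h (-(m + 1)).toNat
        have h2 : (-(((-(m + 1)).toNat : ℕ) : ℤ)) = m + - -1 := by omega
        rw [h2] at h1
        refine gammaFiltration_antitone P ?_ h1
        omega
      · have h2 : (-m).toNat = 0 := by omega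
        rw [h2]
        exact mem_zero P _
    refine Ideal.mem_span_singleton'.mpr ⟨⟨_, hq⟩, ?_⟩
    apply Subtype.ext
    change (p : LaurentPolynomial K) * T (-1) * T 1 = (p : LaurentPolynomial K)
    rw [mul_T_assoc]
    simp

/-- The element `x t^{-n}` of the Rees ring, `x ∈ F^n`. -/
noncomputable def mono (n : ℕ) (x : K) (hx : x ∈ gammaFiltration P n) : rees P :=
  ⟨C x * T (-(n : ℤ)), Subring.subset_closure (Or.inr ⟨n, x, hx, rfl⟩)⟩

theorem mono_add (n : ℕ) (x y : K) (hx : x ∈ gammaFiltration P n)
    (hy : y ∈ gammaFiltration P n) :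
    mono P n (x + y) (add_mem hx hy) = mono P n x hx + mono P n y hy := by
  apply Subtype.ext
  change C (x + y) * T (-(n : ℤ)) = C x * T (-(n : ℤ)) + C y * T (-(n : ℤ))
  rw [map_add, add_mul]

theorem mono_mul (a b : ℕ) (x y : K) (hx : x ∈ gammaFiltration P a)
    (hy : y ∈ gammaFiltration P b) :
    mono P (a + b) (x * y) (mul_mem P hx hy) = mono P a x hx * mono P b y hy := by
  apply Subtype.ext
  change C (x * y) * T (-((a + b : ℕ) : ℤ)) = C x * T (-(a : ℤ)) * (C y * T (-(b : ℤ)))
  rw [map_mul, Nat.cast_add, neg_add, T_add]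
  ring

/-- The class of `x t^{-n}` in `GrZ`, additive in `x ∈ F^n`. -/
noncomputable def clsZ (n : ℕ) : gammaFiltration P n →+ GrZ P where
  toFun x := Ideal.Quotient.mk _ (mono P n x x.2)
  map_zero' := by
    have : mono P n (0 : K) (zero_mem _) = 0 := by
      apply Subtype.ext
      change C (0 : K) * T (-(n : ℤ)) = 0
      simp
    change Ideal.Quotient.mk _ (mono P n (0 : K) _) = 0
    rw [this, map_zero]
  map_add' x y := by
    change Ideal.Quotient.mk _ (mono P n (x.1 + y.1) _) = _
    rw [mono_add P n x.1 y.1 x.2 y.2, map_add]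

theorem clsZ_mul (a b : ℕ) (x : gammaFiltration P a) (y : gammaFiltration P b) :
    clsZ P a x * clsZ P b y = clsZ P (a + b) ⟨x.1 * y.1, mul_mem P x.2 y.2⟩ := by
  change Ideal.Quotient.mk _ (mono P a x.1 x.2) * Ideal.Quotient.mk _ (mono P b y.1 y.2) =
    Ideal.Quotient.mk _ (mono P (a + b) (x.1 * y.1) _)
  rw [mono_mul P a b x.1 y.1 x.2 y.2, map_mul]

theorem clsZ_eq_zero_iff (n : ℕ) (x : gammaFiltration P n) :
    clsZ P n x = 0 ↔ x.1 ∈ gammaFiltration P (n + 1) := by
  change Ideal.Quotient.mk _ (mono P n x.1 x.2) = 0 ↔ _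
  rw [Ideal.Quotient.eq_zero_iff_mem, mem_span_t_iff]
  change (∀ k : ℕ, (C x.1 * T (-(n : ℤ))).coeff (-(k : ℤ)) ∈ gammaFiltration P (k + 1)) ↔ _
  constructor
  · intro h
    have := h n
    rwa [← single_eq_C_mul_T, AddMonoidAlgebra.coeff_single, Finsupp.single_apply,
      if_pos rfl] at this
  · intro h k
    rw [← single_eq_C_mul_T, AddMonoidAlgebra.coeff_single, Finsupp.single_apply]
    split_ifs with hk
    · have : n = k := by omega
      subst this
      exact h
    · exact zero_mem _

theorem clsZ_zero_one : clsZ P 0 ⟨1, mem_zero P 1⟩ = 1 := by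
  change Ideal.Quotient.mk _ (mono P 0 1 _) = 1
  have : mono P 0 (1 : K) (mem_zero P 1) = 1 := by
    apply Subtype.ext
    change C (1 : K) * T (-((0 : ℕ) : ℤ)) = 1
    simp
  rw [this, map_one]

end Groth.Agent.Lib.helper6.KGrRees
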