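import Mathlib
import Groth.Prelude.Def_KGr
import Groth.Agent.Lib.helper6.KGrRees

/-! The degree filtration of `KGr.Gr`, classes of elements of `F^n`, projections to
`ℚ ⊗ K/F^{n+1}` (helper6). -/

set_option autoImplicit false

namespace Groth.Agent.Lib.helper6.KGrFil

open LambdaRing KGr LaurentPolynomial TensorProduct Groth.Agent.Lib.helper6.GammaFil
  Groth.Agent.Lib.helper6.KGrRees

universe v

variable {K : Type v} [CommRing K] [LambdaOps K] (P : PosStructure K)

open Classical in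
/-- The class in `ℚGr^n` of `x`, if `x ∈ F^n`; `0` otherwise. -/
noncomputable def gq (n : ℕ) (x : K) : Gr P :=
  if hx : x ∈ gammaFiltration P n then (1 : ℚ) ⊗ₜ[ℤ] clsZ P n ⟨x, hx⟩ else 0

theorem gq_of_mem {n : ℕ} {x : K} (hx : x ∈ gammaFiltration P n) :
    gq P n x = (1 : ℚ) ⊗ₜ[ℤ] clsZ P n ⟨x, hx⟩ := dif_pos hx

theorem gq_zero (n : ℕ) : gq P n 0 = 0 := by
  rw [gq_of_mem P (zero_mem _)]
  have : (⟨0, zero_mem _⟩ : gammaFiltration P n) = 0 := rfl
  rw [this, map_zero, tmul_zero]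

theorem gq_add {n : ℕ} {x y : K} (hx : x ∈ gammaFiltration P n) (hy : y ∈ gammaFiltration P n) :
    gq P n (x + y) = gq P n x + gq P n y := by
  rw [gq_of_mem P hx, gq_of_mem P hy, gq_of_mem P (add_mem hx hy), ← tmul_add, ← map_add]
  rfl

theorem gq_neg {n : ℕ} {x : K} (hx : x ∈ gammaFiltration P n) :
    gq P n (-x) = -gq P n x := by
  rw [gq_of_mem P hx, gq_of_mem P (neg_mem hx), ← tmul_neg, ← map_neg]
  rfl

theorem gq_sub {n : ℕ} {x y : K} (hx : x ∈ gammaFiltration P n) (hy : y ∈ gammaFiltration P n) :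
    gq P n (x - y) = gq P n x - gq P n y := by
  rw [sub_eq_add_neg, gq_add P hx (neg_mem hy), gq_neg P hy, sub_eq_add_neg]

theorem gq_sum {n : ℕ} {ι : Type*} (s : Finset ι) (x : ι → K)
    (hx : ∀ i ∈ s, x i ∈ gammaFiltration P n) :
    gq P n (∑ i ∈ s, x i) = ∑ i ∈ s, gq P n (x i) := by
  classical
  induction s using Finset.induction_on with
  | empty => simp [gq_zero]
  | insert a s ha ih =>
    rw [Finset.sum_insert ha, Finset.sum_insert ha,
      gq_add P (hx a (Finset.mem_insert_self a s))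
        (sum_mem fun i hi => hx i (Finset.mem_insert_of_mem hi)),
      ih fun i hi => hx i (Finset.mem_insert_of_mem hi)]

theorem gq_mul {a b : ℕ} {x y : K} (hx : x ∈ gammaFiltration P a) (hy : y ∈ gammaFiltration P b) :
    gq P (a + b) (x * y) = gq P a x * gq P b y := by
  rw [gq_of_mem P hx, gq_of_mem P hy, gq_of_mem P (mul_mem P hx hy),
    Algebra.TensorProduct.tmul_mul_tmul, mul_one, clsZ_mul]

theorem gq_intCast_mul {n : ℕ} {x : K} (hx : x ∈ gammaFiltration P n) (c : ℤ) :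
    gq P n ((c : K) * x) = (c : ℚ) • gq P n x := by
  have hcx : (c : K) * x ∈ gammaFiltration P n := mul_mem_left P _ hx
  rw [gq_of_mem P hx, gq_of_mem P hcx]
  have h1 : (⟨(c : K) * x, hcx⟩ : gammaFiltration P n) = c • ⟨x, hx⟩ := by
    apply Subtype.ext
    simp
  rw [h1, map_zsmul, TensorProduct.tmul_smul, Int.cast_smul_eq_zsmul]

theorem gq_natCast_mul {n : ℕ} {x : K} (hx : x ∈ gammaFiltration P n) (c : ℕ) :
    gq P n ((c : K) * x) = (c : ℚ) • gq P n x := by
  have := gq_intCast_mul P hx (c : ℤ)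
  simpa using this

theorem gq_eq_zero_of_mem_succ {n : ℕ} {x : K} (hx : x ∈ gammaFiltration P (n + 1)) :
    gq P n x = 0 := by
  have hx' : x ∈ gammaFiltration P n := gammaFiltration_antitone P (Nat.le_succ n) hx
  rw [gq_of_mem P hx', (clsZ_eq_zero_iff P n ⟨x, hx'⟩).mpr hx, tmul_zero]

theorem gq_congr {n : ℕ} {x y : K} (hx : x ∈ gammaFiltration P n)
    (hxy : x - y ∈ gammaFiltration P (n + 1)) : gq P n x = gq P n y := by
  have hxy' : x - y ∈ gammaFiltration P n := gammaFiltration_antitone P (Nat.le_succ n) hxy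
  have hy : y ∈ gammaFiltration P n := by
    have := sub_mem hx hxy'
    simpa using this
  have := gq_sub P hx hy
  rw [gq_eq_zero_of_mem_succ P hxy] at this
  exact (sub_eq_zero.mp this.symm)

theorem gq_zero_one : gq P 0 1 = 1 := by
  rw [gq_of_mem P (mem_zero P 1), clsZ_zero_one]
  rfl

/-- `KGr.grK` on `F^n` is `gq`. -/
theorem grK_eq {n : ℕ} {x : K} (hx : x ∈ gammaFiltration P n) :
    grK P (n : ℤ) x = gq P n x := by
  have key : ∀ (N : ℕ) (_ : 1 ≤ N) (pf : C ((N : K) * x) * T (-(n : ℤ)) ∈ rees P),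
      ((1 : ℚ) / (N : ℚ)) ⊗ₜ[ℤ]
        Ideal.Quotient.mk (Ideal.span {tGen P}) ⟨C ((N : K) * x) * T (-(n : ℤ)), pf⟩ =
      gq P n x := by
    intro N hN pf
    have hNx : (N : K) * x ∈ gammaFiltration P n := mul_mem_left P _ hx
    have h1 : Ideal.Quotient.mk (Ideal.span {tGen P}) ⟨C ((N : K) * x) * T (-(n : ℤ)), pf⟩ =
        clsZ P n ⟨(N : K) * x, hNx⟩ := rfl
    have h2 : (⟨(N : K) * x, hNx⟩ : gammaFiltration P n) = (N : ℤ) • ⟨x, hx⟩ := by
      apply Subtype.ext
      simp
    rw [h1, h2, map_zsmul, TensorProduct.tmul_smul, TensorProduct.smul_tmul', gq_of_mem P hx]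
    congr 1
    have : (N : ℚ) ≠ 0 := by exact_mod_cast (by omega : N ≠ 0)
    simp [this]
  have h : ∃ N : ℕ, 1 ≤ N ∧ C ((N : K) * x) * T (-(n : ℤ)) ∈ rees P := by
    refine ⟨1, le_rfl, ?_⟩
    rw [Nat.cast_one, one_mul]
    exact Subring.subset_closure (Or.inr ⟨n, x, hx, rfl⟩)
  rw [grK, dif_pos h]
  exact key h.choose h.choose_spec.1 h.choose_spec.2


/-! ### Spanning -/

theorem exists_mk_eq_sum (p : rees P) : ∃ N : ℕ,
    Ideal.Quotient.mk (Ideal.span {tGen P}) p =
      ∑ n ∈ Finset.range N, clsZ P n ⟨(p : LaurentPolynomial K).coeff (-(n : ℤ)), by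
        have := coeff_mem_of_mem_rees P p.2 (-(n : ℤ))
        simpa using this⟩ := by
  refine ⟨(p : LaurentPolynomial K).coeff.support.sup (fun m => (-m).toNat) + 1, ?_⟩
  set N := (p : LaurentPolynomial K).coeff.support.sup (fun m => (-m).toNat) + 1 with hN
  have hmem : ∀ n : ℕ, (p : LaurentPolynomial K).coeff (-(n : ℤ)) ∈ gammaFiltration P n := by
    intro n
    have := coeff_mem_of_mem_rees P p.2 (-(n : ℤ))
    simpa using this
  have hbig : ∀ k : ℕ, N ≤ k → (p : LaurentPolynomial K).coeff (-(k : ℤ)) = 0 := by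
    intro k hk
    by_contra hne
    have hs : (-(k : ℤ)) ∈ (p : LaurentPolynomial K).coeff.support := Finsupp.mem_support_iff.mpr hne
    have := Finset.le_sup (f := fun m : ℤ => (-m).toNat) hs
    simp only [neg_neg, Int.toNat_natCast] at this
    omega
  change _ = ∑ n ∈ Finset.range N, Ideal.Quotient.mk (Ideal.span {tGen P})
    (mono P n ((p : LaurentPolynomial K).coeff (-(n : ℤ))) (hmem n))
  rw [← map_sum, ← sub_eq_zero, ← map_sub, Ideal.Quotient.eq_zero_iff_mem, mem_span_t_iff]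
  intro k
  have hcoe : ((p - ∑ n ∈ Finset.range N,
      mono P n ((p : LaurentPolynomial K).coeff (-(n : ℤ))) (hmem n) : rees P) :
      LaurentPolynomial K) =
      (p : LaurentPolynomial K) - ∑ n ∈ Finset.range N,
        AddMonoidAlgebra.single (-(n : ℤ)) ((p : LaurentPolynomial K).coeff (-(n : ℤ))) := by
    rw [AddSubgroupClass.coe_sub, AddSubmonoidClass.coe_finsetSum]
    congr 1
    apply Finset.sum_congr rfl
    intro n _
    change C _ * T _ = _
    rw [← single_eq_C_mul_T]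
  rw [hcoe, AddMonoidAlgebra.coeff_sub, AddMonoidAlgebra.coeff_sum, Finsupp.sub_apply,
    Finsupp.finsetSum_apply]
  have hsum : (∑ n ∈ Finset.range N, (AddMonoidAlgebra.single (-(n : ℤ))
      ((p : LaurentPolynomial K).coeff (-(n : ℤ))) : LaurentPolynomial K).coeff (-(k : ℤ))) =
      if k < N then (p : LaurentPolynomial K).coeff (-(k : ℤ)) else 0 := by
    simp only [AddMonoidAlgebra.coeff_single, Finsupp.single_apply]
    have : ∀ n : ℕ, (-(n : ℤ) = -(k : ℤ)) ↔ n = k := by intro n; omega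
    simp only [this]
    rw [Finset.sum_ite_eq' (Finset.range N) k]
    simp
  rw [hsum]
  split_ifs with hk
  · rw [sub_self]
    exact zero_mem _
  · rw [hbig k (by omega), sub_zero]
    exact zero_mem _

/-! ### The filtration by degree -/

/-- `G n`: the `ℚ`-span of the classes of degree `≥ n`. -/
noncomputable def G (n : ℕ) : Submodule ℚ (Gr P) :=
  Submodule.span ℚ {g | ∃ (m : ℕ) (x : K), n ≤ m ∧ g = gq P m x}

theorem gq_mem_G {n m : ℕ} (h : n ≤ m) (x : K) : gq P m x ∈ G P n :=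
  Submodule.subset_span ⟨m, x, h, rfl⟩

theorem G_antitone {a b : ℕ} (h : a ≤ b) : G P b ≤ G P a := by
  apply Submodule.span_mono
  rintro g ⟨m, x, hm, rfl⟩
  exact ⟨m, x, le_trans h hm, rfl⟩

theorem gq_mul_mem_G {a b m m' : ℕ} (hm : a ≤ m) (hm' : b ≤ m') (x y : K) :
    gq P m x * gq P m' y ∈ G P (a + b) := by
  by_cases hx : x ∈ gammaFiltration P m
  · by_cases hy : y ∈ gammaFiltration P m'
    · rw [← gq_mul P hx hy]
      exact gq_mem_G P (by omega) _
    · have : gq P m' y = 0 := dif_neg hy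
      rw [this, mul_zero]
      exact zero_mem _
  · have : gq P m x = 0 := dif_neg hx
    rw [this, zero_mul]
    exact zero_mem _

theorem G_mul {a b : ℕ} {g g' : Gr P} (hg : g ∈ G P a) (hg' : g' ∈ G P b) :
    g * g' ∈ G P (a + b) := by
  induction hg using Submodule.span_induction with
  | mem g hgen =>
    obtain ⟨m, x, hm, rfl⟩ := hgen
    induction hg' using Submodule.span_induction with
    | mem g' hgen' =>
      obtain ⟨m', y, hm', rfl⟩ := hgen'
      exact gq_mul_mem_G P hm hm' x y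
    | zero => rw [mul_zero]; exact zero_mem _
    | add u v _ _ hu hv => rw [mul_add]; exact add_mem hu hv
    | smul c u _ hu => rw [mul_smul_comm]; exact Submodule.smul_mem _ _ hu
  | zero => rw [zero_mul]; exact zero_mem _
  | add u v _ _ hu hv => rw [add_mul]; exact add_mem hu hv
  | smul c u _ hu => rw [smul_mul_assoc]; exact Submodule.smul_mem _ _ hu

theorem G_zero : G P 0 = ⊤ := by
  rw [eq_top_iff]
  intro g hg
  clear hg
  induction g using TensorProduct.induction_on with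
  | zero => exact zero_mem _
  | tmul q z =>
    obtain ⟨p, rfl⟩ := Ideal.Quotient.mk_surjective z
    obtain ⟨N, hN⟩ := exists_mk_eq_sum P p
    rw [hN, TensorProduct.tmul_sum]
    refine sum_mem fun n _ => ?_
    have hmem : (p : LaurentPolynomial K).coeff (-(n : ℤ)) ∈ gammaFiltration P n := by
      have := coeff_mem_of_mem_rees P p.2 (-(n : ℤ))
      simpa using this
    have h1 : q ⊗ₜ[ℤ] clsZ P n ⟨(p : LaurentPolynomial K).coeff (-(n : ℤ)), hmem⟩ =
        q • gq P n ((p : LaurentPolynomial K).coeff (-(n : ℤ))) := by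
      rw [gq_of_mem P hmem, TensorProduct.smul_tmul', smul_eq_mul, mul_one]
    rw [h1]
    exact Submodule.smul_mem _ _ (gq_mem_G P (Nat.zero_le n) _)
  | add a b ha hb => exact add_mem ha hb

theorem G_eq_bot {d : ℕ} (hd : gammaFiltration P (d + 1) = ⊥) : G P (d + 1) = ⊥ := by
  rw [eq_bot_iff, G, Submodule.span_le]
  rintro g ⟨m, x, hm, rfl⟩
  change gq P m x = 0
  by_cases hx : x ∈ gammaFiltration P m
  · have : x ∈ gammaFiltration P (d + 1) := gammaFiltration_antitone P hm hx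
    rw [hd, AddSubgroup.mem_bot] at this
    rw [this, gq_zero]
  · exact dif_neg hx


/-! ### Projection to degree `n` -/

/-- The coefficient of `t^{-n}` modulo `F^{n+1}`, on the Rees ring. -/
noncomputable def coefHom (n : ℕ) : rees P →+ K ⧸ gammaFiltration P (n + 1) where
  toFun p := QuotientAddGroup.mk ((p : LaurentPolynomial K).coeff (-(n : ℤ)))
  map_zero' := by
    change QuotientAddGroup.mk (((0 : LaurentPolynomial K)).coeff (-(n : ℤ))) = _
    simp
  map_add' p q := by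
    change QuotientAddGroup.mk (((p : LaurentPolynomial K) + q).coeff (-(n : ℤ))) = _
    rw [AddMonoidAlgebra.coeff_add, Finsupp.add_apply, QuotientAddGroup.mk_add]

theorem coefHom_apply (n : ℕ) (p : rees P) :
    coefHom P n p = QuotientAddGroup.mk ((p : LaurentPolynomial K).coeff (-(n : ℤ))) := rfl

/-- The degree `n` component `GrZ → K/F^{n+1}`. -/
noncomputable def piZ (n : ℕ) : GrZ P →ₗ[ℤ] K ⧸ gammaFiltration P (n + 1) :=
  (((Ideal.span {tGen P}).restrictScalars ℤ).liftQ (coefHom P n).toIntLinearMap (by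
      intro p hp
      have hp' : p ∈ Ideal.span {tGen P} := hp
      rw [mem_span_t_iff] at hp'
      rw [LinearMap.mem_ker]
      change coefHom P n p = 0
      rw [coefHom_apply, QuotientAddGroup.eq_zero_iff]
      exact hp' n)).comp
    (Submodule.Quotient.restrictScalarsEquiv ℤ (Ideal.span {tGen P})).symm.toLinearMap

theorem piZ_mk (n : ℕ) (p : rees P) :
    piZ P n (Ideal.Quotient.mk _ p) =
      QuotientAddGroup.mk ((p : LaurentPolynomial K).coeff (-(n : ℤ))) := by
  change piZ P n (Submodule.Quotient.mk p) = _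
  rw [piZ, LinearMap.comp_apply, LinearEquiv.coe_coe,
    Submodule.Quotient.restrictScalarsEquiv_symm_mk, Submodule.liftQ_apply]
  rfl

theorem piZ_clsZ (n m : ℕ) (x : gammaFiltration P m) :
    piZ P n (clsZ P m x) = if m = n then QuotientAddGroup.mk x.1 else 0 := by
  change piZ P n (Ideal.Quotient.mk _ (mono P m x.1 x.2)) = _
  rw [piZ_mk]
  change QuotientAddGroup.mk ((C x.1 * T (-(m : ℤ))).coeff (-(n : ℤ))) = _
  rw [← single_eq_C_mul_T, AddMonoidAlgebra.coeff_single, Finsupp.single_apply]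
  have : (-(m : ℤ) = -(n : ℤ)) ↔ m = n := by omega
  simp only [this]
  split_ifs
  · rfl
  · rfl

/-- The degree `n` component `ℚGr → ℚ ⊗ K/F^{n+1}`. -/
noncomputable def piQ (n : ℕ) : Gr P →ₗ[ℚ] ℚ ⊗[ℤ] (K ⧸ gammaFiltration P (n + 1)) :=
  LinearMap.baseChange ℚ (piZ P n)

theorem piQ_gq (n m : ℕ) (x : K) (hx : x ∈ gammaFiltration P m) :
    piQ P n (gq P m x) = if m = n then (1 : ℚ) ⊗ₜ[ℤ] (QuotientAddGroup.mk x) else 0 := by
  rw [gq_of_mem P hx, piQ, LinearMap.baseChange_tmul, piZ_clsZ]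
  split_ifs
  · rfl
  · rw [tmul_zero]

theorem piQ_eq_zero_of_mem_G (n : ℕ) {g : Gr P} (hg : g ∈ G P (n + 1)) : piQ P n g = 0 := by
  induction hg using Submodule.span_induction with
  | mem g hgen =>
    obtain ⟨m, x, hm, rfl⟩ := hgen
    by_cases hx : x ∈ gammaFiltration P m
    · rw [piQ_gq P n m x hx, if_neg (by omega)]
    · have : gq P m x = 0 := dif_neg hx
      rw [this, map_zero]
  | zero => rw [map_zero]
  | add u v _ _ hu hv => rw [map_add, hu, hv, add_zero]
  | smul c u _ hu => rw [map_smul, hu, smul_zero]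

/-- Torsion criterion in `ℚ ⊗ A`. -/
theorem exists_nsmul_eq_zero_of_tmul_eq_zero {A : Type*} [AddCommGroup A] {a : A}
    (h : (1 : ℚ) ⊗ₜ[ℤ] a = 0) : ∃ M : ℕ, 1 ≤ M ∧ M • a = 0 := by
  have h1 : TensorProduct.mk ℤ ℚ A 1 a = 0 := h
  rw [IsLocalizedModule.eq_zero_iff (nonZeroDivisors ℤ)] at h1
  obtain ⟨⟨s, hs⟩, hsa⟩ := h1
  have hs0 : s ≠ 0 := nonZeroDivisors.ne_zero hs
  refine ⟨s.natAbs, Int.natAbs_pos.mpr hs0, ?_⟩
  change s • a = 0 at hsa
  rcases Int.natAbs_eq s with h2 | h2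
  · rw [h2] at hsa
    rw [← natCast_zsmul]
    exact hsa
  · rw [h2, neg_smul, neg_eq_zero] at hsa
    rw [← natCast_zsmul]
    exact hsa

/-- If the class of `x ∈ F^n` lies in `G (n+1)`, then a multiple of `x` lies in `F^{n+1}`. -/
theorem exists_mul_mem_of_gq_mem_G {n : ℕ} {x : K} (hx : x ∈ gammaFiltration P n)
    (h : gq P n x ∈ G P (n + 1)) : ∃ M : ℕ, 1 ≤ M ∧ (M : K) * x ∈ gammaFiltration P (n + 1) := by
  have h1 := piQ_eq_zero_of_mem_G P n h
  rw [piQ_gq P n n x hx, if_pos rfl] at h1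
  obtain ⟨M, hM, hM0⟩ := exists_nsmul_eq_zero_of_tmul_eq_zero h1
  refine ⟨M, hM, ?_⟩
  rw [← QuotientAddGroup.mk_nsmul, QuotientAddGroup.eq_zero_iff] at hM0
  simpa using hM0

end Groth.Agent.Lib.helper6.KGrFil
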