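import Mathlib
import Groth.Prelude.Def_KGr
import Groth.Agent.Lib.helper6.KGrFil
import Groth.Agent.Lib.helper6.ChPoly
import Groth.Agent.Lib.helper6.ChernNewton
import Groth.Agent.Lib.helper6.GammaAug

/-! The Chern character `KGr.chK` in terms of Newton classes, additivity, leading term (helper6). -/

set_option autoImplicit false

namespace Groth.Agent.Lib.helper6.ChernClass

open LambdaRing KGr Finset TensorProduct Groth.Agent.H5.Adams Groth.Agent.H5.Gamma
  Groth.Agent.Lib.helper6.GammaFil Groth.Agent.Lib.helper6.AdamsGr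
  Groth.Agent.Lib.helper6.KGrRees Groth.Agent.Lib.helper6.KGrFil
  Groth.Agent.Lib.helper6.ChPoly Groth.Agent.Lib.helper6.ChernNewton
  Groth.Agent.Lib.helper6.GammaAug Groth.Agent.Lib.helper13.Newton

universe v

variable {K : Type v} [CommRing K] [LambdaOps K] (P : PosStructure K)

/-! ### `gq` and scalars from the ring -/

theorem gq_intCast_mul' {n : ℕ} {x : K} (hx : x ∈ gammaFiltration P n) (c : ℤ) :
    gq P n ((c : K) * x) = (c : Gr P) * gq P n x := by
  rw [gq_intCast_mul P hx, Int.cast_smul_eq_zsmul, zsmul_eq_mul]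

theorem gq_neg_one_pow_mul {n : ℕ} {x : K} (hx : x ∈ gammaFiltration P n) (k : ℕ) :
    gq P n ((-1) ^ k * x) = (-1) ^ k * gq P n x := by
  have := gq_intCast_mul' P hx ((-1) ^ k)
  simpa using this

theorem gq_natCast_succ_mul {n : ℕ} {x : K} (hx : x ∈ gammaFiltration P n) (m : ℕ) :
    gq P n (((m : K) + 1) * x) = ((m : Gr P) + 1) * gq P n x := by
  have := gq_intCast_mul' P hx ((m : ℤ) + 1)
  simpa using this

/-! ### Newton classes -/

theorem nu_rec (n : ℕ) (y : K) : nu n y = (-1) ^ n *
    (((n : K) + 1) * gamma (n + 1) y -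
      ∑ i ∈ range n, (-1) ^ (n - 1 - i) * (gamma (i + 1) y * nu (n - 1 - i) y)) :=
  aeval_nuZ_eq _ n

theorem nu_mem {y : K} (hy : P.aug y = 0) (n : ℕ) : nu n y ∈ gammaFiltration P (n + 1) := by
  induction n using Nat.strong_induction_on with
  | _ n ih =>
    rw [nu_rec]
    refine mul_mem_left P _ (sub_mem (mul_mem_left P _ (gamma_mem P hy _)) (sum_mem fun i hi => ?_))
    have hi' := Finset.mem_range.mp hi
    refine mul_mem_left P _ ?_
    have := mul_mem P (gamma_mem P hy (i + 1)) (ih (n - 1 - i) (by omega))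
    refine gammaFiltration_antitone P ?_ this
    omega

theorem term_mem {y : K} (hy : P.aug y = 0) {n i : ℕ} (hi : i < n) :
    gamma (i + 1) y * nu (n - 1 - i) y ∈ gammaFiltration P (n + 1) := by
  have := mul_mem P (gamma_mem P hy (i + 1)) (nu_mem P hy (n - 1 - i))
  refine gammaFiltration_antitone P ?_ this
  omega

/-- Evaluation of an integer polynomial at a sequence in a commutative ring (with the canonical
`ℤ`-algebra structure of a ring). -/
noncomputable def ev {R : Type*} [CommRing R] (a : ℕ → R) (p : MvPolynomial ℕ ℤ) : R :=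
  MvPolynomial.aeval a p

theorem ev_nuZ_congr {R : Type*} [CommRing R] {a a' : ℕ → R} (n : ℕ)
    (h : ∀ j, j ≤ n → a j = a' j) : ev a (nuZ n) = ev a' (nuZ n) :=
  aeval_nuZ_congr n h

theorem aeval_gq_nuZ {y : K} (hy : P.aug y = 0) (n : ℕ) :
    ev (fun i => gq P (i + 1) (gamma (i + 1) y)) (nuZ n) =
      gq P (n + 1) (nu n y) := by
  induction n using Nat.strong_induction_on with
  | _ n ih =>
    unfold ev at ih ⊢
    rw [aeval_nuZ_eq, nu_rec]
    have hA : ((n : K) + 1) * gamma (n + 1) y ∈ gammaFiltration P (n + 1) :=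
      mul_mem_left P _ (gamma_mem P hy _)
    have hB : ∀ i ∈ range n, (-1 : K) ^ (n - 1 - i) * (gamma (i + 1) y * nu (n - 1 - i) y) ∈
        gammaFiltration P (n + 1) := fun i hi =>
      mul_mem_left P _ (term_mem P hy (Finset.mem_range.mp hi))
    rw [gq_neg_one_pow_mul P (sub_mem hA (sum_mem hB)), gq_sub P hA (sum_mem hB),
      gq_natCast_succ_mul P (gamma_mem P hy _), gq_sum P _ _ hB]
    congr 2
    apply Finset.sum_congr rfl
    intro i hi
    have hi' := Finset.mem_range.mp hi
    rw [gq_neg_one_pow_mul P (term_mem P hy hi'), ih (n - 1 - i) (by omega)]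
    congr 1
    have h := gq_mul P (gamma_mem P hy (i + 1)) (nu_mem P hy (n - 1 - i))
    have hidx : i + 1 + (n - 1 - i + 1) = n + 1 := by omega
    rw [hidx] at h
    exact h.symm

/-! ### The Chern character -/

theorem aug_sub_aug (x : K) : P.aug (x - ((P.aug x : ℤ) : K)) = 0 := by
  rw [map_sub, map_intCast]
  simp

theorem chern_eq (i : ℕ) (x : K) :
    chern P i x = gq P i (gamma i (x - ((P.aug x : ℤ) : K))) := by
  unfold chern
  exact grK_eq P (gamma_mem P (aug_sub_aug P x) i)

theorem chK_eq (d : ℕ) (x : K) :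
    chK P d x = algebraMap ℚ (Gr P) (P.aug x : ℚ) +
      ∑ k ∈ range d, algebraMap ℚ (Gr P) (1 / ((k + 1).factorial : ℚ)) *
        gq P (k + 1) (nu k (x - ((P.aug x : ℤ) : K))) := by
  have h0 : chK P d x = algebraMap ℚ (Gr P) ((P.aug x : ℚ) - d) +
      MvPolynomial.aeval (fun i : Fin d => chern P (i.1 + 1) x) (chPoly d) := rfl
  have h1 : MvPolynomial.aeval (fun i : Fin d => chern P (i.1 + 1) x) (chPoly d) =
      algebraMap ℚ (Gr P) d + ∑ k ∈ range d, algebraMap ℚ (Gr P) (1 / ((k + 1).factorial : ℚ)) *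
        ev (ext0 fun i : Fin d => chern P (i.1 + 1) x) (nuZ k) :=
    aeval_chPoly (R := Gr P) (fun i : Fin d => chern P (i.1 + 1) x)
  rw [h0, h1, map_sub, map_natCast]
  have hs : ∀ k ∈ range d,
      algebraMap ℚ (Gr P) (1 / ((k + 1).factorial : ℚ)) *
        ev (ext0 fun i : Fin d => chern P (i.1 + 1) x) (nuZ k) =
      algebraMap ℚ (Gr P) (1 / ((k + 1).factorial : ℚ)) *
        gq P (k + 1) (nu k (x - ((P.aug x : ℤ) : K))) := by
    intro k hk
    have hk' := Finset.mem_range.mp hk
    rw [← aeval_gq_nuZ P (aug_sub_aug P x) k]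
    congr 1
    apply ev_nuZ_congr
    intro j hj
    unfold ext0
    rw [dif_pos (by omega)]
    exact chern_eq P (j + 1) x
  rw [Finset.sum_congr rfl hs]
  ring

theorem chK_add (d : ℕ) (x y : K) : chK P d (x + y) = chK P d x + chK P d y := by
  rw [chK_eq, chK_eq, chK_eq, map_add, Int.cast_add, map_add]
  have hs : ∀ k ∈ range d,
      algebraMap ℚ (Gr P) (1 / ((k + 1).factorial : ℚ)) *
        gq P (k + 1) (nu k (x + y - ((P.aug x + P.aug y : ℤ) : K))) =
      algebraMap ℚ (Gr P) (1 / ((k + 1).factorial : ℚ)) *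
        gq P (k + 1) (nu k (x - ((P.aug x : ℤ) : K))) +
      algebraMap ℚ (Gr P) (1 / ((k + 1).factorial : ℚ)) *
        gq P (k + 1) (nu k (y - ((P.aug y : ℤ) : K))) := by
    intro k _
    have h1 : x + y - ((P.aug x + P.aug y : ℤ) : K) =
        (x - ((P.aug x : ℤ) : K)) + (y - ((P.aug y : ℤ) : K)) := by
      push_cast
      ring
    rw [h1, nu_add, gq_add P (nu_mem P (aug_sub_aug P x) k) (nu_mem P (aug_sub_aug P y) k), mul_add]
  rw [Finset.sum_congr rfl hs, Finset.sum_add_distrib]
  ring


/-! ### Leading term of the Chern character -/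

theorem adams_mem (hK : HasSplitting K P) {N : ℕ} {x : K} (hx : x ∈ gammaFiltration P N) (j : ℕ) :
    adams P j x ∈ gammaFiltration P N := by
  have h := adams_sub_pow_mul_mem P hK j N x hx
  have e : adams P j x = (adams P j x - (j : K) ^ N * x) + (j : K) ^ N * x := by ring
  rw [e]
  exact add_mem (gammaFiltration_antitone P (Nat.le_succ N) h) (mul_mem_left P _ hx)

theorem rho_mem (hK : HasSplitting K P) {N : ℕ} {x : K} (hx : x ∈ gammaFiltration P N) (m : ℕ) :
    rho P m x ∈ gammaFiltration P N :=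
  sum_mem fun j _ => mul_mem_left P _ (adams_mem P hK hx j)

omit [LambdaOps K] in
theorem stirling (N : ℕ) :
    ∑ j ∈ range (N + 1), ((-1 : K) ^ (N - j) * (N.choose j : K)) * (j : K) ^ N =
      (N.factorial : K) := by
  have h1 := fwdDiff_iter_eq_sum_shift (1 : K) (fun r : K => r ^ N) N 0
  have h2 := congrFun (fwdDiff_iter_eq_factorial (R := K) (n := N)) 0
  rw [h2] at h1
  simp only [Pi.natCast_apply] at h1
  rw [h1]
  apply Finset.sum_congr rfl
  intro j _
  simp [zsmul_eq_mul]

theorem rho_sub_mem (hK : HasSplitting K P) {N : ℕ} {x : K} (hx : x ∈ gammaFiltration P N) :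
    rho P N x - (N.factorial : K) * x ∈ gammaFiltration P (N + 1) := by
  rw [← stirling, Finset.sum_mul, rho, ← Finset.sum_sub_distrib]
  refine sum_mem fun j _ => ?_
  have e : (-1 : K) ^ (N - j) * (N.choose j : K) * adams P j x -
      (-1 : K) ^ (N - j) * (N.choose j : K) * (j : K) ^ N * x =
      ((-1 : K) ^ (N - j) * (N.choose j : K)) * (adams P j x - (j : K) ^ N * x) := by ring
  rw [e]
  exact mul_mem_left P _ (adams_sub_pow_mul_mem P hK j N x hx)

theorem qsmul_def (q : ℚ) (g : Gr P) : q • g = algebraMap ℚ (Gr P) q * g :=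
  Algebra.smul_def q g

theorem algebraMap_mul_mem_G {n : ℕ} (q : ℚ) {g : Gr P} (hg : g ∈ G P n) :
    algebraMap ℚ (Gr P) q * g ∈ G P n := by
  rw [← qsmul_def]
  exact Submodule.smul_mem _ _ hg

theorem gq_zero_eq (x : K) : gq P 0 x = algebraMap ℚ (Gr P) (P.aug x : ℚ) := by
  have hy : x - ((P.aug x : ℤ) : K) ∈ gammaFiltration P 1 := by
    have := gamma_mem P (aug_sub_aug P x) 1
    rwa [gamma_one] at this
  have e : x = ((P.aug x : ℤ) : K) * 1 + (x - ((P.aug x : ℤ) : K)) := by ring
  conv_lhs => rw [e]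
  rw [gq_add P (mem_zero P _) (mem_zero P _), gq_intCast_mul P (mem_zero P 1), gq_zero_one,
    gq_eq_zero_of_mem_succ P hy, add_zero, qsmul_def, mul_one]

/-- For `x ∈ F^N`, `ch(x) ≡ [x]_N` modulo classes of degree `> N`. -/
theorem chK_sub_gq_mem (hK : HasSplitting K P) (d : ℕ) (hd : gammaFiltration P (d + 1) = ⊥)
    {N : ℕ} {x : K} (hx : x ∈ gammaFiltration P N) : chK P d x - gq P N x ∈ G P (N + 1) := by
  rcases N with _ | M
  · rw [chK_eq, gq_zero_eq, add_sub_cancel_left]
    refine sum_mem fun k _ => algebraMap_mul_mem_G P _ (gq_mem_G P (by omega) _)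
  · have haug : P.aug x = 0 := aug_eq_zero_of_mem P hK (by omega) hx
    rw [chK_eq, haug]
    simp only [Int.cast_zero, map_zero, sub_zero, zero_add]
    by_cases hMd : M < d
    · rw [← Finset.add_sum_erase (range d) _ (Finset.mem_range.mpr hMd), add_sub_right_comm]
      refine add_mem ?_ (sum_mem fun k hk => ?_)
      · -- the main term
        have h1 : nu M x = rho P (M + 1) x := nu_eq_rho P hK M haug
        have h2 : gq P (M + 1) (rho P (M + 1) x) =
            ((M + 1).factorial : ℚ) • gq P (M + 1) x := by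
          rw [gq_congr P (rho_mem P hK hx (M + 1)) (rho_sub_mem P hK hx), gq_natCast_mul P hx]
        rw [h1, h2, qsmul_def, ← mul_assoc, ← map_mul,
          one_div_mul_cancel (by exact_mod_cast Nat.factorial_ne_zero (M + 1)), map_one, one_mul,
          sub_self]
        exact zero_mem _
      · rw [Finset.mem_erase, Finset.mem_range] at hk
        obtain ⟨hkM, hkd⟩ := hk
        rcases Nat.lt_or_gt_of_ne hkM with hlt | hgt
        · have h1 : nu k x = rho P (k + 1) x := nu_eq_rho P hK k haug
          have h2 : rho P (k + 1) x ∈ gammaFiltration P (k + 1 + 1) :=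
            gammaFiltration_antitone P (by omega) (rho_mem P hK hx (k + 1))
          rw [h1, gq_eq_zero_of_mem_succ P h2, mul_zero]
          exact zero_mem _
        · exact algebraMap_mul_mem_G P _ (gq_mem_G P (by omega) _)
    · have hx0 : x = 0 := by
        have := gammaFiltration_antitone P (by omega : d + 1 ≤ M + 1) hx
        rwa [hd, AddSubgroup.mem_bot] at this
      subst hx0
      simp only [nu_zero, gq_zero, mul_zero, Finset.sum_const_zero, sub_self]
      exact zero_mem _

end Groth.Agent.Lib.helper6.ChernClass
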