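import Mathlib
import Groth.Prelude.Def_KGr
import Groth.Agent.Lib.helper6.ChernClass

/-! The Chern character induces a bijection `ℚ ⊗ K → ℚGr K` (helper6). -/

set_option autoImplicit false

namespace Groth.Agent.Lib.helper6.ChernFinal

open LambdaRing KGr Finset TensorProduct
  Groth.Agent.Lib.helper6.GammaFil Groth.Agent.Lib.helper6.KGrFil
  Groth.Agent.Lib.helper6.ChernClass

universe v

variable {K : Type v} [CommRing K] [LambdaOps K] (P : PosStructure K)

/-- The Chern character as an additive map. -/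
noncomputable def chHom (d : ℕ) : K →+ Gr P := AddMonoidHom.mk' (chK P d) (chK_add P d)

theorem chHom_apply (d : ℕ) (x : K) : chHom P d x = chK P d x := rfl

theorem chK_natCast_mul (d : ℕ) (M : ℕ) (x : K) : chK P d ((M : K) * x) = M • chK P d x := by
  rw [← chHom_apply, ← chHom_apply, ← map_nsmul, nsmul_eq_mul]

theorem exists_mul_mem (hK : HasSplitting K P) (d : ℕ) (hd : gammaFiltration P (d + 1) = ⊥)
    {x : K} (h : chK P d x = 0) (n : ℕ) :
    ∃ M : ℕ, 1 ≤ M ∧ (M : K) * x ∈ gammaFiltration P n := by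
  induction n with
  | zero => exact ⟨1, le_rfl, mem_zero P _⟩
  | succ n ih =>
    obtain ⟨M, hM, hMx⟩ := ih
    have h0 : chK P d ((M : K) * x) = 0 := by rw [chK_natCast_mul, h, smul_zero]
    have h1 := chK_sub_gq_mem P hK d hd hMx
    rw [h0, zero_sub] at h1
    have h2 : gq P n ((M : K) * x) ∈ G P (n + 1) := by
      have := neg_mem h1
      rwa [neg_neg] at this
    obtain ⟨M', hM', hM'x⟩ := exists_mul_mem_of_gq_mem_G P hMx h2
    refine ⟨M' * M, Nat.one_le_iff_ne_zero.mpr (Nat.mul_ne_zero (by omega) (by omega)), ?_⟩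
    rw [Nat.cast_mul, mul_assoc]
    exact hM'x

theorem exists_mul_eq_zero (hK : HasSplitting K P) (d : ℕ) (hd : gammaFiltration P (d + 1) = ⊥)
    {x : K} (h : chK P d x = 0) : ∃ M : ℕ, 1 ≤ M ∧ (M : K) * x = 0 := by
  obtain ⟨M, hM, hMx⟩ := exists_mul_mem P hK d hd h (d + 1)
  rw [hd, AddSubgroup.mem_bot] at hMx
  exact ⟨M, hM, hMx⟩

theorem G_le_range (hK : HasSplitting K P) (d : ℕ) (hd : gammaFiltration P (d + 1) = ⊥)
    (Φ : ℚ ⊗[ℤ] K →ₗ[ℚ] Gr P) (hΦ : ∀ x : K, Φ ((1 : ℚ) ⊗ₜ[ℤ] x) = chK P d x) (k : ℕ) :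
    G P (d + 1 - k) ≤ LinearMap.range Φ := by
  induction k with
  | zero =>
    rw [Nat.sub_zero, G_eq_bot P hd]
    exact bot_le
  | succ k ih =>
    by_cases hk : d + 1 - k = 0
    · have : d + 1 - (k + 1) = d + 1 - k := by omega
      rw [this]
      exact ih
    · obtain ⟨n, hn⟩ : ∃ n, d + 1 - (k + 1) = n := ⟨_, rfl⟩
      have hn' : d + 1 - k = n + 1 := by omega
      rw [hn]
      rw [hn'] at ih
      rw [G, Submodule.span_le]
      rintro g ⟨m, x, hm, rfl⟩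
      rcases Nat.eq_or_lt_of_le hm with rfl | hlt
      · by_cases hx : x ∈ gammaFiltration P n
        · have h1 := chK_sub_gq_mem P hK d hd hx
          have h2 : gq P n x = Φ ((1 : ℚ) ⊗ₜ[ℤ] x) - (chK P d x - gq P n x) := by
            rw [hΦ]
            ring
          rw [SetLike.mem_coe, h2]
          exact sub_mem (LinearMap.mem_range_self Φ _) (ih h1)
        · have : gq P n x = 0 := dif_neg hx
          rw [SetLike.mem_coe, this]
          exact zero_mem _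
      · exact ih (gq_mem_G P hlt x)

theorem main (hK : HasSplitting K P) (d : ℕ) (hd : gammaFiltration P (d + 1) = ⊥) :
    ∃ Φ : TensorProduct ℤ ℚ K →ₗ[ℚ] KGr.Gr P,
      (∀ x : K, Φ ((1 : ℚ) ⊗ₜ[ℤ] x) = KGr.chK P d x) ∧ Function.Bijective Φ := by
  let Φ : ℚ ⊗[ℤ] K →ₗ[ℚ] Gr P := LinearMap.liftBaseChange ℚ (chHom P d).toIntLinearMap
  have hΦ : ∀ x : K, Φ ((1 : ℚ) ⊗ₜ[ℤ] x) = chK P d x := by
    intro x
    change LinearMap.liftBaseChange ℚ (chHom P d).toIntLinearMap ((1 : ℚ) ⊗ₜ[ℤ] x) = _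
    rw [LinearMap.liftBaseChange_tmul, one_smul]
    rfl
  refine ⟨Φ, hΦ, ?_, ?_⟩
  · rw [← LinearMap.ker_eq_bot, LinearMap.ker_eq_bot']
    intro z hz
    obtain ⟨⟨x, s⟩, hxs⟩ := IsLocalizedModule.surj (nonZeroDivisors ℤ) (TensorProduct.mk ℤ ℚ K 1) z
    have hxs' : (s : ℤ) • z = (1 : ℚ) ⊗ₜ[ℤ] x := hxs
    have h1 : chK P d x = 0 := by
      rw [← hΦ, ← hxs', map_zsmul, hz, smul_zero]
    obtain ⟨M, hM, hMx⟩ := exists_mul_eq_zero P hK d hd h1
    have h2 : ((M : ℤ) * (s : ℤ)) • z = 0 := by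
      rw [mul_smul, hxs', ← TensorProduct.tmul_smul]
      have : (M : ℤ) • x = (M : K) * x := by simp
      rw [this, hMx, TensorProduct.tmul_zero]
    have h3 : ((M : ℤ) * (s : ℤ)) ≠ 0 :=
      mul_ne_zero (by exact_mod_cast (by omega : M ≠ 0)) (nonZeroDivisors.ne_zero s.2)
    rw [← Int.cast_smul_eq_zsmul ℚ] at h2
    exact (smul_eq_zero_iff_right (by exact_mod_cast h3)).mp h2
  · rw [← LinearMap.range_eq_top, eq_top_iff, ← G_zero P]
    have := G_le_range P hK d hd Φ hΦ (d + 1)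
    rwa [Nat.sub_self] at this

end Groth.Agent.Lib.helper6.ChernFinal
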