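import Mathlib
import Groth.Agent.Lib.helper6.ChernClass

/-! Leibniz rule for the difference operators `ρ_m` modulo `F^{m+1}` (helper6). -/

set_option autoImplicit false

namespace Groth.Agent.Lib.helper6.ChernMul

open LambdaRing Finset Groth.Agent.H5.Adams
  Groth.Agent.Lib.helper6.GammaFil Groth.Agent.Lib.helper6.AdamsGr
  Groth.Agent.Lib.helper6.ChernNewton Groth.Agent.Lib.helper6.ChernClass
  MvPolynomial fwdDiff

universe u

variable {K : Type u} [CommRing K] [LambdaOps K] (P : PosStructure K)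

theorem rho_eq_fwdDiff (m : ℕ) (x : K) :
    rho P m x = (fwdDiff (1 : ℕ))^[m] (fun j : ℕ => adams P j x) 0 := by
  rw [fwdDiff_iter_eq_sum_shift, rho]
  apply Finset.sum_congr rfl
  intro j _
  simp [zsmul_eq_mul]

/-- Newton's forward difference formula for `j ↦ ψ^j(x)`. -/
theorem adams_eq_sum_rho (j : ℕ) (x : K) :
    adams P j x = ∑ a ∈ range (j + 1), (j.choose a : K) * rho P a x := by
  have h := shift_eq_sum_fwdDiff_iter (1 : ℕ) (fun j : ℕ => adams P j x) j 0
  simp only [zero_add, smul_eq_mul, mul_one, nsmul_eq_mul] at h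
  rw [h]
  apply Finset.sum_congr rfl
  intro a _
  rw [rho_eq_fwdDiff]

theorem rho_mem_all (hK : HasSplitting K P) (m : ℕ) (x : K) :
    rho P m x ∈ gammaFiltration P m := by
  rcases m with _ | n
  · exact mem_zero P _
  · rw [← L_eq_rho P hK n x]
    exact nu_mem P (aug_sub_aug P x) n

/-- The umbral functional `X₀^a X₁^b ↦ ρ_a(x) ρ_b(y)`. -/
noncomputable def U (x y : K) : MvPolynomial (Fin 2) ℤ →ₗ[ℤ] K :=
  (basisMonomials (Fin 2) ℤ).constr ℤ (fun s => rho P (s 0) x * rho P (s 1) y)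

theorem U_monomial (x y : K) (s : Fin 2 →₀ ℕ) (c : ℤ) :
    U P x y (monomial s c) = (c : K) * (rho P (s 0) x * rho P (s 1) y) := by
  have h1 : monomial s c = c • (basisMonomials (Fin 2) ℤ s) := by
    rw [coe_basisMonomials, smul_monomial, smul_eq_mul, mul_one]
  rw [h1, map_smul, U, Module.Basis.constr_basis, zsmul_eq_mul]

/-- The exponent `X₀^a X₁^b`. -/
noncomputable def ex (a b : ℕ) : Fin 2 →₀ ℕ := Finsupp.single 0 a + Finsupp.single 1 b

theorem ex_zero (a b : ℕ) : ex a b 0 = a := by simp [ex]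

theorem ex_one (a b : ℕ) : ex a b 1 = b := by simp [ex]

theorem U_ex (x y : K) (a b : ℕ) (c : ℤ) :
    U P x y (monomial (ex a b) c) = (c : K) * (rho P a x * rho P b y) := by
  rw [U_monomial, ex_zero, ex_one]

theorem X_add_one_pow (i : Fin 2) (j : ℕ) :
    ((X i : MvPolynomial (Fin 2) ℤ) + 1) ^ j =
      ∑ a ∈ range (j + 1), monomial (Finsupp.single i a) ((j.choose a : ℕ) : ℤ) := by
  rw [add_pow]
  apply Finset.sum_congr rfl
  intro a _
  rw [one_pow, mul_one, X_pow_eq_monomial, ← C_eq_coe_nat, mul_comm, C_mul_monomial, mul_one]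

theorem U_prod_pow (x y : K) (j : ℕ) :
    U P x y (((X 0 : MvPolynomial (Fin 2) ℤ) + 1) ^ j * ((X 1 : MvPolynomial (Fin 2) ℤ) + 1) ^ j) =
      adams P j x * adams P j y := by
  rw [X_add_one_pow, X_add_one_pow, Finset.sum_mul_sum, map_sum, adams_eq_sum_rho P j x,
    adams_eq_sum_rho P j y, Finset.sum_mul_sum]
  apply Finset.sum_congr rfl
  intro a _
  rw [map_sum]
  apply Finset.sum_congr rfl
  intro b _
  rw [monomial_mul]
  change U P x y (monomial (ex a b) _) = _
  rw [U_ex]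
  push_cast
  ring

theorem sum_pow_eq (A : MvPolynomial (Fin 2) ℤ) (m : ℕ) :
    (A - 1) ^ m = ∑ j ∈ range (m + 1), (((-1 : ℤ) ^ (m - j) * (m.choose j : ℤ)) • A ^ j) := by
  rw [sub_eq_add_neg, add_pow]
  apply Finset.sum_congr rfl
  intro j _
  rw [zsmul_eq_mul]
  push_cast
  ring

theorem rho_mul_eq_U (hK : HasSplitting K P) (m : ℕ) (x y : K) :
    rho P m (x * y) =
      U P x y ((((X 0 : MvPolynomial (Fin 2) ℤ) + 1) * ((X 1 : MvPolynomial (Fin 2) ℤ) + 1) - 1) ^ m) := by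
  rw [sum_pow_eq, map_sum, rho]
  apply Finset.sum_congr rfl
  intro j _
  rw [map_smul, mul_pow, U_prod_pow, adams_mul P hK, zsmul_eq_mul]
  push_cast
  ring

theorem pow_sub_pow_mem {R : Type*} [CommRing R] (I : Ideal R) {a b : R} (ha : a ∈ I) (hb : b ∈ I)
    (hab : a - b ∈ I ^ 2) (m : ℕ) : a ^ m - b ^ m ∈ I ^ (m + 1) := by
  rcases m with _ | m
  · simp
  · rw [← geom_sum₂_mul]
    have h1 : ∑ i ∈ range (m + 1), a ^ i * b ^ (m + 1 - 1 - i) ∈ I ^ m := by
      refine sum_mem fun i hi => ?_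
      have hi' := Finset.mem_range.mp hi
      have h2 := Ideal.mul_mem_mul (Ideal.pow_mem_pow ha i) (Ideal.pow_mem_pow hb (m + 1 - 1 - i))
      rw [← pow_add] at h2
      have : i + (m + 1 - 1 - i) = m := by omega
      rwa [this] at h2
    have h3 := Ideal.mul_mem_mul h1 hab
    rw [← pow_add] at h3
    exact h3

theorem U_mem (hK : HasSplitting K P) (x y : K) {n : ℕ} {p : MvPolynomial (Fin 2) ℤ}
    (hp : p ∈ idealOfVars (Fin 2) ℤ ^ n) : U P x y p ∈ gammaFiltration P n := by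
  rw [mem_pow_idealOfVars_iff] at hp
  rw [as_sum p, map_sum]
  refine sum_mem fun s hs => ?_
  rw [U_monomial]
  refine mul_mem_left P _ ?_
  have h1 := mul_mem P (rho_mem_all P hK (s 0) x) (rho_mem_all P hK (s 1) y)
  refine gammaFiltration_antitone P ?_ h1
  have := hp s hs
  rw [Finsupp.degree_eq_sum, Fin.sum_univ_two] at this
  exact this

theorem X_add_X_pow (m : ℕ) :
    ((X 0 : MvPolynomial (Fin 2) ℤ) + X 1) ^ m =
      ∑ a ∈ range (m + 1), monomial (ex a (m - a)) ((m.choose a : ℕ) : ℤ) := by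
  rw [add_pow]
  apply Finset.sum_congr rfl
  intro a _
  rw [X_pow_eq_monomial, X_pow_eq_monomial, monomial_mul, ← C_eq_coe_nat, mul_comm, C_mul_monomial]
  simp [ex]

/-- Leibniz rule modulo higher filtration. -/
theorem rho_mul_sub_mem (hK : HasSplitting K P) (m : ℕ) (x y : K) :
    rho P m (x * y) - ∑ a ∈ range (m + 1), (m.choose a : K) * (rho P a x * rho P (m - a) y) ∈
      gammaFiltration P (m + 1) := by
  have h1 : ∑ a ∈ range (m + 1), (m.choose a : K) * (rho P a x * rho P (m - a) y) =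
      U P x y (((X 0 : MvPolynomial (Fin 2) ℤ) + X 1) ^ m) := by
    rw [X_add_X_pow, map_sum]
    apply Finset.sum_congr rfl
    intro a _
    rw [U_ex]
    push_cast
    rfl
  rw [h1, rho_mul_eq_U P hK, ← map_sub]
  apply U_mem P hK
  have hX : ∀ i : Fin 2, (X i : MvPolynomial (Fin 2) ℤ) ∈ idealOfVars (Fin 2) ℤ :=
    fun i => Ideal.subset_span ⟨i, rfl⟩
  apply pow_sub_pow_mem
  · have : ((X 0 : MvPolynomial (Fin 2) ℤ) + 1) * (X 1 + 1) - 1 = X 0 * X 1 + X 0 + X 1 := by ring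
    rw [this]
    exact add_mem (add_mem (Ideal.mul_mem_left _ _ (hX 1)) (hX 0)) (hX 1)
  · exact add_mem (hX 0) (hX 1)
  · have : ((X 0 : MvPolynomial (Fin 2) ℤ) + 1) * (X 1 + 1) - 1 - (X 0 + X 1) = X 0 * X 1 := by ring
    rw [this, pow_two]
    exact Ideal.mul_mem_mul (hX 0) (hX 1)

end Groth.Agent.Lib.helper6.ChernMul
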