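import Mathlib
import Groth.Prelude.Def_KGr
import Groth.Agent.Lib.helper6.ChernMul

/-! Multiplicativity of the Chern character `KGr.chK` (helper6). -/

set_option autoImplicit false

namespace Groth.Agent.Lib.helper6.ChernMulFinal

open LambdaRing KGr Finset TensorProduct Groth.Agent.H5.Adams
  Groth.Agent.Lib.helper6.GammaFil Groth.Agent.Lib.helper6.AdamsGr
  Groth.Agent.Lib.helper6.KGrFil
  Groth.Agent.Lib.helper6.ChernNewton Groth.Agent.Lib.helper6.ChernClass
  Groth.Agent.Lib.helper6.ChernMul

universe v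

variable {K : Type v} [CommRing K] [LambdaOps K] (P : PosStructure K)

theorem adams_zero_eq (x : K) : adams P 0 x = ((P.aug x : ℤ) : K) := by
  unfold adams
  rw [adamsSeries_eq, map_sub, PowerSeries.coeff_zero_eq_constantCoeff, PowerSeries.constantCoeff_C,
    map_mul, map_mul, PowerSeries.constantCoeff_X, zero_mul, zero_mul, sub_zero]

theorem rho_zero_eq (x : K) : rho P 0 x = ((P.aug x : ℤ) : K) := by
  unfold rho
  simp [adams_zero_eq]

/-- The degree `m` part of the Chern character. -/
noncomputable def chPart (m : ℕ) (x : K) : Gr P :=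
  algebraMap ℚ (Gr P) (1 / (m.factorial : ℚ)) * gq P m (rho P m x)

theorem chPart_mem_G (m : ℕ) (x : K) : chPart P m x ∈ G P m :=
  algebraMap_mul_mem_G P _ (gq_mem_G P le_rfl _)

theorem chK_eq_sum (hK : HasSplitting K P) (d : ℕ) (x : K) :
    chK P d x = ∑ m ∈ range (d + 1), chPart P m x := by
  rw [chK_eq, Finset.sum_range_succ', add_comm]
  congr 1
  · apply Finset.sum_congr rfl
    intro k _
    unfold chPart
    rw [← L_eq_rho P hK k x]
    rfl
  · unfold chPart
    rw [rho_zero_eq, gq_zero_eq]
    have h : P.aug ((P.aug x : ℤ) : K) = P.aug x := by rw [map_intCast, Int.cast_id]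
    rw [h, Nat.factorial_zero, Nat.cast_one, div_one, map_one, one_mul]

theorem sum_triangle {M : Type*} [AddCommMonoid M] (f : ℕ → ℕ → M) (N : ℕ) :
    ∑ m ∈ range N, ∑ a ∈ range (m + 1), f a (m - a) =
      ∑ a ∈ range N, ∑ b ∈ range (N - a), f a b := by
  induction N with
  | zero => simp
  | succ N ih =>
    rw [Finset.sum_range_succ, ih, Finset.sum_range_succ (fun a => ∑ b ∈ range (N + 1 - a), f a b),
      Finset.sum_range_succ (fun a => f a (N - a)), ← add_assoc, ← Finset.sum_add_distrib]
    congr 1
    · apply Finset.sum_congr rfl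
      intro a ha
      have ha' := Finset.mem_range.mp ha
      have : N + 1 - a = (N - a) + 1 := by omega
      rw [this, Finset.sum_range_succ]
    · simp

theorem factorial_identity {m a : ℕ} (ha : a ≤ m) :
    (1 / (m.factorial : ℚ)) * (m.choose a : ℚ) =
      (1 / (a.factorial : ℚ)) * (1 / ((m - a).factorial : ℚ)) := by
  have h := Nat.choose_mul_factorial_mul_factorial ha
  have h' : (m.choose a : ℚ) * a.factorial * (m - a).factorial = m.factorial := by
    exact_mod_cast h
  have h1 : (m.factorial : ℚ) ≠ 0 := by exact_mod_cast Nat.factorial_ne_zero m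
  have h2 : (a.factorial : ℚ) ≠ 0 := by exact_mod_cast Nat.factorial_ne_zero a
  have h3 : ((m - a).factorial : ℚ) ≠ 0 := by exact_mod_cast Nat.factorial_ne_zero (m - a)
  field_simp
  linarith

theorem chPart_mul (hK : HasSplitting K P) (m : ℕ) (x y : K) :
    chPart P m (x * y) = ∑ a ∈ range (m + 1), chPart P a x * chPart P (m - a) y := by
  have hterm : ∀ a ∈ range (m + 1), rho P a x * rho P (m - a) y ∈ gammaFiltration P m := by
    intro a ha
    have ha' := Finset.mem_range.mp ha
    have := mul_mem P (rho_mem_all P hK a x) (rho_mem_all P hK (m - a) y)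
    have hidx : a + (m - a) = m := by omega
    rwa [hidx] at this
  have hterm' : ∀ a ∈ range (m + 1),
      (m.choose a : K) * (rho P a x * rho P (m - a) y) ∈ gammaFiltration P m :=
    fun a ha => mul_mem_left P _ (hterm a ha)
  unfold chPart
  rw [gq_congr P (rho_mem_all P hK m (x * y)) (rho_mul_sub_mem P hK m x y),
    gq_sum P _ _ hterm', Finset.mul_sum]
  apply Finset.sum_congr rfl
  intro a ha
  have ha' := Finset.mem_range.mp ha
  have hmul := gq_mul P (rho_mem_all P hK a x) (rho_mem_all P hK (m - a) y)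
  have hidx : a + (m - a) = m := by omega
  rw [hidx] at hmul
  rw [gq_natCast_mul P (hterm a ha), hmul, qsmul_def, ← mul_assoc, ← map_mul,
    factorial_identity (by omega : a ≤ m), map_mul]
  ring

theorem chPart_mul_eq_zero {d : ℕ} (hd : gammaFiltration P (d + 1) = ⊥) {a b : ℕ}
    (hab : d + 1 ≤ a + b) (x y : K) : chPart P a x * chPart P b y = 0 := by
  have h := G_mul P (chPart_mem_G P a x) (chPart_mem_G P b y)
  have h2 := G_antitone P hab h
  rw [G_eq_bot P hd] at h2
  exact h2

theorem chK_mul (hK : HasSplitting K P) (d : ℕ) (hd : gammaFiltration P (d + 1) = ⊥) (x y : K) :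
    chK P d (x * y) = chK P d x * chK P d y := by
  rw [chK_eq_sum P hK, chK_eq_sum P hK, chK_eq_sum P hK, Finset.sum_mul_sum]
  have h1 : ∀ m ∈ range (d + 1), chPart P m (x * y) =
      ∑ a ∈ range (m + 1), chPart P a x * chPart P (m - a) y := fun m _ => chPart_mul P hK m x y
  rw [Finset.sum_congr rfl h1, sum_triangle (fun a b => chPart P a x * chPart P b y)]
  apply Finset.sum_congr rfl
  intro a ha
  have ha' := Finset.mem_range.mp ha
  apply Finset.sum_subset
  · intro b hb
    rw [Finset.mem_range] at hb ⊢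
    omega
  · intro b hb hb'
    rw [Finset.mem_range] at hb hb'
    exact chPart_mul_eq_zero P hd (by omega) x y

theorem chK_one (d : ℕ) : chK P d 1 = 1 := by
  rw [chK_eq]
  have h1 : (1 : K) - ((P.aug 1 : ℤ) : K) = 0 := by simp
  have h2 : ∀ k ∈ range d, algebraMap ℚ (Gr P) (1 / ((k + 1).factorial : ℚ)) *
      gq P (k + 1) (nu k ((1 : K) - ((P.aug 1 : ℤ) : K))) = 0 := by
    intro k _
    rw [h1, nu_zero, gq_zero, mul_zero]
  rw [Finset.sum_eq_zero h2, add_zero, map_one, Int.cast_one, map_one]

end Groth.Agent.Lib.helper6.ChernMulFinal
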