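import Mathlib
import Groth.Agent.Lib.helper21.Mat225

/-!
# Local criterion of flatness for complexes (module-level form)
-/

set_option autoImplicit false
set_option linter.style.haveILetI false

namespace Groth.Agent.Lib.helper6.CxCrit

open IsLocalRing TensorProduct Groth.Agent.H21

universe u

section Step

variable {R S : Type u} [CommRing R] [CommRing S] [IsLocalRing R] [IsLocalRing S]
  [IsNoetherianRing S] [Algebra R S] [IsLocalHom (algebraMap R S)]
  {C₂ C₁ C₀ : Type u} [AddCommGroup C₂] [Module S C₂] [Module R C₂] [IsScalarTower R S C₂]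
  [AddCommGroup C₁] [Module S C₁] [Module R C₁] [IsScalarTower R S C₁] [Module.Finite S C₁]
  [AddCommGroup C₀] [Module S C₀] [Module R C₀] [IsScalarTower R S C₀]

/-- One step: if `C₁/im(d₁)` and `C₀` are `R`-flat and the complex is exact at `C₁` modulo `m`,
then it is exact at `C₁` and `C₀/im(d₀)` is flat. -/
theorem step (d₁ : C₂ →ₗ[S] C₁) (d₀ : C₁ →ₗ[S] C₀) (hd : ∀ x, d₀ (d₁ x) = 0)
    [Module.Flat R C₀] (hQ : Module.Flat R (C₁ ⧸ LinearMap.range d₁))
    (hex : ∀ x : C₁, d₀ x ∈ maximalIdeal R • (⊤ : Submodule R C₀) →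
      ∃ y, x - d₁ y ∈ maximalIdeal R • (⊤ : Submodule R C₁)) :
    LinearMap.ker d₀ = LinearMap.range d₁ ∧ Module.Flat R (C₀ ⧸ LinearMap.range d₀) := by
  have hle : LinearMap.range d₁ ≤ LinearMap.ker d₀ := by
    rintro _ ⟨x, rfl⟩
    exact hd x
  let uS : (C₁ ⧸ LinearMap.range d₁) →ₗ[S] C₀ := Submodule.liftQ _ d₀ hle
  let u : (C₁ ⧸ LinearMap.range d₁) →ₗ[R] C₀ := uS.restrictScalars R
  have hu : ∀ x : C₁, u (Submodule.Quotient.mk x) = d₀ x := fun x => rfl
  have hinjk : Function.Injective (u.lTensor (R ⧸ maximalIdeal R)) := by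
    rw [injective_iff_map_eq_zero]
    intro z hz
    obtain ⟨n, rfl⟩ := exists_one_tmul (maximalIdeal R) z
    obtain ⟨x, rfl⟩ := Submodule.Quotient.mk_surjective _ n
    rw [LinearMap.lTensor_tmul, hu, one_tmul_eq_zero_iff] at hz
    obtain ⟨y, hy⟩ := hex x hz
    rw [one_tmul_eq_zero_iff]
    have h1 : (Submodule.Quotient.mk x : C₁ ⧸ LinearMap.range d₁) =
        Submodule.Quotient.mk (x - d₁ y) := by
      rw [Submodule.Quotient.mk_sub]
      have : (Submodule.Quotient.mk (d₁ y) : C₁ ⧸ LinearMap.range d₁) = 0 := by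
        rw [Submodule.Quotient.mk_eq_zero]
        exact ⟨y, rfl⟩
      rw [this, sub_zero]
    rw [h1]
    let q : C₁ →ₗ[R] (C₁ ⧸ LinearMap.range d₁) := (LinearMap.range d₁).mkQ.restrictScalars R
    have h2 : q (x - d₁ y) ∈ Submodule.map q (maximalIdeal R • (⊤ : Submodule R C₁)) :=
      ⟨_, hy, rfl⟩
    rw [Submodule.map_smul''] at h2
    exact Submodule.smul_mono le_rfl le_top h2
  have hinj : Function.Injective u := mat225_injective (S := S) u hinjk
  have hflat : Module.Flat R (C₀ ⧸ LinearMap.range u) := mat225_flat (S := S) u hinjk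
  constructor
  · apply le_antisymm _ hle
    intro x hx
    have h1 : u (Submodule.Quotient.mk x) = 0 := by rw [hu]; exact hx
    have h2 : (Submodule.Quotient.mk x : C₁ ⧸ LinearMap.range d₁) = 0 := hinj (by rw [h1, map_zero])
    exact (Submodule.Quotient.mk_eq_zero _).mp h2
  · have hrange : LinearMap.range u = (LinearMap.range d₀).restrictScalars R := by
      ext y
      constructor
      · rintro ⟨n, rfl⟩
        obtain ⟨x, rfl⟩ := Submodule.Quotient.mk_surjective _ n
        exact ⟨x, rfl⟩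
      · rintro ⟨x, rfl⟩
        exact ⟨Submodule.Quotient.mk x, rfl⟩
    let e1 : (C₀ ⧸ LinearMap.range u) ≃ₗ[R] (C₀ ⧸ (LinearMap.range d₀).restrictScalars R) :=
      Submodule.quotEquivOfEq _ _ hrange
    let e2 : (C₀ ⧸ (LinearMap.range d₀).restrictScalars R) ≃ₗ[R] (C₀ ⧸ LinearMap.range d₀) :=
      Submodule.Quotient.restrictScalarsEquiv R (LinearMap.range d₀)
    exact Module.Flat.of_linearEquiv (e1 ≪≫ₗ e2).symm

end Step

section Main

variable {R S : Type u} [CommRing R] [CommRing S] [IsLocalRing R] [IsLocalRing S]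
  [IsNoetherianRing S] [Algebra R S] [IsLocalHom (algebraMap R S)]
  (C : ℕ → Type u) [∀ j, AddCommGroup (C j)] [∀ j, Module S (C j)] [∀ j, Module R (C j)]
  [∀ j, IsScalarTower R S (C j)] [∀ j, Module.Finite S (C j)]

theorem cx_crit (hflat : ∀ j, Module.Flat R (C j))
    (d : ∀ j, C (j + 1) →ₗ[S] C j) (hd : ∀ j x, d j (d (j + 1) x) = 0)
    (e : ℕ) (hzero : ∀ j, e < j → Subsingleton (C j))
    (hex : ∀ j, j < e → ∀ x : C (j + 1),
      d j x ∈ maximalIdeal R • (⊤ : Submodule R (C j)) →
      ∃ y, x - d (j + 1) y ∈ maximalIdeal R • (⊤ : Submodule R (C (j + 1)))) :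
    (∀ j, j < e → LinearMap.ker (d j) = LinearMap.range (d (j + 1))) ∧
      Module.Flat R (C 0 ⧸ LinearMap.range (d 0)) := by
  have key : ∀ i, i ≤ e → Module.Flat R (C (e - i) ⧸ LinearMap.range (d (e - i))) ∧
      ∀ j, e - i ≤ j → j < e → LinearMap.ker (d j) = LinearMap.range (d (j + 1)) := by
    intro i
    induction i with
    | zero =>
      intro _
      refine ⟨?_, fun j h1 h2 => by omega⟩
      rw [Nat.sub_zero]
      haveI := hzero (e + 1) (by omega)
      have hbot : LinearMap.range (d e) = ⊥ := by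
        rw [eq_bot_iff]
        rintro _ ⟨x, rfl⟩
        rw [Subsingleton.elim x 0, map_zero]
        exact Submodule.zero_mem _
      let e1 : (C e ⧸ LinearMap.range (d e)) ≃ₗ[S] C e := Submodule.quotEquivOfEqBot _ hbot
      haveI := hflat e
      exact Module.Flat.of_linearEquiv (e1.restrictScalars R)
    | succ i ih =>
      intro hi
      obtain ⟨hfl, hker⟩ := ih (by omega)
      have h1 : e - i = (e - (i + 1)) + 1 := by omega
      rw [h1] at hfl
      haveI := hflat (e - (i + 1))
      obtain ⟨hk, hf⟩ := step (R := R) (d (e - (i + 1) + 1)) (d (e - (i + 1))) (hd _) hfl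
        (hex (e - (i + 1)) (by omega))
      refine ⟨hf, fun j hj1 hj2 => ?_⟩
      by_cases hj : j = e - (i + 1)
      · subst hj
        exact hk
      · exact hker j (by omega) hj2
  obtain ⟨hf, hk⟩ := key e le_rfl
  rw [Nat.sub_self] at hf hk
  exact ⟨fun j hj => hk j (Nat.zero_le j) hj, hf⟩

end Main

end Groth.Agent.Lib.helper6.CxCrit
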