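import Mathlib
import Groth.Agent.Lib.helper6.CxCrit

/-!
# Local criterion of flatness for complexes (categorical form)
-/

set_option autoImplicit false
set_option linter.style.haveILetI false

namespace Groth.Agent.Lib.helper6.CxCrit

open CategoryTheory MonoidalCategory IsLocalRing TensorProduct Groth.Agent.H21

universe u

theorem cx_crit_cat {R S : Type u} [CommRing R] [CommRing S]
    [IsLocalRing R] [IsLocalRing S] [IsNoetherianRing S] [Algebra R S]
    [IsLocalHom (algebraMap R S)] (C : ChainComplex (ModuleCat.{u} S) ℕ) (e : ℕ)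
    (hzero : ∀ j, e < j → Limits.IsZero (C.X j)) (hfin : ∀ j, Module.Finite S (C.X j))
    (hflat : ∀ j, Module.Flat R ((ModuleCat.restrictScalars (algebraMap R S)).obj (C.X j)))
    (hex : ∀ j, 1 ≤ j → j ≤ e →
      (((MonoidalCategory.tensorLeft
          (ModuleCat.of S (S ⧸ (IsLocalRing.maximalIdeal R).map (algebraMap R S)))).mapHomologicalComplex
          (ComplexShape.down ℕ)).obj C).ExactAt j) :
    (∀ j, 1 ≤ j → j ≤ e → C.ExactAt j) ∧
      Module.Flat R ((ModuleCat.restrictScalars (algebraMap R S)).obj (C.homology 0)) := by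
  letI inst : ∀ j, Module R (C.X j) := fun j => Module.compHom (C.X j) (algebraMap R S)
  haveI : ∀ j, IsScalarTower R S (C.X j) := fun j =>
    IsScalarTower.of_algebraMap_smul (fun r x => rfl)
  haveI : ∀ j, Module.Finite S (C.X j) := hfin
  have hflat' : ∀ j, Module.Flat R (C.X j) := fun j => hflat j
  let d : ∀ j, C.X (j + 1) →ₗ[S] C.X j := fun j => (C.d (j + 1) j).hom
  have hd : ∀ j x, d j (d (j + 1) x) = 0 := by
    intro j x
    change (C.d (j + 2) (j + 1) ≫ C.d (j + 1) j).hom x = 0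
    rw [C.d_comp_d]
    rfl
  have hsub : ∀ j, e < j → Subsingleton (C.X j) := fun j hj =>
    ModuleCat.subsingleton_of_isZero (hzero j hj)
  set mS : Ideal S := (IsLocalRing.maximalIdeal R).map (algebraMap R S) with hmS
  have hex' : ∀ j, j < e → ∀ x : C.X (j + 1),
      d j x ∈ maximalIdeal R • (⊤ : Submodule R (C.X j)) →
      ∃ y, x - d (j + 1) y ∈ maximalIdeal R • (⊤ : Submodule R (C.X (j + 1))) := by
    intro j hj x hx
    have hE := hex (j + 1) (by omega) (by omega)
    rw [HomologicalComplex.exactAt_iff' _ (j + 2) (j + 1) j (by simp) (by simp),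
      ShortComplex.moduleCat_exact_iff] at hE
    let z : (S ⧸ mS) ⊗[S] (C.X (j + 1)) := (1 : S ⧸ mS) ⊗ₜ[S] x
    have hz : (ModuleCat.of S (S ⧸ mS) ◁ C.d (j + 1) j) z = 0 := by
      change (ModuleCat.of S (S ⧸ mS) ◁ C.d (j + 1) j) ((1 : S ⧸ mS) ⊗ₜ[S] x) = 0
      rw [ModuleCat.MonoidalCategory.whiskerLeft_apply]
      change (1 : S ⧸ mS) ⊗ₜ[S] (d j x) = 0
      rw [one_tmul_eq_zero_iff]
      exact mem_map_smul_of_mem_smul (S := S) (maximalIdeal R) hx
    obtain ⟨w, hw⟩ := hE z hz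
    obtain ⟨y, rfl⟩ := exists_one_tmul mS (M := C.X (j + 2)) w
    refine ⟨y, ?_⟩
    have h1 : (1 : S ⧸ mS) ⊗ₜ[S] (d (j + 1) y) = (1 : S ⧸ mS) ⊗ₜ[S] x := by
      have h2 : (ModuleCat.of S (S ⧸ mS) ◁ C.d (j + 2) (j + 1)) ((1 : S ⧸ mS) ⊗ₜ[S] y) =
          (1 : S ⧸ mS) ⊗ₜ[S] (d (j + 1) y) := by
        rw [ModuleCat.MonoidalCategory.whiskerLeft_apply]
      rw [← h2]
      exact hw
    have h3 : (1 : S ⧸ mS) ⊗ₜ[S] (x - d (j + 1) y) = 0 := by
      rw [TensorProduct.tmul_sub, h1, sub_self]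
    rw [one_tmul_eq_zero_iff] at h3
    exact mem_smul_of_mem_map_smul (S := S) (maximalIdeal R) h3
  obtain ⟨hker, hfl⟩ := cx_crit (R := R) (S := S) (fun j => C.X j) hflat' d hd e hsub hex'
  constructor
  · intro j h1 h2
    obtain ⟨j, rfl⟩ : ∃ j', j = j' + 1 := ⟨j - 1, by omega⟩
    rw [HomologicalComplex.exactAt_iff' _ (j + 2) (j + 1) j (by simp) (by simp),
      ShortComplex.moduleCat_exact_iff]
    intro x hx
    have hx' : x ∈ LinearMap.ker (d j) := hx
    rw [hker j (by omega)] at hx'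
    obtain ⟨y, hy⟩ := hx'
    exact ⟨y, hy⟩
  · -- `H₀ ≅ C₀ / im d₀`
    have h00 : C.d 0 0 = 0 := C.shape _ _ (by simp)
    let i1 : C.homology 0 ≅ C.opcycles 0 := C.isoHomologyι 0 0 (by simp) h00
    let i2 : C.opcycles 0 ≅ Limits.cokernel (C.d 1 0) :=
      Limits.IsColimit.coconePointUniqueUpToIso (C.opcyclesIsCokernel 1 0 (by simp))
        (Limits.colimit.isColimit (Limits.parallelPair (C.d 1 0) 0))
    let i3 := ModuleCat.cokernelIsoRangeQuotient (C.d 1 0)
    let eS : C.homology 0 ≃ₗ[S] (C.X 0 ⧸ LinearMap.range (d 0)) :=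
      (i1 ≪≫ i2 ≪≫ i3).toLinearEquiv
    letI : Module R (C.homology 0) := Module.compHom _ (algebraMap R S)
    let eR : (C.X 0 ⧸ LinearMap.range (d 0)) ≃ₗ[R] C.homology 0 :=
      { eS.symm with
        map_smul' := by
          intro r x
          change eS.symm (r • x) = algebraMap R S r • eS.symm x
          rw [← algebraMap_smul S r x, map_smul] }
    exact Module.Flat.of_linearEquiv eR.symm

end Groth.Agent.Lib.helper6.CxCrit
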