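import Mathlib
import Groth.Prelude.Def_CAlg
import Groth.Agent.Lib.helper9.LocalAlg
import Groth.Agent.Lib.helper9.Depth1
import Groth.Agent.Lib.helper9.Depth4
import Groth.Agent.Lib.helper9.Depth16

/-! Noetherian local rings of depth ≤ 1 (not Artinian, not a DVR) admit a finite modification
killing the `m`-torsion / adding `m`-multipliers. -/

set_option maxHeartbeats 400000
set_option linter.style.haveILetI false
set_option linter.unusedSectionVars false

universe u

namespace Groth.Agent.H6.DepthLe1

open IsLocalRing LocCoh Groth.Agent.Lib.helper9 Groth.Agent.Lib.helper9.Depth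

variable (R : Type u) [CommRing R] [IsLocalRing R] [IsNoetherianRing R]

lemma exists_stable : ∃ N : ℕ, ∀ n,
    (maximalIdeal R ^ n).annihilator ≤ (maximalIdeal R ^ N).annihilator := by
  have hmono : Monotone fun n => (maximalIdeal R ^ n).annihilator :=
    fun a b hab => Submodule.annihilator_mono (Ideal.pow_le_pow_right hab)
  obtain ⟨N, hN⟩ := monotone_stabilizes_iff_noetherian.mpr
    (inferInstance : IsNoetherian R R) ⟨_, hmono⟩
  refine ⟨N, fun n => ?_⟩
  rcases le_total N n with h | h
  · exact (hN n h).ge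
  · exact hmono h

theorem case_zero (h1 : ¬ IsArtinianRing R) (h0 : maximalIdeal R ∈ associatedPrimes R R) :
    ∃ (R' : Type u) (_ : CommRing R') (_ : Algebra R R'), Nontrivial R' ∧ Module.Finite R R' ∧
      ¬ Function.Bijective (algebraMap R R') ∧
      (∃ n : ℕ, (∀ x : R, algebraMap R R' x = 0 → ∀ a ∈ maximalIdeal R ^ n, a * x = 0) ∧
        (∀ y : R', ∀ a ∈ maximalIdeal R ^ n, a • y ∈ Set.range (algebraMap R R'))) ∧
      maximalIdeal R ∉ associatedPrimes R R' := by
  obtain ⟨N, hN⟩ := exists_stable R
  have hmem : ∀ (n : ℕ) (x : R), x ∈ (maximalIdeal R ^ n).annihilator ↔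
      ∀ a ∈ maximalIdeal R ^ n, a * x = 0 := by
    intro n x
    rw [Submodule.mem_annihilator]
    constructor
    · intro h a ha
      rw [mul_comm]
      exact h a ha
    · intro h a ha
      rw [smul_eq_mul, mul_comm]
      exact h a ha
  have hne : (maximalIdeal R ^ N).annihilator ≠ ⊤ := by
    intro htop
    have h1' : (1 : R) ∈ (maximalIdeal R ^ N).annihilator := htop ▸ Submodule.mem_top
    have h2 := (hmem N 1).mp h1'
    apply h1
    rw [isArtinianRing_iff_isNilpotent_maximalIdeal]
    refine ⟨N, ?_⟩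
    rw [Ideal.zero_eq_bot, eq_bot_iff]
    intro a ha
    simpa using h2 a ha
  refine ⟨R ⧸ (maximalIdeal R ^ N).annihilator, inferInstance, inferInstance,
    Ideal.Quotient.nontrivial_iff.mpr hne, inferInstance, ?_, ⟨N, ?_, ?_⟩, ?_⟩
  · intro hbij
    obtain ⟨x, hx0, hx⟩ := LocalAlg.exists_ne_zero_killed_of_mem_ass R R h0
    apply hx0
    apply hbij.1
    rw [map_zero]
    change Ideal.Quotient.mk _ x = 0
    rw [Ideal.Quotient.eq_zero_iff_mem]
    apply hN 1
    rw [hmem]
    intro a ha
    rw [pow_one] at ha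
    exact hx a ha
  · intro x hx a ha
    change Ideal.Quotient.mk _ x = 0 at hx
    rw [Ideal.Quotient.eq_zero_iff_mem] at hx
    exact (hmem N x).mp hx a ha
  · intro y a _
    obtain ⟨r, rfl⟩ := Ideal.Quotient.mk_surjective y
    exact ⟨a * r, by rw [Algebra.smul_def]; rfl⟩
  · intro hass
    obtain ⟨y, hy0, hy⟩ := LocalAlg.exists_ne_zero_killed_of_mem_ass R
      (R ⧸ (maximalIdeal R ^ N).annihilator) hass
    obtain ⟨x, rfl⟩ := Ideal.Quotient.mk_surjective y
    apply hy0
    rw [Ideal.Quotient.eq_zero_iff_mem]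
    apply hN (N + 1)
    rw [Submodule.mem_annihilator]
    intro b hb
    rw [pow_succ] at hb
    refine Submodule.mul_induction_on hb ?_ ?_
    · intro c hc a ha
      have h3 : a * x ∈ (maximalIdeal R ^ N).annihilator := by
        rw [← Ideal.Quotient.eq_zero_iff_mem]
        have := hy a ha
        rw [Algebra.smul_def] at this
        exact this
      have h4 := (hmem N _).mp h3 c hc
      rw [smul_eq_mul]
      calc x * (c * a) = c * (a * x) := by ring
        _ = 0 := h4
    · intro u v hu hv
      rw [smul_add, hu, hv, add_zero]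

lemma regular_dim_one_of_principal {a : R} (ha : a ∈ nonZeroDivisors R)
    (hm : maximalIdeal R = Ideal.span {a}) :
    IsRegularLocalRing R ∧ ringKrullDim R = 1 := by
  have h1 : (1 : WithBot ℕ∞) ≤ ringKrullDim R := by
    rw [← IsLocalRing.maximalIdeal_height_eq_ringKrullDim, hm]
    exact_mod_cast Ideal.one_le_height_span_singleton_of_mem_nonZeroDivisors ha
  have h2 : (maximalIdeal R).spanFinrank ≤ 1 := by
    rw [hm]
    have := Submodule.spanFinrank_span_le_ncard_of_finite (R := R) (Set.finite_singleton a)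
    simpa using this
  have h3 : ((maximalIdeal R).spanFinrank : WithBot ℕ∞) ≤ 1 := by exact_mod_cast h2
  exact ⟨IsRegularLocalRing.of_spanFinrank_maximalIdeal_le R (h3.trans h1),
    le_antisymm ((ringKrullDim_le_spanFinrank_maximalIdeal R).trans h3) h1⟩

/-- the multiplier subalgebra `{y ∈ Frac R | y m ⊆ m}`. -/
def mult : Subalgebra R (FractionRing R) where
  carrier := {y | ∀ a ∈ maximalIdeal R, ∃ b ∈ maximalIdeal R,
    algebraMap R (FractionRing R) b = algebraMap R (FractionRing R) a * y}
  mul_mem' := by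
    intro y z hy hz a ha
    obtain ⟨b, hb, hby⟩ := hy a ha
    obtain ⟨c, hc, hcz⟩ := hz b hb
    exact ⟨c, hc, by rw [hcz, hby, mul_assoc]⟩
  add_mem' := by
    intro y z hy hz a ha
    obtain ⟨b, hb, hby⟩ := hy a ha
    obtain ⟨c, hc, hcz⟩ := hz a ha
    exact ⟨b + c, add_mem hb hc, by rw [map_add, hby, hcz, mul_add]⟩
  algebraMap_mem' := by
    intro r a ha
    exact ⟨a * r, Ideal.mul_mem_right _ _ ha, by rw [map_mul]⟩

lemma mem_mult (y : FractionRing R) : y ∈ mult R ↔ ∀ a ∈ maximalIdeal R, ∃ b ∈ maximalIdeal R,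
    algebraMap R (FractionRing R) b = algebraMap R (FractionRing R) a * y := Iff.rfl

lemma algebraMap_injective : Function.Injective (algebraMap R (FractionRing R)) :=
  IsLocalization.injective _ le_rfl

theorem case_one (h2 : ¬ (IsRegularLocalRing R ∧ ringKrullDim R = 1))
    (h3 : LocCoh.depth R R = 1) :
    ∃ (R' : Type u) (_ : CommRing R') (_ : Algebra R R'), Nontrivial R' ∧ Module.Finite R R' ∧
      ¬ Function.Bijective (algebraMap R R') ∧
      (∃ n : ℕ, (∀ x : R, algebraMap R R' x = 0 → ∀ a ∈ maximalIdeal R ^ n, a * x = 0) ∧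
        (∀ y : R', ∀ a ∈ maximalIdeal R ^ n, a • y ∈ Set.range (algebraMap R R'))) ∧
      maximalIdeal R ∉ associatedPrimes R R' := by
  have hinj := algebraMap_injective R
  -- a regular element `t ∈ m`
  obtain ⟨t, htm, htreg⟩ := exists_regular_mem_of_pow_le (R := R) R (le_of_eq h3.symm)
    (maximalIdeal R) 1 (by rw [pow_one])
  have h4 : depth R (QuotSMulTop t R) + 1 = depth R R :=
    idealDepth_quotSMulTop_add_one (maximalIdeal_smul_top_ne_top (R := R) R) htm htreg
  have h5 : depth R (QuotSMulTop t R) = 0 := by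
    rw [h3] at h4
    have : depth R (QuotSMulTop t R) + 1 = 0 + 1 := by rw [h4, zero_add]
    exact ENat.add_left_injective_of_ne_top ENat.one_ne_top this
  have h6 := (LocalAlg.depth_eq_zero_iff R (QuotSMulTop t R)).mp h5
  obtain ⟨n, hn0, hn⟩ := LocalAlg.exists_ne_zero_killed_of_mem_ass R (QuotSMulTop t R) h6
  obtain ⟨x, rfl⟩ := Submodule.Quotient.mk_surjective _ n
  have hx0 : ∀ r : R, x ≠ t * r := by
    intro r hr
    apply hn0
    rw [Submodule.Quotient.mk_eq_zero]
    exact (Submodule.mem_smul_pointwise_iff_exists _ _ _).mpr ⟨r, Submodule.mem_top, hr.symm⟩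
  have hx : ∀ a ∈ maximalIdeal R, ∃ r : R, a * x = t * r := by
    intro a ha
    have := hn a ha
    rw [← Submodule.Quotient.mk_smul, Submodule.Quotient.mk_eq_zero] at this
    obtain ⟨r, -, hr⟩ := (Submodule.mem_smul_pointwise_iff_exists _ _ _).mp this
    exact ⟨r, hr.symm⟩
  have htnzd : t ∈ nonZeroDivisors R := by
    rw [mem_nonZeroDivisors_iff_right]
    intro z hz
    apply htreg
    change t • z = t • 0
    rw [smul_zero, smul_eq_mul, mul_comm]
    exact hz
  have htu : IsUnit (algebraMap R (FractionRing R) t) :=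
    IsLocalization.map_units (FractionRing R) (⟨t, htnzd⟩ : nonZeroDivisors R)
  -- the multipliers `r` lie in `m`
  have hxm : ∀ a ∈ maximalIdeal R, ∀ r : R, a * x = t * r → r ∈ maximalIdeal R := by
    intro a ha r har
    by_contra hr
    have hru : IsUnit r := by
      by_contra hnu
      exact hr ((IsLocalRing.mem_maximalIdeal r).mpr hnu)
    apply h2
    have hreg2 : IsSMulRegular R (a * x) := by
      rw [har]
      exact htreg.mul (hru.isSMulRegular R)
    have hareg : IsSMulRegular R a := (IsSMulRegular.mul_iff.mp hreg2).1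
    have hxreg : IsSMulRegular R x := (IsSMulRegular.mul_iff.mp hreg2).2
    have hanzd : a ∈ nonZeroDivisors R := by
      rw [mem_nonZeroDivisors_iff_right]
      intro z hz
      apply hareg
      change a • z = a • 0
      rw [smul_zero, smul_eq_mul, mul_comm]
      exact hz
    refine regular_dim_one_of_principal R hanzd (le_antisymm ?_ ?_)
    · intro a' ha'
      obtain ⟨r', hr'⟩ := hx a' ha'
      obtain ⟨s, hs⟩ := hru.exists_right_inv
      rw [Ideal.mem_span_singleton']
      refine ⟨s * r', ?_⟩
      apply hxreg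
      change x • (s * r' * a) = x • a'
      rw [smul_eq_mul, smul_eq_mul]
      calc x * (s * r' * a) = (a * x) * s * r' := by ring
        _ = t * (r * s) * r' := by rw [har]; ring
        _ = t * r' := by rw [hs, mul_one]
        _ = x * a' := by rw [← hr', mul_comm]
    · rw [Ideal.span_le]
      intro z hz
      rw [Set.mem_singleton_iff] at hz
      rw [hz]
      exact ha
  obtain ⟨u, hu⟩ := htu
  -- `y0 = x / t`
  have hy0 : algebraMap R (FractionRing R) x * ((u⁻¹ : (FractionRing R)ˣ) : FractionRing R)
      ∈ mult R := by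
    intro a ha
    obtain ⟨r, hr⟩ := hx a ha
    refine ⟨r, hxm a ha r hr, ?_⟩
    rw [← mul_assoc, ← map_mul, hr, map_mul, ← hu, mul_comm ((u : FractionRing R)), mul_assoc,
      Units.mul_inv, mul_one]
  have hnt : Nontrivial (FractionRing R) := hinj.nontrivial
  refine ⟨mult R, inferInstance, inferInstance, inferInstance, ?_, ?_, ⟨1, ?_, ?_⟩, ?_⟩
  · -- finiteness
    let φ : R →ₗ[R] FractionRing R :=
      (LinearMap.mulRight R (((u⁻¹ : (FractionRing R)ˣ) : FractionRing R))).comp
        (Algebra.linearMap R (FractionRing R))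
    have hφ : ∀ y : mult R, (mult R).val.toLinearMap y ∈ LinearMap.range φ := by
      intro y
      obtain ⟨b, -, hb⟩ := y.2 t htm
      refine ⟨b, ?_⟩
      change algebraMap R (FractionRing R) b * _ = (y : FractionRing R)
      rw [hb, ← hu, mul_comm ((u : FractionRing R)), mul_assoc, Units.mul_inv, mul_one]
    have hfin : Module.Finite R (LinearMap.range φ) := inferInstance
    have hnoeth : IsNoetherian R (LinearMap.range φ) := isNoetherian_of_isNoetherianRing_of_finite R _
    refine Module.Finite.of_injective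
      (LinearMap.codRestrict (LinearMap.range φ) (mult R).val.toLinearMap hφ) ?_
    intro y z hyz
    have := congrArg Subtype.val hyz
    exact Subtype.ext this
  · -- not surjective
    intro hbij
    obtain ⟨r, hr⟩ := hbij.2 ⟨_, hy0⟩
    have hr' := congrArg Subtype.val hr
    change algebraMap R (FractionRing R) r = algebraMap R (FractionRing R) x * _ at hr'
    apply hx0 r
    apply hinj
    rw [map_mul, hr', ← hu, mul_comm ((u : FractionRing R)), mul_assoc, Units.inv_mul, mul_one]
  · intro z hz a _
    have hz' := congrArg Subtype.val hz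
    change algebraMap R (FractionRing R) z = 0 at hz'
    rw [← map_zero (algebraMap R (FractionRing R))] at hz'
    rw [hinj hz', mul_zero]
  · intro y a ha
    rw [pow_one] at ha
    obtain ⟨b, -, hb⟩ := y.2 a ha
    refine ⟨b, Subtype.ext ?_⟩
    change algebraMap R (FractionRing R) b = a • (y : FractionRing R)
    rw [hb, Algebra.smul_def]
  · intro hass
    obtain ⟨y, hy0', hy⟩ := LocalAlg.exists_ne_zero_killed_of_mem_ass R (mult R) hass
    apply hy0'
    have h7 := congrArg Subtype.val (hy t htm)
    change t • (y : FractionRing R) = 0 at h7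
    rw [Algebra.smul_def, ← hu] at h7
    apply Subtype.ext
    change (y : FractionRing R) = 0
    calc (y : FractionRing R) = ((u⁻¹ : (FractionRing R)ˣ) : FractionRing R) * ((u : FractionRing R) * y) := by
          rw [← mul_assoc, Units.inv_mul, one_mul]
      _ = 0 := by rw [h7, mul_zero]

theorem main (h1 : ¬ IsArtinianRing R) (h2 : ¬ (IsRegularLocalRing R ∧ ringKrullDim R = 1))
    (h3 : LocCoh.depth R R ≤ 1) :
    ∃ (R' : Type u) (_ : CommRing R') (_ : Algebra R R'), Nontrivial R' ∧ Module.Finite R R' ∧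
      ¬ Function.Bijective (algebraMap R R') ∧
      (∃ n : ℕ, (∀ x : R, algebraMap R R' x = 0 → ∀ a ∈ maximalIdeal R ^ n, a * x = 0) ∧
        (∀ y : R', ∀ a ∈ maximalIdeal R ^ n, a • y ∈ Set.range (algebraMap R R'))) ∧
      maximalIdeal R ∉ associatedPrimes R R' := by
  by_cases h0 : LocCoh.depth R R = 0
  · exact case_zero R h1 ((LocalAlg.depth_eq_zero_iff R R).mp h0)
  · exact case_one R h2 (le_antisymm h3 (Order.one_le_iff_ne_zero.mpr h0))

end Groth.Agent.H6.DepthLe1
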