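import Mathlib
import Groth.Agent.Lib.helper6.GammaAug

/-! The determinant `det e = λ^{ε(e)}(e)` of positive elements in a λ-ring with positive structure,
its multiplicativity properties, and the subgroup of elements of trivial determinant (helper6). -/

set_option autoImplicit false

namespace Groth.Agent.Lib.helper6.Det

open LambdaRing Finset Groth.Agent.H5.Adams Groth.Agent.H5.Lambda Groth.Agent.H5.Gamma
  Groth.Agent.Lib.helper6.Split Groth.Agent.Lib.helper6.GammaFil
  Groth.Agent.Lib.helper6.AdamsGr Groth.Agent.Lib.helper6.GammaAug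

universe u

variable {K : Type u} [CommRing K] [LambdaOps K] (P : PosStructure K)

/-- The top exterior power of a positive element. -/
def det (e : K) : K := LambdaOps.lam (P.aug e).toNat e

theorem isUnit_det {e : K} (he : e ∈ P.pos) : IsUnit (det P e) := P.isUnit_lam e he

theorem map_det {K' : Type u} [CommRing K'] [LambdaOps K'] {P' : PosStructure K'} {f : K →+* K'}
    (hf : IsExtension P P' f) (e : K) : f (det P e) = det P' (f e) := by
  unfold det
  rw [hf.isLambdaHom, hf.aug_comp]

theorem det_multiset (s : Multiset K) (hs : ∀ u ∈ s, P.IsLine u) : det P s.sum = s.prod := by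
  unfold det
  rw [aug_sum_lines P s hs, Int.toNat_natCast, lam_sum_lines P s hs, Multiset.esymm,
    Multiset.powersetCard_self]
  simp

theorem det_sum {ι : Type*} [Fintype ι] (u : ι → K) (hu : ∀ i, P.IsLine (u i)) :
    det P (∑ i, u i) = ∏ i, u i := by
  have h := det_multiset P (Finset.univ.val.map u) (by
    intro v hv
    obtain ⟨i, -, rfl⟩ := Multiset.mem_map.mp hv
    exact hu i)
  exact h

theorem det_line {u : K} (hu : P.IsLine u) : det P u = u := by
  unfold det
  rw [hu.2]
  simp [LambdaOps.lam_one]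

theorem toNat_aug_add {e e' : K} (he : e ∈ P.pos) (he' : e' ∈ P.pos) :
    (P.aug (e + e')).toNat = (P.aug e).toNat + (P.aug e').toNat := by
  have h1 := P.aug_pos e he
  have h2 := P.aug_pos e' he'
  rw [map_add]
  omega

theorem det_add {e e' : K} (he : e ∈ P.pos) (he' : e' ∈ P.pos) :
    det P (e + e') = det P e * det P e' := by
  unfold det
  rw [toNat_aug_add P he he', LambdaOps.lam_add]
  have h1 := P.aug_pos e he
  have h2 := P.aug_pos e' he'
  rw [Finset.sum_eq_single (P.aug e).toNat]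
  · congr 2
    omega
  · intro i hi hne
    have hi' := Finset.mem_range.mp hi
    rcases Nat.lt_or_gt_of_ne hne with hlt | hgt
    · rw [P.lam_eq_zero e' he' ((P.aug e).toNat + (P.aug e').toNat - i) (by omega), mul_zero]
    · rw [P.lam_eq_zero e he i (by omega), zero_mul]
  · intro h
    exact absurd (Finset.mem_range.mpr (by omega)) h

/-- `det(e g) = det(e)^{ε g} det(g)^{ε e}`. -/
theorem det_mul (hK : HasSplitting K P) {e g : K} (he : e ∈ P.pos) (hg : g ∈ P.pos) :
    det P (e * g) = det P e ^ (P.aug g).toNat * det P g ^ (P.aug e).toNat := by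
  obtain ⟨L₁, hL₁, f₁, hf₁, u, hu, hsum₁⟩ := exists_split_fin P hK e he
  obtain ⟨L₂, hL₂, f₂, hf₂, v, hv, hsum₂⟩ :=
    exists_split_fin L₁.posStr hL₁ (f₁ g) (hf₁.pos_subset g hg)
  have hf := IsExtension.comp hf₁ hf₂
  apply hf.injective
  have hu' : ∀ i, L₂.posStr.IsLine (f₂ (u i)) := fun i => IsExtension.isLine hf₂ (hu i)
  have he2 : (f₂.comp f₁) e = ∑ i, f₂ (u i) := by
    rw [RingHom.comp_apply, ← hsum₁, map_sum]
  have hg2 : (f₂.comp f₁) g = ∑ j, v j := by
    rw [RingHom.comp_apply, hsum₂]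
  have hprod : (f₂.comp f₁) (e * g) =
      ∑ p : Fin (P.aug e).toNat × Fin (L₁.posStr.aug (f₁ g)).toNat, f₂ (u p.1) * v p.2 := by
    rw [map_mul, he2, hg2, Finset.sum_mul_sum, Fintype.sum_prod_type]
  rw [map_det P hf, hprod,
    det_sum L₂.posStr (fun p : Fin (P.aug e).toNat × Fin (L₁.posStr.aug (f₁ g)).toNat =>
      f₂ (u p.1) * v p.2) (fun p => isLine_mul _ (hu' p.1) (hv p.2)),
    map_mul, map_pow, map_pow, map_det P hf, map_det P hf, he2, hg2, det_sum _ _ hu',
    det_sum _ _ hv, Fintype.prod_prod_type]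
  simp only [Finset.prod_mul_distrib, Finset.prod_const, Finset.card_univ, Fintype.card_fin,
    Finset.prod_pow]
  have hn : (L₁.posStr.aug (f₁ g)).toNat = (P.aug g).toNat := by rw [hf₁.aug_comp]
  exact congrArg (fun n : ℕ => (∏ x, f₂ (u x)) ^ n * (∏ x, v x) ^ (P.aug e).toNat) hn

/-! ### Elements of trivial determinant -/

/-- `x` has trivial determinant: `x = e - e'` with `det e = det e'`. -/
def TrivDet (x : K) : Prop :=
  ∃ e e' : K, e ∈ P.pos ∧ e' ∈ P.pos ∧ x = e - e' ∧ det P e = det P e'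

theorem TrivDet.det_eq {x : K} (h : TrivDet P x) {g g' : K} (hg : g ∈ P.pos) (hg' : g' ∈ P.pos)
    (hx : x = g - g') : det P g = det P g' := by
  obtain ⟨e, e', he, he', hxe, hdet⟩ := h
  have h1 : e + g' = g + e' := by
    have : e - e' = g - g' := by rw [← hxe, hx]
    linear_combination this
  have h2 := congrArg (det P) h1
  rw [det_add P he hg', det_add P hg he', hdet] at h2
  have hu := isUnit_det P he'
  rw [mul_comm (det P e')] at h2
  exact (hu.mul_left_inj.mp h2).symm

theorem one_mem_pos : (1 : K) ∈ P.pos := by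
  simpa using P.natCast_mem 1 one_pos

theorem TrivDet.zero : TrivDet P 0 := ⟨1, 1, one_mem_pos P, one_mem_pos P, by simp, rfl⟩

theorem TrivDet.add {x y : K} (hx : TrivDet P x) (hy : TrivDet P y) : TrivDet P (x + y) := by
  obtain ⟨e, e', he, he', rfl, h1⟩ := hx
  obtain ⟨g, g', hg, hg', rfl, h2⟩ := hy
  refine ⟨e + g, e' + g', P.add_mem _ _ he hg, P.add_mem _ _ he' hg', by ring, ?_⟩
  rw [det_add P he hg, det_add P he' hg', h1, h2]

theorem TrivDet.neg {x : K} (hx : TrivDet P x) : TrivDet P (-x) := by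
  obtain ⟨e, e', he, he', rfl, h1⟩ := hx
  exact ⟨e', e, he', he, by ring, h1.symm⟩

/-- The subgroup of elements of augmentation zero and trivial determinant. -/
def J0 : AddSubgroup K where
  carrier := {x | P.aug x = 0 ∧ TrivDet P x}
  zero_mem' := ⟨map_zero _, TrivDet.zero P⟩
  add_mem' := fun hx hy => ⟨by rw [map_add, hx.1, hy.1, add_zero], hx.2.add P hy.2⟩
  neg_mem' := fun hx => ⟨by rw [map_neg, hx.1, neg_zero], hx.2.neg P⟩

theorem mem_J0 {x : K} : x ∈ J0 P ↔ P.aug x = 0 ∧ TrivDet P x := Iff.rfl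

theorem toNat_aug_eq {e e' : K} (h : P.aug (e - e') = 0) : (P.aug e).toNat = (P.aug e').toNat := by
  rw [map_sub, sub_eq_zero] at h
  rw [h]

/-- `J0` is an ideal. -/
theorem mul_mem_J0 (hK : HasSplitting K P) (z : K) {x : K} (hx : x ∈ J0 P) : z * x ∈ J0 P := by
  have key : ∀ g ∈ P.pos, g * x ∈ J0 P := by
    intro g hg
    obtain ⟨haug, e, e', he, he', rfl, hdet⟩ := hx
    refine ⟨by rw [map_mul, haug, mul_zero], g * e, g * e', P.mul_mem _ _ hg he,
      P.mul_mem _ _ hg he', by ring, ?_⟩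
    rw [det_mul P hK hg he, det_mul P hK hg he', hdet, toNat_aug_eq P haug]
  obtain ⟨g, g', hg, hg', rfl⟩ := P.exists_sub z
  rw [sub_mul]
  exact sub_mem (key g hg) (key g' hg')

/-- Products of two elements of augmentation zero have trivial determinant. -/
theorem mul_mem_J0_of_aug (hK : HasSplitting K P) {x y : K} (hx : P.aug x = 0) (hy : P.aug y = 0) :
    x * y ∈ J0 P := by
  refine ⟨by rw [map_mul, hx, zero_mul], ?_⟩
  obtain ⟨e, e', he, he', rfl⟩ := P.exists_sub x
  obtain ⟨g, g', hg, hg', rfl⟩ := P.exists_sub y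
  refine ⟨e * g + e' * g', e * g' + e' * g, P.add_mem _ _ (P.mul_mem _ _ he hg)
    (P.mul_mem _ _ he' hg'), P.add_mem _ _ (P.mul_mem _ _ he hg') (P.mul_mem _ _ he' hg),
    by ring, ?_⟩
  rw [det_add P (P.mul_mem _ _ he hg) (P.mul_mem _ _ he' hg'),
    det_add P (P.mul_mem _ _ he hg') (P.mul_mem _ _ he' hg),
    det_mul P hK he hg, det_mul P hK he' hg', det_mul P hK he hg', det_mul P hK he' hg,
    toNat_aug_eq P hx, toNat_aug_eq P hy]
  ring

/-- Transfer along an extension. -/
theorem mem_J0_of_map {K' : Type u} [CommRing K'] [LambdaOps K'] {P' : PosStructure K'}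
    {f : K →+* K'} (hf : IsExtension P P' f) {x : K} (hx : f x ∈ J0 P') : x ∈ J0 P := by
  obtain ⟨haug, htriv⟩ := hx
  refine ⟨by rw [← hf.aug_comp, haug], ?_⟩
  obtain ⟨e, e', he, he', rfl⟩ := P.exists_sub x
  refine ⟨e, e', he, he', rfl, ?_⟩
  apply hf.injective
  rw [map_det P hf, map_det P hf]
  exact htriv.det_eq P' (hf.pos_subset e he) (hf.pos_subset e' he') (map_sub f e e')

end Groth.Agent.Lib.helper6.Det
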