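import Mathlib
import Groth.Agent.Lib.helper6.Det

/-! `F^2 K` consists of elements of trivial determinant; line elements and `F^1/F^2` (helper6). -/

set_option autoImplicit false

namespace Groth.Agent.Lib.helper6.DetFil

open LambdaRing Finset Groth.Agent.H5.Adams Groth.Agent.H5.Lambda Groth.Agent.H5.Gamma
  Groth.Agent.Lib.helper6.Split Groth.Agent.Lib.helper6.GammaFil
  Groth.Agent.Lib.helper6.AdamsGr Groth.Agent.Lib.helper6.GammaAug Groth.Agent.Lib.helper6.Det

universe u

variable {K : Type u} [CommRing K] [LambdaOps K] (P : PosStructure K)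

theorem aug_natCast' (n : ℕ) : P.aug (n : K) = n := map_natCast P.aug n

theorem aug_sub_toNat {e : K} (he : e ∈ P.pos) : P.aug (e - (((P.aug e).toNat : ℕ) : K)) = 0 := by
  have := P.aug_pos e he
  rw [map_sub, aug_natCast']
  omega

/-- `γ^r(e - ε e)` has trivial determinant for `r ≥ 2`, `e` positive. -/
theorem gamma_pos_mem_J0 (hK : HasSplitting K P) {e : K} (he : e ∈ P.pos) {r : ℕ} (hr : 2 ≤ r) :
    gamma r (e - (((P.aug e).toNat : ℕ) : K)) ∈ J0 P := by
  obtain ⟨L', hL', f, hf, u, hu, hsum⟩ := exists_split_fin P hK e he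
  apply mem_J0_of_map P hf
  have h1 : ∀ k : ℕ, 2 ≤ k → LambdaOps.lam k (1 : L'.carrier) = 0 :=
    fun k hk => lam_line L'.posStr (isLine_one L'.posStr) k hk
  have hy : ∀ (i : Fin (P.aug e).toNat) (k : ℕ), 2 ≤ k → LambdaOps.lam k (u i) = 0 :=
    fun i k hk => lam_line L'.posStr (hu i) k hk
  rw [map_gamma hf.isLambdaHom, map_sub, map_natCast, ← hsum,
    Groth.Agent.S8651.result L'.carrier h1 _ u hy r]
  refine sum_mem fun s hs => ?_
  rw [Finset.mem_powersetCard] at hs
  obtain ⟨i, hi, j, hj, hij⟩ := Finset.one_lt_card.mp (by omega : 1 < s.card)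
  rw [← Finset.mul_prod_erase s _ hi]
  have haug : ∀ k, L'.posStr.aug (u k - 1) = 0 := by
    intro k
    rw [map_sub, (hu k).2, map_one, sub_self]
  apply mul_mem_J0_of_aug L'.posStr hL' (haug i)
  rw [map_prod]
  exact Finset.prod_eq_zero (Finset.mem_erase.mpr ⟨hij.symm, hj⟩) (haug j)

/-- `γ^r(-z)` has trivial determinant if `γ^r(z)` does (`ε z = 0`, `r ≥ 2`). -/
theorem gamma_neg_mem_J0 (hK : HasSplitting K P) {z : K} (hz : P.aug z = 0) {r : ℕ} (hr : 2 ≤ r)
    (hB : gamma r z ∈ J0 P) : gamma r (-z) ∈ J0 P := by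
  obtain ⟨n, rfl⟩ : ∃ n, r = n + 2 := ⟨r - 2, by omega⟩
  have h0 : gamma (n + 2) (z + -z) = 0 := by
    rw [add_neg_cancel]
    exact gamma_zero_elt (n + 2) (by omega)
  rw [gamma_add, Finset.sum_range_succ, Finset.sum_range_succ', Nat.sub_zero, gamma_zero,
    one_mul, Nat.sub_self, gamma_zero, mul_one] at h0
  have hnz : P.aug (-z) = 0 := by rw [map_neg, hz, neg_zero]
  have e : gamma (n + 2) (-z) = -(gamma (n + 2) z) -
      ∑ i ∈ range (n + 1), gamma (i + 1) z * gamma (n + 2 - (i + 1)) (-z) := by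
    linear_combination h0
  rw [e]
  refine sub_mem (neg_mem hB) (sum_mem fun i hi => ?_)
  have hi' := Finset.mem_range.mp hi
  exact mul_mem_J0_of_aug P hK (aug_gamma_eq_zero P hK hz (by omega))
    (aug_gamma_eq_zero P hK hnz (by omega))

/-- `γ^r(x)` has trivial determinant for `ε x = 0`, `r ≥ 2`. -/
theorem gamma_mem_J0 (hK : HasSplitting K P) {x : K} (hx : P.aug x = 0) {r : ℕ} (hr : 2 ≤ r) :
    gamma r x ∈ J0 P := by
  obtain ⟨e, e', he, he', rfl⟩ := P.exists_sub x
  have hm := toNat_aug_eq P hx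
  set z := e - (((P.aug e).toNat : ℕ) : K) with hz
  set z' := e' - (((P.aug e').toNat : ℕ) : K) with hz'
  have hzaug : P.aug z = 0 := aug_sub_toNat P he
  have hz'aug : P.aug z' = 0 := aug_sub_toNat P he'
  have hnz' : P.aug (-z') = 0 := by rw [map_neg, hz'aug, neg_zero]
  have hsplit : e - e' = z + -z' := by
    rw [hz, hz', hm]
    ring
  rw [hsplit, gamma_add]
  refine sum_mem fun i hi => ?_
  have hi' := Finset.mem_range.mp hi
  by_cases hi0 : i = 0
  · subst hi0
    rw [gamma_zero, one_mul, Nat.sub_zero]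
    exact gamma_neg_mem_J0 P hK hz'aug hr (gamma_pos_mem_J0 P hK he' hr)
  · by_cases hir : i = r
    · subst hir
      rw [Nat.sub_self, gamma_zero, mul_one]
      exact gamma_pos_mem_J0 P hK he hr
    · exact mul_mem_J0_of_aug P hK (aug_gamma_eq_zero P hK hzaug (by omega))
        (aug_gamma_eq_zero P hK hnz' (by omega))

theorem list_prod_mem (l : List (ℕ × K)) (hl : ∀ p ∈ l, P.aug p.2 = 0) :
    (l.map fun p => gamma p.1 p.2).prod ∈ gammaFiltration P (l.map Prod.fst).sum := by
  induction l with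
  | nil => exact mem_zero P _
  | cons p t ih =>
    simp only [List.map_cons, List.prod_cons, List.sum_cons]
    exact mul_mem P (gamma_mem P (hl p List.mem_cons_self) p.1)
      (ih fun q hq => hl q (List.mem_cons_of_mem _ hq))

theorem list_prod_mem_J0 (hK : HasSplitting K P) (l : List (ℕ × K))
    (hl : ∀ p ∈ l, P.aug p.2 = 0) (hw : 2 ≤ (l.map Prod.fst).sum) :
    (l.map fun p => gamma p.1 p.2).prod ∈ J0 P := by
  induction l with
  | nil => simp at hw
  | cons p t ih =>
    have hlt : ∀ q ∈ t, P.aug q.2 = 0 := fun q hq => hl q (List.mem_cons_of_mem _ hq)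
    have hp : P.aug p.2 = 0 := hl p List.mem_cons_self
    simp only [List.map_cons, List.sum_cons] at hw
    simp only [List.map_cons, List.prod_cons]
    rcases Nat.lt_or_ge p.1 2 with h2 | h2
    · rcases Nat.eq_zero_or_pos p.1 with h0 | h0
      · rw [h0, gamma_zero, one_mul]
        exact ih hlt (by omega)
      · have h1 : p.1 = 1 := by omega
        rw [h1, gamma_one]
        refine mul_mem_J0_of_aug P hK hp ?_
        exact aug_eq_zero_of_mem P hK (by omega : 1 ≤ (t.map Prod.fst).sum) (list_prod_mem P t hlt)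
    · rw [mul_comm]
      exact mul_mem_J0 P hK _ (gamma_mem_J0 P hK hp h2)

theorem gammaFiltration_two_le (hK : HasSplitting K P) : gammaFiltration P 2 ≤ J0 P := by
  unfold gammaFiltration
  rw [if_neg (by omega), AddSubgroup.closure_le]
  rintro y ⟨l, hl, hw, rfl⟩
  exact list_prod_mem_J0 P hK l hl hw

/-- Line elements congruent modulo `F^2` are equal. -/
theorem line_eq_of_sub_mem (hK : HasSplitting K P) {u v : K} (hu : P.IsLine u) (hv : P.IsLine v)
    (h : u - v ∈ gammaFiltration P 2) : u = v := by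
  have h1 := gammaFiltration_two_le P hK h
  have h2 := h1.2.det_eq P hu.1 hv.1 rfl
  rwa [det_line P hu, det_line P hv] at h2


theorem aug_det (hK : HasSplitting K P) {e : K} (he : e ∈ P.pos) : P.aug (det P e) = 1 := by
  obtain ⟨L', hL', f, hf, u, hu, hsum⟩ := exists_split_fin P hK e he
  rw [← hf.aug_comp, map_det P hf, ← hsum, det_sum _ _ hu, map_prod]
  exact Finset.prod_eq_one fun i _ => (hu i).2

theorem det_eq_sum_gamma {e : K} (he : e ∈ P.pos) :
    det P e = ∑ i ∈ range ((P.aug e).toNat + 1), gamma i (e - (((P.aug e).toNat : ℕ) : K)) := by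
  have h1 : ∀ k : ℕ, 2 ≤ k → LambdaOps.lam k (1 : K) = 0 :=
    fun k hk => lam_line P (isLine_one P) k hk
  have hpos := P.aug_pos e he
  have he' : ∀ i : ℕ, (P.aug e).toNat < i → LambdaOps.lam i e = 0 :=
    fun i hi => P.lam_eq_zero e he i (by omega)
  have h := congrArg (Polynomial.eval 1) (gamma_sub_identity h1 (P.aug e).toNat e he')
  rw [Polynomial.eval_finsetSum, Polynomial.eval_finsetSum] at h
  simp only [Polynomial.eval_mul, Polynomial.eval_C, Polynomial.eval_pow, Polynomial.eval_X,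
    one_pow, mul_one, Polynomial.eval_sub, Polynomial.eval_one, sub_self] at h
  rw [h, Finset.sum_eq_single (P.aug e).toNat]
  · rw [Nat.sub_self, pow_zero, mul_one]
    rfl
  · intro i hi hne
    have hi' := Finset.mem_range.mp hi
    rw [zero_pow (by omega), mul_zero]
  · intro h
    exact absurd (Finset.mem_range.mpr (by omega)) h

theorem det_sub_mem {e : K} (he : e ∈ P.pos) :
    det P e - 1 - (e - (((P.aug e).toNat : ℕ) : K)) ∈ gammaFiltration P 2 := by
  have hpos := P.aug_pos e he
  have haug := aug_sub_toNat P he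
  rw [det_eq_sum_gamma P he]
  obtain ⟨n, hn⟩ : ∃ n, (P.aug e).toNat + 1 = n + 2 := ⟨(P.aug e).toNat - 1, by omega⟩
  rw [hn, Finset.sum_range_succ', Finset.sum_range_succ', gamma_zero, gamma_one]
  have e1 : ∑ k ∈ range n, gamma (k + 1 + 1) (e - (((P.aug e).toNat : ℕ) : K)) +
      (e - (((P.aug e).toNat : ℕ) : K)) + 1 - 1 - (e - (((P.aug e).toNat : ℕ) : K)) =
      ∑ k ∈ range n, gamma (k + 1 + 1) (e - (((P.aug e).toNat : ℕ) : K)) := by ring
  rw [e1]
  refine sum_mem fun k _ => ?_
  exact gammaFiltration_antitone P (by omega) (gamma_mem P haug (k + 1 + 1))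

theorem line_sub_one_mem {w : K} (hw : P.IsLine w) : w - 1 ∈ gammaFiltration P 1 := by
  have haug : P.aug (w - 1) = 0 := by rw [map_sub, hw.2, map_one, sub_self]
  have := gamma_mem P haug 1
  rwa [gamma_one] at this

/-- Every element of `F^1` is congruent modulo `F^2` to `u - 1` for a line element `u`. -/
theorem exists_line (hK : HasSplitting K P)
    (hLinv : ∀ w : K, P.IsLine w → ∃ w' : K, P.IsLine w' ∧ w * w' = 1)
    (hdet : ∀ e : K, e ∈ P.pos → LambdaOps.lam (P.aug e).toNat e ∈ P.pos)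
    {x : K} (hx : x ∈ gammaFiltration P 1) :
    ∃ u : K, P.IsLine u ∧ x - (u - 1) ∈ gammaFiltration P 2 := by
  have haug : P.aug x = 0 := aug_eq_zero_of_mem P hK le_rfl hx
  obtain ⟨e, e', he, he', rfl⟩ := P.exists_sub x
  have hm := toNat_aug_eq P haug
  have hA : P.IsLine (det P e) := ⟨hdet e he, aug_det P hK he⟩
  have hB : P.IsLine (det P e') := ⟨hdet e' he', aug_det P hK he'⟩
  obtain ⟨w, hw, hBw⟩ := hLinv _ hB
  refine ⟨det P e * w, isLine_mul P hA hw, ?_⟩
  have hr := det_sub_mem P he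
  have hr' := det_sub_mem P he'
  rw [hm] at hr
  have key : e - e' - (det P e * w - 1) =
      -((e - e') * (w - 1)) -
        ((det P e - 1 - (e - (((P.aug e').toNat : ℕ) : K))) -
          (det P e' - 1 - (e' - (((P.aug e').toNat : ℕ) : K)))) * w := by
    linear_combination (-1 : K) * hBw
  rw [key]
  refine sub_mem (neg_mem ?_) ?_
  · exact mul_mem P hx (line_sub_one_mem P hw)
  · rw [mul_comm]
    exact mul_mem_left P _ (sub_mem hr hr')

end Groth.Agent.Lib.helper6.DetFil
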