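import Mathlib
import Groth.Agent.Lib.helper6.RegEtale

/-!
# Krull dimension of local rings along étale morphisms
-/

set_option autoImplicit false
set_option linter.style.haveILetI false

namespace Groth.Agent.Lib.helper6.DimEtale

open IsLocalRing AlgebraicGeometry CategoryTheory
open Groth.Agent.Lib.helper6

universe u

/-- A flat local homomorphism with `𝔪_R S = 𝔪_S` preserves Krull dimension. -/
theorem dim_eq_of_flat_of_map_maximalIdeal (R S : Type*) [CommRing R] [CommRing S]
    [IsLocalRing R] [IsLocalRing S] [IsNoetherianRing R] [IsNoetherianRing S] [Algebra R S]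
    [IsLocalHom (algebraMap R S)] [Module.Flat R S]
    (h : (maximalIdeal R).map (algebraMap R S) = maximalIdeal S) :
    ringKrullDim S = ringKrullDim R := by
  have h3 := Ideal.height_eq_height_add_of_liesOver_of_hasGoingDown (maximalIdeal R)
    (maximalIdeal S)
  rw [h, Ideal.map_quotient_self, Ideal.height_bot, add_zero] at h3
  rw [← IsLocalRing.maximalIdeal_height_eq_ringKrullDim,
    ← IsLocalRing.maximalIdeal_height_eq_ringKrullDim, h3]

/-- Krull dimension of local rings along étale ring maps. -/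
theorem dim_eq_of_etale (A B : Type u) [CommRing A] [CommRing B]
    [Algebra A B] [Algebra.Etale A B] (q : Ideal B) [q.IsPrime]
    [IsNoetherianRing (Localization.AtPrime (Ideal.comap (algebraMap A B) q))] :
    ringKrullDim (Localization.AtPrime q) =
      ringKrullDim (Localization.AtPrime (Ideal.comap (algebraMap A B) q)) := by
  haveI : q.LiesOver (Ideal.comap (algebraMap A B) q) := ⟨rfl⟩
  letI := Localization.AtPrime.algebraOfLiesOver (Ideal.comap (algebraMap A B) q) q
  haveI : Module.Flat (Localization.AtPrime (Ideal.comap (algebraMap A B) q))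
      (Localization.AtPrime q) :=
    RingHom.Flat.localRingHom (f := algebraMap A B)
      (by rw [RingHom.flat_algebraMap_iff]; infer_instance) q _ Ideal.LiesOver.over
  haveI : IsLocalHom (algebraMap (Localization.AtPrime (Ideal.comap (algebraMap A B) q))
      (Localization.AtPrime q)) :=
    Localization.isLocalHom_localRingHom _ q _ Ideal.LiesOver.over
  have hmap := ((Algebra.isUnramifiedAt_iff_map_eq A (Ideal.comap (algebraMap A B) q) q).mp
    inferInstance).2
  have hmap' : (maximalIdeal (Localization.AtPrime (Ideal.comap (algebraMap A B) q))).map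
      (algebraMap (Localization.AtPrime (Ideal.comap (algebraMap A B) q))
        (Localization.AtPrime q)) = maximalIdeal (Localization.AtPrime q) := by
    rw [← Localization.AtPrime.map_eq_maximalIdeal, Ideal.map_map, ← IsScalarTower.algebraMap_eq]
    exact hmap
  haveI : Algebra.EssFiniteType (Localization.AtPrime (Ideal.comap (algebraMap A B) q))
      (Localization.AtPrime q) := .of_comp A _ _
  haveI : IsNoetherianRing (Localization.AtPrime q) :=
    RegEtale.isNoetherianRing_of_essFiniteType
      (Localization.AtPrime (Ideal.comap (algebraMap A B) q)) _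
  exact dim_eq_of_flat_of_map_maximalIdeal
    (Localization.AtPrime (Ideal.comap (algebraMap A B) q)) (Localization.AtPrime q) hmap'

theorem dim_eq_of_etale' (A B : Type u) [CommRing A] [CommRing B]
    [Algebra A B] [Algebra.Etale A B] (p : Ideal A) [p.IsPrime] (q : Ideal B) [q.IsPrime]
    (hpq : p = Ideal.comap (algebraMap A B) q) [IsNoetherianRing (Localization.AtPrime p)] :
    ringKrullDim (Localization.AtPrime q) = ringKrullDim (Localization.AtPrime p) := by
  subst hpq
  exact dim_eq_of_etale A B q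

theorem stalk_dim_eq {X Y : Scheme.{u}} (f : X ⟶ Y) [Etale f] [IsLocallyNoetherian Y] (x : X) :
    ringKrullDim (X.presheaf.stalk x) = ringKrullDim (Y.presheaf.stalk (f x)) := by
  obtain ⟨_, ⟨U, hU, rfl⟩, hxU, -⟩ :=
    Y.isBasis_affineOpens.exists_subset_of_mem_open (Set.mem_univ (f x)) isOpen_univ
  obtain ⟨_, ⟨V, hV, rfl⟩, hxV, hVU⟩ :=
    X.isBasis_affineOpens.exists_subset_of_mem_open hxU (U.2.preimage f.continuous)
  have het : (f.appLE U V hVU).hom.Etale :=
    HasRingHomProperty.appLE (P := @Etale) (f := f) ‹Etale f› ⟨U, hU⟩ ⟨V, hV⟩ hVU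
  letI := (f.appLE U V hVU).hom.toAlgebra
  haveI : Algebra.Etale Γ(Y, U) Γ(X, V) := het
  have hpq : (hU.primeIdealOf ⟨f x, hVU hxV⟩).asIdeal =
      Ideal.comap (algebraMap Γ(Y, U) Γ(X, V)) (hV.primeIdealOf ⟨x, hxV⟩).asIdeal :=
    congr($(IsAffineOpen.comap_primeIdealOf_appLE U hU V hV hVU hxV).1).symm
  letI := Y.presheaf.algebra_section_stalk ⟨f x, hVU hxV⟩
  haveI := hU.isLocalization_stalk ⟨f x, hVU hxV⟩
  letI := X.presheaf.algebra_section_stalk ⟨x, hxV⟩
  haveI := hV.isLocalization_stalk ⟨x, hxV⟩
  let eY : Y.presheaf.stalk (f x) ≃+*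
      Localization.AtPrime (hU.primeIdealOf ⟨f x, hVU hxV⟩).asIdeal :=
    (IsLocalization.algEquiv (hU.primeIdealOf ⟨f x, hVU hxV⟩).asIdeal.primeCompl
      (Y.presheaf.stalk (f x))
      (Localization.AtPrime (hU.primeIdealOf ⟨f x, hVU hxV⟩).asIdeal)).toRingEquiv
  let eX : X.presheaf.stalk x ≃+* Localization.AtPrime (hV.primeIdealOf ⟨x, hxV⟩).asIdeal :=
    (IsLocalization.algEquiv (hV.primeIdealOf ⟨x, hxV⟩).asIdeal.primeCompl
      (X.presheaf.stalk x)
      (Localization.AtPrime (hV.primeIdealOf ⟨x, hxV⟩).asIdeal)).toRingEquiv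
  haveI : IsNoetherianRing (Localization.AtPrime (hU.primeIdealOf ⟨f x, hVU hxV⟩).asIdeal) :=
    isNoetherianRing_of_ringEquiv _ eY
  rw [ringKrullDim_eq_of_ringEquiv eX, ringKrullDim_eq_of_ringEquiv eY]
  exact dim_eq_of_etale' Γ(Y, U) Γ(X, V) _ _ hpq

end Groth.Agent.Lib.helper6.DimEtale
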