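import Mathlib

set_option maxHeartbeats 400000
set_option linter.style.haveILetI false
set_option linter.unusedSectionVars false

/-! Stacks 00PH: a Noetherian local domain which is not a field is dominated by a
one-dimensional Noetherian local domain essentially of finite type over it. -/

namespace Groth.Agent.H6.DomDim1

universe u

open IsLocalRing

variable (R : Type u) [CommRing R] [IsDomain R] [IsNoetherianRing R] [IsLocalRing R]

/-- A valuation subring of the fraction field dominating `R`. -/
theorem exists_val :
    ∃ V : ValuationSubring (FractionRing R),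
      (∀ r : R, algebraMap R (FractionRing R) r ∈ V) ∧
      ∀ r ∈ maximalIdeal R, V.valuation (algebraMap R (FractionRing R) r) < 1 := by
  obtain ⟨V, h, hloc⟩ := IsLocalRing.exists_factor_valuationRing
    (algebraMap R (FractionRing R))
  refine ⟨V, h, fun r hr => ?_⟩
  have h1 : (⟨algebraMap R (FractionRing R) r, h r⟩ : V) ∈ maximalIdeal V := by
    rw [mem_maximalIdeal, mem_nonunits_iff]
    intro hu
    exact hr (hloc.map_nonunit r hu)
  exact (V.valuation_lt_one_iff _).1 h1

/-- The key intermediate finite type subalgebra. -/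
theorem exists_sub (hR : ¬ IsField R) :
    ∃ (S : Subalgebra R (FractionRing R)) (a : S),
      Algebra.FiniteType R S ∧ a ≠ 0 ∧ Ideal.span {a} ≠ ⊤ ∧
      ∀ r ∈ maximalIdeal R, algebraMap R S r ∈ Ideal.span {a} := by
  classical
  obtain ⟨V, hV, hVm⟩ := exists_val R
  set K := FractionRing R
  obtain ⟨s, hs⟩ := (IsNoetherian.noetherian (maximalIdeal R) : (maximalIdeal R).FG)
  have hmne : maximalIdeal R ≠ ⊥ := fun h =>
    hR ((IsLocalRing.isField_iff_maximalIdeal_eq).2 h)
  have hsne : s.Nonempty := by
    rw [Finset.nonempty_iff_ne_empty]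
    rintro rfl
    apply hmne
    rw [← hs]; simp
  obtain ⟨x, hxs, hxmax⟩ := Finset.exists_max_image s
    (fun i => V.valuation (algebraMap R K i)) hsne
  have hsm : ∀ i ∈ s, i ∈ maximalIdeal R := fun i hi => by
    rw [← hs]; exact Ideal.subset_span hi
  have hx0 : x ≠ 0 := by
    rintro rfl
    apply hmne
    rw [← hs, Ideal.span_eq_bot]
    intro i hi
    have h1 := hxmax i hi
    simp only [map_zero] at h1
    have h2 : V.valuation (algebraMap R K i) = 0 := le_antisymm h1 zero_le
    rw [map_eq_zero] at h2
    exact (IsFractionRing.injective R K) (by rw [h2, map_zero])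
  set a : K := algebraMap R K x with ha
  have ha0 : a ≠ 0 := fun h => hx0 ((IsFractionRing.injective R K) (by rw [← ha, h, map_zero]))
  have hyV : ∀ i ∈ s, algebraMap R K i / a ∈ V := by
    intro i hi
    rw [← V.valuation_le_one_iff, map_div₀]
    exact div_le_one_of_le₀ (hxmax i hi) zero_le
  set T : Set K := (fun i => algebraMap R K i / a) '' (s : Set R) with hT
  set S : Subalgebra R K := Algebra.adjoin R T with hS
  have hSV : ∀ z ∈ S, z ∈ V := by
    intro z hz
    refine Algebra.adjoin_induction (p := fun z _ => z ∈ V) ?_ ?_ ?_ ?_ hz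
    · rintro _ ⟨i, hi, rfl⟩
      exact hyV i hi
    · intro r; exact hV r
    · intro _ _ _ _ h1 h2; exact V.add_mem _ _ h1 h2
    · intro _ _ _ _ h1 h2; exact V.mul_mem _ _ h1 h2
  have hft : Algebra.FiniteType R S :=
    Algebra.FiniteType.adjoin_of_finite ((Finset.finite_toSet s).image _)
  refine ⟨S, algebraMap R S x, hft, ?_, ?_, ?_⟩
  · intro h
    apply hx0
    have := congrArg (Subtype.val) h
    simpa using this
  · intro htop
    rw [Ideal.span_singleton_eq_top] at htop
    obtain ⟨⟨b, hb⟩, hab⟩ := isUnit_iff_exists_inv.1 htop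
    have hab' : a * b = 1 := by
      have := congrArg Subtype.val hab
      simpa using this
    have hbV : b ∈ V := hSV b hb
    have h1 : V.valuation a < 1 := hVm x (hsm x hxs)
    have h2 : V.valuation b ≤ 1 := (V.valuation_le_one_iff b).2 hbV
    have h3 : V.valuation a * V.valuation b = 1 := by rw [← map_mul, hab', map_one]
    have h4 : V.valuation a * V.valuation b < 1 := by
      calc V.valuation a * V.valuation b ≤ V.valuation a * 1 := by gcongr
        _ = V.valuation a := mul_one _
        _ < 1 := h1
    exact (ne_of_lt h4) h3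
  · intro r hr
    have hle : maximalIdeal R ≤ (Ideal.span {algebraMap R S x}).comap (algebraMap R S) := by
      rw [← hs, Ideal.span_le]
      intro i hi
      have hyS : algebraMap R K i / a ∈ S :=
        Algebra.subset_adjoin ⟨i, hi, rfl⟩
      show algebraMap R S i ∈ Ideal.span {algebraMap R S x}
      rw [Ideal.mem_span_singleton']
      refine ⟨⟨_, hyS⟩, ?_⟩
      apply Subtype.ext
      show algebraMap R K i / a * algebraMap R K x = algebraMap R K i
      exact div_mul_cancel₀ _ ha0
    exact hle hr

section Loc

variable {R : Type u} [CommRing R] {S : Type u} [CommRing S] [IsDomain S] [Algebra R S]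
  {K : Type u} [Field K] [Algebra R K] (f : S →ₐ[R] K) (hf : Function.Injective f)
  (q : Ideal S) [q.IsPrime]

include hf in
theorem isUnit_f (y : q.primeCompl) : IsUnit (f y) := by
  obtain ⟨y, hy⟩ := y
  have hy0 : y ≠ 0 := by
    rintro rfl
    exact hy (zero_mem q)
  exact isUnit_iff_ne_zero.2 (fun h => hy0 (hf (by rw [h, map_zero])))

/-- The canonical map from the localization of `S` at `q` to the field `K`. -/
noncomputable def ι : Localization.AtPrime q →ₐ[R] K :=
  IsLocalization.liftAlgHom (M := q.primeCompl) (S := Localization.AtPrime q)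
    (f := f) (isUnit_f f hf q)

theorem ι_injective : Function.Injective (ι f hf q) := by
  have hle : q.primeCompl ≤ nonZeroDivisors S := Ideal.primeCompl_le_nonZeroDivisors q
  have hinj : Function.Injective (algebraMap S (Localization.AtPrime q)) :=
    IsLocalization.injective (Localization.AtPrime q) hle
  unfold ι
  rw [IsLocalization.coe_liftAlgHom, IsLocalization.lift_injective_iff]
  intro x y
  constructor
  · intro h
    rw [hinj h]
  · intro h
    have : x = y := hf h
    rw [this]

include f hf in
theorem transfer [IsLocalRing R] [IsNoetherianRing S] [Algebra.FiniteType R S]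
    (hht : q.height = 1)
    (hm : ∀ r ∈ maximalIdeal R, algebraMap R S r ∈ q) :
    ∃ R' : Subalgebra R K, ∃ _ : IsLocalRing R',
      IsNoetherianRing R' ∧ ringKrullDim R' = 1 ∧ IsLocalHom (algebraMap R R') ∧
        Algebra.EssFiniteType R R' := by
  have hdimL : ringKrullDim (Localization.AtPrime q) = 1 := by
    rw [IsLocalization.AtPrime.ringKrullDim_eq_height q (Localization.AtPrime q), hht]; rfl
  haveI : IsNoetherianRing (Localization.AtPrime q) :=
    IsLocalization.isNoetherianRing q.primeCompl (Localization.AtPrime q) inferInstance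
  haveI hess : Algebra.EssFiniteType R (Localization.AtPrime q) := inferInstance
  have hlocL : ∀ r : R, IsUnit (algebraMap R (Localization.AtPrime q) r) → IsUnit r := by
    intro r hu
    by_contra hnu
    have hrm : r ∈ maximalIdeal R := hnu
    have h1 : algebraMap R S r ∈ q := hm r hrm
    rw [IsScalarTower.algebraMap_apply R S (Localization.AtPrime q),
      IsLocalization.AtPrime.isUnit_to_map_iff (Localization.AtPrime q) q] at hu
    exact hu h1
  let e : Localization.AtPrime q ≃ₐ[R] (ι f hf q).range :=
    AlgEquiv.ofInjective (ι f hf q) (ι_injective f hf q)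
  refine ⟨(ι f hf q).range, e.toRingEquiv.isLocalRing, ?_, ?_, ?_, ?_⟩
  · exact isNoetherianRing_of_ringEquiv (Localization.AtPrime q) e.toRingEquiv
  · rw [← ringKrullDim_eq_of_ringEquiv e.toRingEquiv, hdimL]
  · constructor
    intro r hu
    apply hlocL r
    have h2 : e.symm (algebraMap R _ r) = algebraMap R (Localization.AtPrime q) r :=
      e.symm.commutes r
    rw [← h2]
    exact hu.map e.symm
  · exact Algebra.EssFiniteType.of_surjective e.toAlgHom e.surjective

end Loc

theorem main (R : Type u) [CommRing R] [IsDomain R]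
    [IsNoetherianRing R] [IsLocalRing R] (hR : ¬ IsField R) :
    ∃ R' : Subalgebra R (FractionRing R), ∃ _ : IsLocalRing R',
      IsNoetherianRing R' ∧ ringKrullDim R' = 1 ∧ IsLocalHom (algebraMap R R') ∧
        Algebra.EssFiniteType R R' := by
  classical
  obtain ⟨S, a, hft, ha0, hatop, ham⟩ := exists_sub R hR
  haveI : IsNoetherianRing S := Algebra.FiniteType.isNoetherianRing R S
  -- a prime minimal over (a)
  obtain ⟨M, hMmax, hMle⟩ := Ideal.exists_le_maximal _ hatop
  haveI := hMmax.isPrime
  obtain ⟨q, hqmin, hqM⟩ := Ideal.exists_minimalPrimes_le hMle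
  haveI hqp : q.IsPrime := hqmin.1.1
  have haq : a ∈ q := hqmin.1.2 (Ideal.subset_span rfl)
  have hht1 : q.height ≤ 1 :=
    Ideal.height_le_one_of_isPrincipal_of_mem_minimalPrimes (Ideal.span {a}) q hqmin
  have hht2 : 1 ≤ q.height := by
    rw [Order.one_le_iff_pos]
    rw [pos_iff_ne_zero]
    intro h0
    rw [Ideal.height_eq_zero_iff_eq_bot] at h0
    rw [h0] at haq
    exact ha0 haq
  have hht : q.height = 1 := le_antisymm hht1 hht2
  exact transfer (R := R) (S := S) (K := FractionRing R) S.val Subtype.val_injective q hht
    (fun r hr => hqmin.1.2 (ham r hr))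

end Groth.Agent.H6.DomDim1
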