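import Mathlib

/-!
# A Noetherian ring whose local rings are domains is a finite product of domains
-/

set_option autoImplicit false
set_option linter.style.haveILetI false
set_option linter.unusedSectionVars false

namespace Groth.Agent.Lib.helper6.LocDomProd

universe u

variable {R : Type u} [CommRing R]

/-- the kernel of `R → R_q` lies in every prime contained in `q` -/
lemma ker_le (q : Ideal R) [q.IsPrime] (p : Ideal R) [p.IsPrime] (hpq : p ≤ q) :
    RingHom.ker (algebraMap R (Localization.AtPrime q)) ≤ p := by
  intro x hx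
  rw [RingHom.mem_ker, IsLocalization.map_eq_zero_iff q.primeCompl] at hx
  obtain ⟨s, hs⟩ := hx
  have : (s : R) * x ∈ p := by rw [hs]; exact p.zero_mem
  rcases Ideal.IsPrime.mem_or_mem ‹p.IsPrime› this with h | h
  · exact absurd (hpq h) s.2
  · exact h

lemma ker_eq (q : Ideal R) [q.IsPrime] [IsDomain (Localization.AtPrime q)] (p : Ideal R)
    (hp : p ∈ minimalPrimes R) (hpq : p ≤ q) :
    RingHom.ker (algebraMap R (Localization.AtPrime q)) = p := by
  haveI : p.IsPrime := hp.1.1
  have hk : (RingHom.ker (algebraMap R (Localization.AtPrime q))).IsPrime := RingHom.ker_isPrime _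
  exact le_antisymm (ker_le q p hpq) (hp.2 ⟨hk, bot_le⟩ (ker_le q p hpq))

variable (hdom : ∀ (q : Ideal R) [q.IsPrime], IsDomain (Localization.AtPrime q))
include hdom

lemma isCoprime_of_ne (p p' : Ideal R) (hp : p ∈ minimalPrimes R) (hp' : p' ∈ minimalPrimes R)
    (hne : p ≠ p') : IsCoprime p p' := by
  rw [Ideal.isCoprime_iff_sup_eq]
  by_contra hsup
  obtain ⟨M, hM, hle⟩ := Ideal.exists_le_maximal _ hsup
  haveI := hM.isPrime
  haveI := hdom M
  have h1 := ker_eq M p hp (le_sup_left.trans hle)
  have h2 := ker_eq M p' hp' (le_sup_right.trans hle)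
  exact hne (h1.symm.trans h2)

lemma isReduced : IsReduced R := by
  constructor
  intro x hx
  apply eq_zero_of_localization
  intro M hM
  haveI := hM.isPrime
  haveI := hdom M
  have : IsNilpotent (algebraMap R (Localization.AtPrime M) x) := hx.map _
  exact this.eq_zero

theorem exists_ringEquiv_pi [IsNoetherianRing R] :
    ∃ (n : ℕ) (f : Fin n → Ideal R), (∀ i, f i ∈ minimalPrimes R) ∧
      Nonempty (R ≃+* ∀ i, R ⧸ f i) := by
  classical
  have hfin : (minimalPrimes R).Finite := minimalPrimes.finite_of_isNoetherianRing R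
  let e : Fin hfin.toFinset.card ≃ hfin.toFinset := (Finset.equivFin _).symm
  let f : Fin hfin.toFinset.card → Ideal R := fun i => (e i : Ideal R)
  have hf : ∀ i, f i ∈ minimalPrimes R := fun i => by
    have := (e i).2
    exact hfin.mem_toFinset.mp this
  have hinj : Function.Injective f := fun i j h => e.injective (Subtype.ext h)
  have hcop : Pairwise (Function.onFun IsCoprime f) := fun i j hij =>
    isCoprime_of_ne hdom _ _ (hf i) (hf j) (hinj.ne hij)
  have hinf : ⨅ i, f i = ⊥ := by
    have h1 : ⨅ i, f i = sInf (minimalPrimes R) := by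
      apply le_antisymm
      · apply le_sInf
        intro p hp
        have hp' : p ∈ hfin.toFinset := hfin.mem_toFinset.mpr hp
        have hi : f (e.symm ⟨p, hp'⟩) = p := by simp [f]
        rw [← hi]
        exact iInf_le _ _
      · apply le_iInf
        intro i
        exact sInf_le (hf i)
    rw [h1, minimalPrimes, Ideal.sInf_minimalPrimes]
    haveI := isReduced hdom
    exact nilradical_eq_zero R
  refine ⟨_, f, hf, ⟨?_⟩⟩
  exact (RingEquiv.quotientBot R).symm.trans
    ((Ideal.quotEquivOfEq hinf.symm).trans (Ideal.quotientInfRingEquivPiQuotient f hcop))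

end Groth.Agent.Lib.helper6.LocDomProd
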