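import Mathlib
import Groth.Agent.Lib.helper6.LocDomProd
import Groth.Agent.Lib.helper6.FormStrCat
import Groth.Agent.Lib.helper6.RegEtale
import Groth.Agent.Lib.helper6.DimEtale
import Groth.Agent.S0549
import Groth.Agent.S0558

/-!
# Étale algebras over Dedekind domains are finite products of Dedekind domains
-/

set_option autoImplicit false
set_option linter.style.haveILetI false
set_option linter.unusedSectionVars false

namespace Groth.Agent.Lib.helper6.EtaleDedekind

universe u

/-- regular local of dimension `≤ 1` which is not a field is a DVR -/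
lemma dvr_of_regular (S : Type u) [CommRing S] [IsRegularLocalRing S] (hd : ringKrullDim S ≤ 1)
    (hnf : ¬ IsField S) : ∃ _ : IsDomain S, IsDiscreteValuationRing S := by
  haveI : IsDomain S := Groth.Agent.S0558.result S
  refine ⟨inferInstance, ?_⟩
  rw [Groth.Agent.S0549.dvr_iff_dim_one]
  apply le_antisymm hd
  apply FormStrCat.one_le_of_not_le_zero ringKrullDim_nonneg_of_nontrivial
  intro h0
  haveI : Ring.KrullDimLE 0 S := Ring.krullDimLE_iff.mpr h0
  exact hnf Ring.KrullDimLE.isField_of_isDomain

section quot

variable {R : Type u} [CommRing R] [IsNoetherianRing R]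
  (hreg : ∀ (q : Ideal R) [q.IsPrime], IsRegularLocalRing (Localization.AtPrime q))
  (hdim : ∀ (q : Ideal R) [q.IsPrime], ringKrullDim (Localization.AtPrime q) ≤ 1)
include hreg hdim

lemma dvr_quotient (p : Ideal R) [p.IsPrime] (P : Ideal (R ⧸ p)) [P.IsPrime] (hP : P ≠ ⊥) :
    IsDiscreteValuationRing (Localization.AtPrime P) := by
  haveI : (P.comap (Ideal.Quotient.mk p)).IsPrime := Ideal.comap_isPrime _ _
  have hsurj : Function.Surjective
      (Localization.localRingHom (P.comap (Ideal.Quotient.mk p)) P (Ideal.Quotient.mk p) rfl) :=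
    RingHom.surjective_localRingHom_of_surjective _ Ideal.Quotient.mk_surjective P
  haveI := hreg (P.comap (Ideal.Quotient.mk p))
  haveI : IsDomain (Localization.AtPrime (P.comap (Ideal.Quotient.mk p))) :=
    Groth.Agent.S0558.result _
  have hnf : ¬ IsField (Localization.AtPrime P) :=
    IsLocalization.AtPrime.not_isField (R ⧸ p) hP _
  have hinj : Function.Injective
      (Localization.localRingHom (P.comap (Ideal.Quotient.mk p)) P (Ideal.Quotient.mk p) rfl) := by
    rw [RingHom.injective_iff_ker_eq_bot]
    by_contra hker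
    have hkprime := RingHom.ker_isPrime
      (Localization.localRingHom (P.comap (Ideal.Quotient.mk p)) P (Ideal.Quotient.mk p) rfl)
    have h1 : Ring.KrullDimLE 1 (Localization.AtPrime (P.comap (Ideal.Quotient.mk p))) :=
      Ring.krullDimLE_iff.mpr (hdim _)
    have hmax := Ring.krullDimLE_one_iff_of_noZeroDivisors.mp h1 _ hker hkprime
    apply hnf
    have e := RingHom.quotientKerEquivOfSurjective hsurj
    have hfield : IsField (Localization.AtPrime (P.comap (Ideal.Quotient.mk p)) ⧸ RingHom.ker
        (Localization.localRingHom (P.comap (Ideal.Quotient.mk p)) P (Ideal.Quotient.mk p) rfl)) :=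
      (Ideal.Quotient.maximal_ideal_iff_isField_quotient _).mp hmax
    exact e.symm.toMulEquiv.isField hfield
  let e := RingEquiv.ofBijective _ ⟨hinj, hsurj⟩
  haveI : IsRegularLocalRing (Localization.AtPrime P) := IsRegularLocalRing.of_ringEquiv e
  have hd : ringKrullDim (Localization.AtPrime P) ≤ 1 := by
    rw [← ringKrullDim_eq_of_ringEquiv e]
    exact hdim _
  obtain ⟨_, h⟩ := dvr_of_regular (Localization.AtPrime P) hd hnf
  exact h

lemma isDedekindDomain_quotient (p : Ideal R) [p.IsPrime] : IsDedekindDomain (R ⧸ p) := by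
  haveI : IsDedekindDomainDvr (R ⧸ p) :=
    { toIsNoetherian := (inferInstance : IsNoetherianRing (R ⧸ p))
      is_dvr_at_nonzero_prime := fun P hP hPprime => by
        haveI := hPprime
        exact dvr_quotient hreg hdim p P hP }
  infer_instance

end quot

section etale

lemma isNoetherianRing (A B : Type u) [CommRing A] [IsDedekindDomain A] [CommRing B] [Algebra A B]
    [Algebra.Etale A B] : IsNoetherianRing B := Algebra.FiniteType.isNoetherianRing A B

lemma regular (A B : Type u) [CommRing A] [IsDedekindDomain A] [CommRing B] [Algebra A B]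
    [Algebra.Etale A B] (q : Ideal B) [q.IsPrime] :
    IsRegularLocalRing (Localization.AtPrime q) := by
  haveI : (q.comap (algebraMap A B)).IsPrime := Ideal.comap_isPrime _ _
  rw [← RegEtale.regular_iff_of_etale A B q]
  infer_instance

lemma dim_le (A B : Type u) [CommRing A] [IsDedekindDomain A] [CommRing B] [Algebra A B]
    [Algebra.Etale A B] (q : Ideal B) [q.IsPrime] :
    ringKrullDim (Localization.AtPrime q) ≤ 1 := by
  haveI : (q.comap (algebraMap A B)).IsPrime := Ideal.comap_isPrime _ _
  rw [DimEtale.dim_eq_of_etale A B q,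
    IsLocalization.AtPrime.ringKrullDim_eq_height (q.comap (algebraMap A B))]
  exact (Ideal.height_le_ringKrullDim_of_ne_top Ideal.IsPrime.ne_top').trans
    (Ring.krullDimLE_iff.mp inferInstance)

theorem main (A B : Type u) [CommRing A] [IsDedekindDomain A] [CommRing B] [Algebra A B]
    [Algebra.Etale A B] :
    (∃ (n : ℕ) (D : Fin n → Type u) (_ : ∀ i, CommRing (D i))
        (_ : ∀ i, IsDedekindDomain (D i)), Nonempty (B ≃+* ∀ i, D i)) ∧
    ∀ (q : Ideal B) [q.IsMaximal], ¬ IsField (Localization.AtPrime q) →
      ∃ _ : IsDomain (Localization.AtPrime q),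
        IsDiscreteValuationRing (Localization.AtPrime q) := by
  haveI := isNoetherianRing A B
  constructor
  · obtain ⟨n, f, hf, ⟨e⟩⟩ := LocDomProd.exists_ringEquiv_pi (R := B)
      (fun q _ => by
        haveI := regular A B q
        exact Groth.Agent.S0558.result _)
    refine ⟨n, fun i => B ⧸ f i, fun i => inferInstance, fun i => ?_, ⟨e⟩⟩
    haveI : (f i).IsPrime := (hf i).1.1
    exact isDedekindDomain_quotient (fun q _ => regular A B q) (fun q _ => dim_le A B q) (f i)
  · intro q hq hnf
    haveI := regular A B q
    exact dvr_of_regular _ (dim_le A B q) hnf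

end etale

end Groth.Agent.Lib.helper6.EtaleDedekind
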