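import Mathlib
import Groth.Agent.Lib.helper6.AusBuchE
import Groth.Agent.Lib.helper6.PdLoc
import Groth.Agent.Lib.helper9.Depth11

/-!
# Vasconcelos' theorem, part A: prime avoidance for cosets, and ideals of finite projective
dimension with a free summand in the conormal module are not contained in associated primes.
-/

set_option autoImplicit false
set_option linter.style.haveILetI false

namespace Groth.Agent.Lib.helper6.VascA

open CategoryTheory IsLocalRing LocCoh
open Groth.Agent.Lib.helper6
open Groth.Agent.Lib.helper9.Depth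

universe u

/-- Prime avoidance for cosets: if `J` is not contained in any of finitely many primes, then some
element of `x + J` avoids all of them. -/
theorem exists_add_notMem {R : Type*} [CommRing R] (x : R) (J : Ideal R) :
    ∀ (S : Finset (Ideal R)), (∀ p ∈ S, p.IsPrime) → (∀ p ∈ S, ¬ J ≤ p) →
      ∃ z ∈ J, ∀ p ∈ S, x + z ∉ p := by
  classical
  intro S
  induction S using Finset.strongInduction with
  | H S ih =>
    intro hprime hJ
    rcases S.eq_empty_or_nonempty with rfl | hne
    · exact ⟨0, J.zero_mem, by simp⟩
    obtain ⟨p, hpS, hpmin⟩ := Finset.exists_minimal hne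
    obtain ⟨z, hzJ, hz⟩ := ih (S.erase p) (Finset.erase_ssubset hpS)
      (fun q hq => hprime q (Finset.mem_of_mem_erase hq))
      (fun q hq => hJ q (Finset.mem_of_mem_erase hq))
    by_cases hxz : x + z ∈ p
    · have hpp : p.IsPrime := hprime p hpS
      have hnle : ¬ (J * ∏ q ∈ S.erase p, q) ≤ p := by
        intro hle
        have h12 : J ≤ p ∨ (∏ q ∈ S.erase p, q) ≤ p := (Ideal.IsPrime.mul_le hpp).mp hle
        rcases h12 with h | h
        · exact hJ p hpS h
        · have h3 := (Ideal.IsPrime.prod_le hpp).mp h
          obtain ⟨q, hq, hqp⟩ := h3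
          have hqS : q ∈ S := Finset.mem_of_mem_erase hq
          have hne' : q ≠ p := Finset.ne_of_mem_erase hq
          exact hne' (le_antisymm hqp (hpmin hqS hqp))
      obtain ⟨w, hw, hwp⟩ := SetLike.not_le_iff_exists.mp hnle
      have hleJ : (J * ∏ q ∈ S.erase p, q) ≤ J := Ideal.mul_le_left
      have hwJ : w ∈ J := hleJ hw
      have hwq : ∀ q ∈ S.erase p, w ∈ q := by
        intro q hq
        have h0 : (J * ∏ q ∈ S.erase p, q) ≤ ∏ q ∈ S.erase p, q := Ideal.mul_le_right
        have h1 : (∏ q ∈ S.erase p, q) ≤ (S.erase p).inf id := Ideal.prod_le_inf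
        have h2 : (S.erase p).inf id ≤ q := Finset.inf_le hq
        exact h2 (h1 (h0 hw))
      refine ⟨z + w, J.add_mem hzJ hwJ, ?_⟩
      intro q hq
      by_cases hqp : q = p
      · subst hqp
        intro h
        apply hwp
        have : w = (x + (z + w)) - (x + z) := by ring
        rw [this]
        exact sub_mem h hxz
      · have hq' : q ∈ S.erase p := Finset.mem_erase.mpr ⟨hqp, hq⟩
        intro h
        apply hz q hq'
        have : x + z = (x + (z + w)) - w := by ring
        rw [this]
        exact sub_mem h (hwq q hq')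
    · refine ⟨z, hzJ, fun q hq => ?_⟩
      by_cases hqp : q = p
      · subst hqp; exact hxz
      · exact hz q (Finset.mem_erase.mpr ⟨hqp, hq⟩)

/-- Over a Noetherian local ring of depth zero, a finite module of finite projective dimension is
free. -/
theorem free_of_depth_zero (R : Type u) [CommRing R] [IsLocalRing R] [IsNoetherianRing R]
    (h0 : depth R R = 0) (M : Type u) [AddCommGroup M] [Module R M] [Module.Finite R M] (n : ℕ)
    (hpd : HasProjectiveDimensionLT (ModuleCat.of R M) n) : Module.Free R M := by
  rcases subsingleton_or_nontrivial M with hM | hM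
  · infer_instance
  · have hnz : ¬ Limits.IsZero (ModuleCat.of R M) := by
      rw [ModuleCat.isZero_iff_subsingleton]
      exact not_subsingleton M
    obtain ⟨e, he⟩ := AusBuchE.exists_nat_pd _ hnz _ hpd
    have hab := AusBuchD.auslander_buchsbaum e M he
    rw [h0] at hab
    have h0' : e = 0 := by
      have h1 : (e : ℕ∞) ≤ 0 := by
        rw [hab]
        exact le_self_add
      exact_mod_cast (nonpos_iff_eq_zero.mp h1)
    subst h0'
    have hproj : Projective (ModuleCat.of R M) :=
      ((projectiveDimension_eq_zero_iff _).mp (by exact_mod_cast he)).1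
    rw [← IsProjective.iff_projective] at hproj
    exact Module.free_of_flat_of_isLocalRing

/-- `pd_R (R/I) ≤ pd_R I + 1`. -/
lemma pd_quotient (R : Type u) [CommRing R] (I : Ideal R) (n : ℕ)
    (hpd : HasProjectiveDimensionLT (ModuleCat.of R I) n) :
    HasProjectiveDimensionLT (ModuleCat.of R (R ⧸ I)) (n + 1) := by
  have hS := LinearMap.shortExact_shortComplexKer (f := I.mkQ) (Submodule.mkQ_surjective _)
  have h2 : HasProjectiveDimensionLT (ModuleCat.of R R) (n + 1) := by
    have : Projective (ModuleCat.of R R) := by
      rw [← IsProjective.iff_projective]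
      infer_instance
    exact hasProjectiveDimensionLT_of_ge _ 1 _ (by omega)
  have h1 : HasProjectiveDimensionLT (ModuleCat.of R (LinearMap.ker I.mkQ)) n :=
    hasProjectiveDimensionLT_of_iso
      (LinearEquiv.ofEq _ _ (Submodule.ker_mkQ I)).symm.toModuleIso _
  exact hS.hasProjectiveDimensionLT_X₃ n h1 h2

/-- If `I` has finite projective dimension and there is a linear functional `I → R/I` taking the
value `1`, then `I` is not contained in any associated prime of `R`. -/
theorem not_le_of_mem_associatedPrimes (R : Type u) [CommRing R] [IsNoetherianRing R]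
    (I : Ideal R) (n : ℕ) (hpd : HasProjectiveDimensionLT (ModuleCat.of R I) n) (x : I)
    (φ : I →ₗ[R] R ⧸ I) (hφ : φ x = 1) (q : Ideal R) (hq : q ∈ associatedPrimes R R) :
    ¬ I ≤ q := by
  intro hIq
  haveI : q.IsPrime := hq.isPrime
  have h1 := pd_quotient R I n hpd
  have h2 : HasProjectiveDimensionLT (ModuleCat.of (Localization.AtPrime q)
      (LocalizedModule q.primeCompl (R ⧸ I))) (n + 1) := by
    haveI : HasProjectiveDimensionLE (ModuleCat.of R (R ⧸ I)) n := h1
    have h3 : HasProjectiveDimensionLE ((ModuleCat.of R (R ⧸ I)).localizedModule q.primeCompl) n :=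
      ModuleCat.localizedModule_hasProjectiveDimensionLE n q.primeCompl (ModuleCat.of R (R ⧸ I))
    have h4 : HasProjectiveDimensionLT
        ((ModuleCat.of R (R ⧸ I)).localizedModule q.primeCompl) (n + 1) := h3
    exact hasProjectiveDimensionLT_of_iso (PdLoc.localizedModuleIso q.primeCompl (R ⧸ I)) _
  have hd0 : depth (Localization.AtPrime q) (Localization.AtPrime q) = 0 := by
    rw [← depth_localizedModule_self]
    exact (depth_localization_eq_zero_iff q R).mpr hq
  haveI hfree : Module.Free (Localization.AtPrime q) (LocalizedModule q.primeCompl (R ⧸ I)) :=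
    free_of_depth_zero (Localization.AtPrime q) hd0 _ (n + 1) h2
  haveI hnt : Nontrivial (LocalizedModule q.primeCompl (R ⧸ I)) := by
    refine ⟨⟨LocalizedModule.mk (1 : R ⧸ I) 1, 0, ?_⟩⟩
    intro h0
    rw [← LocalizedModule.zero_mk (1 : q.primeCompl), LocalizedModule.mk_eq] at h0
    obtain ⟨u, hu⟩ := h0
    simp only [one_smul, smul_zero] at hu
    have hu' : (u : R) • (1 : R ⧸ I) = 0 := hu
    rw [Algebra.smul_def, mul_one] at hu'
    have : (u : R) ∈ I := Ideal.Quotient.eq_zero_iff_mem.mp hu'
    exact u.2 (hIq this)
  have hkill : ∀ m : LocalizedModule q.primeCompl (R ⧸ I),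
      algebraMap R (Localization.AtPrime q) (x : R) • m = 0 := by
    intro m
    induction m using LocalizedModule.induction_on with
    | h m s =>
      rw [algebraMap_smul, LocalizedModule.smul'_mk]
      obtain ⟨m', rfl⟩ := Ideal.Quotient.mk_surjective m
      have : (x : R) • (Ideal.Quotient.mk I m') = 0 := by
        rw [Algebra.smul_def]
        change Ideal.Quotient.mk I (x : R) * _ = 0
        rw [Ideal.Quotient.eq_zero_iff_mem.mpr x.2, zero_mul]
      rw [this, LocalizedModule.zero_mk]
  have hx0 : algebraMap R (Localization.AtPrime q) (x : R) = 0 := by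
    apply FaithfulSMul.eq_of_smul_eq_smul (α := LocalizedModule q.primeCompl (R ⧸ I))
    intro m
    rw [hkill m, zero_smul]
  rw [IsLocalization.map_eq_zero_iff q.primeCompl] at hx0
  obtain ⟨s, hs⟩ := hx0
  have h5 : φ ((s : R) • x) = 0 := by
    have : (s : R) • x = 0 := by
      apply Subtype.ext
      simpa using hs
    rw [this, map_zero]
  rw [map_smul, hφ, Algebra.smul_def, mul_one] at h5
  have : (s : R) ∈ I := Ideal.Quotient.eq_zero_iff_mem.mp h5
  exact s.2 (hIq this)

end Groth.Agent.Lib.helper6.VascA
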