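import Mathlib
import Groth.Agent.Lib.helper6.CxHomology
import Groth.Agent.Lib.helper6.FFRnzd

/-!
# Euler characteristic of a strictly perfect complex acyclic at a prime
-/

set_option linter.style.haveILetI false

namespace Groth.Agent.Lib.helper6.EulerPerf

universe u

open CategoryTheory CategoryTheory.Limits

variable {A : Type u} [CommRing A] (P : CochainComplex (ModuleCat.{u} A) ℤ)
  (q : Ideal A) [q.IsPrime]

/-- localized terms -/
abbrev F (j : ℤ) : Type u := LocalizedModule q.primeCompl (P.X j)

/-- localized differentials -/
noncomputable abbrev Dm (i j : ℤ) : F P q i →ₗ[Localization.AtPrime q] F P q j :=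
  LocalizedModule.map q.primeCompl (P.d i j).hom

theorem exact (hq : ∀ i, Subsingleton (LocalizedModule q.primeCompl (P.homology i)))
    (i j k : ℤ) (hij : i + 1 = j) (hjk : j + 1 = k) :
    LinearMap.ker (Dm P q j k) = LinearMap.range (Dm P q i j) := by
  subst hjk
  obtain rfl : i = j - 1 := by omega
  apply le_antisymm
  · intro x hx
    induction x using LocalizedModule.induction_on with
    | _ m t =>
    rw [LinearMap.mem_ker, LocalizedModule.map_mk] at hx
    have h0 : LocalizedModule.mk ((P.d j (j + 1)).hom m) t =
        LocalizedModule.mk (0 : P.X (j + 1)) (1 : q.primeCompl) := by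
      rw [hx, LocalizedModule.zero_mk]
    obtain ⟨u, hu⟩ := LocalizedModule.mk_eq.mp h0
    have hz : (P.d j (j + 1)).hom (u.1 • m) = 0 := by
      rw [map_smul]
      rw [smul_zero, smul_zero, one_smul] at hu
      exact hu
    let z : LinearMap.ker (P.d j (j + 1)).hom := ⟨u.1 • m, hz⟩
    let c := (CxHomology.homologyEquiv P j).symm (Submodule.Quotient.mk z)
    haveI := hq j
    have hc : LocalizedModule.mkLinearMap q.primeCompl (P.homology j) c = 0 :=
      Subsingleton.elim _ _
    obtain ⟨v, hv⟩ := (IsLocalizedModule.eq_zero_iff q.primeCompl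
      (LocalizedModule.mkLinearMap q.primeCompl (P.homology j))).mp hc
    have hvz : v.1 • z ∈ CxHomology.bnd P j := by
      rw [← Submodule.Quotient.mk_eq_zero, Submodule.Quotient.mk_smul]
      have h1 := congrArg (CxHomology.homologyEquiv P j) hv
      rw [map_zero, Submonoid.smul_def, map_smul, LinearEquiv.apply_symm_apply] at h1
      exact h1
    obtain ⟨y, hy⟩ := (CxHomology.mem_bnd P j _).mp hvz
    refine ⟨LocalizedModule.mk y (v * u * t), ?_⟩
    rw [LocalizedModule.map_mk, hy, LocalizedModule.mk_eq]
    refine ⟨1, ?_⟩
    simp only [one_smul]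
    change t • (v.1 • u.1 • m) = (v * u * t) • m
    rw [Submonoid.smul_def, Submonoid.smul_def, smul_smul, smul_smul]
    congr 1
    push_cast
    ring
  · rintro x ⟨y, rfl⟩
    rw [LinearMap.mem_ker]
    induction y using LocalizedModule.induction_on with
    | _ m t =>
    rw [LocalizedModule.map_mk, LocalizedModule.map_mk]
    have h1 := congr($(P.d_comp_d (j - 1) j (j + 1)) m)
    have h2 : (P.d j (j + 1)).hom ((P.d (j - 1) j).hom m) = 0 := h1
    rw [h2, LocalizedModule.zero_mk]

section ranks

variable (hP : ∀ i : ℤ, Module.Finite A (P.X i) ∧ Module.Projective A (P.X i))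

include hP in
theorem finite_F (j : ℤ) : Module.Finite (Localization.AtPrime q) (F P q j) := by
  haveI := (hP j).1
  infer_instance

include hP in
theorem projective_F (j : ℤ) : Module.Projective (Localization.AtPrime q) (F P q j) := by
  haveI := (hP j).2
  infer_instance

include hP in
/-- images of the localized differentials are projective (downward induction from the top). -/
theorem proj_range (hq : ∀ i, Subsingleton (LocalizedModule q.primeCompl (P.homology i)))
    (b : ℤ) (hb : ∀ j, b < j → IsZero (P.X j)) :
    ∀ (n : ℕ) (j k : ℤ), j + 1 = k → b ≤ j + n →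
      Module.Projective (Localization.AtPrime q) (LinearMap.range (Dm P q j k)) := by
  intro n
  induction n with
  | zero =>
    intro j k hjk hbj
    have hz : IsZero (P.X k) := hb k (by omega)
    haveI : Subsingleton (P.X k) := ModuleCat.subsingleton_of_isZero hz
    haveI : Subsingleton (F P q k) := inferInstance
    haveI : Subsingleton (LinearMap.range (Dm P q j k)) := inferInstance
    haveI : Module.Free (Localization.AtPrime q) (LinearMap.range (Dm P q j k)) :=
      Module.Free.of_subsingleton _ _
    infer_instance
  | succ n ih =>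
    intro j k hjk hbj
    have h1 := ih k (k + 1) rfl (by omega)
    have hex := exact P q hq j k (k + 1) hjk rfl
    haveI := projective_F P q hP k
    have hK : Module.Projective (Localization.AtPrime q)
        (LinearMap.ker (Dm P q k (k + 1)).rangeRestrict) :=
      FFRnzd.projective_ker _ (LinearMap.surjective_rangeRestrict _)
    rw [LinearMap.ker_rangeRestrict, hex] at hK
    exact hK

include hP in
theorem finrank_F (hq : ∀ i, Subsingleton (LocalizedModule q.primeCompl (P.homology i)))
    (b : ℤ) (hb : ∀ j, b < j → IsZero (P.X j)) (i j k : ℤ) (hij : i + 1 = j) (hjk : j + 1 = k) :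
    Module.finrank (Localization.AtPrime q) (F P q j) =
      Module.finrank (Localization.AtPrime q) (LinearMap.range (Dm P q i j)) +
        Module.finrank (Localization.AtPrime q) (LinearMap.range (Dm P q j k)) := by
  haveI := projective_F P q hP j
  haveI := finite_F P q hP j
  have hpr : Module.Projective (Localization.AtPrime q) (LinearMap.range (Dm P q j k)) := by
    by_cases hbj : b ≤ j
    · exact proj_range P q hP hq b hb 0 j k hjk (by simpa using hbj)
    · refine proj_range P q hP hq b hb (b - j).toNat j k hjk ?_
      have : ((b - j).toNat : ℤ) = b - j := Int.toNat_of_nonneg (by omega)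
      omega
  have hpi : Module.Projective (Localization.AtPrime q) (LinearMap.range (Dm P q i j)) := by
    by_cases hbj : b ≤ i
    · exact proj_range P q hP hq b hb 0 i j hij (by simpa using hbj)
    · refine proj_range P q hP hq b hb (b - i).toNat i j hij ?_
      have : ((b - i).toNat : ℤ) = b - i := Int.toNat_of_nonneg (by omega)
      omega
  obtain ⟨e⟩ := FFRnzd.nonempty_split (Dm P q j k).rangeRestrict
    (LinearMap.surjective_rangeRestrict _)
  have hex := exact P q hq i j k hij hjk
  rw [LinearMap.ker_rangeRestrict, hex] at e
  haveI : Module.Finite (Localization.AtPrime q) (LinearMap.range (Dm P q j k)) :=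
    Module.Finite.range _
  haveI : Module.Finite (Localization.AtPrime q) (LinearMap.range (Dm P q i j)) :=
    haveI := finite_F P q hP i
    Module.Finite.range _
  haveI : Module.Free (Localization.AtPrime q) (LinearMap.range (Dm P q j k)) :=
    Module.free_of_flat_of_isLocalRing
  haveI : Module.Free (Localization.AtPrime q) (LinearMap.range (Dm P q i j)) :=
    Module.free_of_flat_of_isLocalRing
  rw [← e.finrank_eq, Module.finrank_prod]

include hP in
/-- the Euler characteristic of the localized complex vanishes -/
theorem euler_zero (hq : ∀ i, Subsingleton (LocalizedModule q.primeCompl (P.homology i)))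
    (s : Finset ℤ) (hs : ∀ i : ℤ, i ∉ s → IsZero (P.X i)) :
    (s.sum fun i => ((i.negOnePow : ℤˣ) : ℤ) *
      (Module.finrank (Localization.AtPrime q) (F P q i) : ℤ)) = 0 := by
  obtain ⟨b, hb⟩ := s.bddAbove
  have hb' : ∀ j, b < j → IsZero (P.X j) := fun j hj => hs j (fun h => by
    have := hb h
    omega)
  let r : ℤ → ℤ := fun j =>
    (Module.finrank (Localization.AtPrime q) (LinearMap.range (Dm P q j (j + 1))) : ℤ)
  have key : ∀ j, (Module.finrank (Localization.AtPrime q) (F P q j) : ℤ) =
      r (j - 1) + 0 + r j := by
    intro j
    have h := finrank_F P q hP hq b hb' (j - 1) j (j + 1) (by ring) rfl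
    have e5 : ∀ k, k = j → Module.finrank (Localization.AtPrime q)
        (LinearMap.range (Dm P q (j - 1) k)) =
        Module.finrank (Localization.AtPrime q) (LinearMap.range (Dm P q (j - 1) j)) := by
      rintro k rfl
      rfl
    have e6 := e5 (j - 1 + 1) (by ring)
    show _ = ((Module.finrank (Localization.AtPrime q)
      (LinearMap.range (Dm P q (j - 1) (j - 1 + 1))) : ℕ) : ℤ) + 0 + _
    rw [e6, h]
    push_cast
    ring
  have h1 : ∀ j, j ∉ s → r j = 0 := by
    intro j hj
    haveI : Subsingleton (P.X j) := ModuleCat.subsingleton_of_isZero (hs j hj)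
    haveI : Subsingleton (F P q j) := inferInstance
    have : LinearMap.range (Dm P q j (j + 1)) = ⊥ := by
      rw [LinearMap.range_eq_bot]
      ext x
      rw [Subsingleton.elim x 0, map_zero]
      rfl
    show ((Module.finrank (Localization.AtPrime q)
      (LinearMap.range (Dm P q j (j + 1))) : ℕ) : ℤ) = 0
    rw [this]
    simp
  have h2 : ∀ j, j ∉ s → r (j - 1) = 0 := by
    intro j hj
    have hz : IsZero (P.X (j - 1 + 1)) := by
      rw [sub_add_cancel]
      exact hs j hj
    haveI : Subsingleton (P.X (j - 1 + 1)) := ModuleCat.subsingleton_of_isZero hz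
    haveI : Subsingleton (F P q (j - 1 + 1)) := inferInstance
    show ((Module.finrank (Localization.AtPrime q)
      (LinearMap.range (Dm P q (j - 1) (j - 1 + 1))) : ℕ) : ℤ) = 0
    rw [Module.finrank_zero_of_subsingleton]
    rfl
  have := CxHomology.euler s _ (fun _ => 0) r key h1 h2
  rw [this]
  simp

end ranks

end Groth.Agent.Lib.helper6.EulerPerf
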