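import Mathlib

/-!
# Non-vanishing of `Ext¹(I, J)` for modules supported on two curves meeting at a point
-/

set_option autoImplicit false
set_option linter.style.haveILetI false
set_option linter.unusedSectionVars false

namespace Groth.Agent.Lib.helper6.ExtNZ

open CategoryTheory CategoryTheory.Limits TensorProduct

universe u

section ring

variable {R : Type u} [CommRing R]

/-- If `R ⧸ Q` is reduced, an element outside all minimal primes of `Q` is a nonzerodivisor
mod `Q`. -/
lemma mk_mem_nonZeroDivisors (Q : Ideal R) [IsReduced (R ⧸ Q)] (x : R)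
    (h : ∀ q ∈ Q.minimalPrimes, x ∉ q) :
    Ideal.Quotient.mk Q x ∈ nonZeroDivisors (R ⧸ Q) := by
  rw [mem_nonZeroDivisors_iff_right]
  intro y' hy
  obtain ⟨y, rfl⟩ := Ideal.Quotient.mk_surjective y'
  rw [← map_mul, Ideal.Quotient.eq_zero_iff_mem] at hy
  have hrad : Q.IsRadical := (Ideal.isRadical_iff_quotient_reduced Q).mpr inferInstance
  have : y ∈ sInf Q.minimalPrimes := by
    rw [Ideal.mem_sInf]
    intro q hq
    have := hq.1.1.mem_or_mem (hq.1.2 hy)
    exact this.resolve_right (h q hq)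
  rw [Ideal.sInf_minimalPrimes, hrad.radical] at this
  exact Ideal.Quotient.eq_zero_iff_mem.mpr this

lemma exists_mem_nonZeroDivisors [IsNoetherianRing R] [IsLocalRing R] (P Q : Ideal R)
    [IsReduced (R ⧸ Q)] (hQdim : ringKrullDim (R ⧸ Q) = 1) (n : ℕ)
    (hPQ : IsLocalRing.maximalIdeal R ^ n ≤ P ⊔ Q) :
    ∃ x ∈ P, Ideal.Quotient.mk Q x ∈ nonZeroDivisors (R ⧸ Q) := by
  have hfin : (Q.minimalPrimes).Finite := Ideal.finite_minimalPrimes_of_isNoetherianRing R Q
  by_contra hcon
  push Not at hcon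
  have hsub : (P : Set R) ⊆ ⋃ q ∈ (hfin.toFinset : Set (Ideal R)), ((id q : Ideal R) : Set R) := by
    intro x hx
    by_contra hx'
    apply hcon x hx
    apply mk_mem_nonZeroDivisors
    intro q hq hxq
    apply hx'
    simp only [Set.mem_iUnion]
    exact ⟨q, by simpa using hq, hxq⟩
  rw [Ideal.subset_union_prime (f := id) ⊥ ⊥ (fun q hq _ _ => by
    have : q ∈ Q.minimalPrimes := by simpa using hq
    exact this.1.1)] at hsub
  obtain ⟨q, hq, hPq⟩ := hsub
  have hq' : q ∈ Q.minimalPrimes := by simpa using hq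
  have hqprime : q.IsPrime := hq'.1.1
  have hmq : IsLocalRing.maximalIdeal R ≤ q :=
    hqprime.le_of_pow_le (hPQ.trans (sup_le hPq hq'.1.2))
  have hqm : q = IsLocalRing.maximalIdeal R :=
    le_antisymm (IsLocalRing.le_maximalIdeal hqprime.ne_top) hmq
  -- then `R ⧸ Q` has dimension zero
  have h0 : Ring.KrullDimLE 0 (R ⧸ Q) := by
    rw [Ring.krullDimLE_zero_iff]
    intro I' hI'
    have hp : (I'.comap (Ideal.Quotient.mk Q)).IsPrime := Ideal.comap_isPrime _ _
    have hQp : Q ≤ I'.comap (Ideal.Quotient.mk Q) := by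
      intro a ha
      rw [Ideal.mem_comap, Ideal.Quotient.eq_zero_iff_mem.mpr ha]
      exact I'.zero_mem
    have hpm : I'.comap (Ideal.Quotient.mk Q) ≤ q := by
      rw [hqm]; exact IsLocalRing.le_maximalIdeal hp.ne_top
    have hle : q ≤ I'.comap (Ideal.Quotient.mk Q) := hq'.2 ⟨hp, hQp⟩ hpm
    have heq : I'.comap (Ideal.Quotient.mk Q) = IsLocalRing.maximalIdeal R := by
      rw [← hqm]; exact le_antisymm hpm hle
    have hmax : (I'.comap (Ideal.Quotient.mk Q)).IsMaximal := by
      rw [heq]; infer_instance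
    have := Ideal.map_eq_top_or_isMaximal_of_surjective (Ideal.Quotient.mk Q)
      Ideal.Quotient.mk_surjective hmax
    rw [Ideal.map_comap_of_surjective _ Ideal.Quotient.mk_surjective] at this
    exact this.resolve_left hI'.ne_top
  have := Ring.krullDimLE_iff.mp h0
  rw [hQdim] at this
  exact absurd this (by decide)

lemma eq_maximalIdeal_of_mem [IsLocalRing R] (Q : Ideal R)
    (hQdim : ringKrullDim (R ⧸ Q) = 1) (x : R)
    (hx : Ideal.Quotient.mk Q x ∈ nonZeroDivisors (R ⧸ Q)) (p : Ideal R) [hp : p.IsPrime]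
    (hQp : Q ≤ p) (hxp : x ∈ p) : p = IsLocalRing.maximalIdeal R := by
  have h1 : Ring.KrullDimLE 1 (R ⧸ Q) := by
    rw [Ring.krullDimLE_iff, hQdim]; rfl
  have hker : RingHom.ker (Ideal.Quotient.mk Q) ≤ p := by rwa [Ideal.mk_ker]
  have hp' : (p.map (Ideal.Quotient.mk Q)).IsPrime :=
    Ideal.map_isPrime_of_surjective Ideal.Quotient.mk_surjective hker
  have hcm : (p.map (Ideal.Quotient.mk Q)).comap (Ideal.Quotient.mk Q) = p :=
    Ideal.comap_map_of_surjective' _ Ideal.Quotient.mk_surjective _ |>.trans (by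
      rw [sup_eq_left]; exact hker)
  rcases Ring.krullDimLE_one_iff.mp h1 _ hp' with h | h
  · exact absurd hx (notMem_nonZeroDivisors_of_mem_mem_minimalPrimes
      (Ideal.mem_map_of_mem _ hxp) h)
  · have : ((p.map (Ideal.Quotient.mk Q)).comap (Ideal.Quotient.mk Q)).IsMaximal :=
      Ideal.comap_isMaximal_of_surjective _ Ideal.Quotient.mk_surjective
    rw [hcm] at this
    exact IsLocalRing.eq_maximalIdeal this

end ring

section module

variable {R : Type u} [CommRing R] [IsLocalRing R]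

lemma exists_hom_residueField (I : Type*) [AddCommGroup I] [Module R I] [Module.Finite R I]
    [Nontrivial I] : ∃ (φ : I →ₗ[R] IsLocalRing.ResidueField R) (i : I), φ i = 1 := by
  let k := IsLocalRing.ResidueField R
  have hV : Nontrivial (k ⊗[R] I) := by
    rw [← not_subsingleton_iff_nontrivial, IsLocalRing.subsingleton_tensorProduct]
    exact not_subsingleton I
  obtain ⟨i₀, hi₀⟩ : ∃ i : I, (1 : k) ⊗ₜ[R] i ≠ 0 := by
    by_contra h
    push Not at h
    have h0 : ∀ v : k ⊗[R] I, v = 0 := by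
      intro v
      induction v using TensorProduct.induction_on with
      | zero => rfl
      | tmul a i =>
        have : a ⊗ₜ[R] i = a • ((1 : k) ⊗ₜ[R] i) := by
          rw [TensorProduct.smul_tmul', smul_eq_mul, mul_one]
        rw [this, h, smul_zero]
      | add x y hx hy => rw [hx, hy, add_zero]
    exact absurd (subsingleton_of_forall_eq 0 h0) (not_subsingleton _)
  obtain ⟨ψ, hψ⟩ := LinearMap.exists_leftInverse_of_injective
    (LinearMap.toSpanSingleton k (k ⊗[R] I) ((1 : k) ⊗ₜ[R] i₀))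
    (LinearMap.ker_toSpanSingleton k hi₀)
  refine ⟨(ψ.restrictScalars R) ∘ₗ (TensorProduct.mk R k I 1), i₀, ?_⟩
  have := congr($hψ 1)
  simpa using this

/-- A nonzero map from a nonzero finite module to a module with a nonzero socle element. -/
lemma exists_hom_ne_zero (I : Type*) [AddCommGroup I] [Module R I] [Module.Finite R I]
    [Nontrivial I] (J' : Type*) [AddCommGroup J'] [Module R J'] (z : J') (hz : z ≠ 0)
    (hmz : ∀ r ∈ IsLocalRing.maximalIdeal R, r • z = 0) :
    ∃ g : I →ₗ[R] J', g ≠ 0 := by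
  obtain ⟨φ, i₀, hφ⟩ := exists_hom_residueField (R := R) I
  let ψ : (R ⧸ IsLocalRing.maximalIdeal R) →ₗ[R] J' :=
    Submodule.liftQ _ (LinearMap.toSpanSingleton R J' z) (by
      intro r hr
      rw [LinearMap.mem_ker, LinearMap.toSpanSingleton_apply]
      exact hmz r hr)
  let φ' : I →ₗ[R] (R ⧸ IsLocalRing.maximalIdeal R) := φ
  refine ⟨ψ ∘ₗ φ', fun h => hz ?_⟩
  have h1 : (ψ ∘ₗ φ') i₀ = 0 := by rw [h]; rfl
  have h2 : φ' i₀ = Ideal.Quotient.mk _ 1 := hφ
  rw [LinearMap.comp_apply, h2] at h1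
  have h3 : ψ (Ideal.Quotient.mk _ 1) = (1 : R) • z := rfl
  rwa [h3, one_smul] at h1

end module

section main

variable (R : Type u) [CommRing R] [IsNoetherianRing R] [IsLocalRing R]

theorem nontrivial_ext_one
    (P Q : Ideal R) (hPQ : ∃ n : ℕ, IsLocalRing.maximalIdeal R ^ n ≤ P ⊔ Q)
    [IsReduced (R ⧸ Q)] (hQdim : ringKrullDim (R ⧸ Q) = 1)
    (I J : Type u) [AddCommGroup I] [Module R I] [Module.Finite R I] [Nontrivial I]
    [AddCommGroup J] [Module R J] [Module.Finite R J] [Nontrivial J]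
    (hPI : ∀ p ∈ P, ∀ x : I, p • x = 0) (hQJ : ∀ q ∈ Q, ∀ y : J, q • y = 0)
    (hJtf : ∀ r : R, Ideal.Quotient.mk Q r ∈ nonZeroDivisors (R ⧸ Q) →
      ∀ y : J, r • y = 0 → y = 0) :
    Nontrivial (Abelian.Ext (ModuleCat.of R I) (ModuleCat.of R J) 1) := by
  obtain ⟨n, hn⟩ := hPQ
  obtain ⟨x, hxP, hxnzd⟩ := exists_mem_nonZeroDivisors P Q hQdim n hn
  have hxm : x ∈ IsLocalRing.maximalIdeal R := by
    have hP : P ≠ ⊤ := by
      intro h
      obtain ⟨a, ha⟩ := exists_ne (0 : I)
      exact ha (by simpa using hPI 1 (h ▸ Submodule.mem_top) a)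
    exact IsLocalRing.le_maximalIdeal hP hxP
  let μ : J →ₗ[R] J := LinearMap.lsmul R J x
  have hμinj : Function.Injective μ := by
    rw [injective_iff_map_eq_zero]
    intro y hy
    exact hJtf x hxnzd y hy
  let N : Submodule R J := LinearMap.range μ
  have hN : N ≠ ⊤ := by
    intro h
    have hle : (⊤ : Submodule R J) ≤ IsLocalRing.maximalIdeal R • (⊤ : Submodule R J) := by
      intro w _
      have hw : w ∈ N := h ▸ Submodule.mem_top
      obtain ⟨y, rfl⟩ := hw
      exact Submodule.smul_mem_smul hxm Submodule.mem_top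
    have := Submodule.eq_bot_of_le_smul_of_le_jacobson_bot _ _ (Module.Finite.fg_top) hle
      (by rw [IsLocalRing.jacobson_eq_maximalIdeal _ bot_ne_top])
    exact top_ne_bot this
  have : Nontrivial (J ⧸ N) := Submodule.Quotient.nontrivial_iff.mpr hN
  obtain ⟨p, hp⟩ := associatedPrimes.nonempty R (J ⧸ N)
  obtain ⟨hpprime, z, hz⟩ := (isAssociatedPrime_iff).mp hp
  have hmem : ∀ r, r ∈ p ↔ r • z = 0 := by
    intro r
    rw [hz, Submodule.mem_colon_singleton, Submodule.mem_bot]
  obtain ⟨y, rfl⟩ := Submodule.mkQ_surjective N z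
  have hQp : Q ≤ p := by
    intro q hq
    rw [hmem, ← map_smul, hQJ q hq y, map_zero]
  have hxp : x ∈ p := by
    rw [hmem, ← map_smul, Submodule.mkQ_apply, Submodule.Quotient.mk_eq_zero]
    exact ⟨y, rfl⟩
  have hpm := eq_maximalIdeal_of_mem Q hQdim x hxnzd p hQp hxp
  have hz0 : N.mkQ y ≠ 0 := by
    intro h0
    apply hpprime.ne_top
    rw [Ideal.eq_top_iff_one, hmem, h0, smul_zero]
  obtain ⟨g, hg⟩ := exists_hom_ne_zero I (J ⧸ N) (N.mkQ y) hz0
    (fun r hr => (hmem r).mp (hpm ▸ hr))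
  let S : ShortComplex (ModuleCat.{u} R) :=
    ShortComplex.mk (ModuleCat.ofHom μ) (ModuleCat.ofHom N.mkQ) (by
      ext y
      exact (Submodule.Quotient.mk_eq_zero N).mpr ⟨y, rfl⟩)
  have hS : S.ShortExact := by
    refine ModuleCat.shortComplex_shortExact S ?_ hμinj (Submodule.mkQ_surjective N)
    intro w
    change N.mkQ w = 0 ↔ w ∈ Set.range μ
    rw [Submodule.mkQ_apply, Submodule.Quotient.mk_eq_zero]
    rfl
  by_contra hnt
  rw [not_nontrivial_iff_subsingleton] at hnt
  obtain ⟨x₂, hx₂⟩ := Abelian.Ext.covariant_sequence_exact₃ (ModuleCat.of R I) hS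
    (Abelian.Ext.mk₀ (ModuleCat.ofHom g)) (rfl : 0 + 1 = 1) (@Subsingleton.elim _ hnt _ _)
  obtain ⟨f, rfl⟩ := (Abelian.Ext.mk₀_bijective _ _).2 x₂
  rw [Abelian.Ext.mk₀_comp_mk₀] at hx₂
  have hfg : f ≫ S.g = ModuleCat.ofHom g := (Abelian.Ext.mk₀_bijective _ _).1 hx₂
  have hf0 : f = 0 := by
    ext i
    apply hJtf x hxnzd
    change x • f.hom i = 0
    rw [← map_smul, hPI x hxP i, map_zero]
  rw [hf0, zero_comp] at hfg
  apply hg
  have := congrArg ModuleCat.Hom.hom hfg
  exact this.symm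

end main

end Groth.Agent.Lib.helper6.ExtNZ
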