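import Groth.Prelude.Def_LambdaRing
import Mathlib.RingTheory.PowerSeries.Trunc
import Mathlib.RingTheory.Nilpotent.Basic
import Mathlib.RingTheory.Polynomial.Basic

/-!
# Basic facts on λ-rings with positive structure (helper6 library)
-/

set_option autoImplicit false
universe u

open PowerSeries Finset

namespace Groth.Agent.Lib.helper6.LambdaBasic

open LambdaRing

variable {K : Type u} [CommRing K] [LambdaOps K]

theorem coeff_lamSeries (x : K) (i : ℕ) :
    PowerSeries.coeff i (lamSeries x) = LambdaOps.lam i x := by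
  simp [lamSeries]

theorem lamSeries_add (x y : K) : lamSeries (x + y) = lamSeries x * lamSeries y := by
  ext k
  rw [coeff_lamSeries, PowerSeries.coeff_mul, LambdaOps.lam_add,
    Finset.Nat.sum_antidiagonal_eq_sum_range_succ_mk]
  simp [coeff_lamSeries]

theorem constantCoeff_lamSeries (x : K) : PowerSeries.constantCoeff (lamSeries x) = 1 := by
  rw [← PowerSeries.coeff_zero_eq_constantCoeff_apply, coeff_lamSeries, LambdaOps.lam_zero]

theorem isUnit_lamSeries (x : K) : IsUnit (lamSeries x) := by
  rw [PowerSeries.isUnit_iff_constantCoeff, constantCoeff_lamSeries]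
  exact isUnit_one

theorem lamSeries_zero : lamSeries (0 : K) = 1 := by
  have h : lamSeries (0 : K) = lamSeries 0 * lamSeries 0 := by
    conv_lhs => rw [← add_zero (0 : K)]
    exact lamSeries_add 0 0
  obtain ⟨s, hs⟩ := isUnit_lamSeries (0 : K)
  have h2 : lamSeries (0 : K) * 1 = lamSeries 0 * lamSeries 0 := by rw [mul_one]; exact h
  rw [← hs] at h2 ⊢
  exact (Units.mul_right_inj s).mp h2 |>.symm

variable (P : PosStructure K)

theorem aug_natCast (n : ℕ) : P.aug (n : K) = n := by
  simp

theorem one_mem_pos : (1 : K) ∈ P.pos := by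
  have := P.natCast_mem 1 Nat.one_pos
  simpa using this

theorem lamSeries_of_isLine {v : K} (hv : P.IsLine v) :
    lamSeries v = 1 + PowerSeries.C v * PowerSeries.X := by
  ext k
  rw [coeff_lamSeries]
  rcases k with _ | _ | k
  · simp [LambdaOps.lam_zero]
  · simp [LambdaOps.lam_one]
  · rw [P.lam_eq_zero v hv.1 (k + 2) (by rw [hv.2]; push_cast; omega)]
    rw [map_add, PowerSeries.coeff_one, PowerSeries.coeff_C_mul, PowerSeries.coeff_X]
    simp

theorem isLine_one : P.IsLine (1 : K) := ⟨one_mem_pos P, by simp⟩

include P in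
theorem lamSeries_one : lamSeries (1 : K) = 1 + PowerSeries.X := by
  rw [lamSeries_of_isLine P (isLine_one P)]
  simp

include P in
theorem lamSeries_natCast (m : ℕ) : lamSeries ((m : ℕ) : K) = (1 + PowerSeries.X) ^ m := by
  induction m with
  | zero => simp [lamSeries_zero]
  | succ m ih =>
    rw [Nat.cast_succ, lamSeries_add, ih, lamSeries_one P, pow_succ]

theorem isUnit_of_isLine {v : K} (hv : P.IsLine v) : IsUnit v := by
  have := P.isUnit_lam v hv.1
  rw [hv.2] at this
  simpa [LambdaOps.lam_one] using this

theorem isLine_mul {v w : K} (hv : P.IsLine v) (hw : P.IsLine w) : P.IsLine (v * w) :=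
  ⟨P.mul_mem v w hv.1 hw.1, by rw [map_mul, hv.2, hw.2]; rfl⟩

theorem isLine_pow {v : K} (hv : P.IsLine v) (n : ℕ) : P.IsLine (v ^ n) := by
  induction n with
  | zero => simpa using isLine_one P
  | succ n ih => rw [pow_succ]; exact isLine_mul P ih hv

/-- Key lemma: if `e` is positive, `v` a line element and `e + v = m` (a natural number), then
`(v - 1) ^ m = 0`. -/
theorem sub_one_pow_eq_zero {e v : K} (he : e ∈ P.pos) (hv : P.IsLine v) (m : ℕ)
    (h : e + v = (m : K)) : (v - 1) ^ m = 0 := by
  -- augmentation of e
  have haug : P.aug e = (m : ℤ) - 1 := by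
    have := congrArg P.aug h
    rw [map_add, hv.2, aug_natCast] at this
    omega
  -- the polynomial E
  let E : Polynomial K := PowerSeries.trunc m (lamSeries e)
  have hE : (E : PowerSeries K) = lamSeries e := by
    ext i
    rw [Polynomial.coeff_coe, PowerSeries.coeff_trunc]
    split_ifs with hi
    · rfl
    · rw [coeff_lamSeries, P.lam_eq_zero e he i (by rw [haug]; omega)]
  have hser : lamSeries e * lamSeries v = (1 + PowerSeries.X) ^ m := by
    rw [← lamSeries_add, h, lamSeries_natCast P]
  have hpoly : E * (1 + Polynomial.C v * Polynomial.X) = (1 + Polynomial.X) ^ m := by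
    apply Polynomial.coe_injective
    rw [Polynomial.coe_mul, hE, Polynomial.coe_add, Polynomial.coe_one, Polynomial.coe_mul,
      Polynomial.coe_C, Polynomial.coe_X, Polynomial.coe_pow, Polynomial.coe_add,
      Polynomial.coe_one, Polynomial.coe_X, ← lamSeries_of_isLine P hv, hser]
  obtain ⟨v', hv'⟩ := (isUnit_of_isLine P hv).exists_right_inv
  have heval := congrArg (Polynomial.eval (-v')) hpoly
  simp only [Polynomial.eval_mul, Polynomial.eval_add, Polynomial.eval_one, Polynomial.eval_C,
    Polynomial.eval_X, Polynomial.eval_pow] at heval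
  have h0 : (1 : K) + v * -v' = 0 := by rw [mul_neg, hv']; ring
  rw [h0, mul_zero] at heval
  have : v - 1 = v * (1 + -v') := by rw [mul_add, mul_neg, hv']; ring
  rw [this, mul_pow, ← heval, mul_zero]

end Groth.Agent.Lib.helper6.LambdaBasic
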