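import Groth.Prelude.Def_KRR
import Groth.Agent.Lib.helper6.LambdaBasic

/-!
# The elementary extension `K_e = K[T]/(p_e)` of a λ-ring: basic algebra (helper6)
-/

set_option autoImplicit false
universe v

open PowerSeries Finset LambdaRing

namespace Groth.Agent.Lib.helper6.KRRElem

open Groth.Agent.Lib.helper6.LambdaBasic

variable {K : Type v} [CommRing K] [LambdaOps K]

/-- The coefficients `(-1)^i λ^i(e)` of `λ_{-t}(e)`. -/
def cf (e : K) (i : ℕ) : K := (-1 : K) ^ i * LambdaOps.lam i e

theorem cf_zero (e : K) : cf e 0 = 1 := by simp [cf, LambdaOps.lam_zero]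

theorem coeff_rescale_lamSeries (e : K) (i : ℕ) :
    PowerSeries.coeff i (PowerSeries.rescale (-1 : K) (lamSeries e)) = cf e i := by
  rw [PowerSeries.coeff_rescale, coeff_lamSeries, cf]

theorem constantCoeff_rescale_lamSeries (e : K) :
    PowerSeries.constantCoeff (PowerSeries.rescale (-1 : K) (lamSeries e)) = ((1 : Kˣ) : K) := by
  rw [← PowerSeries.coeff_zero_eq_constantCoeff_apply, coeff_rescale_lamSeries, cf_zero]
  rfl

theorem rescale_mul_sigmaSeries (e : K) :
    PowerSeries.rescale (-1 : K) (lamSeries e) * KRR.sigmaSeries e = 1 :=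
  PowerSeries.mul_invOfUnit _ _ (constantCoeff_rescale_lamSeries e)

theorem sigma_rec_all (e : K) (n : ℕ) :
    ∑ i ∈ range (n + 1), cf e i * KRR.sigma (n - i) e = if n = 0 then 1 else 0 := by
  have h := congrArg (PowerSeries.coeff n) (rescale_mul_sigmaSeries e)
  rw [PowerSeries.coeff_mul, Finset.Nat.sum_antidiagonal_eq_sum_range_succ_mk,
    PowerSeries.coeff_one] at h
  simp only [coeff_rescale_lamSeries] at h
  exact h

theorem sigma_zero (e : K) : KRR.sigma 0 e = 1 := by
  have := sigma_rec_all e 0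
  simpa [cf_zero] using this

theorem sigma_rec (e : K) (n : ℕ) (hn : 1 ≤ n) :
    ∑ i ∈ range (n + 1), cf e i * KRR.sigma (n - i) e = 0 := by
  rw [sigma_rec_all, if_neg (by omega)]

variable (P : PosStructure K)

theorem cf_eq_zero {e : K} (he : e ∈ P.pos) (i : ℕ) (hi : (P.aug e).toNat < i) : cf e i = 0 := by
  rw [cf, P.lam_eq_zero e he i (by omega), mul_zero]

theorem sigma_rec' {e : K} (he : e ∈ P.pos) (n : ℕ) (hn : 1 ≤ n) (hmn : (P.aug e).toNat ≤ n) :
    ∑ i ∈ range ((P.aug e).toNat + 1), cf e i * KRR.sigma (n - i) e = 0 := by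
  rw [← sigma_rec e n hn]
  apply Finset.sum_subset
  · intro i hi
    simp only [Finset.mem_range] at hi ⊢
    omega
  · intro i _ hi
    simp only [Finset.mem_range, not_lt] at hi
    rw [cf_eq_zero P he i (by omega), zero_mul]

theorem extPoly_eq (e : K) :
    KRR.extPoly P e = ∑ i ∈ range ((P.aug e).toNat + 1),
      Polynomial.C (cf e i) * Polynomial.X ^ ((P.aug e).toNat - i) := rfl

theorem root_rel (e : K) :
    ∑ i ∈ range ((P.aug e).toNat + 1),
      AdjoinRoot.of (KRR.extPoly P e) (cf e i) *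
        AdjoinRoot.root (KRR.extPoly P e) ^ ((P.aug e).toNat - i) = 0 := by
  have h := AdjoinRoot.eval₂_root (KRR.extPoly P e)
  have h2 : ∀ q : Polynomial K, q = ∑ i ∈ range ((P.aug e).toNat + 1),
      Polynomial.C (cf e i) * Polynomial.X ^ ((P.aug e).toNat - i) →
      Polynomial.eval₂ (AdjoinRoot.of (KRR.extPoly P e)) (AdjoinRoot.root (KRR.extPoly P e)) q =
      ∑ i ∈ range ((P.aug e).toNat + 1),
      AdjoinRoot.of (KRR.extPoly P e) (cf e i) *
        AdjoinRoot.root (KRR.extPoly P e) ^ ((P.aug e).toNat - i) := by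
    intro q hq
    rw [hq, Polynomial.eval₂_finsetSum]
    simp
  rw [← h2 _ (extPoly_eq P e), h]

theorem of_mul_eq_smul (e : K) (a : K) (x : AdjoinRoot (KRR.extPoly P e)) :
    AdjoinRoot.of (KRR.extPoly P e) a * x = a • x := by
  rw [Algebra.smul_def, AdjoinRoot.algebraMap_eq]

/-- The functional takes the values `σ^i(e)` on all powers of the root. -/
theorem functional_pow {e : K} (he : e ∈ P.pos) (r : ℕ) (hr : P.aug e = r + 1)
    (f : AdjoinRoot (KRR.extPoly P e) →ₗ[K] K)
    (hf : ∀ i : ℕ, i ≤ r → f (AdjoinRoot.root (KRR.extPoly P e) ^ i) = KRR.sigma i e) :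
    ∀ i : ℕ, f (AdjoinRoot.root (KRR.extPoly P e) ^ i) = KRR.sigma i e := by
  have hm : (P.aug e).toNat = r + 1 := by rw [hr]; rfl
  intro n
  induction n using Nat.strong_induction_on with
  | _ n ih =>
    by_cases hn : n ≤ r
    · exact hf n hn
    · push Not at hn
      have hrel := root_rel P e
      rw [hm] at hrel
      have h1 := congrArg (fun x => x * AdjoinRoot.root (KRR.extPoly P e) ^ (n - (r + 1))) hrel
      simp only [zero_mul, Finset.sum_mul] at h1
      have h2 : ∀ i ∈ range (r + 1 + 1), AdjoinRoot.of (KRR.extPoly P e) (cf e i) *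
          AdjoinRoot.root (KRR.extPoly P e) ^ (r + 1 - i) *
            AdjoinRoot.root (KRR.extPoly P e) ^ (n - (r + 1)) =
          cf e i • AdjoinRoot.root (KRR.extPoly P e) ^ (n - i) := by
        intro i hi
        simp only [Finset.mem_range] at hi
        rw [mul_assoc, ← pow_add, of_mul_eq_smul]
        congr 2
        omega
      rw [Finset.sum_congr rfl h2] at h1
      have h3 := congrArg f h1
      rw [map_sum, map_zero] at h3
      simp only [map_smul, smul_eq_mul] at h3
      rw [Finset.sum_range_succ'] at h3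
      have h4 : ∑ i ∈ range (r + 1), cf e (i + 1) * f (AdjoinRoot.root (KRR.extPoly P e) ^ (n - (i + 1))) =
          ∑ i ∈ range (r + 1), cf e (i + 1) * KRR.sigma (n - (i + 1)) e := by
        apply Finset.sum_congr rfl
        intro i hi
        simp only [Finset.mem_range] at hi
        rw [ih (n - (i + 1)) (by omega)]
      rw [h4, cf_zero, one_mul, Nat.sub_zero] at h3
      have h5 := sigma_rec' P he n (by omega) (by omega)
      rw [hm, Finset.sum_range_succ', cf_zero, one_mul, Nat.sub_zero] at h5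
      have := h3.trans h5.symm
      exact add_left_cancel this

theorem pow_mul_pow_inv {A : Type*} [CommRing A] (x y : A) (h : y * x = 1) (a b : ℕ) :
    x ^ a * y ^ b = if b ≤ a then x ^ (a - b) else y ^ (b - a) := by
  split_ifs with hab
  · obtain ⟨c, rfl⟩ := Nat.exists_eq_add_of_le hab
    rw [Nat.add_sub_cancel_left, pow_add, mul_comm (x ^ b), mul_assoc, ← mul_pow, mul_comm x y, h,
      one_pow, mul_one]
  · push Not at hab
    obtain ⟨c, rfl⟩ := Nat.exists_eq_add_of_le hab.le
    rw [Nat.add_sub_cancel_left, pow_add, ← mul_assoc, ← mul_pow, mul_comm x y, h, one_pow, one_mul]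

theorem isUnit_cf_top {e : K} (he : e ∈ P.pos) : IsUnit (cf e (P.aug e).toNat) := by
  rw [cf]
  exact ((isUnit_one.neg).pow _).mul (P.isUnit_lam e he)

theorem functional_inv_pow {e : K} (he : e ∈ P.pos) (r : ℕ) (hr : P.aug e = r + 1)
    (f : AdjoinRoot (KRR.extPoly P e) →ₗ[K] K)
    (hf : ∀ i : ℕ, f (AdjoinRoot.root (KRR.extPoly P e) ^ i) = KRR.sigma i e)
    (linv : AdjoinRoot (KRR.extPoly P e)) (hlinv : linv * AdjoinRoot.root (KRR.extPoly P e) = 1) :
    ∀ n : ℕ, 1 ≤ n → n ≤ r → f (linv ^ n) = 0 := by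
  have hm : (P.aug e).toNat = r + 1 := by rw [hr]; rfl
  intro n
  induction n using Nat.strong_induction_on with
  | _ n ih =>
    intro hn1 hnr
    obtain ⟨j, hj⟩ : ∃ j, j + n = r + 1 := ⟨r + 1 - n, by omega⟩
    have hj1 : 1 ≤ j := by omega
    have hrel := root_rel P e
    rw [hm] at hrel
    have h1 := congrArg (fun x => x * linv ^ n) hrel
    simp only [zero_mul, Finset.sum_mul] at h1
    have hsplit : r + 1 + 1 = (j + 1) + n := by omega
    rw [hsplit, Finset.sum_range_add] at h1
    have h2 : ∀ i ∈ range (j + 1), AdjoinRoot.of (KRR.extPoly P e) (cf e i) *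
        AdjoinRoot.root (KRR.extPoly P e) ^ (r + 1 - i) * linv ^ n =
        cf e i • AdjoinRoot.root (KRR.extPoly P e) ^ (j - i) := by
      intro i hi
      simp only [Finset.mem_range] at hi
      rw [mul_assoc, pow_mul_pow_inv _ _ hlinv, if_pos (by omega), of_mul_eq_smul]
      congr 2
      omega
    have h3 : ∀ k ∈ range n, AdjoinRoot.of (KRR.extPoly P e) (cf e (j + 1 + k)) *
        AdjoinRoot.root (KRR.extPoly P e) ^ (r + 1 - (j + 1 + k)) * linv ^ n =
        cf e (j + 1 + k) • linv ^ (k + 1) := by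
      intro k hk
      simp only [Finset.mem_range] at hk
      rw [mul_assoc, pow_mul_pow_inv _ _ hlinv, if_neg (by omega), of_mul_eq_smul]
      congr 2
      omega
    rw [Finset.sum_congr rfl h2, Finset.sum_congr rfl h3] at h1
    have h4 := congrArg f h1
    rw [map_add, map_sum, map_sum, map_zero] at h4
    simp only [map_smul, smul_eq_mul, hf] at h4
    rw [sigma_rec e j hj1, zero_add] at h4
    -- only the last term survives
    obtain ⟨n', rfl⟩ : ∃ n', n = n' + 1 := ⟨n - 1, by omega⟩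
    rw [Finset.sum_range_succ] at h4
    have h5 : ∑ k ∈ range n', cf e (j + 1 + k) * f (linv ^ (k + 1)) = 0 := by
      apply Finset.sum_eq_zero
      intro k hk
      simp only [Finset.mem_range] at hk
      rw [ih (k + 1) (by omega) (by omega) (by omega), mul_zero]
    rw [h5, zero_add] at h4
    have hu : IsUnit (cf e (j + 1 + n')) := by
      have := isUnit_cf_top P he
      rw [hm] at this
      have e1 : j + 1 + n' = r + 1 := by omega
      rw [e1]; exact this
    exact (hu.mul_right_eq_zero).mp h4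

/-- In any λ-ring: if `λ^i(y) = 0` for `i ≥ 2` then `λ^{i+1}(x + y) = λ^{i+1}(x) + y λ^i(x)`. -/
theorem lam_succ_add_line {A : Type v} [CommRing A] [LambdaOps A] (x y : A)
    (hy : ∀ i : ℕ, 2 ≤ i → LambdaOps.lam i y = 0) (i : ℕ) :
    LambdaOps.lam (i + 1) (x + y) = LambdaOps.lam (i + 1) x + y * LambdaOps.lam i x := by
  rw [LambdaOps.lam_add, Finset.sum_range_succ, Finset.sum_range_succ]
  have h0 : ∑ a ∈ range i, LambdaOps.lam a x * LambdaOps.lam (i + 1 - a) y = 0 := by
    apply Finset.sum_eq_zero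
    intro a ha
    simp only [Finset.mem_range] at ha
    rw [hy (i + 1 - a) (by omega), mul_zero]
  rw [h0, zero_add, Nat.sub_self, LambdaOps.lam_zero, mul_one,
    show i + 1 - i = 1 by omega, LambdaOps.lam_one]
  ring

/-- Explicit formula for `λ^i(x)` when `x + y = z` and `λ^i(y) = 0` for `i ≥ 2`. -/
theorem lam_sub_line {A : Type v} [CommRing A] [LambdaOps A] (x y : A)
    (hy : ∀ i : ℕ, 2 ≤ i → LambdaOps.lam i y = 0) (i : ℕ) :
    LambdaOps.lam i x = ∑ k ∈ range (i + 1), (-y) ^ k * LambdaOps.lam (i - k) (x + y) := by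
  induction i with
  | zero => simp [LambdaOps.lam_zero]
  | succ i ih =>
    have h1 := lam_succ_add_line x y hy i
    rw [Finset.sum_range_succ', pow_zero, one_mul, Nat.sub_zero, h1]
    have h2 : ∑ k ∈ range (i + 1), (-y) ^ (k + 1) * LambdaOps.lam (i + 1 - (k + 1)) (x + y) =
        -y * ∑ k ∈ range (i + 1), (-y) ^ k * LambdaOps.lam (i - k) (x + y) := by
      rw [Finset.mul_sum]
      apply Finset.sum_congr rfl
      intro k _
      rw [pow_succ, Nat.add_sub_add_right]
      ring
    rw [h2, ← ih]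
    ring

theorem sigma_lam_sum (e : K) (i : ℕ) :
    ∑ k ∈ range (i + 1), (-1 : K) ^ k * LambdaOps.lam (i - k) e * KRR.sigma k e =
      if i = 0 then 1 else 0 := by
  have h := sigma_rec_all e i
  rw [← Finset.sum_range_reflect] at h
  have h2 : ∀ k ∈ range (i + 1), cf e (i + 1 - 1 - k) * KRR.sigma (i - (i + 1 - 1 - k)) e =
      (-1 : K) ^ i * ((-1 : K) ^ k * LambdaOps.lam (i - k) e * KRR.sigma k e) := by
    intro k hk
    simp only [Finset.mem_range] at hk
    have e1 : i + 1 - 1 - k = i - k := by omega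
    have e2 : i - (i - k) = k := by omega
    rw [e1, e2, cf]
    have e3 : (-1 : K) ^ (i - k) = (-1 : K) ^ i * (-1 : K) ^ k := by
      have : (-1 : K) ^ i = (-1 : K) ^ (i - k) * (-1 : K) ^ k := by
        rw [← pow_add]; congr 1; omega
      rw [this, mul_assoc, ← pow_add, ← two_mul, pow_mul]
      simp
    rw [e3]
    ring
  rw [Finset.sum_congr rfl h2, ← Finset.mul_sum] at h
  have h3 := congrArg (fun z => (-1 : K) ^ i * z) h
  simp only [← mul_assoc, ← pow_add, ← two_mul, pow_mul] at h3
  simp only [neg_one_sq, one_pow, one_mul] at h3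
  rw [h3]
  split_ifs with hi
  · subst hi; simp
  · simp

theorem functional_lam_sub_root {e : K}
    (inst : LambdaOps (AdjoinRoot (KRR.extPoly P e)))
    (hext : ∀ (i : ℕ) (x : K), @LambdaOps.lam _ _ inst i (AdjoinRoot.of (KRR.extPoly P e) x) =
      AdjoinRoot.of (KRR.extPoly P e) (LambdaOps.lam i x))
    (hroot : ∀ i : ℕ, 2 ≤ i → @LambdaOps.lam _ _ inst i (AdjoinRoot.root (KRR.extPoly P e)) = 0)
    (f : AdjoinRoot (KRR.extPoly P e) →ₗ[K] K)
    (hf : ∀ i : ℕ, f (AdjoinRoot.root (KRR.extPoly P e) ^ i) = KRR.sigma i e) (i : ℕ) :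
    f (@LambdaOps.lam _ _ inst i
      (AdjoinRoot.of (KRR.extPoly P e) e - AdjoinRoot.root (KRR.extPoly P e))) =
      if i = 0 then 1 else 0 := by
  let _ := inst
  have h1 := lam_sub_line (AdjoinRoot.of (KRR.extPoly P e) e - AdjoinRoot.root (KRR.extPoly P e))
    (AdjoinRoot.root (KRR.extPoly P e)) hroot i
  rw [sub_add_cancel] at h1
  rw [h1, map_sum, ← sigma_lam_sum e i]
  apply Finset.sum_congr rfl
  intro k _
  rw [hext, neg_pow]
  have h2 : (-1 : AdjoinRoot (KRR.extPoly P e)) ^ k * AdjoinRoot.root (KRR.extPoly P e) ^ k *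
      AdjoinRoot.of (KRR.extPoly P e) (LambdaOps.lam (i - k) e) =
      ((-1 : K) ^ k * LambdaOps.lam (i - k) e) • AdjoinRoot.root (KRR.extPoly P e) ^ k := by
    rw [← of_mul_eq_smul, map_mul, map_pow, map_neg, map_one]
    ring
  rw [h2, map_smul, hf, smul_eq_mul]

/-- Horner partial polynomials: `hornerP c m = Σ_{i ≤ m} c_i X^{m-i}`. -/
noncomputable def hornerP {R : Type v} [CommRing R] (c : ℕ → R) : ℕ → Polynomial R
  | 0 => Polynomial.C (c 0)
  | m + 1 => Polynomial.X * hornerP c m + Polynomial.C (c (m + 1))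

theorem hornerP_eq_sum {R : Type v} [CommRing R] (c : ℕ → R) (m : ℕ) :
    hornerP c m = ∑ i ∈ range (m + 1), Polynomial.C (c i) * Polynomial.X ^ (m - i) := by
  induction m with
  | zero => simp [hornerP]
  | succ m ih =>
    rw [hornerP, ih, Finset.sum_range_succ _ (m + 1), Nat.sub_self, pow_zero, mul_one, Finset.mul_sum]
    congr 1
    apply Finset.sum_congr rfl
    intro i hi
    simp only [Finset.mem_range] at hi
    rw [show m + 1 - i = (m - i) + 1 by omega, pow_succ]
    ring

theorem extPoly_eq_hornerP (e : K) : KRR.extPoly P e = hornerP (cf e) (P.aug e).toNat := by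
  rw [hornerP_eq_sum, extPoly_eq]

theorem sub_one_mul_sum_hornerP {R : Type v} [CommRing R] (c : ℕ → R) (m : ℕ) :
    (Polynomial.X - 1) * ∑ i ∈ range m, hornerP c i =
      hornerP c m - Polynomial.C (∑ j ∈ range (m + 1), c j) := by
  induction m with
  | zero => simp [hornerP]
  | succ m ih =>
    rw [Finset.sum_range_succ, mul_add, ih, hornerP, Finset.sum_range_succ _ (m + 1), map_add]
    ring

theorem monic_hornerP {R : Type v} [CommRing R] [Nontrivial R] (c : ℕ → R) (h0 : c 0 = 1) (m : ℕ) :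
    (hornerP c m).Monic ∧ (hornerP c m).natDegree = m := by
  induction m with
  | zero => simp [hornerP, h0]
  | succ m ih =>
    rw [hornerP]
    have h1 : (Polynomial.X * hornerP c m).Monic := Polynomial.monic_X.mul ih.1
    have h2 : (Polynomial.X * hornerP c m).natDegree = m + 1 := by
      rw [Polynomial.natDegree_X_mul ih.1.ne_zero, ih.2]
    have h3 : (Polynomial.C (c (m + 1))).degree < (Polynomial.X * hornerP c m).degree := by
      rw [Polynomial.degree_eq_natDegree h1.ne_zero, h2]
      exact lt_of_le_of_lt Polynomial.degree_C_le (by exact_mod_cast Nat.succ_pos m)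
    refine ⟨h1.add_of_left h3, ?_⟩
    rw [Polynomial.natDegree_add_eq_left_of_degree_lt h3, h2]

theorem ann_general {R : Type v} [CommRing R] [Nontrivial R] (p T : Polynomial R) (r : ℕ)
    (hmon : p.Monic) (hdeg : p.natDegree = r + 1) (d : R)
    (hTp : (Polynomial.X - 1) * T = p - Polynomial.C d)
    (z : AdjoinRoot p) (hz : z * (1 - AdjoinRoot.root p) = 0) :
    ∃ a : R, z = AdjoinRoot.of p a * AdjoinRoot.mk p T := by
  have hp1 : p ≠ 1 := by
    intro h
    rw [h, Polynomial.natDegree_one] at hdeg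
    omega
  obtain ⟨Z₀, rfl⟩ := AdjoinRoot.mk_surjective (g := p) z
  set Z := Z₀ %ₘ p with hZ
  have hZmk : AdjoinRoot.mk p Z₀ = AdjoinRoot.mk p Z := by
    rw [AdjoinRoot.mk_eq_mk, hZ, Polynomial.modByMonic_eq_sub_mul_div, sub_sub_cancel]
    exact dvd_mul_right _ _
  rw [hZmk] at hz ⊢
  have hZdeg : Z.natDegree < r + 1 := by
    rw [← hdeg]; exact Polynomial.natDegree_modByMonic_lt _ hmon hp1
  have hdvd : p ∣ Z * (1 - Polynomial.X) := by
    rw [← AdjoinRoot.mk_eq_zero, map_mul, map_sub, map_one, AdjoinRoot.mk_X]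
    exact hz
  obtain ⟨Q, hQ⟩ := hdvd
  -- Q is a constant
  have hQc : ∃ a' : R, Q = Polynomial.C a' := by
    by_cases hQ0 : Q = 0
    · exact ⟨0, by simp [hQ0]⟩
    · have h1 : (p * Q).natDegree = r + 1 + Q.natDegree := by
        rw [hmon.natDegree_mul' hQ0, hdeg]
      have h2 : (Z * (1 - Polynomial.X)).natDegree ≤ r + 1 := by
        refine le_trans Polynomial.natDegree_mul_le ?_
        have : (1 - Polynomial.X : Polynomial R).natDegree ≤ 1 := by
          refine le_trans (Polynomial.natDegree_sub_le _ _) ?_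
          simp
        omega
      rw [hQ, h1] at h2
      have h3 : Q.natDegree = 0 := by omega
      exact ⟨Q.coeff 0, Polynomial.eq_C_of_natDegree_eq_zero h3⟩
  obtain ⟨a', rfl⟩ := hQc
  -- evaluate at 1
  have hev := congrArg (Polynomial.eval 1) hQ
  simp only [Polynomial.eval_mul, Polynomial.eval_sub, Polynomial.eval_one, Polynomial.eval_X,
    sub_self, mul_zero, Polynomial.eval_C] at hev
  have hev2 := congrArg (Polynomial.eval 1) hTp
  simp only [Polynomial.eval_mul, Polynomial.eval_sub, Polynomial.eval_one, Polynomial.eval_X,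
    sub_self, zero_mul, Polynomial.eval_C] at hev2
  have hp1val : Polynomial.eval 1 p = d := (sub_eq_zero.mp hev2.symm)
  have ha0 : a' * d = 0 := by
    rw [← hp1val, mul_comm]; exact hev.symm
  have hkey : (Polynomial.X - 1) * Z = (Polynomial.X - 1) * (Polynomial.C (-a') * T) := by
    have e1 : (Polynomial.X - 1) * Z = -(Z * (1 - Polynomial.X)) := by ring
    rw [e1, hQ]
    have e2 : (Polynomial.X - 1) * (Polynomial.C (-a') * T) =
        Polynomial.C (-a') * ((Polynomial.X - 1) * T) := by ring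
    rw [e2, hTp, mul_sub, ← Polynomial.C_mul, neg_mul, ha0]
    simp
    ring
  have hmonX : (Polynomial.X - 1 : Polynomial R).Monic := by
    have := Polynomial.monic_X_sub_C (1 : R)
    simpa using this
  have hZT : Z = Polynomial.C (-a') * T := hmonX.isRegular.left hkey
  refine ⟨-a', ?_⟩
  rw [hZT, map_mul, AdjoinRoot.mk_C]

theorem mk_hornerP_eq {c : K}
    (inst : LambdaOps (AdjoinRoot (KRR.extPoly P c)))
    (hext : ∀ (i : ℕ) (x : K), @LambdaOps.lam _ _ inst i (AdjoinRoot.of (KRR.extPoly P c) x) =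
      AdjoinRoot.of (KRR.extPoly P c) (LambdaOps.lam i x))
    (hroot : ∀ i : ℕ, 2 ≤ i → @LambdaOps.lam _ _ inst i (AdjoinRoot.root (KRR.extPoly P c)) = 0)
    (i : ℕ) :
    AdjoinRoot.mk (KRR.extPoly P c) (hornerP (cf c) i) =
      (-1) ^ i * @LambdaOps.lam _ _ inst i
        (AdjoinRoot.of (KRR.extPoly P c) c - AdjoinRoot.root (KRR.extPoly P c)) := by
  let _ := inst
  induction i with
  | zero => simp [hornerP, cf_zero, LambdaOps.lam_zero]
  | succ i ih =>
    have h1 := lam_succ_add_line
      (AdjoinRoot.of (KRR.extPoly P c) c - AdjoinRoot.root (KRR.extPoly P c))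
      (AdjoinRoot.root (KRR.extPoly P c)) hroot i
    rw [sub_add_cancel, hext] at h1
    rw [hornerP, map_add, map_mul, AdjoinRoot.mk_X, ih, AdjoinRoot.mk_C, cf, map_mul, h1]
    simp only [map_pow, map_neg, map_one]
    ring

theorem eq_functional_mul_lamAlt {c : K} (hc : c ∈ P.pos) (r : ℕ) (hr : P.aug c = r + 1)
    (inst : LambdaOps (AdjoinRoot (KRR.extPoly P c))) (Pc : @PosStructure _ _ inst)
    (hext : @IsExtension K _ _ _ _ inst P Pc (AdjoinRoot.of (KRR.extPoly P c)))
    (hroot : ∀ i : ℕ, 2 ≤ i → @LambdaOps.lam _ _ inst i (AdjoinRoot.root (KRR.extPoly P c)) = 0)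
    (hline : @PosStructure.IsLine _ _ inst Pc (AdjoinRoot.root (KRR.extPoly P c)))
    (f : AdjoinRoot (KRR.extPoly P c) →ₗ[K] K)
    (hf : ∀ i : ℕ, i ≤ r → f (AdjoinRoot.root (KRR.extPoly P c) ^ i) = KRR.sigma i c)
    (z : AdjoinRoot (KRR.extPoly P c)) (hz : z * (1 - AdjoinRoot.root (KRR.extPoly P c)) = 0) :
    z = AdjoinRoot.of (KRR.extPoly P c) (f z) *
      @KRR.lamAlt _ _ inst Pc
        (AdjoinRoot.of (KRR.extPoly P c) c - AdjoinRoot.root (KRR.extPoly P c)) := by
  have hm : (P.aug c).toNat = r + 1 := by rw [hr]; rfl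
  have hnt : Nontrivial K := P.aug.domain_nontrivial
  have hf' := functional_pow P hc r hr f hf
  have hext' : ∀ (i : ℕ) (x : K), @LambdaOps.lam _ _ inst i (AdjoinRoot.of (KRR.extPoly P c) x) =
      AdjoinRoot.of (KRR.extPoly P c) (LambdaOps.lam i x) := fun i x => (hext.isLambdaHom i x).symm
  have hpe : KRR.extPoly P c = hornerP (cf c) (r + 1) := by rw [extPoly_eq_hornerP, hm]
  have hmon : (KRR.extPoly P c).Monic := by
    rw [hpe]; exact (monic_hornerP (cf c) (cf_zero c) (r + 1)).1
  have hdeg : (KRR.extPoly P c).natDegree = r + 1 := by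
    rw [hpe]; exact (monic_hornerP (cf c) (cf_zero c) (r + 1)).2
  have hTp : (Polynomial.X - 1) * ∑ i ∈ range (r + 1), hornerP (cf c) i =
      KRR.extPoly P c - Polynomial.C (∑ j ∈ range (r + 1 + 1), cf c j) := by
    rw [hpe]; exact sub_one_mul_sum_hornerP (cf c) (r + 1)
  obtain ⟨a, ha⟩ := ann_general (KRR.extPoly P c) _ r hmon hdeg _ hTp z hz
  -- identify the alternating sum
  have haug : (@PosStructure.aug _ _ inst Pc
      (AdjoinRoot.of (KRR.extPoly P c) c - AdjoinRoot.root (KRR.extPoly P c))).toNat = r := by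
    rw [map_sub, hext.aug_comp, hline.2, hr]
    simp
  have hΛ : @KRR.lamAlt _ _ inst Pc
      (AdjoinRoot.of (KRR.extPoly P c) c - AdjoinRoot.root (KRR.extPoly P c)) =
      AdjoinRoot.mk (KRR.extPoly P c) (∑ i ∈ range (r + 1), hornerP (cf c) i) := by
    rw [KRR.lamAlt, haug, map_sum]
    apply Finset.sum_congr rfl
    intro i _
    rw [mk_hornerP_eq P inst hext' hroot i]
  have hfΛ : f (@KRR.lamAlt _ _ inst Pc
      (AdjoinRoot.of (KRR.extPoly P c) c - AdjoinRoot.root (KRR.extPoly P c))) = 1 := by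
    rw [KRR.lamAlt, haug, map_sum]
    have : ∀ i ∈ range (r + 1), f ((-1) ^ i * @LambdaOps.lam _ _ inst i
        (AdjoinRoot.of (KRR.extPoly P c) c - AdjoinRoot.root (KRR.extPoly P c))) =
        if i = 0 then 1 else 0 := by
      intro i _
      have h1 : ((-1 : AdjoinRoot (KRR.extPoly P c)) ^ i) =
          AdjoinRoot.of (KRR.extPoly P c) ((-1 : K) ^ i) := by simp
      rw [h1, of_mul_eq_smul, map_smul, functional_lam_sub_root P inst hext' hroot f hf' i]
      split_ifs with hi
      · subst hi; simp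
      · simp
    rw [Finset.sum_congr rfl this]
    simp
  rw [← hΛ] at ha
  have hfz : f z = a := by
    rw [ha, of_mul_eq_smul, map_smul, hfΛ, smul_eq_mul, mul_one]
  rw [hfz]
  exact ha

end Groth.Agent.Lib.helper6.KRRElem
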