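import Mathlib
import Groth.Agent.Lib.helper6.Split
import Groth.Agent.Lib.helper6.LambdaBasic
import Groth.Agent.Lib.helper6.GammaFil

/-! Multiplication by a line element in a λ-ring with positive structure (helper6):
`λ^i(u z) = u^i λ^i(z)` for every `z`, and Bott's class of an element whose λ-operations are
elementary symmetric functions. -/

namespace Groth.Agent.Lib.helper6.LineMul

open LambdaRing Groth.Agent.H5.Adams Groth.Agent.Lib.helper6.Split
  Groth.Agent.Lib.helper6.GammaFil Groth.Agent.Lib.helper6.LambdaBasic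

universe u

theorem S_smul {R : Type*} [CommRing R] {m : ℕ} (i : ℕ) (c : R) (y : Fin m → R) :
    S i (fun k => c * y k) = c ^ i * S i y := by
  rw [S, S, Finset.mul_sum]
  refine Finset.sum_congr rfl fun s hs => ?_
  rw [Finset.prod_mul_distrib, Finset.prod_const, (Finset.mem_powersetCard.mp hs).2]

variable {K : Type u} [CommRing K] [LambdaOps K] (P : PosStructure K)

theorem lam_sum_fin_eq_S {m : ℕ} (v : Fin m → K) (hv : ∀ k, P.IsLine (v k)) (i : ℕ) :
    LambdaOps.lam i (∑ k, v k) = S i v := by
  rw [lam_sum_fin P v hv, S_eq_aeval]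

theorem lam_line_mul_pos (hK : HasSplitting K P) {u : K} (hu : P.IsLine u) {z : K}
    (hz : z ∈ P.pos) (i : ℕ) : LambdaOps.lam i (u * z) = u ^ i * LambdaOps.lam i z := by
  obtain ⟨L', -, f, hf, v, hv, hsum⟩ := exists_split_fin P hK z hz
  apply hf.injective
  have hfu : L'.posStr.IsLine (f u) := IsExtension.isLine hf hu
  rw [hf.isLambdaHom, map_mul, map_mul, map_pow, hf.isLambdaHom, ← hsum, Finset.mul_sum,
    lam_sum_fin_eq_S L'.posStr _ (fun k => Groth.Agent.H5.Adams.isLine_mul L'.posStr hfu (hv k)),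
    lam_sum_fin_eq_S L'.posStr v hv, S_smul]

theorem lamSeries_line_mul_pos (hK : HasSplitting K P) {u : K} (hu : P.IsLine u) {z : K}
    (hz : z ∈ P.pos) : lamSeries (u * z) = PowerSeries.rescale u (lamSeries z) := by
  ext i
  rw [coeff_lamSeries, PowerSeries.coeff_rescale, coeff_lamSeries, lam_line_mul_pos P hK hu hz]

theorem lamSeries_line_mul (hK : HasSplitting K P) {u : K} (hu : P.IsLine u) (z : K) :
    lamSeries (u * z) = PowerSeries.rescale u (lamSeries z) := by
  obtain ⟨a, b, ha, hb, rfl⟩ := P.exists_sub z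
  have h1 : lamSeries (u * a) = lamSeries (u * (a - b)) * lamSeries (u * b) := by
    rw [← lamSeries_add]; congr 1; ring
  have h2 : PowerSeries.rescale u (lamSeries a) =
      PowerSeries.rescale u (lamSeries (a - b)) * PowerSeries.rescale u (lamSeries b) := by
    rw [← map_mul, ← lamSeries_add]; congr 2; ring
  rw [lamSeries_line_mul_pos P hK hu ha, h2, lamSeries_line_mul_pos P hK hu hb] at h1
  obtain ⟨s, hs⟩ := isUnit_lamSeries (u * b)
  rw [lamSeries_line_mul_pos P hK hu hb] at hs
  rw [← hs] at h1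
  exact ((Units.mul_left_inj s).mp h1).symm

theorem lam_line_mul (hK : HasSplitting K P) {u : K} (hu : P.IsLine u) (z : K) (i : ℕ) :
    LambdaOps.lam i (u * z) = u ^ i * LambdaOps.lam i z := by
  have := congrArg (PowerSeries.coeff i) (lamSeries_line_mul P hK hu z)
  rwa [coeff_lamSeries, PowerSeries.coeff_rescale, coeff_lamSeries] at this

/-- If `linv * u = 1` with `u` a line element then `λ^i(linv z) = linv^i λ^i(z)`. -/
theorem lam_inv_line_mul (hK : HasSplitting K P) {u linv : K} (hu : P.IsLine u)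
    (hinv : linv * u = 1) (z : K) (i : ℕ) :
    LambdaOps.lam i (linv * z) = linv ^ i * LambdaOps.lam i z := by
  have h := lam_line_mul P hK hu (linv * z) i
  rw [← mul_assoc, mul_comm u linv, hinv, one_mul] at h
  rw [h, ← mul_assoc, ← mul_pow, hinv, one_pow, one_mul]

/-- Bott's class of an element whose λ-operations are the elementary symmetric functions of a
family `v`. -/
theorem bott_of_lam_eq {m : ℕ} (q : K) (hm : (P.aug q).toNat = m) (v : Fin m → K)
    (hq : ∀ i, LambdaOps.lam (i + 1) q = S (i + 1) v) (j : ℕ) :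
    KRR.bott P j q = ∏ k, ∑ a ∈ Finset.range j, (v k) ^ a := by
  rw [bott_eq P j q m hm]
  have h1 : (fun i : Fin m => LambdaOps.lam (i.1 + 1) q) =
      fun i : Fin m => MvPolynomial.aeval v (MvPolynomial.esymm (Fin m) ℤ (i.1 + 1)) := by
    funext i
    rw [hq, S_eq_aeval]
  rw [h1, ← MvPolynomial.aeval_bind₁]
  have h2 : MvPolynomial.bind₁ (fun i : Fin m => MvPolynomial.esymm (Fin m) ℤ (i.1 + 1))
      (KRR.bottPoly j m) = KRR.bottSym j m := aeval_esymm_bottPoly j m
  rw [h2, KRR.bottSym]
  simp

end Groth.Agent.Lib.helper6.LineMul
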