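import Mathlib
import Groth.Agent.Lib.helper6.LineMul
import Groth.Agent.Lib.helper6.KRRElem

/-! The polynomial `p_e` of an elementary extension under a splitting of `e` (helper6):
`p_e = Π (X - u_k)`, `p_{ψ^j e} = Π (X - u_k^j)` and the cofactor `Θ` with
`p_e(X) Θ(X) = p_{ψ^j e}(X^j)`. -/

namespace Groth.Agent.Lib.helper6.ExtPolySplit

open LambdaRing Polynomial Groth.Agent.H5.Adams Groth.Agent.Lib.helper6.Split
  Groth.Agent.Lib.helper6.KRRElem

universe u

variable {K : Type u} [CommRing K] [LambdaOps K] {P : PosStructure K}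
  {K' : Type u} [CommRing K'] [LambdaOps K'] {P' : PosStructure K'}

theorem extPoly_monic (x : K) : (KRR.extPoly P x).Monic := by
  have hnt : Nontrivial K := P.aug.domain_nontrivial
  rw [extPoly_eq_hornerP]
  exact (monic_hornerP (cf x) (cf_zero x) _).1

theorem extPoly_natDegree (x : K) : (KRR.extPoly P x).natDegree = (P.aug x).toNat := by
  have hnt : Nontrivial K := P.aug.domain_nontrivial
  rw [extPoly_eq_hornerP]
  exact (monic_hornerP (cf x) (cf_zero x) _).2

/-- Image of `p_x` under an extension in which `x` is a sum of line elements. -/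
theorem map_extPoly_of_split {f : K →+* K'} (hf : IsExtension P P' f) (x : K) {m : ℕ}
    (hm : (P.aug x).toNat = m) (v : Fin m → K') (hv : ∀ k, P'.IsLine (v k))
    (hsum : ∑ k, v k = f x) :
    (KRR.extPoly P x).map f = ∏ k, (X - C (v k)) := by
  have hs : ∀ w ∈ (Finset.univ.val.map v), P'.IsLine w := by
    intro w hw
    obtain ⟨i, -, rfl⟩ := Multiset.mem_map.mp hw
    exact hv i
  have hcard : Multiset.card (Finset.univ.val.map v) = m := by simp
  have h := Multiset.prod_X_sub_X_eq_sum_esymm (Finset.univ.val.map v)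
  rw [hcard, Multiset.map_map] at h
  rw [Finset.prod, show (fun k => X - C (v k)) = (fun t => X - C t) ∘ v from rfl, h,
    KRR.extPoly, hm, Polynomial.map_sum]
  refine Finset.sum_congr rfl fun i _ => ?_
  rw [Polynomial.map_mul, Polynomial.map_pow, Polynomial.map_X, Polynomial.map_C, map_mul,
    map_pow, map_neg, map_one, hf.isLambdaHom, ← hsum, ← lam_sum_lines P' _ hs i]
  have : (Finset.univ.val.map v).sum = ∑ k, v k := rfl
  rw [this, C_mul, C_pow, C_neg, C_1]
  ring

theorem aug_adams (hK : HasSplitting K P) (j : ℕ) (hj : 1 ≤ j) (e : K) (he : e ∈ P.pos) :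
    P.aug (adams P j e) = P.aug e := by
  obtain ⟨L', -, f, hf, v, hv, hsum⟩ := exists_split_fin P hK e he
  rw [← hf.aug_comp (adams P j e), map_adams hf, ← hsum]
  have h1 : adams L'.posStr j (∑ k, v k) = ∑ k, adams L'.posStr j (v k) :=
    map_sum (adamsAddHom L'.posStr j) _ _
  have h2 : ∑ k, L'.posStr.aug (v k) = P.aug e := by
    have := hf.aug_comp e
    rw [← hsum, map_sum] at this
    exact this
  rw [h1, map_sum]
  refine Eq.trans (Finset.sum_congr rfl fun k _ => ?_) h2
  rw [adams_of_isLine _ _ (hv k), map_pow, (hv k).2, one_pow]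

/-- `H_k = Σ_{a<j} X^a u^{j-1-a}`, so that `H_k (X - u) = X^j - u^j`. -/
noncomputable def Hpoly {R : Type*} [CommRing R] (j : ℕ) (u : R) : R[X] :=
  ∑ a ∈ Finset.range j, X ^ a * (C u) ^ (j - 1 - a)

theorem Hpoly_mul {R : Type*} [CommRing R] (j : ℕ) (u : R) :
    Hpoly j u * (X - C u) = X ^ j - C (u ^ j) := by
  rw [Hpoly, C_pow, geom_sum₂_mul]

/-- In an extension splitting `e`: `p_{ψ^j e}(X^j) = p_e(X) Π H_k(X)`. -/
theorem map_expand_extPoly_adams {f : K →+* K'} (hf : IsExtension P P' f)
    (hK : HasSplitting K P) (j : ℕ) (hj : 1 ≤ j) (e : K) (he : e ∈ P.pos) {m : ℕ}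
    (hm : (P.aug e).toNat = m) (v : Fin m → K') (hv : ∀ k, P'.IsLine (v k))
    (hsum : ∑ k, v k = f e) :
    (expand K j (KRR.extPoly P (adams P j e))).map f =
      (KRR.extPoly P e).map f * ∏ k, Hpoly j (v k) := by
  have hm' : (P.aug (adams P j e)).toNat = m := by rw [aug_adams hK j hj e he, hm]
  have hsum' : ∑ k, (v k) ^ j = f (adams P j e) := by
    rw [map_adams hf, ← hsum]
    have h1 : adams P' j (∑ k, v k) = ∑ k, adams P' j (v k) :=
      map_sum (adamsAddHom P' j) _ _
    rw [h1]
    refine Finset.sum_congr rfl fun k _ => ?_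
    rw [adams_of_isLine _ _ (hv k)]
  rw [map_expand, map_extPoly_of_split hf (adams P j e) hm' (fun k => (v k) ^ j)
    (fun k => isLine_pow P' (hv k) j) hsum', map_extPoly_of_split hf e hm v hv hsum, map_prod,
    ← Finset.prod_mul_distrib]
  refine Finset.prod_congr rfl fun k _ => ?_
  rw [map_sub, expand_X, expand_C, ← Hpoly_mul, mul_comm]

/-- The cofactor `Θ = p_{ψ^j e}(X^j) / p_e(X)`. -/
noncomputable def Theta (P : PosStructure K) (j : ℕ) (e : K) : K[X] :=
  expand K j (KRR.extPoly P (adams P j e)) /ₘ KRR.extPoly P e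

theorem extPoly_mul_Theta (hK : HasSplitting K P) (j : ℕ) (hj : 1 ≤ j) (e : K) (he : e ∈ P.pos) :
    KRR.extPoly P e * Theta P j e = expand K j (KRR.extPoly P (adams P j e)) := by
  obtain ⟨L', -, f, hf, v, hv, hsum⟩ := exists_split_fin P hK e he
  have h1 := map_expand_extPoly_adams hf hK j hj e he rfl v hv hsum
  have h2 : expand K j (KRR.extPoly P (adams P j e)) %ₘ KRR.extPoly P e = 0 := by
    apply Polynomial.map_injective f hf.injective
    rw [Polynomial.map_modByMonic _ (extPoly_monic e), h1, Polynomial.map_zero]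
    exact (modByMonic_eq_zero_iff_dvd ((extPoly_monic e).map f)).mpr (dvd_mul_right _ _)
  have h3 := modByMonic_add_div (expand K j (KRR.extPoly P (adams P j e))) (KRR.extPoly P e)
  rw [h2, zero_add] at h3
  exact h3

theorem map_Theta {f : K →+* K'} (hf : IsExtension P P' f)
    (hK : HasSplitting K P) (j : ℕ) (hj : 1 ≤ j) (e : K) (he : e ∈ P.pos) {m : ℕ}
    (hm : (P.aug e).toNat = m) (v : Fin m → K') (hv : ∀ k, P'.IsLine (v k))
    (hsum : ∑ k, v k = f e) :
    (Theta P j e).map f = ∏ k, Hpoly j (v k) := by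
  have h1 := map_expand_extPoly_adams hf hK j hj e he hm v hv hsum
  rw [← extPoly_mul_Theta hK j hj e he, Polynomial.map_mul] at h1
  exact ((extPoly_monic e).map f).isRegular.left h1

end Groth.Agent.Lib.helper6.ExtPolySplit
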