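import Mathlib
import Groth.Agent.Lib.helper6.SkTensor
import Groth.Agent.Lib.helper9.Depth8
import Groth.Agent.Lib.helper9.Depth2

/-!
# Depth of a module flat over the base in terms of the depth of its fibre module
-/

set_option autoImplicit false
set_option linter.style.haveILetI false
set_option linter.unusedSectionVars false
set_option maxHeartbeats 400000

universe u

namespace Groth.Agent.Lib.helper6.FibDepth

open TensorProduct LocCoh IsLocalRing
open Groth.Agent.Lib.helper9.Depth Groth.Agent.Lib.helper9
open Groth.Agent.Lib.helper6.TensorLoc Groth.Agent.Lib.helper6.SkTensor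

section

variable (A B : Type u) [CommRing A] [CommRing B] [IsNoetherianRing A] [IsNoetherianRing B]
  [Algebra A B] (q : Ideal B) [q.IsPrime]

theorem map_fibLocRing_eq_maximalIdeal :
    haveI := nontrivial_fibLocRing A B q
    q.map (algebraMap B (EGA4.FibLocRing A B q)) = maximalIdeal (EGA4.FibLocRing A B q) := by
  haveI := nontrivial_fibLocRing A B q
  rw [IsScalarTower.algebraMap_eq B (Localization.AtPrime q) (EGA4.FibLocRing A B q),
    ← Ideal.map_map, Localization.AtPrime.map_eq_maximalIdeal]
  exact IsLocalRing.map_maximalIdeal_of_surjective _ Ideal.Quotient.mk_surjective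

/-- the depth hypothesis on fibres, expressed over `B_q`. -/
theorem fibDepth_eq (F : Type u) [AddCommGroup F] [Module B F] :
    idealDepth (q.map (algebraMap B (EGA4.FibLocRing A B q))) (EGA4.FibLocMod A B q F) =
      depth (Localization.AtPrime q) (EGA4.FibLocMod A B q F) := by
  haveI := nontrivial_fibLocRing A B q
  have hsurj : Function.Surjective
      (algebraMap (Localization.AtPrime q) (EGA4.FibLocRing A B q)) :=
    Ideal.Quotient.mk_surjective
  rw [map_fibLocRing_eq_maximalIdeal, depth_eq_of_surjective hsurj]
  rfl

end

section

variable {B : Type u} [CommRing B] [IsNoetherianRing B] (q : Ideal B) [q.IsPrime]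

theorem depth_localizedModule_congr {M M' : Type u} [AddCommGroup M] [Module B M]
    [AddCommGroup M'] [Module B M'] (e : M ≃ₗ[B] M') :
    depth (Localization.AtPrime q) (LocalizedModule q.primeCompl M) =
      depth (Localization.AtPrime q) (LocalizedModule q.primeCompl M') := by
  haveI : IsLocalizedModule q.primeCompl
      ((LocalizedModule.mkLinearMap q.primeCompl M') ∘ₗ e.toLinearMap) :=
    IsLocalizedModule.of_linearEquiv_right q.primeCompl
      (LocalizedModule.mkLinearMap q.primeCompl M') e
  exact depth_eq_of_isLocalizedModule q (Localization.AtPrime q)
    ((LocalizedModule.mkLinearMap q.primeCompl M') ∘ₗ e.toLinearMap)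

/-- the depth lemma for the localizations at `q` of a short exact sequence. -/
theorem depth_localized_ses {M' M M'' : Type u} [AddCommGroup M'] [Module B M'] [AddCommGroup M]
    [Module B M] [AddCommGroup M''] [Module B M''] [Module.Finite B M'] [Module.Finite B M]
    [Module.Finite B M'']
    (f : M' →ₗ[B] M) (g : M →ₗ[B] M'') (hf : Function.Injective f) (hg : Function.Surjective g)
    (hfg : Function.Exact f g) :
    min (depth (Localization.AtPrime q) (LocalizedModule q.primeCompl M'))
        (depth (Localization.AtPrime q) (LocalizedModule q.primeCompl M'')) ≤
      depth (Localization.AtPrime q) (LocalizedModule q.primeCompl M) ∧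
    min (depth (Localization.AtPrime q) (LocalizedModule q.primeCompl M))
        (depth (Localization.AtPrime q) (LocalizedModule q.primeCompl M') - 1) ≤
      depth (Localization.AtPrime q) (LocalizedModule q.primeCompl M'') ∧
    min (depth (Localization.AtPrime q) (LocalizedModule q.primeCompl M))
        (depth (Localization.AtPrime q) (LocalizedModule q.primeCompl M'') + 1) ≤
      depth (Localization.AtPrime q) (LocalizedModule q.primeCompl M') := by
  have hex : Function.Exact (LocalizedModule.map q.primeCompl f)
      (LocalizedModule.map q.primeCompl g) := LocalizedModule.map_exact q.primeCompl f g hfg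
  exact idealDepth_shortExact (maximalIdeal (Localization.AtPrime q))
    (LocalizedModule.map q.primeCompl f) (LocalizedModule.map q.primeCompl g)
    (LocalizedModule.map_injective q.primeCompl f hf)
    (LocalizedModule.map_surjective q.primeCompl g hg) hex

end

section

variable (A B : Type u) [CommRing A] [CommRing B] [IsNoetherianRing A] [IsNoetherianRing B]
  [Algebra A B] (q : Ideal B) [q.IsPrime]
  (F : Type u) [AddCommGroup F] [Module B F] [Module A F] [IsScalarTower A B F]
  [Module.Finite B F] [Module.Flat A F]

/-- depth of a flat module in terms of the base and the fibre. -/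
theorem depth_eq_add_fib :
    depth (Localization.AtPrime q) (LocalizedModule q.primeCompl F) =
      depth (Localization.AtPrime (q.comap (algebraMap A B)))
        (LocalizedModule (q.comap (algebraMap A B)).primeCompl A) +
      depth (Localization.AtPrime q) (EGA4.FibLocMod A B q F) := by
  rw [← (depth_supportDim_atPrime A B A F q).1]
  exact (depth_localizedModule_congr q (AlgebraTensorModule.rid A B F)).symm

theorem fib_le_depth :
    idealDepth (q.map (algebraMap B (EGA4.FibLocRing A B q))) (EGA4.FibLocMod A B q F) ≤
      depth (Localization.AtPrime q) (LocalizedModule q.primeCompl F) := by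
  rw [fibDepth_eq, depth_eq_add_fib A B q F]
  exact le_add_self

end

end Groth.Agent.Lib.helper6.FibDepth
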