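import Mathlib
import Groth.Agent.S2082
import Groth.Agent.Lib.helper6.RegNormal

/-!
# A finite CM domain over a regular local ring is flat
-/

set_option autoImplicit false
set_option linter.style.haveILetI false

namespace Groth.Agent.Lib.helper6.FinCMFlat

universe u

open IsLocalRing

/-- a prime of an integral extension of a local ring whose contraction contains `m_R` is
maximal -/
lemma isMaximal_of_le (R S : Type u) [CommRing R] [CommRing S] [IsLocalRing R] [Algebra R S]
    [Algebra.IsIntegral R S] (Q : Ideal S) [Q.IsPrime] (h : maximalIdeal R ≤ Q.under R) :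
    Q.IsMaximal := by
  have h1 : maximalIdeal R = Q.under R :=
    (maximalIdeal.isMaximal R).eq_of_le (Ideal.IsPrime.under R Q).ne_top h
  have : (Q.comap (algebraMap R S)).IsMaximal := by
    rw [← Ideal.under_def, ← h1]; infer_instance
  exact Ideal.isMaximal_of_isIntegral_of_isMaximal_comap Q this

/-- transfer of maximality along a surjection -/
lemma isMaximal_of_comap {A B : Type u} [CommRing A] [CommRing B] (f : A →+* B)
    (hf : Function.Surjective f) (P : Ideal B) [hP : P.IsPrime] (h : (P.comap f).IsMaximal) :
    P.IsMaximal := by
  rcases Ideal.map_eq_top_or_isMaximal_of_surjective f hf h with h1 | h1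
  · rw [Ideal.map_comap_of_surjective f hf] at h1
    exact absurd h1 hP.ne_top
  · rwa [Ideal.map_comap_of_surjective f hf] at h1

theorem main (R S : Type u) [CommRing R] [CommRing S]
    [IsRegularLocalRing R] [IsDomain S] [Algebra R S] [Module.Finite R S]
    (hinj : Function.Injective (algebraMap R S))
    (hCM : ∀ (q : Ideal S) [q.IsMaximal],
      LocCoh.IsCohenMacaulayLocalRing (Localization.AtPrime q)) :
    Module.Flat R S := by
  have hint : Algebra.IsIntegral R S := inferInstance
  have : FaithfulSMul R S := (faithfulSMul_iff_algebraMap_injective R S).2 hinj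
  have : IsIntegrallyClosed R := Groth.Agent.Lib.helper6.RegNormal.isIntegrallyClosed R
  have hGD : Algebra.HasGoingDown R S := inferInstance
  have : IsNoetherianRing S := IsNoetherianRing.of_finite R S
  refine Module.flat_of_isLocalized_maximal S S (fun q _ => Localization.AtPrime q)
    (fun q _ => Algebra.linearMap S (Localization.AtPrime q)) ?_
  intro q hq
  have hqm : maximalIdeal R ≤ q.under R := by
    have : (q.under R).IsMaximal := by
      rw [Ideal.under_def]
      exact Ideal.isMaximal_comap_of_isIntegral_of_isMaximal q
    exact (IsLocalRing.eq_maximalIdeal this).ge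
  have hqR : maximalIdeal R = q.under R :=
    (maximalIdeal.isMaximal R).eq_of_le (Ideal.IsPrime.under R q).ne_top hqm
  have hlies : q.LiesOver (maximalIdeal R) := ⟨hqR⟩
  have hloc : IsLocalHom (algebraMap R (Localization.AtPrime q)) := by
    constructor
    intro r hr
    rw [IsScalarTower.algebraMap_apply R S (Localization.AtPrime q),
      IsLocalization.AtPrime.isUnit_to_map_iff (Localization.AtPrime q) q] at hr
    by_contra hr'
    have h1 : r ∈ maximalIdeal R := (IsLocalRing.mem_maximalIdeal r).2 hr'
    rw [hqR] at h1
    exact hr h1
  have := hCM q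
  refine Groth.Agent.S2082.result ?_
  have h1 : ringKrullDim (Localization.AtPrime q) = q.height :=
    IsLocalization.AtPrime.ringKrullDim_eq_height q (Localization.AtPrime q)
  have h2 : ringKrullDim R = (maximalIdeal R).height :=
    (IsLocalRing.maximalIdeal_height_eq_ringKrullDim).symm
  have h3 := Ideal.height_eq_height_add_of_liesOver_of_hasGoingDown (maximalIdeal R) q
  -- the fibre `S ⧸ m_R S` has dimension zero
  have h4 : (q.map (Ideal.Quotient.mk ((maximalIdeal R).map (algebraMap R S)))).height = 0 := by
    have hK : Ring.KrullDimLE 0 (S ⧸ (maximalIdeal R).map (algebraMap R S)) := by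
      refine Ring.krullDimLE_zero_iff.mpr fun P hP => ?_
      refine isMaximal_of_comap (Ideal.Quotient.mk _) Ideal.Quotient.mk_surjective P ?_
      have : (P.comap (Ideal.Quotient.mk ((maximalIdeal R).map (algebraMap R S)))).IsPrime :=
        Ideal.comap_isPrime _ _
      refine isMaximal_of_le R S _ ?_
      rw [Ideal.under_def, ← Ideal.map_le_iff_le_comap]
      intro x hx
      rw [Ideal.mem_comap, Ideal.Quotient.eq_zero_iff_mem.2 hx]
      exact zero_mem _
    have hne : q.map (Ideal.Quotient.mk ((maximalIdeal R).map (algebraMap R S))) ≠ ⊤ := by
      intro htop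
      have h5 := congrArg (Ideal.comap (Ideal.Quotient.mk ((maximalIdeal R).map (algebraMap R S)))) htop
      rw [Ideal.comap_map_of_surjective _ Ideal.Quotient.mk_surjective, Ideal.comap_top,
        ← RingHom.ker_eq_comap_bot, Ideal.mk_ker] at h5
      have h6 : (maximalIdeal R).map (algebraMap R S) ≤ q := by
        rw [Ideal.map_le_iff_le_comap, ← Ideal.under_def]
        exact hqm
      rw [sup_eq_left.2 h6] at h5
      exact hq.ne_top h5
    have h7 := Ideal.height_le_ringKrullDim_of_ne_top hne
    have h8 : ringKrullDim (S ⧸ (maximalIdeal R).map (algebraMap R S)) ≤ 0 := by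
      have := Ring.krullDimLE_iff.1 hK
      simpa using this
    have h9 := h7.trans h8
    exact le_antisymm (by exact_mod_cast h9) zero_le
  -- the local fibre has dimension zero
  have h5 : ringKrullDim (Localization.AtPrime q ⧸
      (maximalIdeal R).map (algebraMap R (Localization.AtPrime q))) = 0 := by
    have hnt : Nontrivial (Localization.AtPrime q ⧸
        (maximalIdeal R).map (algebraMap R (Localization.AtPrime q))) :=
      EGA4.mB_ne_top_nontrivial R (Localization.AtPrime q)
    have hK : Ring.KrullDimLE 0 (Localization.AtPrime q ⧸
        (maximalIdeal R).map (algebraMap R (Localization.AtPrime q))) := by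
      refine Ring.krullDimLE_zero_iff.mpr fun P hP => ?_
      refine isMaximal_of_comap (Ideal.Quotient.mk _) Ideal.Quotient.mk_surjective P ?_
      set P' := P.comap (Ideal.Quotient.mk
        ((maximalIdeal R).map (algebraMap R (Localization.AtPrime q)))) with hP'
      have hP'prime : P'.IsPrime := Ideal.comap_isPrime _ _
      have hle : (maximalIdeal R).map (algebraMap R (Localization.AtPrime q)) ≤ P' := by
        intro x hx
        rw [hP', Ideal.mem_comap, Ideal.Quotient.eq_zero_iff_mem.2 hx]
        exact zero_mem _
      have hQprime : (P'.under S).IsPrime := Ideal.IsPrime.under S P'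
      have hQmax : (P'.under S).IsMaximal := by
        refine isMaximal_of_le R S _ ?_
        rw [Ideal.under_under, Ideal.under_def, ← Ideal.map_le_iff_le_comap]
        exact hle
      have hQle : P'.under S ≤ q := by
        have h6 : P' ≤ maximalIdeal (Localization.AtPrime q) :=
          IsLocalRing.le_maximalIdeal hP'prime.ne_top
        have h7 := Ideal.comap_mono (f := algebraMap S (Localization.AtPrime q)) h6
        rwa [← Ideal.under_def, ← Ideal.under_def, Localization.AtPrime.under_maximalIdeal] at h7
      have hQq : P'.under S = q := hQmax.eq_of_le hq.ne_top hQle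
      have h8 : P' = maximalIdeal (Localization.AtPrime q) := by
        rw [← IsLocalization.map_under q.primeCompl (Localization.AtPrime q) P',
          hQq, Localization.AtPrime.map_eq_maximalIdeal]
      rw [h8]
      infer_instance
    have h8 := Ring.krullDimLE_iff.1 hK
    exact le_antisymm (by simpa using h8) ringKrullDim_nonneg_of_nontrivial
  rw [h5, add_zero, h1, h3, h4, add_zero, h2]

end Groth.Agent.Lib.helper6.FinCMFlat
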