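import Mathlib
import Groth.Agent.Lib.helper6.FinDD4

/-!
# `(S_k)` for a module finite over `A`, over `A` versus over a ring `B` acting on it (S4719)
-/

set_option autoImplicit false
set_option linter.style.haveILetI false
set_option linter.unusedSectionVars false
set_option maxHeartbeats 400000

universe u

namespace Groth.Agent.Lib.helper6.FinDD

open LocCoh Groth.Agent.Lib.helper9.Depth

theorem le_coe_iInf₂ {ι : Type*} (S : Set ι) (f : ι → ℕ∞) (c : WithBot ℕ∞)
    (h : ∀ i ∈ S, c ≤ ((f i : ℕ∞) : WithBot ℕ∞)) :
    c ≤ (((⨅ i ∈ S, f i : ℕ∞)) : WithBot ℕ∞) := by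
  induction c with
  | bot => exact bot_le
  | coe c' =>
    rw [WithBot.coe_le_coe]
    exact le_iInf₂ fun i hi => WithBot.coe_le_coe.mp (h i hi)

section Main

variable (k : ℕ) (A B : Type u) [CommRing A] [CommRing B] [IsNoetherianRing A]
  [IsNoetherianRing B] [Algebra A B]
  (M : Type u) [AddCommGroup M] [Module B M] [Module A M] [IsScalarTower A B M]
  [Module.Finite A M]

theorem hasSk_B_of_A (h : HasSk k A M) : HasSk k B M := by
  intro q _
  by_cases hq : (⟨q, inferInstance⟩ : PrimeSpectrum B) ∈ Module.support B M
  · have hmem : (⟨q, inferInstance⟩ : PrimeSpectrum B) ∈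
        {q' : PrimeSpectrum B | q'.asIdeal.comap (algebraMap A B) = q.comap (algebraMap A B) ∧
          q' ∈ Module.support B M} := ⟨rfl, hq⟩
    have h1 : Module.supportDim (Localization.AtPrime q) (LocalizedModule q.primeCompl M) ≤
        Module.supportDim (Localization.AtPrime (q.comap (algebraMap A B)))
          (LocalizedModule (q.comap (algebraMap A B)).primeCompl M) := by
      rw [supportDim_eq A B M (q.comap (algebraMap A B))]
      exact le_iSup₂ (f := fun (q' : PrimeSpectrum B)
        (_ : q' ∈ {q' : PrimeSpectrum B | q'.asIdeal.comap (algebraMap A B) =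
          q.comap (algebraMap A B) ∧ q' ∈ Module.support B M}) =>
        Module.supportDim (Localization.AtPrime q'.asIdeal)
          (LocalizedModule q'.asIdeal.primeCompl M)) ⟨q, inferInstance⟩ hmem
    have h2 : depth (Localization.AtPrime (q.comap (algebraMap A B)))
        (LocalizedModule (q.comap (algebraMap A B)).primeCompl M) ≤
        depth (Localization.AtPrime q) (LocalizedModule q.primeCompl M) := by
      rw [depth_eq A B M (q.comap (algebraMap A B))]
      exact iInf₂_le (f := fun (q' : PrimeSpectrum B)
        (_ : q' ∈ {q' : PrimeSpectrum B | q'.asIdeal.comap (algebraMap A B) =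
          q.comap (algebraMap A B) ∧ q' ∈ Module.support B M}) =>
        depth (Localization.AtPrime q'.asIdeal)
          (LocalizedModule q'.asIdeal.primeCompl M)) ⟨q, inferInstance⟩ hmem
    exact (min_le_min le_rfl h1).trans ((h (q.comap (algebraMap A B))).trans
      (WithBot.coe_le_coe.mpr h2))
  · rw [Module.notMem_support_iff] at hq
    rw [Module.supportDim_eq_bot_of_subsingleton, min_eq_right bot_le]
    exact bot_le

theorem hasSk_A_of_B
    (hdim : ∀ q ∈ Module.support B M, ∀ q' ∈ Module.support B M,
      q.asIdeal.comap (algebraMap A B) = q'.asIdeal.comap (algebraMap A B) →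
        Module.supportDim (Localization.AtPrime q.asIdeal)
            (LocalizedModule q.asIdeal.primeCompl M) =
          Module.supportDim (Localization.AtPrime q'.asIdeal)
            (LocalizedModule q'.asIdeal.primeCompl M))
    (h : HasSk k B M) : HasSk k A M := by
  intro p _
  rw [depth_eq A B M p]
  apply le_coe_iInf₂
  intro q hq
  obtain ⟨hq1, hq2⟩ := hq
  have h1 : Module.supportDim (Localization.AtPrime p) (LocalizedModule p.primeCompl M) =
      Module.supportDim (Localization.AtPrime q.asIdeal)
        (LocalizedModule q.asIdeal.primeCompl M) := by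
    rw [supportDim_eq A B M p]
    apply le_antisymm
    · refine iSup₂_le fun q' hq' => ?_
      exact (hdim q' hq'.2 q hq2 (hq'.1.trans hq1.symm)).le
    · exact le_iSup₂ (f := fun (q' : PrimeSpectrum B)
        (_ : q' ∈ {q' : PrimeSpectrum B | q'.asIdeal.comap (algebraMap A B) = p ∧
          q' ∈ Module.support B M}) =>
        Module.supportDim (Localization.AtPrime q'.asIdeal)
          (LocalizedModule q'.asIdeal.primeCompl M)) q ⟨hq1, hq2⟩
  rw [h1]
  exact h q.asIdeal

/-- = S4719 -/
theorem main_sk :
    (LocCoh.HasSk k A M → LocCoh.HasSk k B M) ∧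
      ((∀ q ∈ Module.support B M, ∀ q' ∈ Module.support B M,
          q.asIdeal.comap (algebraMap A B) = q'.asIdeal.comap (algebraMap A B) →
            Module.supportDim (Localization.AtPrime q.asIdeal)
                (LocalizedModule q.asIdeal.primeCompl M) =
              Module.supportDim (Localization.AtPrime q'.asIdeal)
                (LocalizedModule q'.asIdeal.primeCompl M)) →
        LocCoh.HasSk k B M → LocCoh.HasSk k A M) :=
  ⟨hasSk_B_of_A k A B M, hasSk_A_of_B k A B M⟩

end Main

end Groth.Agent.Lib.helper6.FinDD
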