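import Mathlib
import Groth.Agent.Lib.helper6.FinDD5
import Groth.Agent.Lib.helper9.Depth24
import Groth.Agent.Lib.helper9.Depth5

/-!
# Cohen–Macaulayness of a module finite over a local ring `A`, tested over `B` (S4718)
-/

set_option autoImplicit false
set_option linter.style.haveILetI false
set_option linter.unusedSectionVars false
set_option maxHeartbeats 400000

universe u

namespace Groth.Agent.Lib.helper6.FinDD

open LocCoh IsLocalRing Groth.Agent.Lib.helper9.Depth

section Local

variable (A B : Type u) [CommRing A] [CommRing B]
  [IsNoetherianRing A] [IsLocalRing A] [IsNoetherianRing B] [Algebra A B]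
  (M : Type u) [AddCommGroup M] [Module B M] [Module A M] [IsScalarTower A B M]
  [Module.Finite A M]

/-- the index set -/
abbrev SS : Set (PrimeSpectrum B) :=
  {q : PrimeSpectrum B | q.asIdeal.comap (algebraMap A B) = maximalIdeal A ∧
    q ∈ Module.support B M}

theorem local_eq :
    Module.supportDim A M = ⨆ q ∈ SS A B M,
        Module.supportDim (Localization.AtPrime q.asIdeal)
          (LocalizedModule q.asIdeal.primeCompl M) ∧
      depth A M = ⨅ q ∈ SS A B M,
        depth (Localization.AtPrime q.asIdeal) (LocalizedModule q.asIdeal.primeCompl M) := by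
  haveI : IsLocalization.AtPrime A (maximalIdeal A) := by
    refine IsLocalization.of_le_isUnit (fun x hx => ?_)
    have hx' : x ∉ maximalIdeal A := hx
    rw [mem_maximalIdeal, mem_nonunits_iff, not_not] at hx'
    exact hx'
  haveI : IsLocalizedModule (maximalIdeal A).primeCompl (LinearMap.id : M →ₗ[A] M) :=
    isLocalizedModule_id _ M A
  have h1 := supportDim_eq A B M (maximalIdeal A)
  have h2 := depth_eq A B M (maximalIdeal A)
  rw [depth_eq_of_isLocalizedModule (maximalIdeal A) A (LinearMap.id : M →ₗ[A] M)] at h2
  rw [supportDim_eq_of_isLocalizedModule (maximalIdeal A) A (LinearMap.id : M →ₗ[A] M)] at h1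
  exact ⟨h1, h2⟩

/-- = S4718 -/
theorem main_cm [Nontrivial M] :
    LocCoh.IsCohenMacaulayModule A M ↔
      (∀ q ∈ SS A B M,
        LocCoh.IsCohenMacaulayModule (Localization.AtPrime q.asIdeal)
          (LocalizedModule q.asIdeal.primeCompl M)) ∧
      (∀ q ∈ SS A B M, ∀ q' ∈ SS A B M,
          Module.supportDim (Localization.AtPrime q.asIdeal)
              (LocalizedModule q.asIdeal.primeCompl M) =
            Module.supportDim (Localization.AtPrime q'.asIdeal)
              (LocalizedModule q'.asIdeal.primeCompl M)) := by
  haveI : Module.Finite B M := Module.Finite.of_restrictScalars_finite A B M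
  obtain ⟨hdim, hdepth⟩ := local_eq A B M
  unfold IsCohenMacaulayModule
  -- pointwise inequalities
  have hle : ∀ q ∈ SS A B M,
      ((depth (Localization.AtPrime q.asIdeal)
        (LocalizedModule q.asIdeal.primeCompl M) : ℕ∞) : WithBot ℕ∞) ≤
      Module.supportDim (Localization.AtPrime q.asIdeal)
        (LocalizedModule q.asIdeal.primeCompl M) := by
    intro q hq
    haveI : Nontrivial (LocalizedModule q.asIdeal.primeCompl M) := by
      have := hq.2
      rw [Module.mem_support_iff] at this
      exact this
    exact depth_le_supportDim _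
  have hdimq : ∀ q ∈ SS A B M, Module.supportDim (Localization.AtPrime q.asIdeal)
      (LocalizedModule q.asIdeal.primeCompl M) ≤ Module.supportDim A M := by
    intro q hq
    rw [hdim]
    exact le_iSup₂ (f := fun (q' : PrimeSpectrum B) (_ : q' ∈ SS A B M) =>
      Module.supportDim (Localization.AtPrime q'.asIdeal)
        (LocalizedModule q'.asIdeal.primeCompl M)) q hq
  have hdepq : ∀ q ∈ SS A B M, depth A M ≤ depth (Localization.AtPrime q.asIdeal)
      (LocalizedModule q.asIdeal.primeCompl M) := by
    intro q hq
    rw [hdepth]
    exact iInf₂_le (f := fun (q' : PrimeSpectrum B) (_ : q' ∈ SS A B M) =>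
      depth (Localization.AtPrime q'.asIdeal)
        (LocalizedModule q'.asIdeal.primeCompl M)) q hq
  constructor
  · intro hCM
    have hall : ∀ q ∈ SS A B M,
        Module.supportDim (Localization.AtPrime q.asIdeal)
          (LocalizedModule q.asIdeal.primeCompl M) = Module.supportDim A M ∧
        ((depth (Localization.AtPrime q.asIdeal)
          (LocalizedModule q.asIdeal.primeCompl M) : ℕ∞) : WithBot ℕ∞) =
          Module.supportDim A M := by
      intro q hq
      have h3 : Module.supportDim A M ≤ ((depth (Localization.AtPrime q.asIdeal)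
          (LocalizedModule q.asIdeal.primeCompl M) : ℕ∞) : WithBot ℕ∞) := by
        rw [hCM]
        exact WithBot.coe_le_coe.mpr (hdepq q hq)
      exact ⟨le_antisymm (hdimq q hq) (h3.trans (hle q hq)),
        le_antisymm ((hle q hq).trans (hdimq q hq)) h3⟩
    refine ⟨fun q hq => ?_, fun q hq q' hq' => ?_⟩
    · rw [(hall q hq).1, (hall q hq).2]
    · rw [(hall q hq).1, (hall q' hq').1]
  · rintro ⟨hCMq, heq⟩
    -- nonempty index set
    have hne : ∃ q, q ∈ SS A B M := by
      by_contra hcon
      have hcon' : ∀ q, q ∉ SS A B M := fun q hq => hcon ⟨q, hq⟩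
      have : Module.supportDim A M = ⊥ := by
        rw [hdim, eq_bot_iff]
        exact iSup₂_le fun q hq => absurd hq (hcon' q)
      exact (Module.supportDim_ne_bot_of_nontrivial (R := A) (M := M)) this
    obtain ⟨q0, hq0⟩ := hne
    have h1 : Module.supportDim A M = Module.supportDim (Localization.AtPrime q0.asIdeal)
        (LocalizedModule q0.asIdeal.primeCompl M) := by
      apply le_antisymm
      · rw [hdim]
        exact iSup₂_le fun q hq => (heq q hq q0 hq0).le
      · exact hdimq q0 hq0
    have h2 : depth A M = depth (Localization.AtPrime q0.asIdeal)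
        (LocalizedModule q0.asIdeal.primeCompl M) := by
      apply le_antisymm (hdepq q0 hq0)
      rw [hdepth]
      refine le_iInf₂ fun q hq => ?_
      have h3 := hCMq q hq
      have h4 := hCMq q0 hq0
      rw [heq q hq q0 hq0, h4] at h3
      exact (WithBot.coe_injective h3).le
    rw [h1, h2]
    exact hCMq q0 hq0

end Local

end Groth.Agent.Lib.helper6.FinDD
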