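import Mathlib
import Groth.Agent.Lib.helper6.TorRes
import Groth.Agent.Lib.helper6.HomologyColim

/-!
# `Tor_p(-, N)` preserves filtered colimits
-/

set_option autoImplicit false

namespace Groth.Agent.Lib.helper6.TorColim

open CategoryTheory CategoryTheory.Limits MonoidalCategory
open Groth.Agent.Lib.helper6

universe u

variable {A : Type u} [CommRing A]

/-- `tcF Q ⋙ eval i ≅ - ⊗ Q_i`. -/
noncomputable def tcFEvalIso (Q : ChainComplex (ModuleCat.{u} A) ℕ) (i : ℕ) :
    TorRes.tcF Q ⋙ HomologicalComplex.eval _ _ i ≅ tensorRight (Q.X i) :=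
  NatIso.ofComponents (fun _ => Iso.refl _) (by
    intro M M' f
    simp only [Functor.comp_obj, Functor.comp_map, Iso.refl_hom, Category.comp_id,
      Category.id_comp]
    rfl)

theorem preservesColimitsOfShape_tor_flip (N : ModuleCat.{u} A) (p : ℕ)
    (J : Type u) [SmallCategory J] [IsFiltered J] :
    PreservesColimitsOfShape J ((Tor (ModuleCat.{u} A) p).flip.obj N) := by
  let Q := ProjectiveResolution.of N
  have h : ∀ i, PreservesColimitsOfShape J
      (TorRes.tcF Q.complex ⋙ HomologicalComplex.eval _ _ i) := fun i =>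
    preservesColimitsOfShape_of_natIso (tcFEvalIso Q.complex i).symm
  have := HomologyColim.preservesColimitsOfShape_comp_homologyFunctor' (J := J)
    (ComplexShape.down ℕ) (TorRes.tcF Q.complex) p
  exact preservesColimitsOfShape_of_natIso (TorRes.torFlipIso Q p).symm

end Groth.Agent.Lib.helper6.TorColim
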