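import Mathlib
import Groth.Agent.Lib.helper6.TorColim
import Groth.Agent.Lib.helper6.TorLength

/-!
# Tor-dimension can be tested on residue fields of primes (Noetherian case)
-/

set_option autoImplicit false

namespace Groth.Agent.Lib.helper6.TorPrime

open CategoryTheory CategoryTheory.Limits
open Groth.Agent.Lib.helper6

universe u

variable {A : Type u} [CommRing A]

/-- If `Tor_i(N', M) = 0` for all finitely generated submodules `N' ≤ N`, then `Tor_i(N, M) = 0`. -/
theorem isZero_tor_of_forall_fg (M : ModuleCat.{u} A) (i : ℕ) (N : Type u) [AddCommGroup N]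
    [Module A N]
    (h : ∀ N' : Submodule A N, N'.FG →
      IsZero (((Tor (ModuleCat.{u} A) i).obj (ModuleCat.of A N')).obj M)) :
    IsZero (((Tor (ModuleCat.{u} A) i).obj (ModuleCat.of A N)).obj M) := by
  classical
  let ι := {N' : Submodule A N // N'.FG}
  haveI : Nonempty ι := ⟨⟨⊥, Submodule.fg_bot⟩⟩
  let G : ι → Type u := fun j => j.1
  let c := ModuleCat.directLimitCocone G (Module.fgSystem A N)
  have hc : IsColimit c := ModuleCat.directLimitIsColimit G (Module.fgSystem A N)
  let F := (Tor (ModuleCat.{u} A) i).flip.obj M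
  haveI := TorColim.preservesColimitsOfShape_tor_flip M i ι
  have hc' : IsColimit (F.mapCocone c) := isColimitOfPreserves F hc
  have hz : IsZero (F.mapCocone c).pt := by
    rw [IsZero.iff_id_eq_zero]
    apply hc'.hom_ext
    intro j
    apply (h j.1 j.2).eq_of_src
  let e : c.pt ≅ ModuleCat.of A N := (Module.fgSystem.equiv A N).toModuleIso
  exact IsZero.of_iso hz (F.mapIso e).symm

/-- Dévissage by prime filtrations. -/
theorem isZero_tor_of_fg_of_primes [IsNoetherianRing A] (M : ModuleCat.{u} A) (n : ℕ)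
    (J : Ideal A)
    (H : ∀ (q : Ideal A) [q.IsPrime], J ≤ q → ∀ i, n < i →
      IsZero (((Tor (ModuleCat.{u} A) i).obj (ModuleCat.of A (A ⧸ q))).obj M))
    (N : Type u) [AddCommGroup N] [Module A N] [hN : Module.Finite A N]
    (hJ : J ≤ Module.annihilator A N) :
    ∀ i, n < i → IsZero (((Tor (ModuleCat.{u} A) i).obj (ModuleCat.of A N)).obj M) := by
  revert hJ
  refine IsNoetherianRing.induction_on_isQuotientEquivQuotientPrime A hN
    (motive := fun N _ _ _ => J ≤ Module.annihilator A N → ∀ i, n < i →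
      IsZero (((Tor (ModuleCat.{u} A) i).obj (ModuleCat.of A N)).obj M)) ?_ ?_ ?_
  · intro N _ _ _ _ _ i hi
    obtain ⟨j, rfl⟩ : ∃ j, i = j + 1 := ⟨i - 1, by omega⟩
    exact TorBal.isZero_tor_succ_of_flat_left (ModuleCat.of A N) M j
  · intro N _ _ _ p f hJ i hi
    have hp : J ≤ p.asIdeal := by
      intro a ha
      have h1 := Module.mem_annihilator.mp (hJ ha) (f.symm 1)
      have h2 : a • (1 : A ⧸ p.asIdeal) = 0 := by
        have := congrArg f h1
        simpa using this
      rw [← Ideal.Quotient.eq_zero_iff_mem]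
      simpa [Algebra.smul_def] using h2
    exact IsZero.of_iso (H p.asIdeal hp i hi) (TorLength.torMapIso₁ f.toModuleIso M i)
  · intro N₁ _ _ _ N₂ _ _ _ N₃ _ _ _ f g hf hg hfg h₁ h₃ hJ i hi
    have hJ₁ : J ≤ Module.annihilator A N₁ := by
      intro a ha
      rw [Module.mem_annihilator]
      intro m
      apply hf
      rw [map_smul, map_zero]
      exact Module.mem_annihilator.mp (hJ ha) _
    have hJ₃ : J ≤ Module.annihilator A N₃ := by
      intro a ha
      rw [Module.mem_annihilator]
      intro m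
      obtain ⟨m, rfl⟩ := hg m
      rw [← map_smul, Module.mem_annihilator.mp (hJ ha) m, map_zero]
    let S : ShortComplex (ModuleCat.{u} A) :=
      ShortComplex.mk (ModuleCat.ofHom f) (ModuleCat.ofHom g) (by
        ext x
        exact hfg.apply_apply_eq_zero x)
    have hS : S.ShortExact := by
      refine ModuleCat.shortComplex_shortExact S ?_ hf hg
      intro x
      exact hfg x
    exact TorDim.isZero_tor_X₂' M hS i (h₁ hJ₁ i hi) (h₃ hJ₃ i hi)

/-- The inductive step at a prime. -/
theorem prime_step [IsNoetherianRing A] (M : ModuleCat.{u} A) (n : ℕ) (p : Ideal A) [p.IsPrime]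
    (hk : ∀ i, n < i →
      IsZero (((Tor (ModuleCat.{u} A) i).obj (ModuleCat.of A p.ResidueField)).obj M))
    (H : ∀ (q : Ideal A) [q.IsPrime], p < q → ∀ i, n < i →
      IsZero (((Tor (ModuleCat.{u} A) i).obj (ModuleCat.of A (A ⧸ q))).obj M)) :
    ∀ i, n < i → IsZero (((Tor (ModuleCat.{u} A) i).obj (ModuleCat.of A (A ⧸ p))).obj M) := by
  intro i hi
  let f : A →ₗ[A] p.ResidueField := Algebra.linearMap A p.ResidueField
  have hker : LinearMap.ker f = p := by
    ext x
    simp [f]
  let φ : (A ⧸ p) →ₗ[A] p.ResidueField := Submodule.liftQ p f hker.ge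
  have hφ : Function.Injective φ := by
    rw [← LinearMap.ker_eq_bot]
    exact Submodule.ker_liftQ_eq_bot _ _ _ hker.le
  have hφmk : ∀ a : A, φ (Ideal.Quotient.mk p a) = algebraMap A p.ResidueField a := fun a => rfl
  let R := LinearMap.range φ
  have hS := TorLength.quotSC_shortExact R
  let e : ModuleCat.of A (A ⧸ p) ≅ ModuleCat.of A R := (LinearEquiv.ofInjective φ hφ).toModuleIso
  refine IsZero.of_iso ?_ (TorLength.torMapIso₁ e M i)
  refine TorDim.isZero_tor_X₁' M hS i ?_ (hk i hi)
  change IsZero (((Tor (ModuleCat.{u} A) (i + 1)).obj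
    (ModuleCat.of A (p.ResidueField ⧸ R))).obj M)
  apply isZero_tor_of_forall_fg
  intro C' hC'
  have key : ∀ x : p.ResidueField ⧸ R, ∃ g : A, g ∉ p ∧ g • x = 0 := by
    intro x
    obtain ⟨y, rfl⟩ := Submodule.mkQ_surjective R x
    obtain ⟨⟨a, s⟩, h⟩ := IsLocalization.surj (nonZeroDivisors (A ⧸ p)) y
    obtain ⟨a, rfl⟩ := Ideal.Quotient.mk_surjective a
    obtain ⟨g, hg⟩ := Ideal.Quotient.mk_surjective s.1
    refine ⟨g, ?_, ?_⟩
    · intro hgp
      have : s.1 = 0 := by rw [← hg]; exact Ideal.Quotient.eq_zero_iff_mem.mpr hgp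
      exact nonZeroDivisors.ne_zero s.2 this
    · rw [Submodule.mkQ_apply, ← Submodule.Quotient.mk_smul, Submodule.Quotient.mk_eq_zero]
      refine ⟨Ideal.Quotient.mk p a, ?_⟩
      rw [hφmk, Algebra.smul_def, mul_comm]
      simp only at h
      rw [← hg] at h
      exact h.symm
  have hp : ∀ a ∈ p, ∀ x : p.ResidueField ⧸ R, a • x = 0 := by
    intro a ha x
    obtain ⟨y, rfl⟩ := Submodule.mkQ_surjective R x
    rw [Submodule.mkQ_apply, ← Submodule.Quotient.mk_smul, Algebra.smul_def,
      Ideal.algebraMap_residueField_eq_zero.mpr ha, zero_mul, Submodule.Quotient.mk_zero]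
  obtain ⟨g, hg, hgC⟩ : ∃ g : A, g ∉ p ∧ ∀ x ∈ C', g • x = 0 := by
    obtain ⟨S, rfl⟩ := hC'
    choose gf hgf1 hgf2 using key
    refine ⟨∏ x ∈ S, gf x, ?_, ?_⟩
    · rw [Ideal.IsPrime.prod_mem_iff]
      rintro ⟨x, -, hx⟩
      exact hgf1 x hx
    · have : Submodule.span A (S : Set (p.ResidueField ⧸ R)) ≤
          Submodule.torsionBy A _ (∏ x ∈ S, gf x) := by
        rw [Submodule.span_le]
        intro x hx
        rw [SetLike.mem_coe, Submodule.mem_torsionBy_iff]
        obtain ⟨c, hc⟩ := Finset.dvd_prod_of_mem gf hx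
        rw [hc, mul_comm, mul_smul, hgf2, smul_zero]
      intro x hx
      exact (Submodule.mem_torsionBy_iff _ _).mp (this hx)
  haveI : Module.Finite A C' := Module.Finite.iff_fg.mpr hC'
  refine isZero_tor_of_fg_of_primes M n (p ⊔ Ideal.span {g}) ?_ C' ?_ (i + 1) (by omega)
  · intro q _ hq
    apply H q
    refine lt_of_le_of_ne (le_sup_left.trans hq) ?_
    rintro rfl
    exact hg (hq (Ideal.mem_sup_right (Ideal.subset_span rfl)))
  · rw [sup_le_iff, Ideal.span_singleton_le_iff_mem]
    constructor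
    · intro a ha
      rw [Module.mem_annihilator]
      intro m
      exact Subtype.ext (hp a ha m.1)
    · rw [Module.mem_annihilator]
      intro m
      exact Subtype.ext (hgC m.1 m.2)

/-- All `A/p` are acyclic in degrees `> n`. -/
theorem all_primes [IsNoetherianRing A] (M : ModuleCat.{u} A) (n : ℕ)
    (hk : ∀ (x : Ideal A) [x.IsPrime] (i : ℕ), n < i →
      IsZero (((Tor (ModuleCat.{u} A) i).obj (ModuleCat.of A x.ResidueField)).obj M)) :
    ∀ (p : Ideal A) [p.IsPrime], ∀ i, n < i →
      IsZero (((Tor (ModuleCat.{u} A) i).obj (ModuleCat.of A (A ⧸ p))).obj M) := by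
  intro p
  induction p using WellFoundedGT.induction with
  | ind p ih =>
    intro hp
    exact prime_step M n p (hk p) (fun q _ hq => ih q hq)

theorem main [IsNoetherianRing A] (M : ModuleCat.{u} A) (n : ℕ) :
    (∀ (N : ModuleCat.{u} A) (i : ℕ), n < i →
      IsZero (((Tor (ModuleCat.{u} A) i).obj N).obj M)) ↔
    (∀ (x : Ideal A) [x.IsPrime] (i : ℕ), n < i →
      IsZero (((Tor (ModuleCat.{u} A) i).obj (ModuleCat.of A x.ResidueField)).obj M)) := by
  constructor
  · intro h x _ i hi
    exact h _ i hi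
  · intro hk N i hi
    have hp := all_primes M n hk
    change IsZero (((Tor (ModuleCat.{u} A) i).obj (ModuleCat.of A N)).obj M)
    apply isZero_tor_of_forall_fg
    intro N' hN'
    haveI : Module.Finite A N' := Module.Finite.iff_fg.mpr hN'
    exact isZero_tor_of_fg_of_primes M n ⊥ (fun q _ _ => hp q) N' bot_le i hi

end Groth.Agent.Lib.helper6.TorPrime
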