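import Mathlib
import Groth.Agent.Lib.helper6.TorColim
import Groth.Agent.Lib.helper6.TorLength
import Groth.Agent.Lib.helper6.TorPrime

/-!
# Abstract dévissage over Noetherian rings, and hyper-Tor `H_i(N ⊗ Q)` for a flat complex `Q`
-/

set_option autoImplicit false

namespace Groth.Agent.Lib.helper6.TorHyper

open CategoryTheory CategoryTheory.Limits MonoidalCategory
open Groth.Agent.Lib.helper6

universe u

variable {A : Type u} [CommRing A]

/-- If `F` commutes with filtered colimits and kills all f.g. submodules of `N`, it kills `N`. -/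
theorem isZero_obj_of_forall_fg {D : Type*} [Category D] [HasZeroMorphisms D]
    (F : ModuleCat.{u} A ⥤ D)
    (hF : ∀ (J : Type u) [SmallCategory J] [IsFiltered J], PreservesColimitsOfShape J F)
    (N : Type u) [AddCommGroup N] [Module A N]
    (h : ∀ N' : Submodule A N, N'.FG → IsZero (F.obj (ModuleCat.of A N'))) :
    IsZero (F.obj (ModuleCat.of A N)) := by
  classical
  let ι := {N' : Submodule A N // N'.FG}
  have : Nonempty ι := ⟨⟨⊥, Submodule.fg_bot⟩⟩
  let G : ι → Type u := fun j => j.1
  let c := ModuleCat.directLimitCocone G (Module.fgSystem A N)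
  have hc : IsColimit c := ModuleCat.directLimitIsColimit G (Module.fgSystem A N)
  have := hF ι
  have hc' : IsColimit (F.mapCocone c) := isColimitOfPreserves F hc
  have hz : IsZero (F.mapCocone c).pt := by
    rw [IsZero.iff_id_eq_zero]
    apply hc'.hom_ext
    intro j
    apply (h j.1 j.2).eq_of_src
  let e : c.pt ≅ ModuleCat.of A N := (Module.fgSystem.equiv A N).toModuleIso
  exact IsZero.of_iso hz (F.mapIso e).symm

/-- Closure properties of a family of predicates `Z i N` ("`T_i(N) = 0`" for a homological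
δ-functor `T` commuting with filtered colimits). -/
structure IsDev (Z : ℕ → ModuleCat.{u} A → Prop) : Prop where
  iso : ∀ (i : ℕ) {N N' : ModuleCat.{u} A}, (N ≅ N') → Z i N → Z i N'
  zero : ∀ (i : ℕ) (N : ModuleCat.{u} A), Subsingleton N → Z i N
  mid : ∀ (i : ℕ) (S : ShortComplex (ModuleCat.{u} A)), S.ShortExact →
    Z i S.X₁ → Z i S.X₃ → Z i S.X₂
  left : ∀ (i : ℕ) (S : ShortComplex (ModuleCat.{u} A)), S.ShortExact →
    Z (i + 1) S.X₃ → Z i S.X₂ → Z i S.X₁
  colim : ∀ (i : ℕ) (N : Type u) [AddCommGroup N] [Module A N],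
    (∀ N' : Submodule A N, N'.FG → Z i (ModuleCat.of A N')) → Z i (ModuleCat.of A N)

namespace IsDev

variable {Z : ℕ → ModuleCat.{u} A → Prop} (hZ : IsDev Z) (P : ℕ → Prop)

include hZ

/-- Dévissage by prime filtrations. -/
theorem of_fg_of_primes [IsNoetherianRing A] (J : Ideal A)
    (H : ∀ (q : Ideal A) [q.IsPrime], J ≤ q → ∀ i, P i → Z i (ModuleCat.of A (A ⧸ q)))
    (N : Type u) [AddCommGroup N] [Module A N] [hN : Module.Finite A N]
    (hJ : J ≤ Module.annihilator A N) :
    ∀ i, P i → Z i (ModuleCat.of A N) := by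
  revert hJ
  refine IsNoetherianRing.induction_on_isQuotientEquivQuotientPrime A hN
    (motive := fun N _ _ _ => J ≤ Module.annihilator A N → ∀ i, P i →
      Z i (ModuleCat.of A N)) ?_ ?_ ?_
  · intro N _ _ _ hs _ i _
    exact hZ.zero i (ModuleCat.of A N) hs
  · intro N _ _ _ p f hJ i hi
    have hp : J ≤ p.asIdeal := by
      intro a ha
      have h1 := Module.mem_annihilator.mp (hJ ha) (f.symm 1)
      have h2 : a • (1 : A ⧸ p.asIdeal) = 0 := by
        have := congrArg f h1
        simpa using this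
      rw [← Ideal.Quotient.eq_zero_iff_mem]
      simpa [Algebra.smul_def] using h2
    exact hZ.iso i f.toModuleIso.symm (H p.asIdeal hp i hi)
  · intro N₁ _ _ _ N₂ _ _ _ N₃ _ _ _ f g hf hg hfg h₁ h₃ hJ i hi
    have hJ₁ : J ≤ Module.annihilator A N₁ := by
      intro a ha
      rw [Module.mem_annihilator]
      intro m
      apply hf
      rw [map_smul, map_zero]
      exact Module.mem_annihilator.mp (hJ ha) _
    have hJ₃ : J ≤ Module.annihilator A N₃ := by
      intro a ha
      rw [Module.mem_annihilator]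
      intro m
      obtain ⟨m, rfl⟩ := hg m
      rw [← map_smul, Module.mem_annihilator.mp (hJ ha) m, map_zero]
    let S : ShortComplex (ModuleCat.{u} A) :=
      ShortComplex.mk (ModuleCat.ofHom f) (ModuleCat.ofHom g) (by
        ext x
        exact hfg.apply_apply_eq_zero x)
    have hS : S.ShortExact := by
      refine ModuleCat.shortComplex_shortExact S ?_ hf hg
      intro x
      exact hfg x
    exact hZ.mid i S hS (h₁ hJ₁ i hi) (h₃ hJ₃ i hi)

/-- The inductive step at a prime. -/
theorem prime_step [IsNoetherianRing A] (hsucc : ∀ i, P i → P (i + 1)) (p : Ideal A) [p.IsPrime]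
    (hk : ∀ i, P i → Z i (ModuleCat.of A p.ResidueField))
    (H : ∀ (q : Ideal A) [q.IsPrime], p < q → ∀ i, P i → Z i (ModuleCat.of A (A ⧸ q))) :
    ∀ i, P i → Z i (ModuleCat.of A (A ⧸ p)) := by
  intro i hi
  let f : A →ₗ[A] p.ResidueField := Algebra.linearMap A p.ResidueField
  have hker : LinearMap.ker f = p := by
    ext x
    simp [f]
  let φ : (A ⧸ p) →ₗ[A] p.ResidueField := Submodule.liftQ p f hker.ge
  have hφ : Function.Injective φ := by
    rw [← LinearMap.ker_eq_bot]
    exact Submodule.ker_liftQ_eq_bot _ _ _ hker.le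
  have hφmk : ∀ a : A, φ (Ideal.Quotient.mk p a) = algebraMap A p.ResidueField a := fun a => rfl
  let R := LinearMap.range φ
  have hS := TorLength.quotSC_shortExact R
  let e : ModuleCat.of A (A ⧸ p) ≅ ModuleCat.of A R := (LinearEquiv.ofInjective φ hφ).toModuleIso
  refine hZ.iso i e.symm ?_
  refine hZ.left i _ hS ?_ (hk i hi)
  change Z (i + 1) (ModuleCat.of A (p.ResidueField ⧸ R))
  apply hZ.colim
  intro C' hC'
  have key : ∀ x : p.ResidueField ⧸ R, ∃ g : A, g ∉ p ∧ g • x = 0 := by
    intro x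
    obtain ⟨y, rfl⟩ := Submodule.mkQ_surjective R x
    obtain ⟨⟨a, s⟩, h⟩ := IsLocalization.surj (nonZeroDivisors (A ⧸ p)) y
    obtain ⟨a, rfl⟩ := Ideal.Quotient.mk_surjective a
    obtain ⟨g, hg⟩ := Ideal.Quotient.mk_surjective s.1
    refine ⟨g, ?_, ?_⟩
    · intro hgp
      have : s.1 = 0 := by rw [← hg]; exact Ideal.Quotient.eq_zero_iff_mem.mpr hgp
      exact nonZeroDivisors.ne_zero s.2 this
    · rw [Submodule.mkQ_apply, ← Submodule.Quotient.mk_smul, Submodule.Quotient.mk_eq_zero]
      refine ⟨Ideal.Quotient.mk p a, ?_⟩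
      rw [hφmk, Algebra.smul_def, mul_comm]
      simp only at h
      rw [← hg] at h
      exact h.symm
  have hp : ∀ a ∈ p, ∀ x : p.ResidueField ⧸ R, a • x = 0 := by
    intro a ha x
    obtain ⟨y, rfl⟩ := Submodule.mkQ_surjective R x
    rw [Submodule.mkQ_apply, ← Submodule.Quotient.mk_smul, Algebra.smul_def,
      Ideal.algebraMap_residueField_eq_zero.mpr ha, zero_mul, Submodule.Quotient.mk_zero]
  obtain ⟨g, hg, hgC⟩ : ∃ g : A, g ∉ p ∧ ∀ x ∈ C', g • x = 0 := by
    obtain ⟨S, rfl⟩ := hC'
    choose gf hgf1 hgf2 using key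
    refine ⟨∏ x ∈ S, gf x, ?_, ?_⟩
    · rw [Ideal.IsPrime.prod_mem_iff]
      rintro ⟨x, -, hx⟩
      exact hgf1 x hx
    · have : Submodule.span A (S : Set (p.ResidueField ⧸ R)) ≤
          Submodule.torsionBy A _ (∏ x ∈ S, gf x) := by
        rw [Submodule.span_le]
        intro x hx
        rw [SetLike.mem_coe, Submodule.mem_torsionBy_iff]
        obtain ⟨c, hc⟩ := Finset.dvd_prod_of_mem gf hx
        rw [hc, mul_comm, mul_smul, hgf2, smul_zero]
      intro x hx
      exact (Submodule.mem_torsionBy_iff _ _).mp (this hx)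
  have : Module.Finite A C' := Module.Finite.iff_fg.mpr hC'
  refine hZ.of_fg_of_primes P (p ⊔ Ideal.span {g}) ?_ C' ?_ (i + 1) (hsucc i hi)
  · intro q _ hq
    apply H q
    refine lt_of_le_of_ne (le_sup_left.trans hq) ?_
    rintro rfl
    exact hg (hq (Ideal.mem_sup_right (Ideal.subset_span rfl)))
  · rw [sup_le_iff, Ideal.span_singleton_le_iff_mem]
    constructor
    · intro a ha
      rw [Module.mem_annihilator]
      intro m
      exact Subtype.ext (hp a ha m.1)
    · rw [Module.mem_annihilator]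
      intro m
      exact Subtype.ext (hgC m.1 m.2)

theorem all_primes [IsNoetherianRing A] (hsucc : ∀ i, P i → P (i + 1))
    (hk : ∀ (x : Ideal A) [x.IsPrime] (i : ℕ), P i → Z i (ModuleCat.of A x.ResidueField)) :
    ∀ (p : Ideal A) [p.IsPrime], ∀ i, P i → Z i (ModuleCat.of A (A ⧸ p)) := by
  intro p
  induction p using WellFoundedGT.induction with
  | ind p ih =>
    intro hp
    exact hZ.prime_step P hsucc p (hk p) (fun q _ hq => ih q hq)

/-- **Abstract dévissage**: vanishing on residue fields of all primes implies vanishing. -/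
theorem main [IsNoetherianRing A] (hsucc : ∀ i, P i → P (i + 1))
    (hk : ∀ (x : Ideal A) [x.IsPrime] (i : ℕ), P i → Z i (ModuleCat.of A x.ResidueField))
    (N : ModuleCat.{u} A) (i : ℕ) (hi : P i) : Z i N := by
  have hp := hZ.all_primes P hsucc hk
  change Z i (ModuleCat.of A N)
  apply hZ.colim
  intro N' hN'
  have : Module.Finite A N' := Module.Finite.iff_fg.mpr hN'
  exact hZ.of_fg_of_primes P ⊥ (fun q _ _ => hp q) N' bot_le i hi

end IsDev

/-! ### Hyper-Tor of a termwise flat chain complex -/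

/-- `N ↦ H_i(N ⊗ Q)`. -/
noncomputable def H (Q : ChainComplex (ModuleCat.{u} A) ℕ) (i : ℕ) :
    ModuleCat.{u} A ⥤ ModuleCat.{u} A :=
  TorRes.tcF Q ⋙ HomologicalComplex.homologyFunctor _ _ i

lemma preservesColimitsOfShape_H (Q : ChainComplex (ModuleCat.{u} A) ℕ) (i : ℕ)
    (J : Type u) [SmallCategory J] [IsFiltered J] :
    PreservesColimitsOfShape J (H Q i) := by
  have h : ∀ k, PreservesColimitsOfShape J
      (TorRes.tcF Q ⋙ HomologicalComplex.eval _ _ k) := fun k =>
    preservesColimitsOfShape_of_natIso (TorColim.tcFEvalIso Q k).symm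
  exact HomologyColim.preservesColimitsOfShape_comp_homologyFunctor' (J := J)
    (ComplexShape.down ℕ) (TorRes.tcF Q) i

theorem isDev_H (Q : ChainComplex (ModuleCat.{u} A) ℕ) (hQ : ∀ k, Module.Flat A (Q.X k)) :
    IsDev (fun i N => IsZero ((H Q i).obj N)) where
  iso i {N N'} e h := IsZero.of_iso h ((H Q i).mapIso e.symm)
  zero i N hs := by
    change IsZero ((TorRes.tc N Q).homology i)
    have hX : IsZero ((TorRes.tc N Q).X i) := by
      rw [TorRes.tc_X, ModuleCat.isZero_iff_subsingleton]
      change Subsingleton (TensorProduct A N (Q.X i))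
      infer_instance
    rw [← HomologicalComplex.exactAt_iff_isZero_homology, HomologicalComplex.exactAt_iff]
    exact ShortComplex.exact_of_isZero_X₂ _ hX
  mid i S hS h₁ h₃ := by
    have hSC := TorRes.SC_shortExact S Q hS hQ
    have e := hSC.homology_exact₂ i
    exact e.isZero_X₂ (IsZero.eq_of_src h₁ _ _) (IsZero.eq_of_tgt h₃ _ _)
  left i S hS h₃ h₂ := by
    have hSC := TorRes.SC_shortExact S Q hS hQ
    have e := hSC.homology_exact₁ (i + 1) i (by simp)
    exact e.isZero_X₂ (IsZero.eq_of_src h₃ _ _) (IsZero.eq_of_tgt h₂ _ _)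
  colim i N _ _ h :=
    isZero_obj_of_forall_fg (H Q i) (fun J _ _ => preservesColimitsOfShape_H Q i J) N h

/-- Flatness from vanishing of `Tor_1(-, M)`. -/
theorem flat_of_isZero_tor_one (M : ModuleCat.{u} A)
    (h : ∀ N : ModuleCat.{u} A, IsZero (((Tor (ModuleCat.{u} A) 1).obj N).obj M)) :
    Module.Flat A M := by
  rw [Module.Flat.iff_rTensor_injective']
  intro I
  have hS := TorLength.quotSC_shortExact I
  obtain ⟨-, -, δ, w₁, w₂, e₁, e₂⟩ := TorRes.tor_les₁ _ hS M 0
  have hm : Mono (((Tor (ModuleCat.{u} A) 0).map (TorLength.quotSC I).f).app M) :=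
    e₂.mono_g (IsZero.eq_of_src (h _) _ _)
  have hn := (TorBal.torZeroFlipIso M).hom.naturality (TorLength.quotSC I).f
  have i2 : Mono ((TorBal.torZeroFlipIso M).hom.app (TorLength.quotSC I).X₂) :=
    IsIso.mono_of_iso _
  have h5 : Mono (((Tor (ModuleCat.{u} A) 0).flip.obj M).map (TorLength.quotSC I).f ≫
      (TorBal.torZeroFlipIso M).hom.app (TorLength.quotSC I).X₂) := by
    have : Mono (((Tor (ModuleCat.{u} A) 0).flip.obj M).map (TorLength.quotSC I).f) := hm
    exact mono_comp _ _
  rw [hn] at h5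
  have h6 : Mono ((tensorRight M).map (TorLength.quotSC I).f) := by
    have i3 : IsIso ((TorBal.torZeroFlipIso M).hom.app (TorLength.quotSC I).X₁) := inferInstance
    have h7 : (tensorRight M).map (TorLength.quotSC I).f =
        inv ((TorBal.torZeroFlipIso M).hom.app (TorLength.quotSC I).X₁) ≫
        ((TorBal.torZeroFlipIso M).hom.app (TorLength.quotSC I).X₁ ≫
          (tensorRight M).map (TorLength.quotSC I).f) := by
      rw [IsIso.inv_hom_id_assoc]
    rw [h7]
    have i4 : Mono (inv ((TorBal.torZeroFlipIso M).hom.app (TorLength.quotSC I).X₁)) :=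
      IsIso.mono_of_iso _
    exact mono_comp _ _
  rw [ModuleCat.mono_iff_injective] at h6
  exact h6

end Groth.Agent.Lib.helper6.TorHyper
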