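import Mathlib
import Groth.Agent.Lib.helper6.TorHyper
import Groth.Agent.Lib.helper6.TorReg

/-!
# A morphism inducing isomorphisms on all `Tor_i(k(x), -)` is an isomorphism (Noetherian case)
-/

set_option autoImplicit false

namespace Groth.Agent.Lib.helper6.TorIsoCrit

open CategoryTheory CategoryTheory.Limits MonoidalCategory
open Groth.Agent.Lib.helper6

universe u v w

section Additive

variable {C : Type u} [Category.{v} C] [Abelian C] [EnoughProjectives C]
  {D : Type w} [Category.{v} D] [Abelian D]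

/-- Left derived functors are additive. -/
instance leftDerived_additive (F : C ⥤ D) [F.Additive] (n : ℕ) : (F.leftDerived n).Additive where
  map_add {X Y f g} := by
    let P := ProjectiveResolution.of X
    let Q := ProjectiveResolution.of Y
    have hf := F.leftDerived_map_eq n f (ProjectiveResolution.lift f P Q)
      (ProjectiveResolution.lift_commutes f P Q)
    have hg := F.leftDerived_map_eq n g (ProjectiveResolution.lift g P Q)
      (ProjectiveResolution.lift_commutes g P Q)
    have hfg := F.leftDerived_map_eq n (f + g)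
      (ProjectiveResolution.lift f P Q + ProjectiveResolution.lift g P Q)
      (by rw [Preadditive.add_comp, ProjectiveResolution.lift_commutes,
        ProjectiveResolution.lift_commutes, Functor.map_add, Preadditive.comp_add])
    rw [hfg, hf, hg, Functor.map_add, Preadditive.add_comp, Preadditive.comp_add]

end Additive

section Abelian

variable {C : Type u} [Category.{v} C] [Abelian C]

/-- If `E = M ⊕ P` and `q : E ⟶ N` restricts to an isomorphism on `M`, then the kernel of `q`
projects isomorphically onto `P`. -/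
lemma isIso_comp_snd_of_isIso_inl_comp {X₁ E N M P : C} (ι : X₁ ⟶ E) (q : E ⟶ N) (w : ι ≫ q = 0)
    (hmono : Mono ι) (hex : (ShortComplex.mk ι q w).Exact)
    (inl : M ⟶ E) (inr : P ⟶ E) (fst : E ⟶ M) (snd : E ⟶ P)
    (h2 : inr ≫ snd = 𝟙 P) (h3 : inl ≫ snd = 0)
    (h5 : fst ≫ inl + snd ≫ inr = 𝟙 E) (hu : IsIso (inl ≫ q)) : IsIso (ι ≫ snd) := by
  have hm : Mono (ι ≫ snd) := by
    apply Preadditive.mono_of_cancel_zero
    intro W z hz
    have h6 : (z ≫ ι) ≫ snd = 0 := by rw [Category.assoc]; exact hz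
    have h7 : z ≫ ι = ((z ≫ ι) ≫ fst) ≫ inl := by
      calc z ≫ ι = (z ≫ ι) ≫ 𝟙 E := (Category.comp_id _).symm
        _ = (z ≫ ι) ≫ (fst ≫ inl + snd ≫ inr) := by rw [h5]
        _ = ((z ≫ ι) ≫ fst) ≫ inl + ((z ≫ ι) ≫ snd) ≫ inr := by
            simp only [Preadditive.comp_add, Category.assoc]
        _ = ((z ≫ ι) ≫ fst) ≫ inl := by rw [h6, zero_comp, add_zero]
    have h8 : ((z ≫ ι) ≫ fst) ≫ (inl ≫ q) = 0 := by
      rw [← Category.assoc, ← h7, Category.assoc, w, comp_zero]
    have h9 : (z ≫ ι) ≫ fst = 0 := by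
      have : Mono (inl ≫ q) := IsIso.mono_of_iso _
      rw [← cancel_mono (inl ≫ q), h8, zero_comp]
    have h10 : z ≫ ι = 0 := by rw [h7, h9, zero_comp]
    rw [← cancel_mono ι, h10, zero_comp]
  have he : IsSplitEpi (ι ≫ snd) := by
    let s : P ⟶ E := inr - (inr ≫ q) ≫ inv (inl ≫ q) ≫ inl
    have hs : s ≫ q = 0 := by
      simp only [s, Preadditive.sub_comp, Category.assoc, IsIso.inv_hom_id, Category.comp_id,
        sub_self]
    let s' : P ⟶ X₁ := hex.lift s hs
    have hs' : s' ≫ ι = s := hex.lift_f s hs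
    refine IsSplitEpi.mk' ⟨s', ?_⟩
    rw [← Category.assoc, hs']
    simp only [s, Preadditive.sub_comp, Category.assoc, h3, comp_zero, sub_zero, h2]
  have : Epi (ι ≫ snd) := he.epi
  exact isIso_of_mono_of_epi _

end Abelian

variable {A : Type u} [CommRing A]

instance tor_obj_additive (k : ModuleCat.{u} A) (i : ℕ) :
    ((Tor (ModuleCat.{u} A) i).obj k).Additive :=
  inferInstanceAs (Functor.leftDerived ((tensoringLeft (ModuleCat.{u} A)).obj k) i).Additive

section Reduction

variable {M N P : ModuleCat.{u} A} (u : M ⟶ N) (π : P ⟶ N)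

/-- `(m, p) ↦ u m + π p`. -/
noncomputable def qq : (M × P) →ₗ[A] N := u.hom.coprod π.hom

/-- The projection `ker (u, π) ⟶ P`. -/
noncomputable def vv : (qq u π).shortComplexKer.X₁ ⟶ P :=
  (qq u π).shortComplexKer.f ≫ ModuleCat.ofHom (LinearMap.snd A M P)

lemma qq_surjective (hπ : Function.Surjective π.hom) : Function.Surjective (qq u π) := by
  intro y
  obtain ⟨p, rfl⟩ := hπ y
  exact ⟨(0, p), by simp [qq]⟩

/-- Lemma A: if the projection is an isomorphism so is `u`. -/
lemma isIso_of_isIso_vv (hπ : Function.Surjective π.hom) (hv : IsIso (vv u π)) : IsIso u := by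
  have hb : Function.Bijective (vv u π).hom := (ConcreteCategory.isIso_iff_bijective _).mp hv
  rw [ConcreteCategory.isIso_iff_bijective]
  constructor
  · intro m m' hmm
    have h0 : u.hom (m - m') = 0 := by rw [map_sub]; exact sub_eq_zero.mpr hmm
    have hk : ((m - m', 0) : M × P) ∈ LinearMap.ker (qq u π) := by
      rw [LinearMap.mem_ker]
      simp [qq, h0]
    have h1 : (vv u π).hom ⟨(m - m', 0), hk⟩ = (vv u π).hom 0 := by
      rw [map_zero]
      rfl
    have h2 := hb.1 h1
    have h3 : m - m' = 0 := congrArg (fun z : LinearMap.ker (qq u π) => z.1.1) h2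
    exact sub_eq_zero.mp h3
  · intro y
    obtain ⟨p, rfl⟩ := hπ y
    obtain ⟨z, hz⟩ := hb.2 p
    have hz1 : z.1.2 = p := hz
    have hz2 : u.hom z.1.1 + π.hom z.1.2 = 0 := LinearMap.mem_ker.mp z.2
    refine ⟨-z.1.1, ?_⟩
    change u.hom (-z.1.1) = π.hom p
    rw [map_neg, ← hz1]
    exact neg_eq_of_add_eq_zero_right hz2

/-- Lemma B. -/
lemma isIso_tor_map_vv (hπ : Function.Surjective π.hom) (k : ModuleCat.{u} A)
    (h : ∀ i : ℕ, IsIso (((Tor (ModuleCat.{u} A) i).obj k).map u)) (i : ℕ) :
    IsIso (((Tor (ModuleCat.{u} A) i).obj k).map (vv u π)) := by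
  let S := (qq u π).shortComplexKer
  have hS : S.ShortExact := LinearMap.shortExact_shortComplexKer (qq_surjective u π hπ)
  let inl : M ⟶ S.X₂ := ModuleCat.ofHom (LinearMap.inl A M P)
  let inr : P ⟶ S.X₂ := ModuleCat.ofHom (LinearMap.inr A M P)
  let fst : S.X₂ ⟶ M := ModuleCat.ofHom (LinearMap.fst A M P)
  let snd : S.X₂ ⟶ P := ModuleCat.ofHom (LinearMap.snd A M P)
  have h2 : inr ≫ snd = 𝟙 P := by
    apply ModuleCat.hom_ext
    exact LinearMap.snd_comp_inr A M P
  have h3 : inl ≫ snd = 0 := by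
    apply ModuleCat.hom_ext
    exact LinearMap.snd_comp_inl A M P
  have h5 : fst ≫ inl + snd ≫ inr = 𝟙 S.X₂ := by
    apply ModuleCat.hom_ext
    apply LinearMap.ext
    rintro ⟨m, p⟩
    change ((m, (0 : P)) : M × P) + ((0 : M), p) = (m, p)
    rw [Prod.mk_add_mk, add_zero, zero_add]
  have hu : inl ≫ S.g = u := by
    apply ModuleCat.hom_ext
    exact LinearMap.coprod_inl _ _
  obtain ⟨⟨w₀, e₀⟩, -, -⟩ := TorDim.tor_les₂ k S hS i
  obtain ⟨-, -, δ, w₁, w₂, e₁, e₂⟩ := TorDim.tor_les₂ k S hS i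
  let F := (Tor (ModuleCat.{u} A) i).obj k
  let F' := (Tor (ModuleCat.{u} A) (i + 1)).obj k
  have hepi : Epi (F'.map S.g) := by
    have : IsIso (F'.map u) := h (i + 1)
    have : Epi (F'.map u) := IsIso.epi_of_iso _
    have hfac : F'.map inl ≫ F'.map S.g = F'.map u := by rw [← F'.map_comp, hu]
    exact epi_of_epi_fac hfac
  have hδ : δ = 0 := by
    rw [← cancel_epi (F'.map S.g), w₁, comp_zero]
  have hmono : Mono (F.map S.f) := e₂.mono_g hδ
  have key := isIso_comp_snd_of_isIso_inl_comp (F.map S.f) (F.map S.g) w₀ hmono e₀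
    (F.map inl) (F.map inr) (F.map fst) (F.map snd)
    (by rw [← F.map_comp, h2, F.map_id])
    (by rw [← F.map_comp, h3, F.map_zero])
    (by rw [← F.map_comp, ← F.map_comp, ← F.map_add, h5, F.map_id])
    (by rw [← F.map_comp, hu]; exact h i)
  have : F.map (vv u π) = F.map S.f ≫ F.map snd := by
    rw [← F.map_comp]
    rfl
  rw [this]
  exact key

end Reduction

section TwoTerm

variable {K P : ModuleCat.{u} A}

/-- Objects of the two-term complex `K ⟶ P`. -/
noncomputable def twoX (K P : ModuleCat.{u} A) : ℕ → ModuleCat.{u} A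
  | 0 => P
  | 1 => K
  | _ + 2 => ModuleCat.of A PUnit.{u + 1}

/-- Differentials of the two-term complex. -/
noncomputable def twoD (v : K ⟶ P) : ∀ n, twoX K P (n + 1) ⟶ twoX K P n
  | 0 => v
  | _ + 1 => 0

/-- The two-term complex `K ⟶ P` in degrees `1, 0`. -/
noncomputable def two (v : K ⟶ P) : ChainComplex (ModuleCat.{u} A) ℕ :=
  ChainComplex.of (twoX K P) (twoD v) (fun n => by
    change (0 : twoX K P (n + 1 + 1) ⟶ twoX K P (n + 1)) ≫ twoD v n = 0
    exact zero_comp)

lemma two_flat (v : K ⟶ P) [Module.Flat A K] [Module.Flat A P] (n : ℕ) :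
    Module.Flat A ((two v).X n) := by
  match n with
  | 0 => exact inferInstanceAs (Module.Flat A P)
  | 1 => exact inferInstanceAs (Module.Flat A K)
  | _ + 2 => exact inferInstanceAs (Module.Flat A PUnit.{u + 1})

lemma tc_two_d (v : K ⟶ P) (W : ModuleCat.{u} A) :
    (TorRes.tc W (two v)).d 1 0 = W ◁ v := by
  change (tensorLeft W).map ((two v).d 1 0) = W ◁ v
  have : (two v).d (0 + 1) 0 = v := ChainComplex.of_d (twoX K P) (twoD v) 0
  rw [this]
  rfl

lemma isZero_H_zero_iff (v : K ⟶ P) (W : ModuleCat.{u} A) :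
    IsZero ((TorHyper.H (two v) 0).obj W) ↔ Epi (W ◁ v) := by
  change IsZero ((TorRes.tc W (two v)).homology 0) ↔ _
  rw [← HomologicalComplex.exactAt_iff_isZero_homology,
    HomologicalComplex.exactAt_iff' _ 1 0 0 (by simp) (by simp)]
  rw [ShortComplex.exact_iff_epi _ (by
    change (TorRes.tc W (two v)).d 0 0 = 0
    exact HomologicalComplex.shape _ _ _ (by simp))]
  change Epi ((TorRes.tc W (two v)).d 1 0) ↔ _
  rw [tc_two_d]
  exact Iff.rfl

lemma isZero_H_one_iff (v : K ⟶ P) (W : ModuleCat.{u} A) :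
    IsZero ((TorHyper.H (two v) 1).obj W) ↔ Mono (W ◁ v) := by
  change IsZero ((TorRes.tc W (two v)).homology 1) ↔ _
  rw [← HomologicalComplex.exactAt_iff_isZero_homology,
    HomologicalComplex.exactAt_iff' _ 2 1 0 (by simp) (by simp)]
  rw [ShortComplex.exact_iff_mono _ (by
    change (TorRes.tc W (two v)).d 2 1 = 0
    change (tensorLeft W).map ((two v).d 2 1) = 0
    have : (two v).d (1 + 1) 1 = 0 := ChainComplex.of_d (twoX K P) (twoD v) 1
    rw [this, Functor.map_zero])]
  change Mono ((TorRes.tc W (two v)).d 1 0) ↔ _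
  rw [tc_two_d]
  exact Iff.rfl

lemma isZero_H_add_two (v : K ⟶ P) (W : ModuleCat.{u} A) (i : ℕ) :
    IsZero ((TorHyper.H (two v) (i + 2)).obj W) := by
  change IsZero ((TorRes.tc W (two v)).homology (i + 2))
  have hX : IsZero ((TorRes.tc W (two v)).X (i + 2)) := by
    rw [TorRes.tc_X, ModuleCat.isZero_iff_subsingleton]
    change Subsingleton (TensorProduct A W PUnit.{u + 1})
    infer_instance
  rw [← HomologicalComplex.exactAt_iff_isZero_homology, HomologicalComplex.exactAt_iff]
  exact ShortComplex.exact_of_isZero_X₂ _ hX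

end TwoTerm

/-- A map of flat modules which becomes an isomorphism after tensoring with all residue fields
is an isomorphism. -/
theorem isIso_of_flat [IsNoetherianRing A] {K P : ModuleCat.{u} A} [Module.Flat A K]
    [Module.Flat A P] (v : K ⟶ P)
    (h : ∀ (x : Ideal A) [x.IsPrime], IsIso ((ModuleCat.of A x.ResidueField) ◁ v)) :
    IsIso v := by
  have hZ := TorHyper.isDev_H (two v) (two_flat v)
  have hall := hZ.main (fun _ => True) (fun _ _ => trivial) (by
    intro x _ i _
    have := h x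
    match i with
    | 0 =>
      change IsZero ((TorHyper.H (two v) 0).obj _)
      rw [isZero_H_zero_iff]
      infer_instance
    | 1 =>
      change IsZero ((TorHyper.H (two v) 1).obj _)
      rw [isZero_H_one_iff]
      infer_instance
    | i + 2 => exact isZero_H_add_two v _ i)
  have h0 : Epi ((𝟙_ (ModuleCat.{u} A)) ◁ v) :=
    (isZero_H_zero_iff v _).mp (hall _ 0 trivial)
  have h1 : Mono ((𝟙_ (ModuleCat.{u} A)) ◁ v) :=
    (isZero_H_one_iff v _).mp (hall _ 1 trivial)
  have h0' : Epi ((tensorLeft (𝟙_ (ModuleCat.{u} A))).map v) := h0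
  have h1' : Mono ((tensorLeft (𝟙_ (ModuleCat.{u} A))).map v) := h1
  have h2 : IsIso ((tensorLeft (𝟙_ (ModuleCat.{u} A))).map v) := isIso_of_mono_of_epi _
  exact (NatIso.isIso_map_iff (leftUnitorNatIso (ModuleCat.{u} A)) v).mp h2

/-- **Main theorem**. -/
theorem main [IsNoetherianRing A] {M N : ModuleCat.{u} A} (u : M ⟶ N)
    (h : ∀ (x : Ideal A) [x.IsPrime] (i : ℕ),
      IsIso (((Tor (ModuleCat.{u} A) i).obj (ModuleCat.of A x.ResidueField)).map u)) :
    IsIso u := by
  let P := Projective.over N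
  let π : P ⟶ N := Projective.π N
  have hπ : Function.Surjective π.hom := (ModuleCat.epi_iff_surjective π).mp inferInstance
  apply isIso_of_isIso_vv u π hπ
  have hv : ∀ (x : Ideal A) [x.IsPrime] (i : ℕ),
      IsIso (((Tor (ModuleCat.{u} A) i).obj (ModuleCat.of A x.ResidueField)).map (vv u π)) :=
    fun x _ i => isIso_tor_map_vv u π hπ _ (h x) i
  have hPflat : Module.Flat A P := inferInstance
  have hKflat : Module.Flat A (qq u π).shortComplexKer.X₁ := by
    apply TorHyper.flat_of_isZero_tor_one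
    intro N'
    refine (TorPrime.main (qq u π).shortComplexKer.X₁ 0).mpr ?_ N' 1 (by omega)
    intro x _ i hi
    obtain ⟨j, rfl⟩ : ∃ j, i = j + 1 := ⟨i - 1, by omega⟩
    have := hv x (j + 1)
    refine IsZero.of_iso ?_ (asIso (((Tor (ModuleCat.{u} A) (j + 1)).obj
      (ModuleCat.of A x.ResidueField)).map (vv u π)))
    exact isZero_Tor_succ_of_projective _ _ P j
  apply isIso_of_flat
  intro x _
  have := hv x 0
  exact (NatIso.isIso_map_iff (TorBal.torZeroIso (ModuleCat.of A x.ResidueField)) (vv u π)).mp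
    this

end Groth.Agent.Lib.helper6.TorIsoCrit
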