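import Mathlib
import Groth.Agent.Lib.helper6.TorBC3
import Groth.Agent.Lib.helper6.TorReg
import Groth.Agent.Lib.helper6.TorNat
import Groth.Agent.Lib.helper6.TorLength
import Groth.Agent.Lib.helper6.TorLocal
import Groth.Agent.Lib.helper6.TorIsoCrit

/-!
# Flatness criterion along a nonzerodivisor

`M` is flat over `A` as soon as `π` is regular on `A` and `M`, `M/πM` is flat over `A/π` and
`M[1/π]` is flat over `A[1/π]`.
-/

set_option linter.style.haveILetI false

namespace Groth.Agent.Lib.helper6.FlatCrit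

universe u

open CategoryTheory CategoryTheory.Limits MonoidalCategory
open Groth.Agent.Lib.helper6
open Groth.Agent.Lib.helper6.TorIsoCrit (tor_obj_additive)

variable {A : Type u} [CommRing A]

/-- If `Tor_i(M, N') = 0` for all finitely generated submodules `N' ≤ N`, then `Tor_i(M, N) = 0`. -/
theorem isZero_tor_of_forall_fg₂ (M : ModuleCat.{u} A) (i : ℕ) (N : Type u) [AddCommGroup N]
    [Module A N]
    (h : ∀ N' : Submodule A N, N'.FG →
      IsZero (((Tor (ModuleCat.{u} A) i).obj M).obj (ModuleCat.of A N'))) :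
    IsZero (((Tor (ModuleCat.{u} A) i).obj M).obj (ModuleCat.of A N)) := by
  classical
  let ι := {N' : Submodule A N // N'.FG}
  haveI : Nonempty ι := ⟨⟨⊥, Submodule.fg_bot⟩⟩
  let G : ι → Type u := fun j => j.1
  let c := ModuleCat.directLimitCocone G (Module.fgSystem A N)
  have hc : IsColimit c := ModuleCat.directLimitIsColimit G (Module.fgSystem A N)
  let F := (Tor (ModuleCat.{u} A) i).obj M
  haveI := TorNat.preservesColimitsOfShape_tor ι i M
  have hc' : IsColimit (F.mapCocone c) := isColimitOfPreserves F hc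
  have hz : IsZero (F.mapCocone c).pt := by
    rw [IsZero.iff_id_eq_zero]
    apply hc'.hom_ext
    intro j
    apply (h j.1 j.2).eq_of_src
  let e : c.pt ≅ ModuleCat.of A N := (Module.fgSystem.equiv A N).toModuleIso
  exact IsZero.of_iso hz (F.mapIso e).symm

/-- Vanishing of `Tor^A_{n+1}(M, N)` for `N` a module over an `A`-algebra `A'` Tor-independent of
`M` with `A' ⊗ M` flat over `A'`. -/
theorem vanish_of_algebra (A' : Type u) [CommRing A'] [Algebra A A'] (M : ModuleCat.{u} A)
    (hP : ∀ q, IsZero (((Tor (ModuleCat.{u} A) (q + 1)).obj M).obj (ModuleCat.of A A')))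
    (hflat : Module.Flat A' (TensorProduct A A' M))
    (N : Type u) [AddCommGroup N] [Module A' N] [Module A N] [IsScalarTower A A' N] (n : ℕ) :
    IsZero (((Tor (ModuleCat.{u} A) (n + 1)).obj M).obj (ModuleCat.of A N)) := by
  obtain ⟨e⟩ := TorBC.nonempty_torBC3Iso A A' M hP N (n + 1)
  refine IsZero.of_iso ?_ e
  haveI : Module.Flat A' ((TorBC.bc A A').obj M) := hflat
  exact Functor.map_isZero _ (TorBal.isZero_tor_succ_of_flat_left _ _ n)

variable (π : A) (M : ModuleCat.{u} A)

/-- modules killed by `π` -/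
theorem vanish_of_smul_eq_zero (hπA : IsSMulRegular A π) (hπM : IsSMulRegular M π)
    (h1 : Module.Flat (A ⧸ Ideal.span {π}) (TensorProduct A (A ⧸ Ideal.span {π}) M))
    (N : Type u) [AddCommGroup N] [Module A N] (hN : ∀ x : N, π • x = 0) (n : ℕ) :
    IsZero (((Tor (ModuleCat.{u} A) (n + 1)).obj M).obj (ModuleCat.of A N)) := by
  have hT : Module.IsTorsionBy A N π := fun x => hN x
  letI : Module (A ⧸ Ideal.span {π}) N := hT.module
  haveI : IsScalarTower A (A ⧸ Ideal.span {π}) N := by
    refine ⟨fun a b x => ?_⟩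
    obtain ⟨b, rfl⟩ := Ideal.Quotient.mk_surjective b
    change (a • Ideal.Quotient.mk _ b) • x = a • (Ideal.Quotient.mk _ b • x)
    rw [← Ideal.Quotient.mk_eq_mk, ← Submodule.Quotient.mk_smul]
    change (a • b) • x = a • (b • x)
    exact smul_assoc a b x
  exact vanish_of_algebra (A ⧸ Ideal.span {π}) M
    (fun q => TorReg.isZero_tor_quot_of_regular M π hπA hπM q) h1 N n

/-- modules killed by `π ^ k` -/
theorem vanish_of_pow (hπA : IsSMulRegular A π) (hπM : IsSMulRegular M π)
    (h1 : Module.Flat (A ⧸ Ideal.span {π}) (TensorProduct A (A ⧸ Ideal.span {π}) M)) (k : ℕ) :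
    ∀ (N : Type u) [AddCommGroup N] [Module A N], (∀ x : N, π ^ k • x = 0) → ∀ n : ℕ,
      IsZero (((Tor (ModuleCat.{u} A) (n + 1)).obj M).obj (ModuleCat.of A N)) := by
  induction k with
  | zero =>
    intro N _ _ hN n
    haveI : Subsingleton N := ⟨fun x y => by
      have hx := hN x
      have hy := hN y
      rw [pow_zero, one_smul] at hx hy
      rw [hx, hy]⟩
    exact Functor.map_isZero _ (ModuleCat.isZero_of_subsingleton _)
  | succ k ih =>
    intro N _ _ hN n
    let N' : Submodule A N := LinearMap.range (π • (LinearMap.id : N →ₗ[A] N))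
    have hS := TorLength.quotSC_shortExact N'
    refine TorDim.isZero_tor_X₂ M hS (n + 1) ?_ ?_
    · refine ih N' ?_ n
      rintro ⟨x, y, rfl⟩
      apply Subtype.ext
      change π ^ k • (π • y) = 0
      rw [smul_smul, ← pow_succ]
      exact hN y
    · refine vanish_of_smul_eq_zero π M hπA hπM h1 (N ⧸ N') ?_ n
      intro x
      obtain ⟨x, rfl⟩ := Submodule.Quotient.mk_surjective _ x
      rw [← Submodule.Quotient.mk_smul, Submodule.Quotient.mk_eq_zero]
      exact ⟨x, rfl⟩

/-- `π`-power torsion modules -/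
theorem vanish_of_torsion (hπA : IsSMulRegular A π) (hπM : IsSMulRegular M π)
    (h1 : Module.Flat (A ⧸ Ideal.span {π}) (TensorProduct A (A ⧸ Ideal.span {π}) M))
    (N : Type u) [AddCommGroup N] [Module A N] (hN : ∀ x : N, ∃ k : ℕ, π ^ k • x = 0) (n : ℕ) :
    IsZero (((Tor (ModuleCat.{u} A) (n + 1)).obj M).obj (ModuleCat.of A N)) := by
  classical
  apply isZero_tor_of_forall_fg₂
  intro N' hfg
  obtain ⟨s, rfl⟩ := hfg
  choose k hk using hN
  have hK : ∀ x ∈ Submodule.span A (s : Set N), π ^ (s.sup k) • x = 0 := by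
    intro x hx
    induction hx using Submodule.span_induction with
    | mem x hx =>
      have hle : k x ≤ s.sup k := Finset.le_sup hx
      obtain ⟨d, hd⟩ := Nat.exists_eq_add_of_le hle
      rw [hd, pow_add, mul_comm, mul_smul, hk, smul_zero]
    | zero => simp
    | add x y _ _ hx hy => rw [smul_add, hx, hy, add_zero]
    | smul a x _ hx => rw [smul_comm, hx, smul_zero]
  refine vanish_of_pow π M hπA hπM h1 (s.sup k) _ ?_ n
  rintro ⟨x, hx⟩
  exact Subtype.ext (hK x hx)

/-- all modules -/
theorem vanish_one (hπA : IsSMulRegular A π) (hπM : IsSMulRegular M π)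
    (h1 : Module.Flat (A ⧸ Ideal.span {π}) (TensorProduct A (A ⧸ Ideal.span {π}) M))
    (h2 : Module.Flat (Localization.Away π) (TensorProduct A (Localization.Away π) M))
    (N : Type u) [AddCommGroup N] [Module A N] :
    IsZero (((Tor (ModuleCat.{u} A) 1).obj M).obj (ModuleCat.of A N)) := by
  let S := Submonoid.powers π
  let f : N →ₗ[A] LocalizedModule S N := LocalizedModule.mkLinearMap S N
  -- Tor_1(M, N_π) = 0
  have hloc : IsZero (((Tor (ModuleCat.{u} A) 1).obj M).obj
      (ModuleCat.of A (LocalizedModule S N))) :=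
    vanish_of_algebra (Localization.Away π) M
      (fun q => TorBal.isZero_tor_succ_of_flat_right _ _ q) h2 (LocalizedModule S N) 0
  -- the cokernel is torsion
  have hC : IsZero (((Tor (ModuleCat.{u} A) 2).obj M).obj
      (ModuleCat.of A (LocalizedModule S N ⧸ LinearMap.range f))) := by
    refine vanish_of_torsion π M hπA hπM h1 _ ?_ 1
    intro y
    obtain ⟨y, rfl⟩ := Submodule.Quotient.mk_surjective _ y
    obtain ⟨⟨x, ⟨s, ⟨k, rfl⟩⟩⟩, hx⟩ := IsLocalizedModule.surj S f y
    refine ⟨k, ?_⟩
    rw [← Submodule.Quotient.mk_smul, Submodule.Quotient.mk_eq_zero]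
    exact ⟨x, hx.symm⟩
  have hIm : IsZero (((Tor (ModuleCat.{u} A) 1).obj M).obj
      (ModuleCat.of A (LinearMap.range f))) :=
    TorDim.isZero_tor_X₁ M (TorLength.quotSC_shortExact (LinearMap.range f)) 1 hC hloc
  -- the kernel is torsion
  have hK : IsZero (((Tor (ModuleCat.{u} A) 1).obj M).obj
      (ModuleCat.of A (LinearMap.ker f))) := by
    refine vanish_of_torsion π M hπA hπM h1 _ ?_ 0
    rintro ⟨x, hx⟩
    obtain ⟨⟨s, ⟨k, rfl⟩⟩, hs⟩ := (IsLocalizedModule.eq_zero_iff S f).mp hx
    exact ⟨k, Subtype.ext hs⟩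
  have hQ : IsZero (((Tor (ModuleCat.{u} A) 1).obj M).obj
      (ModuleCat.of A (N ⧸ LinearMap.ker f))) :=
    IsZero.of_iso hIm (((Tor (ModuleCat.{u} A) 1).obj M).mapIso
      (LinearMap.quotKerEquivRange f).toModuleIso)
  exact TorDim.isZero_tor_X₂ M (TorLength.quotSC_shortExact (LinearMap.ker f)) 1 hK hQ

/-- **Flatness criterion along a nonzerodivisor.** -/
theorem flat_of_three (hπA : IsSMulRegular A π) (hπM : IsSMulRegular M π)
    (h1 : Module.Flat (A ⧸ Ideal.span {π}) (TensorProduct A (A ⧸ Ideal.span {π}) M))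
    (h2 : Module.Flat (Localization.Away π) (TensorProduct A (Localization.Away π) M)) :
    Module.Flat A M := by
  rw [Module.Flat.iff_rTensor_injective']
  intro I
  rw [← LinearMap.lTensor_inj_iff_rTensor_inj]
  have hS := TorLength.quotSC_shortExact I
  have hm := TorLocal.mono_tensorLeft_map_of_isZero_tor_one M hS
    (vanish_one π M hπA hπM h1 h2 _)
  rw [ModuleCat.mono_iff_injective] at hm
  exact hm

end Groth.Agent.Lib.helper6.FlatCrit
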