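import Mathlib
import Groth.Agent.Lib.helper6.FlatCrit

/-!
# Flatness criterion along a nonzerodivisor, universe-polymorphic version
-/

set_option linter.style.haveILetI false

namespace Groth.Agent.Lib.helper6.FlatCritU

universe u v

open TensorProduct

/-- transfer of flatness of a base change along a surjection of base rings -/
theorem flat_transfer
    {A : Type*} {A' : Type*} [CommRing A] [CommRing A'] [Algebra A A']
    (hA : Function.Surjective (algebraMap A A'))
    {B : Type*} {B' : Type*} [CommRing B] [CommRing B'] [Algebra A B] [Algebra A' B']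
    [Algebra B B'] [Algebra A B'] [IsScalarTower A B B'] [IsScalarTower A A' B']
    {M M' : Type*} [AddCommGroup M] [AddCommGroup M'] [Module A M] [Module A' M'] [Module A M']
    [IsScalarTower A A' M'] (g : M ≃ₗ[A] M')
    (h : Module.Flat B (B ⊗[A] M)) : Module.Flat B' (B' ⊗[A'] M') := by
  have e1 : B' ⊗[B] (B ⊗[A] M) ≃ₗ[B'] B' ⊗[A] M :=
    TensorProduct.AlgebraTensorModule.cancelBaseChange A B B' B' M
  have e2 : B' ⊗[A] M ≃ₗ[B'] B' ⊗[A] M' :=
    TensorProduct.AlgebraTensorModule.congr (LinearEquiv.refl B' B') g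
  haveI : TensorProduct.CompatibleSMul A A' B' M' := by
    refine ⟨fun r m n => ?_⟩
    obtain ⟨a, rfl⟩ := hA r
    rw [algebraMap_smul, algebraMap_smul, TensorProduct.smul_tmul]
  have e3 : B' ⊗[A'] M' ≃ₗ[B'] B' ⊗[A] M' :=
    TensorProduct.equivOfCompatibleSMul A A' B' B' M'
  exact Module.Flat.of_linearEquiv (e3.trans (e2.symm.trans e1.symm))

section main

variable {A : Type u} [CommRing A] (π : A) (M : Type v) [AddCommGroup M] [Module A M]

theorem flat_quot (h1 : Module.Flat (A ⧸ Ideal.span {π}) ((A ⧸ Ideal.span {π}) ⊗[A] M)) :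
    Module.Flat (ULift.{v} A ⧸ Ideal.span {(ULift.up π : ULift.{v} A)})
      ((ULift.{v} A ⧸ Ideal.span {(ULift.up π : ULift.{v} A)}) ⊗[ULift.{v} A] (ULift.{u} M)) := by
  have hsurj : Function.Surjective (algebraMap A (ULift.{v} A)) := fun x => ⟨x.down, rfl⟩
  have hle : Ideal.span {π} ≤ (Ideal.span {(ULift.up π : ULift.{v} A)}).comap
      (algebraMap A (ULift.{v} A)) := by
    rw [Ideal.span_le]
    intro x hx
    rw [Set.mem_singleton_iff] at hx
    subst hx
    exact Ideal.subset_span rfl
  letI : Algebra (A ⧸ Ideal.span {π}) (ULift.{v} A ⧸ Ideal.span {(ULift.up π : ULift.{v} A)}) :=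
    (Ideal.quotientMap _ (algebraMap A (ULift.{v} A)) hle).toAlgebra
  haveI : IsScalarTower A (A ⧸ Ideal.span {π})
      (ULift.{v} A ⧸ Ideal.span {(ULift.up π : ULift.{v} A)}) :=
    IsScalarTower.of_algebraMap_eq' rfl
  exact flat_transfer hsurj (ULift.moduleEquiv.symm : M ≃ₗ[A] ULift.{u} M) h1

theorem flat_loc {A' : Type*} [CommRing A'] [Algebra A A']
    (hsurj : Function.Surjective (algebraMap A A'))
    {M' : Type*} [AddCommGroup M'] [Module A' M'] [Module A M'] [IsScalarTower A A' M']
    (g : M ≃ₗ[A] M')
    (h2 : Module.Flat (Localization.Away π) ((Localization.Away π) ⊗[A] M)) :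
    Module.Flat (Localization.Away (algebraMap A A' π))
      ((Localization.Away (algebraMap A A' π)) ⊗[A'] M') := by
  have hunit : IsUnit (algebraMap A (Localization.Away (algebraMap A A' π)) π) := by
    have := IsLocalization.Away.algebraMap_isUnit (S := Localization.Away (algebraMap A A' π))
      (algebraMap A A' π)
    rw [IsScalarTower.algebraMap_apply A A' (Localization.Away (algebraMap A A' π))]
    exact this
  letI : Algebra (Localization.Away π) (Localization.Away (algebraMap A A' π)) :=
    (IsLocalization.Away.lift π hunit).toAlgebra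
  haveI : IsScalarTower A (Localization.Away π) (Localization.Away (algebraMap A A' π)) :=
    IsScalarTower.of_algebraMap_eq' (R := A) (S := Localization.Away π)
      (A := Localization.Away (algebraMap A A' π)) (IsLocalization.Away.lift_comp π hunit).symm
  exact flat_transfer hsurj g h2

/-- **Flatness criterion along a nonzerodivisor**, any universes. -/
theorem flat_of_three (hπA : IsSMulRegular A π) (hπM : IsSMulRegular M π)
    (h1 : Module.Flat (A ⧸ Ideal.span {π}) ((A ⧸ Ideal.span {π}) ⊗[A] M))
    (h2 : Module.Flat (Localization.Away π) ((Localization.Away π) ⊗[A] M)) :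
    Module.Flat A M := by
  have hA' : IsSMulRegular (ULift.{v} A) (ULift.up π : ULift.{v} A) := by
    intro x y h
    apply ULift.ext
    apply hπA
    exact congrArg ULift.down h
  have hM' : IsSMulRegular (ULift.{u} M) (ULift.up π : ULift.{v} A) := by
    intro x y h
    apply ULift.ext
    apply hπM
    exact congrArg ULift.down h
  have key : Module.Flat (ULift.{v} A) (ULift.{u} M) :=
    FlatCrit.flat_of_three (ULift.up π : ULift.{v} A) (ModuleCat.of (ULift.{v} A) (ULift.{u} M))
      hA' hM' (flat_quot π M h1)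
      (flat_loc π M (fun x => ⟨x.down, rfl⟩) (ULift.moduleEquiv.symm : M ≃ₗ[A] ULift.{u} M) h2)
  haveI : Module.Flat A (ULift.{v} A) :=
    Module.Flat.of_linearEquiv (ULift.moduleEquiv : ULift.{v} A ≃ₗ[A] A)
  have h3 : Module.Flat A (ULift.{u} M) := Module.Flat.trans A (ULift.{v} A) (ULift.{u} M)
  exact Module.Flat.of_linearEquiv (ULift.moduleEquiv.symm : M ≃ₗ[A] ULift.{u} M)

end main

end Groth.Agent.Lib.helper6.FlatCritU
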