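import Mathlib
import Groth.Agent.Lib.helper7.DimSch11
import Groth.Agent.Lib.helper7.DimSch16
import Groth.Agent.S2082

/-!
# Miracle flatness for schemes locally of finite type over a field
-/

set_option autoImplicit false
set_option linter.style.haveILetI false
set_option linter.unusedSectionVars false

universe u

namespace Groth.Agent.Lib.helper6.FlatDimSch

open AlgebraicGeometry CategoryTheory IsLocalRing LocCoh
open Groth.Agent.Lib.helper7 Groth.Agent.Lib.helper7.DimSch

variable {X Y : Scheme.{u}} (f : X ⟶ Y)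

theorem fiber_components (y : Y) (n : ℕ)
    (hfib : ∀ Z ∈ irreducibleComponents (f.base ⁻¹' {y}), topologicalKrullDim Z = (n : WithBot ℕ∞)) :
    ∀ Z ∈ irreducibleComponents (f.fiber y : Type u), topologicalKrullDim Z = (n : WithBot ℕ∞) := by
  intro Z hZ
  haveI : QuasiSober (f.base ⁻¹' {y}) := (f.fiberHomeo y).symm.isClosedEmbedding.quasiSober
  obtain ⟨z', hz'⟩ := QuasiSober.sober hZ.1 (isClosed_of_mem_irreducibleComponents Z hZ)
  have hmax' : ∀ w : f.fiber y, w ⤳ z' → w = z' :=
    (closure_mem_irreducibleComponents_iff z').mp (by rw [hz'.def]; exact hZ)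
  have hmax2 := forall_specializes_homeomorph (f.fiberHomeo y) z' hmax'
  have h1 := (closure_mem_irreducibleComponents_iff (f.fiberHomeo y z')).mpr hmax2
  have h2 := hfib _ h1
  rw [← hz'.def, topologicalKrullDim_closure_singleton_homeomorph (f.fiberHomeo y) z']
  exact h2

theorem flat_congr (x x' : X) (h : x' = x) (hfl : (f.stalkMap x').hom.Flat) :
    (f.stalkMap x).hom.Flat := by
  subst h
  exact hfl

section main

variable (k : Type u) [Field k] [X.Over (Spec (CommRingCat.of k))]
  [Y.Over (Spec (CommRingCat.of k))] [LocallyOfFiniteType (X ↘ Spec (CommRingCat.of k))]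
  [LocallyOfFiniteType (Y ↘ Spec (CommRingCat.of k))] [LocallyOfFiniteType f]

theorem flat_of_dims
    (hf : f ≫ (Y ↘ Spec (CommRingCat.of k)) = X ↘ Spec (CommRingCat.of k))
    (hY : ∀ y : Y, IsRegularLocalRing (Y.presheaf.stalk y))
    (hX : ∀ x : X, IsCohenMacaulayLocalRing (X.presheaf.stalk x))
    (e d : ℕ) (hde : d ≤ e)
    (hXe : ∀ Z ∈ irreducibleComponents (X : Type u), topologicalKrullDim Z = (e : WithBot ℕ∞))
    (hYd : ∀ Z ∈ irreducibleComponents (Y : Type u), topologicalKrullDim Z = (d : WithBot ℕ∞))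
    (hfib : ∀ y : Y, ∀ Z ∈ irreducibleComponents (f.fiber y : Type u),
      topologicalKrullDim Z = ((e - d : ℕ) : WithBot ℕ∞)) :
    Flat f := by
  apply Flat.of_stalkMap
  intro x₀
  suffices H : ∀ (y : Y) (z' : f.fiber y), (f.stalkMap (f.fiberι y z')).hom.Flat from
    flat_congr f x₀ _ (f.fiberι_asFiber x₀) (H (f x₀) (f.asFiber x₀))
  intro y z'
  letI : (f.fiber y).Over (Spec (CommRingCat.of (Y.residueField y))) :=
    ⟨f.fiberToSpecResidueField y⟩
  haveI : LocallyOfFiniteType ((f.fiber y) ↘ Spec (CommRingCat.of (Y.residueField y))) :=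
    (MorphismProperty.pullback_snd _ _ inferInstance :
      LocallyOfFiniteType (f.fiberToSpecResidueField y))
  have hx := ringKrullDim_stalk_add_trdegNat k X e hXe (f.fiberι y z')
  have hy := ringKrullDim_stalk_add_trdegNat k Y d hYd (f (f.fiberι y z'))
  have hF := ringKrullDim_stalk_add_trdegNat (Y.residueField y) (f.fiber y) (e - d) (hfib y) z'
  have htr := trdegNat_eq_add_fiberTrdegNat f y k hf z'
  have hfx : f (f.fiberι y z') = y := FibStalk.apply_fiberι f y z'
  have hty : trdegNat k Y (f (f.fiberι y z')) = trdegNat k Y y := by rw [hfx]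
  rw [hty] at hy
  obtain ⟨a, ha, hae⟩ := exists_nat_of_add_eq hx
  obtain ⟨b, hb, hbd⟩ := exists_nat_of_add_eq hy
  obtain ⟨c, hc, hcd⟩ := exists_nat_of_add_eq hF
  have htr' : trdegNat k X (f.fiberι y z') =
      trdegNat k Y y + trdegNat (Y.residueField y) (f.fiber y) z' := htr
  have habc : a = b + c := by omega
  haveI := hY (f (f.fiberι y z'))
  haveI := hX (f.fiberι y z')
  algebraize [(f.stalkMap (f.fiberι y z')).hom]
  haveI : IsLocalHom (algebraMap (Y.presheaf.stalk (f (f.fiberι y z')))
      (X.presheaf.stalk (f.fiberι y z'))) :=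
    inferInstanceAs (IsLocalHom (f.stalkMap (f.fiberι y z')).hom)
  have hflat : Module.Flat (Y.presheaf.stalk (f (f.fiberι y z')))
      (X.presheaf.stalk (f.fiberι y z')) := by
    apply Groth.Agent.S2082.result
    have hq : ringKrullDim (X.presheaf.stalk (f.fiberι y z') ⧸
        (maximalIdeal (Y.presheaf.stalk (f (f.fiberι y z')))).map
          (algebraMap (Y.presheaf.stalk (f (f.fiberι y z')))
            (X.presheaf.stalk (f.fiberι y z')))) = c := by
      rw [← hc]
      exact ringKrullDim_eq_of_ringEquiv (FibDim.fiberStalkEquiv f y z')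
    rw [hq, ha, hb, habc]
    push_cast
    rfl
  exact hflat

end main

end Groth.Agent.Lib.helper6.FlatDimSch
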