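import Mathlib
import Groth.Agent.Lib.helper9.FlatDepth
import Groth.Agent.Lib.helper9.FlatDepth2

/-!
# Flat base change `A → B` whose image contains `V(I)`: heights and depths
-/

set_option autoImplicit false
set_option linter.style.haveILetI false
set_option linter.unusedSectionVars false
set_option maxHeartbeats 400000

universe u

namespace Groth.Agent.Lib.helper6.FlatImg

open LocCoh Groth.Agent.Lib.helper9.Depth Groth.Agent.Lib.helper9.FlatDepth
  RingTheory.Sequence TensorProduct Pointwise

variable {A B : Type u} [CommRing A] [CommRing B] [Algebra A B] [Module.Flat A B]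

/-- if the annihilator of `m` is contained in the contraction of a prime of `B`, then
`1 ⊗ m ≠ 0` in `B ⊗ M` (for `B` flat). -/
theorem one_tmul_ne_zero (M : Type u) [AddCommGroup M] [Module A M] (m : M) (q : Ideal B)
    [q.IsPrime] (h : ∀ a : A, a • m = 0 → algebraMap A B a ∈ q) : (1 : B) ⊗ₜ[A] m ≠ 0 := by
  intro h0
  let f : A →ₗ[A] M := LinearMap.toSpanSingleton A M m
  let K : Ideal A := LinearMap.ker f
  let fbar : (A ⧸ K) →ₗ[A] M := Submodule.liftQ K f le_rfl
  have hinj : Function.Injective fbar := by
    rw [← LinearMap.ker_eq_bot]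
    exact Submodule.ker_liftQ_eq_bot _ _ _ le_rfl
  have hinjB : Function.Injective (fbar.lTensor B) :=
    Module.Flat.lTensor_preserves_injective_linearMap fbar hinj
  have h1 : fbar.lTensor B ((1 : B) ⊗ₜ[A] (Ideal.Quotient.mk K 1)) = 0 := by
    rw [LinearMap.lTensor_tmul]
    have : fbar (Ideal.Quotient.mk K 1) = m := by
      change f 1 = m
      simp [f]
    rw [this]
    exact h0
  have h2 : (1 : B) ⊗ₜ[A] (Ideal.Quotient.mk K 1) = 0 := hinjB (by rw [h1, map_zero])
  have h3 : (1 : B) ∈ K • (⊤ : Submodule A B) := by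
    have := congrArg (TensorProduct.tensorQuotEquivQuotSMul B K) h2
    rw [TensorProduct.tensorQuotEquivQuotSMul_tmul_mk, map_zero, one_smul,
      Submodule.Quotient.mk_eq_zero] at this
    exact this
  have h4 : K • (⊤ : Submodule A B) ≤ q.restrictScalars A := by
    rw [Submodule.smul_le]
    intro a ha b _
    change a • b ∈ q
    rw [Algebra.smul_def]
    exact Ideal.mul_mem_right _ _ (h a (by simpa [f, K] using ha))
  exact (Ideal.IsPrime.ne_top ‹_›) ((Ideal.eq_top_iff_one q).mpr (h4 h3))

variable [IsNoetherianRing A] (I : Ideal A)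
  (hI : ∀ p : PrimeSpectrum A, I ≤ p.asIdeal →
    ∃ q : PrimeSpectrum B, q.asIdeal.comap (algebraMap A B) = p.asIdeal)

include hI in
theorem map_smul_top_ne_top (M : Type u) [AddCommGroup M] [Module A M] [Module.Finite A M]
    (h : I • (⊤ : Submodule A M) ≠ ⊤) :
    I.map (algebraMap A B) • (⊤ : Submodule B (B ⊗[A] M)) ≠ ⊤ := by
  intro htop
  haveI : Nontrivial (M ⧸ I • (⊤ : Submodule A M)) := Submodule.Quotient.nontrivial_iff.mpr h
  obtain ⟨p, hp⟩ := associatedPrimes.nonempty A (M ⧸ I • (⊤ : Submodule A M))
  have hp' : IsAssociatedPrime p (M ⧸ I • (⊤ : Submodule A M)) := hp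
  have hprime := hp'.isPrime
  rw [isAssociatedPrime_iff] at hp'
  obtain ⟨-, n, hn⟩ := hp'
  have hkillN : ∀ a ∈ I, ∀ z : M ⧸ I • (⊤ : Submodule A M), a • z = 0 := by
    intro a ha z
    obtain ⟨y, rfl⟩ := Submodule.Quotient.mk_surjective _ z
    rw [← Submodule.Quotient.mk_smul, Submodule.Quotient.mk_eq_zero]
    exact Submodule.smul_mem_smul ha Submodule.mem_top
  have hIp : I ≤ p := by
    intro a ha
    rw [hn, Submodule.mem_colon_singleton, hkillN a ha n]
    exact Submodule.zero_mem _
  obtain ⟨q, hq⟩ := hI ⟨p, hprime⟩ hIp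
  have hne : (1 : B) ⊗ₜ[A] n ≠ 0 := by
    refine one_tmul_ne_zero _ n q.asIdeal (fun a ha => ?_)
    have h1 : a ∈ p := by
      rw [hn, Submodule.mem_colon_singleton, ha]
      exact Submodule.zero_mem _
    have h2 : a ∈ q.asIdeal.comap (algebraMap A B) := by
      rw [hq]
      exact h1
    exact h2
  let π : B ⊗[A] M →ₗ[B] B ⊗[A] (M ⧸ I • (⊤ : Submodule A M)) :=
    LinearMap.baseChange B (Submodule.mkQ _)
  have hπ : Function.Surjective π :=
    LinearMap.lTensor_surjective B (Submodule.mkQ_surjective _)
  have h1 : I.map (algebraMap A B) •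
      (⊤ : Submodule B (B ⊗[A] (M ⧸ I • (⊤ : Submodule A M)))) = ⊤ := by
    have := congrArg (Submodule.map π) htop
    rwa [Submodule.map_smul'', Submodule.map_top, LinearMap.range_eq_top.mpr hπ] at this
  have hann : I.map (algebraMap A B) ≤
      Module.annihilator B (B ⊗[A] (M ⧸ I • (⊤ : Submodule A M))) := by
    rw [Ideal.map_le_iff_le_comap]
    intro a ha
    rw [Ideal.mem_comap, Module.mem_annihilator]
    intro z
    induction z using TensorProduct.induction_on with
    | zero => rw [smul_zero]
    | add x y hx hy => rw [smul_add, hx, hy, add_zero]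
    | tmul b n' =>
      rw [algebraMap_smul, ← TensorProduct.tmul_smul, hkillN a ha, TensorProduct.tmul_zero]
  have h2 : I.map (algebraMap A B) •
      (⊤ : Submodule B (B ⊗[A] (M ⧸ I • (⊤ : Submodule A M)))) = ⊥ := by
    rw [eq_bot_iff, Submodule.smul_le]
    intro r hr z _
    rw [Module.mem_annihilator.mp (hann hr) z]
    exact Submodule.zero_mem _
  have h3 : (1 : B) ⊗ₜ[A] n ∈ (⊥ : Submodule B (B ⊗[A] (M ⧸ I • (⊤ : Submodule A M)))) := by
    rw [← h2, h1]
    exact Submodule.mem_top
  exact hne ((Submodule.mem_bot B).mp h3)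

variable [IsNoetherianRing B]

include hI in
/-- key induction (adapted from the faithfully flat case). -/
theorem idealDepth_baseChange_of_maximal : ∀ (rs : List A) (M : Type u)
    [AddCommGroup M] [Module A M] [Module.Finite A M], I • (⊤ : Submodule A M) ≠ ⊤ →
    IsWeaklyRegular M rs → (∀ r ∈ rs, r ∈ I) → (∀ r ∈ I, ¬ IsWeaklyRegular M (rs ++ [r])) →
    idealDepth (I.map (algebraMap A B)) (B ⊗[A] M) = rs.length := by
  intro rs
  induction rs with
  | nil =>
    intro M _ _ _ hIM _ _ hmax
    haveI : Nontrivial M := by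
      by_contra hnt
      rw [not_nontrivial_iff_subsingleton] at hnt
      exact hIM (Subsingleton.elim _ _)
    have hno : ∀ x ∈ I, ¬ IsSMulRegular M x := by
      intro x hx hreg
      exact hmax x hx (by simpa using (isWeaklyRegular_singleton_iff M x).mpr hreg)
    obtain ⟨p, hp, hIp⟩ := exists_associatedPrime_ge_of_no_regular I M hno
    have hp' : IsAssociatedPrime p M := hp
    have hprime := hp'.isPrime
    rw [isAssociatedPrime_iff] at hp'
    obtain ⟨-, m, hm⟩ := hp'
    have hkill : ∀ a ∈ I, a • m = 0 := by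
      intro a ha
      have := hIp ha
      rw [hm, Submodule.mem_colon_singleton] at this
      simpa using this
    obtain ⟨q, hq⟩ := hI ⟨p, hprime⟩ hIp
    rw [List.length_nil, Nat.cast_zero]
    refine idealDepth_eq_zero_of_killed _ _ ((1 : B) ⊗ₜ[A] m) ?_ ?_
    · refine one_tmul_ne_zero _ m q.asIdeal (fun a ha => ?_)
      have h1 : a ∈ p := by
        rw [hm, Submodule.mem_colon_singleton, ha]
        exact Submodule.zero_mem _
      have h2 : a ∈ q.asIdeal.comap (algebraMap A B) := by
        rw [hq]
        exact h1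
      exact h2
    · intro j hj
      have hle : I.map (algebraMap A B) ≤
          (Module.annihilator B (Submodule.span B {(1 : B) ⊗ₜ[A] m})) := by
        rw [Ideal.map_le_iff_le_comap]
        intro a ha
        rw [Ideal.mem_comap, Module.mem_annihilator]
        rintro ⟨z, hz⟩
        apply Subtype.ext
        change algebraMap A B a • z = 0
        obtain ⟨c, rfl⟩ := Submodule.mem_span_singleton.1 hz
        rw [smul_comm, algebraMap_smul, ← TensorProduct.tmul_smul, hkill a ha,
          TensorProduct.tmul_zero, smul_zero]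
      have := Module.mem_annihilator.1 (hle hj) ⟨_, Submodule.mem_span_singleton_self _⟩
      exact congrArg Subtype.val this
  | cons x xs ih =>
    intro M _ _ _ hIM hreg hmem hmax
    rw [isWeaklyRegular_cons_iff] at hreg
    have hx : x ∈ I := hmem x List.mem_cons_self
    have hIM' := smul_top_quotSMulTop_ne_top hx hIM
    have hmax' : ∀ r ∈ I, ¬ IsWeaklyRegular (QuotSMulTop x M) (xs ++ [r]) := by
      intro r hr hcon
      apply hmax r hr
      rw [List.cons_append, isWeaklyRegular_cons_iff]
      exact ⟨hreg.1, hcon⟩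
    have h1 := ih (QuotSMulTop x M) hIM' hreg.2
      (fun r hr => hmem r (List.mem_cons_of_mem _ hr)) hmax'
    have hIB : I.map (algebraMap A B) • (⊤ : Submodule B (B ⊗[A] M)) ≠ ⊤ :=
      map_smul_top_ne_top I hI M hIM
    have hxB : algebraMap A B x ∈ I.map (algebraMap A B) := Ideal.mem_map_of_mem _ hx
    have hregB : IsSMulRegular (B ⊗[A] M) (algebraMap A B x) := by
      have := (IsWeaklyRegular.of_flat_of_isBaseChange (S := B)
        (TensorProduct.isBaseChange A M B) ((isWeaklyRegular_singleton_iff M x).mpr hreg.1))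
      simpa using this
    have h2 := idealDepth_quotSMulTop_add_one hIB hxB hregB
    rw [idealDepth_congr _ (QuotSMulTop.algebraMapTensorEquivTensorQuotSMulTop x M B), h1] at h2
    rw [← h2, List.length_cons]
    push_cast
    rfl

include hI in
theorem idealDepth_baseChange_eq (M : Type u) [AddCommGroup M]
    [Module A M] [Module.Finite A M] :
    idealDepth (I.map (algebraMap A B)) (B ⊗[A] M) = idealDepth I M := by
  by_cases h : I • (⊤ : Submodule A M) = ⊤
  · rw [idealDepth_eq_top (I.map (algebraMap A B)) (B ⊗[A] M) (map_smul_top_eq_top I M h),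
      idealDepth_eq_top _ _ h]
  · obtain ⟨rs, -, hreg, hmem, hmax⟩ := exists_maximal_extension (I := I) M h []
      (IsWeaklyRegular.nil A M) (by simp)
    rw [idealDepth_baseChange_of_maximal I hI rs M h hreg hmem hmax]
    exact length_eq_idealDepth_of_maximal rs M h hreg hmem hmax

include hI in
theorem height_map_eq : (I.map (algebraMap A B)).height = I.height := by
  apply le_antisymm
  · rw [Ideal.height_eq_inf_minimalPrimes I]
    refine le_iInf₂ fun p hp => ?_
    haveI := hp.1.1
    obtain ⟨q0, hq0⟩ := hI ⟨p, hp.1.1⟩ hp.1.2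
    have hle : p.map (algebraMap A B) ≤ q0.asIdeal := by
      rw [Ideal.map_le_iff_le_comap, hq0]
    obtain ⟨q, hq, hqq0⟩ := Ideal.exists_minimalPrimes_le hle
    haveI := hq.1.1
    have hunder : q.under A = p := by
      apply le_antisymm
      · calc q.under A ≤ q0.asIdeal.under A := Ideal.comap_mono hqq0
          _ = p := hq0
      · exact Ideal.map_le_iff_le_comap.mp hq.1.2
    have hq' : q ∈ ((q.under A).map (algebraMap A B)).minimalPrimes := by
      rw [hunder]
      exact hq
    have h1 := height_eq_of_flat_minimal q hq'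
    rw [hunder] at h1
    calc (I.map (algebraMap A B)).height ≤ q.height :=
          Ideal.height_mono ((Ideal.map_mono hp.1.2).trans hq.1.2)
      _ = p.height := h1
  · rw [Ideal.height_eq_inf_minimalPrimes (I.map (algebraMap A B))]
    refine le_iInf₂ fun q hq => ?_
    haveI := hq.1.1
    have h1 := Ideal.height_eq_height_add_of_liesOver_of_hasGoingDown (q.under A) q
    calc I.height ≤ (q.under A).height :=
          Ideal.height_mono (Ideal.map_le_iff_le_comap.mp hq.1.2)
      _ ≤ q.height := by
          rw [h1]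
          exact le_self_add

end Groth.Agent.Lib.helper6.FlatImg
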