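import Mathlib
import Groth.Agent.Lib.helper21.LeftDerivedLES
import Groth.Agent.Lib.helper6.TorRes
import Groth.Agent.Lib.helper6.DeltaCompare
import Groth.Agent.Lib.helper6.TorBal
import Groth.Agent.Lib.helper6.TorDim

/-!
# Flat resolutions compute `Tor` (objectwise isomorphism)
-/

set_option autoImplicit false
set_option maxHeartbeats 400000
set_option linter.style.haveILetI false
set_option linter.unusedSectionVars false

namespace Groth.Agent.H6.FlatRes

open CategoryTheory CategoryTheory.Limits MonoidalCategory Category ChainComplex HomologicalComplex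
open Groth.Agent.Lib.helper6

universe u
variable {A : Type u} [CommRing A]

variable (F : ChainComplex (ModuleCat.{u} A) ℕ) {M : ModuleCat.{u} A}
  (φ : F ⟶ (ChainComplex.single₀ (ModuleCat.{u} A)).obj M)

/-- `N ↦ H_n(N ⊗ F)`. -/
noncomputable def U (n : ℕ) : ModuleCat.{u} A ⥤ ModuleCat.{u} A :=
  TorRes.tcF F ⋙ HomologicalComplex.homologyFunctor _ _ n

lemma U_les (hF : ∀ k, Module.Flat A (F.X k)) (S : ShortComplex (ModuleCat.{u} A))
    (hS : S.ShortExact) (n : ℕ) :
    ∃ (δ : (U F (n + 1)).obj S.X₃ ⟶ (U F n).obj S.X₁)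
      (w₁ : (U F (n + 1)).map S.g ≫ δ = 0) (w₂ : δ ≫ (U F n).map S.f = 0),
      (ShortComplex.mk _ _ w₁).Exact ∧ (ShortComplex.mk _ _ w₂).Exact := by
  have hSC := TorRes.SC_shortExact S F hS hF
  exact ⟨hSC.δ (n + 1) n rfl, hSC.comp_δ (n + 1) n rfl, hSC.δ_comp (n + 1) n rfl,
    hSC.homology_exact₃ (n + 1) n rfl, hSC.homology_exact₁ (n + 1) n rfl⟩

lemma exactAt_succ [QuasiIso φ] (n : ℕ) : F.ExactAt (n + 1) := by
  have h : QuasiIsoAt φ (n + 1) := inferInstance
  exact (quasiIsoAt_iff_exactAt' φ (n + 1)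
    (HomologicalComplex.exactAt_single_obj _ _ _ _ (by omega))).1 h

lemma U_vanish [QuasiIso φ] (P : ModuleCat.{u} A) [Module.Flat A P] (n : ℕ) :
    IsZero ((U F (n + 1)).obj P) := by
  show IsZero ((TorRes.tc P F).homology (n + 1))
  rw [← HomologicalComplex.exactAt_iff_isZero_homology, HomologicalComplex.exactAt_iff]
  have h1 : (F.sc (n + 1)).Exact := (HomologicalComplex.exactAt_iff _ _).1 (exactAt_succ F φ n)
  exact Module.Flat.lTensor_shortComplex_exact P _ h1

lemma d_comp_φ : F.d 1 0 ≫ φ.f 0 = 0 := by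
  rw [← φ.comm 1 0, HomologicalComplex.single_obj_d, comp_zero]

set_option backward.isDefEq.respectTransparency.types false in
set_option backward.defeqAttrib.useBackward true in
/-- `M` is the cokernel of `F₁ ⟶ F₀`. -/
noncomputable def isColimitφ [QuasiIso φ] :
    IsColimit (CokernelCofork.ofπ (φ.f 0) (d_comp_φ F φ)) := by
  refine IsColimit.ofIsoColimit (F.opcyclesIsCokernel 1 0 (by simp)) ?_
  refine Cofork.ext (F.isoHomologyι₀.symm ≪≫ isoOfQuasiIsoAt φ 0 ≪≫
    singleObjHomologySelfIso _ _ _) ?_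
  rw [← cancel_mono (singleObjHomologySelfIso (ComplexShape.down ℕ) 0 _).inv,
    ← cancel_mono (isoHomologyι₀ _).hom]
  dsimp
  simp only [isoHomologyι₀_inv_naturality_assoc, p_opcyclesMap_assoc, single₀_obj_zero, assoc,
    Iso.hom_inv_id, comp_id, isoHomologyι_inv_hom_id, singleObjHomologySelfIso_inv_homologyι,
    singleObjOpcyclesSelfIso_hom, single₀ObjXSelf, Iso.refl_inv, id_comp]

/-- `coker (N ⊗ F₁ ⟶ N ⊗ F₀) ≅ N ⊗ M`. -/
noncomputable def eN [QuasiIso φ] (N : ModuleCat.{u} A) :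
    (TorRes.tc N F).opcycles 0 ≅ N ⊗ M :=
  IsColimit.coconePointUniqueUpToIso ((TorRes.tc N F).opcyclesIsCokernel 1 0 (by simp))
    (CokernelCofork.mapIsColimit _ (isColimitφ F φ) (tensorLeft N))

lemma p_eN [QuasiIso φ] (N : ModuleCat.{u} A) :
    (TorRes.tc N F).pOpcycles 0 ≫ (eN F φ N).hom = N ◁ φ.f 0 := by
  have h := IsColimit.comp_coconePointUniqueUpToIso_hom
    ((TorRes.tc N F).opcyclesIsCokernel 1 0 (by simp))
    (CokernelCofork.mapIsColimit _ (isColimitφ F φ) (tensorLeft N)) WalkingParallelPair.one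
  exact h

lemma eN_nat [QuasiIso φ] {N N' : ModuleCat.{u} A} (g : N ⟶ N') :
    HomologicalComplex.opcyclesMap (TorRes.tcMap g F) 0 ≫ (eN F φ N').hom =
      (eN F φ N).hom ≫ g ▷ M := by
  rw [← cancel_epi ((TorRes.tc N F).pOpcycles 0), HomologicalComplex.p_opcyclesMap_assoc, p_eN,
    ← Category.assoc, p_eN, TorRes.tcMap_f]
  exact (whisker_exchange g (φ.f 0)).symm

/-- `H_0(N ⊗ F) ≅ N ⊗ M`, naturally in `N`. -/
noncomputable def U0Iso [QuasiIso φ] : U F 0 ≅ tensorRight M :=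
  NatIso.ofComponents (fun N => (TorRes.tc N F).isoHomologyι₀ ≪≫ eN F φ N) (by
    intro N N' g
    show HomologicalComplex.homologyMap (TorRes.tcMap g F) 0 ≫
        ((TorRes.tc N' F).isoHomologyι₀ ≪≫ eN F φ N').hom =
      ((TorRes.tc N F).isoHomologyι₀ ≪≫ eN F φ N).hom ≫ g ▷ M
    rw [Iso.trans_hom, Iso.trans_hom, ← cancel_epi (TorRes.tc N F).isoHomologyι₀.inv,
      ChainComplex.isoHomologyι₀_inv_naturality_assoc, Iso.inv_hom_id_assoc, Category.assoc,
      Iso.inv_hom_id_assoc]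
    exact eN_nat F φ g)

lemma isDelta_U (hF : ∀ k, Module.Flat A (F.X k)) [QuasiIso φ] : DeltaCompare.IsDelta (U F) where
  les S hS n := U_les F hF S hS n
  vanish P _ n := by
    have : Module.Flat A P := inferInstance
    exact U_vanish F φ P n

lemma isDelta_Tor (M : ModuleCat.{u} A) :
    DeltaCompare.IsDelta (fun n => (Tor (ModuleCat.{u} A) n).obj M) where
  les S hS n := (TorDim.tor_les₂ M S hS n).2.2
  vanish _ _ _ := Functor.isZero_leftDerived_obj_projective_succ _ _ _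

/-- A flat resolution `F` of `M` computes `Tor'_i(M, N)` as `H_i(F ⊗ N)`. -/
theorem main (M N : ModuleCat.{u} A) (F : ChainComplex (ModuleCat.{u} A) ℕ)
    (hF : ∀ k, Module.Flat A (F.X k))
    (φ : F ⟶ (ChainComplex.single₀ (ModuleCat.{u} A)).obj M) [QuasiIso φ] (i : ℕ) :
    Nonempty ((((tensorRight N).mapHomologicalComplex (ComplexShape.down ℕ)).obj F).homology i ≅
      ((Tor' (ModuleCat.{u} A) i).obj M).obj N) := by
  have e1 : (((tensorRight N).mapHomologicalComplex (ComplexShape.down ℕ)).obj F) ≅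
      TorRes.tc N F :=
    ((NatIso.mapHomologicalComplex (BraidedCategory.tensorLeftIsoTensorRight N)
      (ComplexShape.down ℕ)).app F).symm
  have e2 := (HomologicalComplex.homologyFunctor _ _ i).mapIso e1
  obtain ⟨e3⟩ := DeltaCompare.nonempty_iso (isDelta_U F φ hF) (isDelta_Tor M)
    (U0Iso F φ ≪≫ (BraidedCategory.tensorLeftIsoTensorRight M).symm ≪≫
      (TorBal.torZeroIso M).symm) i N
  obtain ⟨e4⟩ := TorBal.nonempty_tor_iso_leftDerived_tensorRight M N i
  exact ⟨e2 ≪≫ e3 ≪≫ e4⟩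

end Groth.Agent.H6.FlatRes
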