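import Mathlib

/-!
# Local rings of `L ⊗ C` versus local rings of `B ⊗ C` at primes contracting to zero in `B`
(`L = Frac B`)
-/

set_option autoImplicit false
set_option linter.style.haveILetI false
set_option linter.unusedSectionVars false

namespace Groth.Agent.Lib.helper6.FormalFibCrit

open TensorProduct

universe u

section Core

variable (A : Type u) [CommRing A] (C : Type u) [CommRing C] [Algebra A C]
  (B : Type u) [CommRing B] [IsDomain B] [Algebra A B]
  (L : Type u) [Field L] [Algebra B L] [IsFractionRing B L] [Algebra A L] [IsScalarTower A B L]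

/-- the ring map `B ⊗ C → L ⊗ C` -/
noncomputable abbrev φ : B ⊗[A] C →ₐ[A] L ⊗[A] C :=
  Algebra.TensorProduct.map (IsScalarTower.toAlgHom A B L) (AlgHom.id A C)

/-- the algebra structure `B ⊗ C → L ⊗ C` -/
noncomputable abbrev algUT : Algebra (B ⊗[A] C) (L ⊗[A] C) := (φ A C B L).toRingHom.toAlgebra

theorem isScalarTower_UT :
    letI := algUT A C B L
    IsScalarTower B (B ⊗[A] C) (L ⊗[A] C) :=
  letI := algUT A C B L
  IsScalarTower.of_algebraMap_eq (fun b => by
    change (algebraMap B L b) ⊗ₜ[A] (1 : C) = φ A C B L ((algebraMap B B b) ⊗ₜ[A] (1 : C))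
    simp)

theorem isLoc :
    letI := algUT A C B L
    IsLocalization (Algebra.algebraMapSubmonoid (B ⊗[A] C) (nonZeroDivisors B)) (L ⊗[A] C) := by
  letI := algUT A C B L
  haveI := isScalarTower_UT A C B L
  refine IsLocalization.tensorProduct_tensorProduct A C (nonZeroDivisors B) L ?_
  ext c
  change φ A C B L ((1 : B) ⊗ₜ[A] c) = (1 : L) ⊗ₜ[A] c
  simp

/-- a ring-isomorphism-invariant predicate on rings -/
def IsoInv (P : ∀ (R : Type u) [CommRing R], Prop) : Prop :=
  ∀ (R R' : Type u) [CommRing R] [CommRing R'], (R ≃+* R') → P R → P R'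

theorem P_congr (P : ∀ (R : Type u) [CommRing R], Prop) {R : Type u} [CommRing R]
    {q q' : Ideal R} [q.IsPrime] [q'.IsPrime] (h : q = q') (hq : P (Localization.AtPrime q)) :
    P (Localization.AtPrime q') := by
  subst h; exact hq

theorem comap_eq_bot (Q : Ideal (L ⊗[A] C)) [Q.IsPrime] :
    letI := algUT A C B L
    (Q.comap (algebraMap (B ⊗[A] C) (L ⊗[A] C))).comap (algebraMap B (B ⊗[A] C)) = ⊥ := by
  letI := algUT A C B L
  haveI := isScalarTower_UT A C B L
  rw [eq_bot_iff]
  intro b hb
  rw [Ideal.mem_comap, Ideal.mem_comap, ← IsScalarTower.algebraMap_apply] at hb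
  rw [Ideal.mem_bot]
  by_contra hb0
  have hu : IsUnit (algebraMap B (L ⊗[A] C) b) := by
    have h1 : IsUnit (algebraMap B L b) :=
      IsUnit.mk0 _ ((map_ne_zero_iff _ (IsFractionRing.injective B L)).2 hb0)
    have h2 : algebraMap B (L ⊗[A] C) b =
        (Algebra.TensorProduct.includeLeft : L →ₐ[A] L ⊗[A] C) (algebraMap B L b) := rfl
    rw [h2]
    exact h1.map _
  exact (Ideal.IsPrime.ne_top inferInstance) (Q.eq_top_of_isUnit_mem hb hu)

/-- local rings of `L ⊗ C` are local rings of `B ⊗ C` at primes over `0` -/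
theorem forall_T_of_forall_U (P : ∀ (R : Type u) [CommRing R], Prop) (hP : IsoInv P)
    (h : ∀ (q : Ideal (B ⊗[A] C)) [q.IsPrime],
      q.comap (algebraMap B (B ⊗[A] C)) = ⊥ → P (Localization.AtPrime q))
    (Q : Ideal (L ⊗[A] C)) [Q.IsPrime] : P (Localization.AtPrime Q) := by
  letI := algUT A C B L
  haveI := isLoc A C B L
  haveI : IsLocalization.AtPrime (Localization.AtPrime Q)
      (Q.comap (algebraMap (B ⊗[A] C) (L ⊗[A] C))) :=
    IsLocalization.isLocalization_isLocalization_atPrime_isLocalization
      (Algebra.algebraMapSubmonoid (B ⊗[A] C) (nonZeroDivisors B)) (Localization.AtPrime Q) Q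
  let e : Localization.AtPrime (Q.comap (algebraMap (B ⊗[A] C) (L ⊗[A] C))) ≃ₐ[B ⊗[A] C]
      Localization.AtPrime Q :=
    IsLocalization.algEquiv (Q.comap (algebraMap (B ⊗[A] C) (L ⊗[A] C))).primeCompl _ _
  exact hP _ _ e.toRingEquiv (h _ (comap_eq_bot A C B L Q))

/-- local rings of `B ⊗ C` at primes over `0` are local rings of `L ⊗ C` -/
theorem forall_U_of_forall_T (P : ∀ (R : Type u) [CommRing R], Prop) (hP : IsoInv P)
    (h : ∀ (Q : Ideal (L ⊗[A] C)) [Q.IsPrime], P (Localization.AtPrime Q))
    (q : Ideal (B ⊗[A] C)) [hq : q.IsPrime] (hq0 : q.comap (algebraMap B (B ⊗[A] C)) = ⊥) :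
    P (Localization.AtPrime q) := by
  letI := algUT A C B L
  haveI := isLoc A C B L
  have hd : Disjoint ((Algebra.algebraMapSubmonoid (B ⊗[A] C) (nonZeroDivisors B) :
      Submonoid (B ⊗[A] C)) : Set (B ⊗[A] C)) (q : Set (B ⊗[A] C)) := by
    rw [Set.disjoint_left]
    rintro _ ⟨b, hb, rfl⟩ hbq
    have h1 : b ∈ q.comap (algebraMap B (B ⊗[A] C)) := hbq
    rw [hq0, Ideal.mem_bot] at h1
    exact nonZeroDivisors.ne_zero hb h1
  haveI hQ : (q.map (algebraMap (B ⊗[A] C) (L ⊗[A] C))).IsPrime :=
    IsLocalization.isPrime_of_isPrime_disjoint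
      (Algebra.algebraMapSubmonoid (B ⊗[A] C) (nonZeroDivisors B)) _ q hq hd
  have hcomap : (q.map (algebraMap (B ⊗[A] C) (L ⊗[A] C))).comap
      (algebraMap (B ⊗[A] C) (L ⊗[A] C)) = q :=
    IsLocalization.comap_map_of_isPrime_disjoint
      (Algebra.algebraMapSubmonoid (B ⊗[A] C) (nonZeroDivisors B)) _ hq hd
  haveI : IsLocalization.AtPrime
      (Localization.AtPrime (q.map (algebraMap (B ⊗[A] C) (L ⊗[A] C))))
      ((q.map (algebraMap (B ⊗[A] C) (L ⊗[A] C))).comap
        (algebraMap (B ⊗[A] C) (L ⊗[A] C))) :=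
    IsLocalization.isLocalization_isLocalization_atPrime_isLocalization
      (Algebra.algebraMapSubmonoid (B ⊗[A] C) (nonZeroDivisors B))
      (Localization.AtPrime (q.map (algebraMap (B ⊗[A] C) (L ⊗[A] C))))
      (q.map (algebraMap (B ⊗[A] C) (L ⊗[A] C)))
  let e : Localization.AtPrime ((q.map (algebraMap (B ⊗[A] C) (L ⊗[A] C))).comap
      (algebraMap (B ⊗[A] C) (L ⊗[A] C))) ≃ₐ[B ⊗[A] C]
      Localization.AtPrime (q.map (algebraMap (B ⊗[A] C) (L ⊗[A] C))) :=
    IsLocalization.algEquiv ((q.map (algebraMap (B ⊗[A] C) (L ⊗[A] C))).comap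
      (algebraMap (B ⊗[A] C) (L ⊗[A] C))).primeCompl _ _
  have h2 := hP _ _ e.symm.toRingEquiv (h (q.map (algebraMap (B ⊗[A] C) (L ⊗[A] C))))
  exact P_congr P hcomap h2

end Core

section Forward

variable (A : Type u) [CommRing A] (B : Type u) [CommRing B] [IsDomain B] [Algebra A B]
  (L : Type u) [Field L] [Algebra B L] [IsFractionRing B L] [Algebra A L] [IsScalarTower A B L]

/-- the kernel of `A → B` -/
abbrev kerP : Ideal A := RingHom.ker (algebraMap A B)

instance : (kerP A B).IsPrime := RingHom.ker_isPrime _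

lemma ker_algebraMap_L : RingHom.ker (algebraMap A L) = kerP A B := by
  ext a
  rw [RingHom.mem_ker, RingHom.mem_ker, IsScalarTower.algebraMap_apply A B L,
    map_eq_zero_iff _ (IsFractionRing.injective B L)]

/-- `κ(p) → L` -/
noncomputable abbrev algKL : Algebra (kerP A B).ResidueField L :=
  (Ideal.ResidueField.lift (kerP A B) (algebraMap A L) (ker_algebraMap_L A B L).ge
    (by
      intro a ha
      rw [Submonoid.mem_comap]
      refine IsUnit.mk0 _ ?_
      intro h0
      exact ha ((ker_algebraMap_L A B L) ▸ (RingHom.mem_ker.2 h0)))).toAlgebra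

theorem isScalarTower_KL :
    letI := algKL A B L
    IsScalarTower A (kerP A B).ResidueField L :=
  letI := algKL A B L
  IsScalarTower.of_algebraMap_eq (fun a => (Ideal.ResidueField.lift_algebraMap _ _ _ _ a).symm)

/-- `L = Frac B` is finite over `κ(p)` when `B` is finite over `A`. -/
theorem finite_KL [Module.Finite A B] :
    letI := algKL A B L
    Module.Finite (kerP A B).ResidueField L := by
  letI := algKL A B L
  haveI := isScalarTower_KL A B L
  let g : (kerP A B).ResidueField ⊗[A] B →ₐ[(kerP A B).ResidueField] L :=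
    Algebra.TensorProduct.productLeftAlgHom (Algebra.ofId _ L) (IsScalarTower.toAlgHom A B L)
  haveI : Module.Finite (kerP A B).ResidueField ((kerP A B).ResidueField ⊗[A] B) :=
    Module.Finite.base_change A _ B
  haveI hfinE : Module.Finite (kerP A B).ResidueField g.range :=
    Module.Finite.range g.toLinearMap
  have hmem : ∀ b : B, algebraMap B L b ∈ g.range := fun b => ⟨1 ⊗ₜ b, by simp [g]⟩
  have htop : g.range = ⊤ := by
    rw [eq_top_iff]
    intro x _
    obtain ⟨b, s, hs, rfl⟩ := IsFractionRing.div_surjective (A := B) x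
    have h1 : (algebraMap B L s)⁻¹ ∈ g.range := by
      have halg : IsAlgebraic (kerP A B).ResidueField
          ((⟨algebraMap B L s, hmem s⟩ : g.range) : L) := by
        have h2 : IsIntegral (kerP A B).ResidueField (⟨algebraMap B L s, hmem s⟩ : g.range) :=
          IsIntegral.of_finite _ _
        exact (h2.map g.range.val).isAlgebraic
      exact Subalgebra.inv_mem_of_algebraic g.range (x := ⟨algebraMap B L s, hmem s⟩) halg
    rw [div_eq_mul_inv]
    exact mul_mem (hmem b) h1
  exact Module.Finite.of_surjective g.toLinearMap (AlgHom.range_eq_top g |>.1 htop)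

end Forward

section Backward

variable (A : Type u) [CommRing A] (p : Ideal A) [p.IsPrime]
  (k' : Type u) [Field k'] [Algebra p.ResidueField k'] [Module.Finite p.ResidueField k']
  [Algebra A k'] [IsScalarTower A p.ResidueField k']

/-- every element of `κ(p)` is a fraction -/
lemma exists_fraction (c : p.ResidueField) :
    ∃ a t : A, t ∉ p ∧ c * algebraMap A p.ResidueField t = algebraMap A p.ResidueField a := by
  obtain ⟨x, rfl⟩ := IsLocalRing.residue_surjective c
  obtain ⟨a, t, rfl⟩ := IsLocalization.exists_mk'_eq p.primeCompl x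
  refine ⟨a, t, t.2, ?_⟩
  rw [IsScalarTower.algebraMap_apply A (Localization.AtPrime p) p.ResidueField,
    IsScalarTower.algebraMap_apply A (Localization.AtPrime p) p.ResidueField]
  change IsLocalRing.residue _ _ * IsLocalRing.residue _ _ = IsLocalRing.residue _ _
  rw [← map_mul, IsLocalization.mk'_spec]

lemma algebraMap_ne_zero {t : A} (ht : t ∉ p) : algebraMap A k' t ≠ 0 := by
  rw [IsScalarTower.algebraMap_apply A p.ResidueField k']
  intro h0
  have h1 := (map_eq_zero_iff _ (algebraMap p.ResidueField k').injective).1 h0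
  exact ht (Ideal.algebraMap_residueField_eq_zero.1 h1)

include p in
/-- a finite `A`-subalgebra of `k'` with fraction field `k'` -/
theorem exists_subalgebra :
    ∃ B' : Subalgebra A k', Module.Finite A B' ∧ IsFractionRing B' k' := by
  classical
  obtain ⟨n, b, hb⟩ := Module.Finite.exists_fin (R := p.ResidueField) (M := k')
  -- clear denominators
  have hint : ∀ i, ∃ t : A, t ∉ p ∧ IsIntegral A (algebraMap A k' t * b i) := by
    intro i
    letI : Algebra (A ⧸ p) k' :=
      ((algebraMap p.ResidueField k').comp (algebraMap (A ⧸ p) p.ResidueField)).toAlgebra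
    haveI : IsScalarTower (A ⧸ p) p.ResidueField k' := IsScalarTower.of_algebraMap_eq (fun _ => rfl)
    haveI : IsScalarTower A (A ⧸ p) k' := IsScalarTower.of_algebraMap_eq (fun a => by
      rw [IsScalarTower.algebraMap_apply A p.ResidueField k',
        IsScalarTower.algebraMap_apply A (A ⧸ p) p.ResidueField]
      rfl)
    have h1 : IsIntegral p.ResidueField (b i) := IsIntegral.of_finite _ _
    obtain ⟨m, hm⟩ := IsIntegral.exists_multiple_integral_of_isLocalization
      (nonZeroDivisors (A ⧸ p)) (b i) h1
    obtain ⟨t, ht⟩ := Ideal.Quotient.mk_surjective (m : A ⧸ p)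
    refine ⟨t, ?_, ?_⟩
    · intro htp
      have : (m : A ⧸ p) = 0 := by rw [← ht]; exact Ideal.Quotient.eq_zero_iff_mem.2 htp
      exact nonZeroDivisors.coe_ne_zero m this
    · haveI : Algebra.IsIntegral A (A ⧸ p) :=
        Algebra.isIntegral_of_surjective Ideal.Quotient.mk_surjective
      have h2 : IsIntegral A (m • b i) := isIntegral_trans _ hm
      have h3 : m • b i = algebraMap A k' t * b i := by
        rw [Submonoid.smul_def, Algebra.smul_def, ← ht, IsScalarTower.algebraMap_apply A (A ⧸ p) k']
        rfl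
      rwa [h3] at h2
  choose t ht1 ht2 using hint
  let S : Set k' := Set.range (fun i => algebraMap A k' (t i) * b i)
  let B' : Subalgebra A k' := Algebra.adjoin A S
  have hfin : Module.Finite A B' := by
    refine Algebra.finite_adjoin_of_finite_of_isIntegral (Set.finite_range _) ?_
    rintro _ ⟨i, rfl⟩
    exact ht2 i
  refine ⟨B', hfin, ?_⟩
  -- the `κ(p)`-subspace of elements with a denominator
  let W : Submodule p.ResidueField k' :=
    { carrier := {z | ∃ s : A, s ∉ p ∧ algebraMap A k' s * z ∈ B'}
      zero_mem' := ⟨1, (Ideal.ne_top_iff_one p).1 (Ideal.IsPrime.ne_top inferInstance),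
        by simp [zero_mem]⟩
      add_mem' := by
        rintro z1 z2 ⟨s1, hs1, h1⟩ ⟨s2, hs2, h2⟩
        refine ⟨s1 * s2, ?_, ?_⟩
        · intro h
          rcases (Ideal.IsPrime.mem_or_mem inferInstance h) with h | h
          · exact hs1 h
          · exact hs2 h
        · have : algebraMap A k' (s1 * s2) * (z1 + z2) =
              algebraMap A k' s2 * (algebraMap A k' s1 * z1) +
                algebraMap A k' s1 * (algebraMap A k' s2 * z2) := by
            rw [map_mul]; ring
          rw [this]
          refine add_mem ?_ ?_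
          · rw [← Algebra.smul_def]; exact Subalgebra.smul_mem _ h1 _
          · rw [← Algebra.smul_def]; exact Subalgebra.smul_mem _ h2 _
      smul_mem' := by
        rintro c z ⟨s, hs, h⟩
        obtain ⟨a, t', ht', hc⟩ := exists_fraction A p c
        refine ⟨t' * s, ?_, ?_⟩
        · intro h
          rcases (Ideal.IsPrime.mem_or_mem inferInstance h) with h | h
          · exact ht' h
          · exact hs h
        · have : algebraMap A k' (t' * s) * (c • z) =
              algebraMap A k' a * (algebraMap A k' s * z) := by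
            rw [map_mul, Algebra.smul_def,
              IsScalarTower.algebraMap_apply A p.ResidueField k' a, ← hc, map_mul,
              ← IsScalarTower.algebraMap_apply A p.ResidueField k' t']
            ring
          rw [this, ← Algebra.smul_def]
          exact Subalgebra.smul_mem _ h _ }
  have hW : W = ⊤ := by
    rw [eq_top_iff, ← hb, Submodule.span_le]
    rintro _ ⟨i, rfl⟩
    exact ⟨t i, ht1 i, Algebra.subset_adjoin ⟨i, rfl⟩⟩
  haveI : FaithfulSMul B' k' := (faithfulSMul_iff_algebraMap_injective B' k').2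
    Subtype.val_injective
  refine IsFractionRing.of_field B' k' (fun z => ?_)
  have hz : z ∈ W := hW ▸ Submodule.mem_top
  obtain ⟨s, hs, h⟩ := hz
  refine ⟨⟨_, h⟩, ⟨algebraMap A k' s, Subalgebra.algebraMap_mem _ _⟩, ?_⟩
  change z = algebraMap A k' s * z / algebraMap A k' s
  rw [mul_div_cancel_left₀ _ (algebraMap_ne_zero A p k' hs)]

end Backward

end Groth.Agent.Lib.helper6.FormalFibCrit
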