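import Mathlib
import Groth.Agent.Lib.helper6.FormalFibCrit
import Groth.Agent.Lib.helper6.CplFib
import Groth.Agent.Lib.helper6.GeomRedPI
import Groth.Agent.Lib.helper7.GeomRed2
import Groth.Agent.Lib.helper20.FiberLoc
import Groth.Prelude.Def_EGA4b
import Groth.Prelude.Def_Found

/-!
# Criteria for formal fibres via finite domains (EGA IV 7.3.x)
-/

set_option autoImplicit false
set_option linter.style.haveILetI false
set_option linter.unusedSectionVars false

namespace Groth.Agent.Lib.helper6.FormalFibCrit

open TensorProduct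

universe u

theorem isoInv_isReduced : IsoInv (fun (R : Type u) [CommRing R] => IsReduced R) :=
  fun _ _ _ _ e h => by
    haveI := h
    exact isReduced_of_injective e.symm e.symm.injective

theorem isoInv_isRegularLocalRing :
    IsoInv (fun (R : Type u) [CommRing R] => IsRegularLocalRing R) :=
  fun _ _ _ _ e h => by
    haveI := h
    exact IsRegularLocalRing.of_ringEquiv e

variable (A : Type u) [CommRing A] [IsNoetherianRing A] [IsLocalRing A]

theorem geomReduced_iff :
    EGA4.HasGeomReducedFormalFibres A ↔
      ∀ (B : Type u) [CommRing B] [IsDomain B] [Algebra A B] [Module.Finite A B]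
        (q : Ideal (B ⊗[A] EGA4.Cpl A)) [q.IsPrime],
        q.comap (algebraMap B (B ⊗[A] EGA4.Cpl A)) = ⊥ → IsReduced (Localization.AtPrime q) := by
  constructor
  · intro hA B _ _ _ _ q _ hq
    letI := algKL A B (FractionRing B)
    haveI := isScalarTower_KL A B (FractionRing B)
    refine forall_U_of_forall_T A (EGA4.Cpl A) B (FractionRing B)
      (fun (R : Type u) [CommRing R] => IsReduced R) isoInv_isReduced ?_ q hq
    intro Q _
    haveI := hA (kerP A B)
    haveI h1 : IsReduced (FractionRing B ⊗[(kerP A B).ResidueField]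
        ((kerP A B).Fiber (EGA4.Cpl A))) :=
      Groth.Agent.Lib.helper7.GeomRed2.isReduced_tensorProduct_left _ _
    let c := Algebra.TensorProduct.cancelBaseChange A (kerP A B).ResidueField
      (kerP A B).ResidueField (FractionRing B) (EGA4.Cpl A)
    haveI : IsReduced (FractionRing B ⊗[A] EGA4.Cpl A) :=
      isReduced_of_injective c.symm c.symm.injective
    infer_instance
  · intro h p _
    refine GeomRedPI.isGeometricallyReduced_of_purelyInseparable (fun k' _ _ _ _ => ?_)
    letI : Algebra A k' :=
      ((algebraMap p.ResidueField k').comp (algebraMap A p.ResidueField)).toAlgebra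
    haveI : IsScalarTower A p.ResidueField k' := IsScalarTower.of_algebraMap_eq (fun _ => rfl)
    obtain ⟨B', hfin, hfrac⟩ := exists_subalgebra A p k'
    have hT : ∀ (Q : Ideal (k' ⊗[A] EGA4.Cpl A)) [Q.IsPrime],
        IsReduced (Localization.AtPrime Q) := fun Q _ =>
      forall_T_of_forall_U A (EGA4.Cpl A) B' k'
        (fun (R : Type u) [CommRing R] => IsReduced R) isoInv_isReduced
        (fun q _ hq => h B' q hq) Q
    haveI : IsReduced (k' ⊗[A] EGA4.Cpl A) :=
      isReduced_ofLocalizationMaximal _ (fun Q hQ => hT Q)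
    let c := Algebra.TensorProduct.cancelBaseChange A p.ResidueField p.ResidueField k'
      (EGA4.Cpl A)
    exact isReduced_of_injective c c.injective

theorem regular_iff :
    CAlg.IsRegularHom A (EGA4.Cpl A) ↔
      ∀ (B : Type u) [CommRing B] [IsDomain B] [Algebra A B] [Module.Finite A B]
        (q : Ideal (B ⊗[A] EGA4.Cpl A)) [q.IsPrime],
        q.comap (algebraMap B (B ⊗[A] EGA4.Cpl A)) = ⊥ →
          IsRegularLocalRing (Localization.AtPrime q) := by
  constructor
  · intro hA B _ _ _ _ q _ hq
    letI := algKL A B (FractionRing B)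
    haveI := isScalarTower_KL A B (FractionRing B)
    refine forall_U_of_forall_T A (EGA4.Cpl A) B (FractionRing B)
      (fun (R : Type u) [CommRing R] => IsRegularLocalRing R) isoInv_isRegularLocalRing ?_ q hq
    intro Q _
    haveI h1 : IsRegularRing (FractionRing B ⊗[(kerP A B).ResidueField]
        ((kerP A B).Fiber (EGA4.Cpl A))) :=
      (hA.2 (kerP A B)).2 (FractionRing B) (finite_KL A B (FractionRing B))
    let c := Algebra.TensorProduct.cancelBaseChange A (kerP A B).ResidueField
      (kerP A B).ResidueField (FractionRing B) (EGA4.Cpl A)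
    haveI : IsRegularRing (FractionRing B ⊗[A] EGA4.Cpl A) :=
      IsRegularRing.of_ringEquiv (R := FractionRing B ⊗[(kerP A B).ResidueField]
        ((kerP A B).Fiber (EGA4.Cpl A))) c.toRingEquiv
    infer_instance
  · intro h
    haveI := Groth.Agent.Lib.helper6.CplMap.isNoetherianRing_cpl A
    refine ⟨inferInstance, fun p _ => ⟨?_, ?_⟩⟩
    · exact Groth.Agent.Lib.helper20.FiberLoc.fiber_isNoetherianRing A (EGA4.Cpl A) p
    · intro k' _ _ hfin
      letI : Algebra A k' :=
        ((algebraMap p.ResidueField k').comp (algebraMap A p.ResidueField)).toAlgebra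
      haveI : IsScalarTower A p.ResidueField k' := IsScalarTower.of_algebraMap_eq (fun _ => rfl)
      obtain ⟨B', hfinB, hfrac⟩ := exists_subalgebra A p k'
      have hT : ∀ (Q : Ideal (k' ⊗[A] EGA4.Cpl A)) [Q.IsPrime],
          IsRegularLocalRing (Localization.AtPrime Q) := fun Q _ =>
        forall_T_of_forall_U A (EGA4.Cpl A) B' k'
          (fun (R : Type u) [CommRing R] => IsRegularLocalRing R) isoInv_isRegularLocalRing
          (fun q _ hq => h B' q hq) Q
      let c := Algebra.TensorProduct.cancelBaseChange A p.ResidueField p.ResidueField k'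
        (EGA4.Cpl A)
      haveI : IsNoetherianRing (p.Fiber (EGA4.Cpl A)) :=
        Groth.Agent.Lib.helper20.FiberLoc.fiber_isNoetherianRing A (EGA4.Cpl A) p
      haveI : Module.Finite (p.Fiber (EGA4.Cpl A))
          ((p.Fiber (EGA4.Cpl A)) ⊗[p.ResidueField] k') :=
        Module.Finite.base_change p.ResidueField (p.Fiber (EGA4.Cpl A)) k'
      haveI : IsNoetherianRing ((p.Fiber (EGA4.Cpl A)) ⊗[p.ResidueField] k') := by
        have h0 := IsNoetherianRing.of_finite (p.Fiber (EGA4.Cpl A))
          ((p.Fiber (EGA4.Cpl A)) ⊗[p.ResidueField] k')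
        exact h0
      haveI : IsNoetherianRing (k' ⊗[p.ResidueField] (p.Fiber (EGA4.Cpl A))) :=
        isNoetherianRing_of_ringEquiv ((p.Fiber (EGA4.Cpl A)) ⊗[p.ResidueField] k')
          (Algebra.TensorProduct.comm p.ResidueField (p.Fiber (EGA4.Cpl A)) k').toRingEquiv
      haveI : IsNoetherianRing (k' ⊗[A] EGA4.Cpl A) :=
        isNoetherianRing_of_ringEquiv _ c.toRingEquiv
      haveI : IsRegularRing (k' ⊗[A] EGA4.Cpl A) := isRegularRing_iff.2 (fun Q _ => hT Q)
      exact IsRegularRing.of_ringEquiv (R := k' ⊗[A] EGA4.Cpl A) c.symm.toRingEquiv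

end Groth.Agent.Lib.helper6.FormalFibCrit
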