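import Mathlib
set_option autoImplicit false
universe u
namespace Groth.Agent.Lib.helper6

/-- Nilpotent Nakayama for ideals: if `J ≤ S ⊔ J ^ 2` and `J` is nilpotent then `J ≤ S`. -/
theorem ideal_le_of_le_sup_sq_of_pow_eq_bot {A : Type u} [CommRing A] (J S : Ideal A)
    (h : J ≤ S ⊔ J ^ 2) (k : ℕ) (hk : J ^ k = ⊥) : J ≤ S := by
  have key : ∀ m : ℕ, J ≤ S ⊔ J ^ (m + 2) := by
    intro m
    induction m with
    | zero => simpa using h
    | succ m ih =>
      have h2 : J ^ 2 ≤ S ⊔ J ^ (m + 1 + 2) := by
        calc J ^ 2 = J * J := pow_two J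
          _ ≤ J * (S ⊔ J ^ (m + 2)) := Ideal.mul_mono_right ih
          _ = J * S ⊔ J * J ^ (m + 2) := Ideal.mul_sup _ _ _
          _ ≤ S ⊔ J ^ (m + 1 + 2) := by
            apply sup_le_sup Ideal.mul_le_right (le_of_eq ?_)
            rw [← pow_succ']
      exact h.trans (sup_le le_sup_left h2)
  have := key k
  have hz : J ^ (k + 2) = ⊥ := by rw [pow_add, hk, Ideal.bot_mul]
  rw [hz, sup_bot_eq] at this
  exact this

/-- A ring with a finitely generated nilpotent ideal and Noetherian quotient is Noetherian. -/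
theorem isNoetherianRing_of_nilpotent_fg {A : Type u} [CommRing A] (J : Ideal A) (hJ : J.FG)
    (k : ℕ) (hk : J ^ k = ⊥) [IsNoetherianRing (A ⧸ J)] : IsNoetherianRing A := by
  apply IsNoetherianRing.of_prime
  intro P hP
  have hJP : J ≤ P := by
    apply hP.le_of_pow_le (n := k)
    rw [hk]; exact bot_le
  have h1 : (P.map (Ideal.Quotient.mk J)).FG := IsNoetherian.noetherian _
  obtain ⟨s, hs⟩ := h1
  -- lift generators
  have : ∀ x ∈ s, ∃ y ∈ P, Ideal.Quotient.mk J y = x := by
    intro x hx
    have hx' : x ∈ P.map (Ideal.Quotient.mk J) := hs ▸ Ideal.subset_span hx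
    rw [Ideal.mem_map_iff_of_surjective _ Ideal.Quotient.mk_surjective] at hx'
    exact hx'
  choose! y hyP hy using this
  obtain ⟨t, ht⟩ := hJ
  classical
  refine ⟨s.image y ∪ t, ?_⟩
  apply le_antisymm
  · rw [Ideal.span_le]
    intro z hz
    simp only [Finset.coe_union, Finset.coe_image, Set.mem_union, Set.mem_image] at hz
    rcases hz with ⟨x, hx, rfl⟩ | hz
    · exact hyP x hx
    · exact hJP (ht ▸ Ideal.subset_span hz)
  · intro p hp
    have hp' : Ideal.Quotient.mk J p ∈ Ideal.span (s : Set (A ⧸ J)) := by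
      rw [hs]; exact Ideal.mem_map_of_mem _ hp
    have h3 : Ideal.span (s : Set (A ⧸ J)) ≤
        (Ideal.span ((s.image y ∪ t : Finset A) : Set A)).map (Ideal.Quotient.mk J) := by
      rw [Ideal.span_le]
      intro x hx
      rw [← hy x hx]
      apply Ideal.mem_map_of_mem
      apply Ideal.subset_span
      simp only [Finset.coe_union, Finset.coe_image, Set.mem_union, Set.mem_image]
      exact Or.inl ⟨x, hx, rfl⟩
    have h4 := h3 hp'
    rw [Ideal.mem_map_iff_of_surjective _ Ideal.Quotient.mk_surjective] at h4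
    obtain ⟨q, hq, hqp⟩ := h4
    have h5 : p - q ∈ J := by
      rw [← Ideal.Quotient.eq]; exact hqp.symm
    have h6 : p - q ∈ Ideal.span ((s.image y ∪ t : Finset A) : Set A) := by
      have : J ≤ Ideal.span ((s.image y ∪ t : Finset A) : Set A) := by
        have ht' : J = Ideal.span (t : Set A) := ht.symm
        conv_lhs => rw [ht']
        apply Ideal.span_mono
        simp
      exact this h5
    have := Ideal.add_mem _ h6 hq
    simpa using this

end Groth.Agent.Lib.helper6
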