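import Groth.Prelude.Def_FSch3
import Groth.Agent.Lib.helper6.IdealComap
import Groth.Agent.Lib.helper6.RingNoeth

/-!
# Systems of schemes (formal schemes as systems of thickenings): helper lemmas (helper6)
-/

set_option autoImplicit false
universe u

open CategoryTheory CategoryTheory.Limits AlgebraicGeometry

namespace Groth.Agent.Lib.helper6

/-- Equality of morphisms of systems gives equality at each level. -/
theorem sys_app_congr {𝔛 𝔜 : FSch.Sys.{u}} {a b : 𝔛 ⟶ 𝔜} (h : a = b) (n : ℕ) :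
    (a : FSch.Hom 𝔛 𝔜).app n = (b : FSch.Hom 𝔛 𝔜).app n := by
  subst h; rfl

theorem sys_lift_comm {𝔓 𝔛 𝔜 𝔖 𝔚 : FSch.Sys.{u}} (p : FSch.Hom 𝔓 𝔛) (q : FSch.Hom 𝔓 𝔜)
    (f : FSch.Hom 𝔛 𝔖) (g : FSch.Hom 𝔜 𝔖)
    (H : ∀ n, IsPullback (p.app n) (q.app n) (f.app n) (g.app n))
    (a : FSch.Hom 𝔚 𝔛) (b : FSch.Hom 𝔚 𝔜) (hab : ∀ n, a.app n ≫ f.app n = b.app n ≫ g.app n)
    (n : ℕ) :
    (H n).lift (a.app n) (b.app n) (hab n) ≫ 𝔓.ι n =
      𝔚.ι n ≫ (H (n + 1)).lift (a.app (n + 1)) (b.app (n + 1)) (hab (n + 1)) := by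
  apply (H (n + 1)).hom_ext
  · rw [Category.assoc, Category.assoc, IsPullback.lift_fst, ← p.comm n, IsPullback.lift_fst_assoc]
    exact a.comm n
  · rw [Category.assoc, Category.assoc, IsPullback.lift_snd, ← q.comm n, IsPullback.lift_snd_assoc]
    exact b.comm n

/-- A square of systems which is cartesian at each level is cartesian. -/
theorem sys_isPullback_of_levelwise {𝔓 𝔛 𝔜 𝔖 : FSch.Sys.{u}} (p : 𝔓 ⟶ 𝔛) (q : 𝔓 ⟶ 𝔜)
    (f : 𝔛 ⟶ 𝔖) (g : 𝔜 ⟶ 𝔖)
    (H : ∀ n, IsPullback ((p : FSch.Hom _ _).app n) ((q : FSch.Hom _ _).app n)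
      ((f : FSch.Hom _ _).app n) ((g : FSch.Hom _ _).app n)) :
    IsPullback p q f g := by
  refine ⟨⟨?_⟩, ⟨PullbackCone.IsLimit.mk _
    (fun s => (⟨fun n => (H n).lift ((s.fst : FSch.Hom _ _).app n) ((s.snd : FSch.Hom _ _).app n)
        (sys_app_congr s.condition n),
      fun n => sys_lift_comm p q f g H s.fst s.snd (fun n => sys_app_congr s.condition n) n⟩ :
        FSch.Hom _ _)) ?_ ?_ ?_⟩⟩
  · apply FSch.Hom.ext
    funext n
    exact (H n).w
  · intro s
    apply FSch.Hom.ext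
    funext n
    exact (H n).lift_fst _ _ _
  · intro s
    apply FSch.Hom.ext
    funext n
    exact (H n).lift_snd _ _ _
  · intro s m h1 h2
    apply FSch.Hom.ext
    funext n
    apply (H n).hom_ext
    · exact (sys_app_congr h1 n).trans ((H n).lift_fst _ _ _).symm
    · exact (sys_app_congr h2 n).trans ((H n).lift_snd _ _ _).symm

/-- The closed subschemes cut out by `I` and by `J.comap f = I` form a cartesian square. -/
theorem subscheme_isPullback {X Y : Scheme.{u}} (f : X ⟶ Y) (I : X.IdealSheafData)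
    (J : Y.IdealSheafData) (hIJ : J.comap f = I) :
    IsPullback I.subschemeι
      (Scheme.IdealSheafData.subschemeMap I J f
        (Scheme.IdealSheafData.le_map_iff_comap_le.mpr hIJ.le)) f J.subschemeι := by
  refine isPullback_of_isClosedImmersion _ _ _ _
    (Scheme.IdealSheafData.subschemeMap_subschemeι _ _ _ _).symm ?_
  rw [Scheme.IdealSheafData.ker_subschemeι, Scheme.IdealSheafData.ker_subschemeι]
  exact hIJ

open Scheme.IdealSheafData in
theorem isPullback_inclusion {X : Scheme.{u}} {I J : X.IdealSheafData} (h : J ≤ I) :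
    IsPullback (inclusion h) (𝟙 I.subscheme) J.subschemeι I.subschemeι := by
  have h1 : IsPullback (inclusion h) (𝟙 I.subscheme) (𝟙 J.subscheme) (inclusion h) :=
    IsPullback.of_vert_isIso ⟨by simp⟩
  have h2 : IsPullback (𝟙 J.subscheme) (𝟙 J.subscheme) J.subschemeι J.subschemeι :=
    IsKernelPair.id_of_mono J.subschemeι
  have := h1.paste_horiz h2
  simpa using this

open Scheme.IdealSheafData in
theorem ker_inclusion {X : Scheme.{u}} {I J : X.IdealSheafData} (h : J ≤ I) :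
    (inclusion h).ker = I.comap J.subschemeι := by
  have hp := isPullback_inclusion h
  rw [comap, ← hp.isoPullback_hom_fst, Scheme.Hom.ker_comp_of_isIso]

open Scheme.IdealSheafData in
instance isClosedImmersion_inclusion {X : Scheme.{u}} {I J : X.IdealSheafData} (h : J ≤ I) :
    IsClosedImmersion (inclusion h) := by
  have : IsClosedImmersion (inclusion h ≫ J.subschemeι) := by
    rw [inclusion_subschemeι]; infer_instance
  exact IsClosedImmersion.of_comp (inclusion h) J.subschemeι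

open Scheme.IdealSheafData in
theorem inclusion_surjective {X : Scheme.{u}} {I J : X.IdealSheafData} (h : J ≤ I)
    (hs : I.support = J.support) : Function.Surjective (inclusion h).base := by
  intro z
  have hz : J.subschemeι z ∈ Set.range I.subschemeι := by
    rw [range_subschemeι, hs, ← range_subschemeι]
    exact ⟨z, rfl⟩
  obtain ⟨y, hy⟩ := hz
  refine ⟨y, ?_⟩
  apply J.subschemeι.isEmbedding.injective
  rw [← hy, ← Scheme.Hom.comp_apply, inclusion_subschemeι]

/-- In a cartesian square with the right-hand closed immersion `iY`, the kernel of the base change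
`iX` is the pullback of the kernel of `iY`. -/
theorem ker_eq_comap_of_isPullback {ZX ZY X Y : Scheme.{u}} {iX : ZX ⟶ X} {Zf : ZX ⟶ ZY}
    {f : X ⟶ Y} {iY : ZY ⟶ Y} [IsClosedImmersion iY] (H : IsPullback iX Zf f iY) :
    iX.ker = iY.ker.comap f := by
  rw [← Scheme.IdealSheafData.ker_fst_of_isClosedImmersion, ← H.isoPullback_hom_fst,
    Scheme.Hom.ker_comp_of_isIso]

theorem isFormal_of_isAdicHom {𝔜 𝔛 : FSch.Sys.{u}} (f : 𝔜 ⟶ 𝔛) (hf : FSch.IsAdicHom f)
    (h𝔛 : 𝔛.IsFormal) : 𝔜.IsFormal := by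
  intro n
  have sq := (hf n).flip
  constructor
  · exact MorphismProperty.of_isPullback (P := @IsClosedImmersion) sq (h𝔛 n).1
  · have h1 : Surjective (𝔛.ι n) := ⟨(h𝔛 n).2⟩
    have h2 : Surjective (𝔜.ι n) := MorphismProperty.of_isPullback (P := @Surjective) sq h1
    exact h2.surj

theorem isClosedImmersion_toX {𝔛 : FSch.Sys.{u}} (h𝔛 : 𝔛.IsFormal) (n : ℕ) :
    IsClosedImmersion (𝔛.toX n) := by
  induction n with
  | zero => exact inferInstanceAs (IsClosedImmersion (𝟙 _))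
  | succ n ih =>
    have := (h𝔛 n).1
    exact inferInstanceAs (IsClosedImmersion (𝔛.toX n ≫ 𝔛.ι n))

theorem isPullback_toX_of_isAdicHom {𝔜 𝔛 : FSch.Sys.{u}} (f : 𝔜 ⟶ 𝔛) (hf : FSch.IsAdicHom f)
    (n : ℕ) :
    IsPullback (𝔜.toX n) ((f : FSch.Hom 𝔜 𝔛).app 0) ((f : FSch.Hom 𝔜 𝔛).app n) (𝔛.toX n) := by
  induction n with
  | zero =>
    have : IsIso (𝔜.toX 0) := inferInstanceAs (IsIso (𝟙 _))
    have : IsIso (𝔛.toX 0) := inferInstanceAs (IsIso (𝟙 _))
    exact IsPullback.of_horiz_isIso ⟨by simp [FSch.Sys.toX]⟩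
  | succ n ih => exact ih.paste_horiz (hf n)

theorem isAdic_of_isAdicHom {𝔜 𝔛 : FSch.Sys.{u}} (f : 𝔜 ⟶ 𝔛) (hf : FSch.IsAdicHom f)
    (h𝔛F : 𝔛.IsFormal) (h𝔛 : 𝔛.IsAdic) : 𝔜.IsAdic := by
  intro n
  have := (h𝔛F n).1
  have := isClosedImmersion_toX h𝔛F (n + 1)
  rw [ker_eq_comap_of_isPullback (hf n),
    ker_eq_comap_of_isPullback (isPullback_toX_of_isAdicHom f hf (n + 1)), h𝔛 n, comap_pow]

/-- For a closed immersion `b`, pulling back and pushing forward an ideal sheaf adds `ker b`. -/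
theorem map_comap_of_isClosedImmersion {Y X : Scheme.{u}} (b : Y ⟶ X) [IsClosedImmersion b]
    (I : X.IdealSheafData) : (I.comap b).map b = I ⊔ b.ker := by
  ext U : 2
  rw [Scheme.IdealSheafData.ideal_map_of_isAffineHom,
    comap_ideal_of_le b I ⟨b ⁻¹ᵁ U.1, U.2.preimage b⟩ U le_rfl,
    Scheme.IdealSheafData.ideal_sup, Pi.sup_apply, Scheme.Hom.ker_apply]
  have hs : Function.Surjective (b.app U.1).hom := b.app_surjective U.1 U.2
  have : b.appLE U.1 (b ⁻¹ᵁ U.1) le_rfl = b.app U.1 := Scheme.Hom.appLE_eq_app _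
  rw [this, Ideal.comap_map_of_surjective _ hs, RingHom.ker_eq_comap_bot]

/-- For closed immersions `i`, `j`, the kernel of `i` is the restriction of the kernel of `i ≫ j`. -/
theorem ker_eq_comap_ker_comp {Z Y X : Scheme.{u}} (i : Z ⟶ Y) (j : Y ⟶ X)
    [IsClosedImmersion i] [IsClosedImmersion j] : i.ker = (i ≫ j).ker.comap j := by
  have h1 : IsPullback i (𝟙 Z) (𝟙 Y) i := IsPullback.of_vert_isIso ⟨by simp⟩
  have h2 : IsPullback (𝟙 Y) (𝟙 Y) j j := IsKernelPair.id_of_mono j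
  have h3 := h1.paste_horiz h2
  simp only [Category.comp_id] at h3
  exact ker_eq_comap_of_isPullback h3

theorem comap_ker_self {Y X : Scheme.{u}} (j : Y ⟶ X) : j.ker.comap j = ⊥ := by
  rw [eq_bot_iff, ← Scheme.IdealSheafData.map_bot]
  exact Scheme.IdealSheafData.comap_map_le _ _

/-- A finitely generated nilpotent thickening of a locally Noetherian scheme is locally
Noetherian. -/
theorem isLocallyNoetherian_of_thickening {Z X : Scheme.{u}} (i : Z ⟶ X) [IsClosedImmersion i]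
    [IsLocallyNoetherian Z] (k : ℕ) (hk : i.ker ^ k = ⊥) (hft : FSch.IdealFT i.ker) :
    IsLocallyNoetherian X := by
  constructor
  intro U
  have hs : Function.Surjective (i.app U.1).hom := i.app_surjective U.1 U.2
  have hker : RingHom.ker (i.app U.1).hom = i.ker.ideal U := (Scheme.Hom.ker_apply i U).symm
  have hN : IsNoetherianRing Γ(Z, i ⁻¹ᵁ U.1) :=
    IsLocallyNoetherian.component_noetherian ⟨i ⁻¹ᵁ U.1, U.2.preimage i⟩
  have e : (Γ(X, U.1) ⧸ i.ker.ideal U) ≃+* Γ(Z, i ⁻¹ᵁ U.1) :=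
    (Ideal.quotEquivOfEq hker.symm).trans (RingHom.quotientKerEquivOfSurjective hs)
  have : IsNoetherianRing (Γ(X, U.1) ⧸ i.ker.ideal U) :=
    isNoetherianRing_of_ringEquiv _ e.symm
  refine isNoetherianRing_of_nilpotent_fg (i.ker.ideal U) (hft U) k ?_
  have := congrArg (fun K : X.IdealSheafData => K.ideal U) hk
  simpa using this

section
variable {𝔛 : FSch.Sys.{u}}

theorem ker_toX_eq_comap (hF : 𝔛.IsFormal) (n : ℕ) :
    (𝔛.toX n).ker = (𝔛.toX (n + 1)).ker.comap (𝔛.ι n) := by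
  have := isClosedImmersion_toX hF n
  have := (hF n).1
  exact ker_eq_comap_ker_comp (𝔛.toX n) (𝔛.ι n)

theorem ker_toX_pow (hF : 𝔛.IsFormal) (hA : 𝔛.IsAdic) (n : ℕ) :
    (𝔛.toX n).ker ^ (n + 1) = ⊥ := by
  rw [ker_toX_eq_comap hF n, ← comap_pow, ← hA n, comap_ker_self]

/-- The composite `X 1 ⟶ X (m+1)`. -/
noncomputable def fromOne (𝔛 : FSch.Sys.{u}) : ∀ m : ℕ, 𝔛.X 1 ⟶ 𝔛.X (m + 1)
  | 0 => 𝟙 _
  | m + 1 => fromOne 𝔛 m ≫ 𝔛.ι (m + 1)

theorem isClosedImmersion_fromOne (hF : 𝔛.IsFormal) (m : ℕ) :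
    IsClosedImmersion (fromOne 𝔛 m) := by
  induction m with
  | zero => exact inferInstanceAs (IsClosedImmersion (𝟙 _))
  | succ m ih =>
    have := (hF (m + 1)).1
    exact inferInstanceAs (IsClosedImmersion (fromOne 𝔛 m ≫ 𝔛.ι (m + 1)))

theorem toX_one : 𝔛.toX 1 = 𝔛.ι 0 := by
  change 𝟙 _ ≫ 𝔛.ι 0 = _
  simp

theorem toX_eq_toX_one_comp (m : ℕ) : 𝔛.toX (m + 1) = 𝔛.toX 1 ≫ fromOne 𝔛 m := by
  induction m with
  | zero => simp [fromOne]
  | succ m ih =>
    change 𝔛.toX (m + 1) ≫ 𝔛.ι (m + 1) = 𝔛.toX 1 ≫ fromOne 𝔛 m ≫ 𝔛.ι (m + 1)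
    rw [ih, Category.assoc]

theorem idealSheaf_pow_le_sq {X : Scheme.{u}} (I : X.IdealSheafData) (m : ℕ) :
    I ^ (m + 2) ≤ I ^ 2 :=
  pow_le_pow_of_le_one bot_le le_top (by omega)

theorem ker_fromOne (hF : 𝔛.IsFormal) (hA : 𝔛.IsAdic) (m : ℕ) :
    (fromOne 𝔛 m).ker = (𝔛.toX (m + 1)).ker ^ 2 := by
  induction m with
  | zero =>
    rw [ker_toX_pow hF hA 1]
    exact Scheme.Hom.ker_eq_bot_of_isIso (𝟙 _)
  | succ m ih =>
    have := (hF (m + 1)).1
    change (fromOne 𝔛 m ≫ 𝔛.ι (m + 1)).ker = _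
    rw [← Scheme.IdealSheafData.map_ker, ih, ker_toX_eq_comap hF (m + 1), ← comap_pow,
      map_comap_of_isClosedImmersion, hA (m + 1)]
    exact sup_eq_left.mpr (idealSheaf_pow_le_sq _ m)

theorem idealFT_ker_toX (hF : 𝔛.IsFormal) (hA : 𝔛.IsAdic) (hft : FSch.IdealFT (𝔛.ι 0).ker)
    (m : ℕ) : FSch.IdealFT (𝔛.toX (m + 1)).ker := by
  intro U
  have hci := isClosedImmersion_fromOne hF m
  have hci1 : IsClosedImmersion (𝔛.toX 1) := isClosedImmersion_toX hF 1
  have hci2 : IsClosedImmersion (𝔛.toX 1 ≫ fromOne 𝔛 m) := inferInstance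
  set b := fromOne 𝔛 m with hb
  set J := (𝔛.toX (m + 1)).ker.ideal U with hJ
  have hs : Function.Surjective (b.app U.1).hom := b.app_surjective U.1 U.2
  have hker : RingHom.ker (b.app U.1).hom = J ^ 2 := by
    rw [← Scheme.Hom.ker_apply b U, hb, ker_fromOne hF hA m]
    simp [hJ]
  have hnil : J ^ (m + 2) = ⊥ := by
    have := congrArg (fun K : (𝔛.X (m + 1)).IdealSheafData => K.ideal U) (ker_toX_pow hF hA (m + 1))
    simpa using this
  have h1 : (𝔛.ι 0).ker = (𝔛.toX (m + 1)).ker.comap b := by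
    rw [← toX_one, toX_eq_toX_one_comp m]
    exact ker_eq_comap_ker_comp (𝔛.toX 1) b
  have hfg : (J.map (b.app U.1).hom).FG := by
    have h2 := hft ⟨b ⁻¹ᵁ U.1, U.2.preimage b⟩
    rw [h1, comap_ideal_of_le b _ ⟨b ⁻¹ᵁ U.1, U.2.preimage b⟩ U le_rfl] at h2
    have : b.appLE U.1 (b ⁻¹ᵁ U.1) le_rfl = b.app U.1 := Scheme.Hom.appLE_eq_app _
    rw [this] at h2
    exact h2
  obtain ⟨s, hs'⟩ := hfg
  have : ∀ x ∈ s, ∃ y ∈ J, (b.app U.1).hom y = x := by
    intro x hx
    have hx' : x ∈ J.map (b.app U.1).hom := hs' ▸ Ideal.subset_span hx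
    rw [Ideal.mem_map_iff_of_surjective _ hs] at hx'
    exact hx'
  choose! y hyJ hy using this
  classical
  refine ⟨s.image y, le_antisymm ?_ ?_⟩
  · rw [Ideal.span_le]
    intro z hz
    simp only [Finset.coe_image, Set.mem_image] at hz
    obtain ⟨x, hx, rfl⟩ := hz
    exact hyJ x hx
  · apply ideal_le_of_le_sup_sq_of_pow_eq_bot J _ ?_ (m + 2) hnil
    intro a ha
    have ha' : (b.app U.1).hom a ∈ Ideal.span (s : Set _) := by
      rw [hs']; exact Ideal.mem_map_of_mem _ ha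
    have h3 : Ideal.span (s : Set _) ≤
        (Ideal.span ((s.image y : Finset _) : Set _)).map (b.app U.1).hom := by
      rw [Ideal.span_le]
      intro x hx
      rw [← hy x hx]
      apply Ideal.mem_map_of_mem
      apply Ideal.subset_span
      simp only [Finset.coe_image, Set.mem_image]
      exact ⟨x, hx, rfl⟩
    have h4 := h3 ha'
    rw [Ideal.mem_map_iff_of_surjective _ hs] at h4
    obtain ⟨q, hq, hqa⟩ := h4
    have h5 : a - q ∈ J ^ 2 := by
      rw [← hker, RingHom.mem_ker, map_sub, hqa, sub_self]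
    have : a = q + (a - q) := by ring
    rw [this]
    exact Ideal.add_mem _ (Ideal.mem_sup_left hq) (Ideal.mem_sup_right h5)

theorem isLocallyNoetherian_level (hF : 𝔛.IsFormal) (hA : 𝔛.IsAdic)
    [IsLocallyNoetherian (𝔛.X 0)] (hft : FSch.IdealFT (𝔛.ι 0).ker) (n : ℕ) :
    IsLocallyNoetherian (𝔛.X n) := by
  cases n with
  | zero => infer_instance
  | succ m =>
    have := isClosedImmersion_toX hF (m + 1)
    exact isLocallyNoetherian_of_thickening (𝔛.toX (m + 1)) (m + 2) (ker_toX_pow hF hA (m + 1))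
      (idealFT_ker_toX hF hA hft m)

end

theorem ideal_fg_of_localizationSpan' {R : Type u} [CommRing R] (I : Ideal R) (t : Set R)
    (ht : Ideal.span t = ⊤) (Rₚ : t → Type u) [∀ g, CommRing (Rₚ g)] [∀ g, Algebra R (Rₚ g)]
    [∀ g : t, IsLocalization.Away g.val (Rₚ g)]
    (H : ∀ g : t, (I.map (algebraMap R (Rₚ g))).FG) : I.FG := by
  apply Ideal.fg_of_localizationSpan t ht
  intro g
  let e : Rₚ g ≃ₐ[R] Localization.Away g.val := IsLocalization.algEquiv (.powers g.val) _ _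
  have h1 := (H g).map e.toRingEquiv.toRingHom
  rw [Ideal.map_map] at h1
  have h2 : e.toRingEquiv.toRingHom.comp (algebraMap R (Rₚ g)) =
      algebraMap R (Localization.Away g.val) := by
    ext r
    exact e.commutes r
  rwa [h2] at h1

/-- Finite type of an ideal sheaf can be checked on an affine open cover. -/
theorem idealFT_of_cover {X : Scheme.{u}} (K : X.IdealSheafData) {ι : Type*}
    (V : ι → X.affineOpens) (hV : ⨆ i, (V i).1 = ⊤) (H : ∀ i, (K.ideal (V i)).FG) :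
    FSch.IdealFT K := by
  intro U
  have : ∀ x : U.1, ∃ (i : ι) (r : Γ(X, U.1)) (rV : Γ(X, (V i).1)),
      X.basicOpen r = X.basicOpen rV ∧ x.1 ∈ X.basicOpen r := by
    intro ⟨x, hxU⟩
    obtain ⟨i, hi⟩ := TopologicalSpace.Opens.mem_iSup.mp (hV.ge (Set.mem_univ x))
    exact ⟨i, exists_basicOpen_le_affine_inter U.2 (V i).2 _ ⟨hxU, hi⟩⟩
  choose i r rV e hxr using this
  have hspan : Ideal.span (Set.range r) = ⊤ := by
    rw [← U.2.self_le_iSup_basicOpen_iff]
    exact fun x hxU ↦ TopologicalSpace.Opens.mem_iSup.mpr ⟨⟨_, _, rfl⟩, hxr ⟨x, hxU⟩⟩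
  have inst := U.2.isLocalization_basicOpen
  refine ideal_fg_of_localizationSpan' (K.ideal U) (Set.range r) hspan
    (fun g ↦ Γ(X, X.basicOpen g.1)) ?_
  rintro ⟨_, j, rfl⟩
  have h1 : (K.ideal U).map (algebraMap Γ(X, U.1) Γ(X, X.basicOpen (r j))) =
      K.ideal (X.affineBasicOpen (r j)) := K.map_ideal_basicOpen U (r j)
  have h2 : K.ideal (X.affineBasicOpen (r j)) =
      (K.ideal (V (i j))).map (X.presheaf.map
        (homOfLE (show X.basicOpen (r j) ≤ (V (i j)).1 from (e j).trans_le (X.basicOpen_le _))).op).hom :=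
    (K.map_ideal (U := X.affineBasicOpen (r j)) (V := V (i j))
      ((e j).trans_le (X.basicOpen_le _))).symm
  rw [h1, h2]
  exact (H (i j)).map _

theorem idealFT_comap {X Y : Scheme.{u}} (f : X ⟶ Y) (K : Y.IdealSheafData)
    (hK : FSch.IdealFT K) : FSch.IdealFT (K.comap f) := by
  choose U V hxU hUV using exists_affineOpens_le_preimage f
  refine idealFT_of_cover _ U ?_ ?_
  · rw [eq_top_iff]
    intro x _
    exact TopologicalSpace.Opens.mem_iSup.mpr ⟨x, hxU x⟩
  · intro x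
    rw [comap_ideal_of_le f K (U x) (V x) (hUV x)]
    exact (hK (V x)).map _

theorem idealFT_of_isLocallyNoetherian {X : Scheme.{u}} [IsLocallyNoetherian X]
    (K : X.IdealSheafData) : FSch.IdealFT K := by
  intro U
  have : IsNoetherianRing Γ(X, U.1) := IsLocallyNoetherian.component_noetherian U
  exact IsNoetherian.noetherian _

/-- A system adic over a locally Noetherian adic formal system, with locally Noetherian level `0`,
is a locally Noetherian adic formal system. -/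
theorem isLocNoethFormal_of_isAdicHom {𝔛 𝔖 : FSch.Sys.{u}} (f : 𝔛 ⟶ 𝔖)
    (h𝔖 : 𝔖.IsLocNoethFormal) (hf : FSch.IsAdicHom f) [IsLocallyNoetherian (𝔛.X 0)] :
    𝔛.IsLocNoethFormal := by
  have hF := isFormal_of_isAdicHom f hf h𝔖.1
  have hA := isAdic_of_isAdicHom f hf h𝔖.1 h𝔖.2.1
  refine ⟨hF, hA, fun n => ?_⟩
  apply isLocallyNoetherian_level hF hA
  have := (h𝔖.1 0).1
  have := h𝔖.2.2 1
  rw [ker_eq_comap_of_isPullback (hf 0)]
  exact idealFT_comap _ _ (idealFT_of_isLocallyNoetherian _)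

end Groth.Agent.Lib.helper6
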