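import Mathlib

/-! A residue/Casimir computation for algebras `T = A[X]/(p)` (helper6).
`FrobPres` records that `T` is spanned by the powers of a unit `ℓ` killed by the monic polynomial
`p`, together with a functional `F` having the quotient `p / (X - ℓ)` as dual basis.
The main theorem `FrobPres.main` computes `F` on `ℓ^{-r} · j ℓ^{j-1} Θ(ℓ)^{-1} · ℓ^{jn}` when
`p(X) Θ(X) = P₁(X^j)`. -/

namespace Groth.Agent.Lib.helper6.FrobRes

open Polynomial

variable {A T : Type*} [CommRing A] [CommRing T] [Algebra A T]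

/-- The quotient `p / (X - ℓ)` over `T`. -/
noncomputable def Del (p : A[X]) (ℓ : T) : T[X] := (p.map (algebraMap A T)) /ₘ (X - C ℓ)

structure FrobPres (ℓ linv : T) (p : A[X]) (r : ℕ) (F : T →ₗ[A] A) : Prop where
  inv : linv * ℓ = 1
  monic : p.Monic
  deg : p.natDegree = r + 1
  root : aeval ℓ p = 0
  span : ∀ y : T, ∃ a : ℕ → A, y = ∑ m ∈ Finset.range (r + 1), a m • ℓ ^ m
  dual : ∀ n m, n ≤ r → m ≤ r →
    F (linv ^ r * ℓ ^ n * (Del p ℓ).coeff m) = if n = m then 1 else 0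

variable {ℓ linv : T} {p : A[X]} {r : ℕ} {F : T →ₗ[A] A}

namespace FrobPres

theorem Del_mul (h : FrobPres ℓ linv p r F) :
    (X - C ℓ) * Del p ℓ = p.map (algebraMap A T) := by
  rw [Del, mul_divByMonic_eq_iff_isRoot, IsRoot, eval_map_algebraMap, h.root]

theorem coeff_Del_eq_zero [Nontrivial T] (h : FrobPres ℓ linv p r F) {m : ℕ} (hm : r < m) :
    (Del p ℓ).coeff m = 0 := by
  apply coeff_eq_zero_of_natDegree_lt
  rw [Del, natDegree_divByMonic _ (monic_X_sub_C ℓ), natDegree_X_sub_C]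
  have := natDegree_map_le (f := algebraMap A T) (p := p)
  rw [h.deg] at this
  omega

theorem casimir (h : FrobPres ℓ linv p r F) (y : T) :
    y = ∑ m ∈ Finset.range (r + 1), F (linv ^ r * y * (Del p ℓ).coeff m) • ℓ ^ m := by
  obtain ⟨a, ha⟩ := h.span y
  have key : ∀ m ∈ Finset.range (r + 1), F (linv ^ r * y * (Del p ℓ).coeff m) = a m := by
    intro m hm
    have hm' : m ≤ r := by have := Finset.mem_range.mp hm; omega
    rw [ha, Finset.mul_sum, Finset.sum_mul, map_sum]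
    rw [Finset.sum_eq_single m]
    · rw [mul_smul_comm, smul_mul_assoc, map_smul, h.dual m m hm' hm', if_pos rfl, smul_eq_mul,
        mul_one]
    · intro n hn hnm
      have hn' : n ≤ r := by have := Finset.mem_range.mp hn; omega
      rw [mul_smul_comm, smul_mul_assoc, map_smul, h.dual n m hn' hm', if_neg hnm, smul_zero]
    · intro hm2; exact absurd hm hm2
  rw [Finset.sum_congr rfl fun m hm => by rw [key m hm]]
  exact ha

theorem indep (h : FrobPres ℓ linv p r F) (a : ℕ → A)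
    (ha : ∑ m ∈ Finset.range (r + 1), a m • ℓ ^ m = 0) : ∀ m, m ≤ r → a m = 0 := by
  intro m hm
  have h1 : F (linv ^ r * (∑ n ∈ Finset.range (r + 1), a n • ℓ ^ n) * (Del p ℓ).coeff m) = a m := by
    rw [Finset.mul_sum, Finset.sum_mul, map_sum]
    rw [Finset.sum_eq_single m]
    · rw [mul_smul_comm, smul_mul_assoc, map_smul, h.dual m m hm hm, if_pos rfl, smul_eq_mul,
        mul_one]
    · intro n hn hnm
      have hn' : n ≤ r := by have := Finset.mem_range.mp hn; omega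
      rw [mul_smul_comm, smul_mul_assoc, map_smul, h.dual n m hn' hm, if_neg hnm, smul_zero]
    · intro hm2; exact absurd (Finset.mem_range.mpr (by omega)) hm2
  rw [ha, mul_zero, zero_mul, map_zero] at h1
  exact h1.symm

theorem dvd_of_aeval_eq_zero (h : FrobPres ℓ linv p r F) (g : A[X]) (hg : aeval ℓ g = 0) :
    p ∣ g := by
  nontriviality A
  rw [← modByMonic_eq_zero_iff_dvd h.monic]
  set s := g %ₘ p with hs
  have hp1 : p ≠ 1 := by
    intro h1
    have := h.deg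
    rw [h1, natDegree_one] at this
    omega
  have hdeg : s.natDegree < r + 1 := by
    rw [← h.deg]; exact natDegree_modByMonic_lt g h.monic hp1
  have hsl : aeval ℓ s = 0 := by
    have := congrArg (aeval ℓ) (modByMonic_add_div g p)
    rw [map_add, map_mul, h.root, zero_mul, add_zero, hg] at this
    exact this
  have hsum : aeval ℓ s = ∑ m ∈ Finset.range (r + 1), s.coeff m • ℓ ^ m := by
    rw [aeval_eq_sum_range' hdeg]
  rw [hsum] at hsl
  have hc := h.indep (fun m => s.coeff m) hsl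
  ext m
  rw [coeff_zero]
  by_cases hm : m ≤ r
  · exact hc m hm
  · exact coeff_eq_zero_of_natDegree_lt (by omega)


/-- Key congruence: `y₀ · D₁(X^j) ≡ p/(X - ℓ)` modulo `p`, where `y₀ = j ℓ^{j-1} Θ(ℓ)⁻¹` and
`D₁ = P₁ / (X - ℓ^j)`. -/
theorem key_congr (h : FrobPres ℓ linv p r F) (j : ℕ) (hjT : IsUnit (j : T))
    (P₁ Θ : A[X]) (hΘ : p * Θ = expand A j P₁) (W : T) (hW : W * aeval ℓ Θ = 1)
    (N : ℕ) (hnil : (ℓ - 1) ^ N = 0) :
    ∃ E : T[X], C ((j : T) * ℓ ^ (j - 1) * W) *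
        expand T j ((P₁.map (algebraMap A T)) /ₘ (X - C (ℓ ^ j))) =
      Del p ℓ + p.map (algebraMap A T) * E := by
  obtain ⟨pT, hpT⟩ : ∃ pT, pT = p.map (algebraMap A T) := ⟨_, rfl⟩
  obtain ⟨ΘT, hΘT⟩ : ∃ ΘT, ΘT = Θ.map (algebraMap A T) := ⟨_, rfl⟩
  obtain ⟨P₁T, hP₁T⟩ : ∃ P₁T, P₁T = P₁.map (algebraMap A T) := ⟨_, rfl⟩
  obtain ⟨D₁, hD₁⟩ : ∃ D₁, D₁ = P₁T /ₘ (X - C (ℓ ^ j)) := ⟨_, rfl⟩
  obtain ⟨D, hD⟩ : ∃ D, D = expand T j D₁ := ⟨_, rfl⟩
  obtain ⟨H, hH⟩ : ∃ H : T[X], H = ∑ i ∈ Finset.range j, X ^ i * (C ℓ) ^ (j - 1 - i) := ⟨_, rfl⟩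
  rw [← hpT, ← hP₁T, ← hD₁, ← hD]
  have hDel : (X - C ℓ) * Del p ℓ = pT := by rw [hpT]; exact h.Del_mul
  -- M1
  have M1 : (X - C (ℓ ^ j)) * D₁ = P₁T := by
    rw [hD₁, mul_divByMonic_eq_iff_isRoot, IsRoot, hP₁T, eval_map_algebraMap, ← expand_aeval,
      ← hΘ, map_mul, h.root, zero_mul]
  -- M2
  have M2 : (X ^ j - C (ℓ ^ j)) * D = pT * ΘT := by
    have := congrArg (expand T j) M1
    rw [map_mul, map_sub, expand_X, expand_C, ← hD] at this
    rw [this, hP₁T, ← map_expand, ← hΘ, Polynomial.map_mul, hpT, hΘT]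
  -- M3
  have M3 : (X : T[X]) ^ j - C (ℓ ^ j) = H * (X - C ℓ) := by
    rw [hH, C_pow, geom_sum₂_mul]
  -- M4
  have M4 : H * D = Del p ℓ * ΘT := by
    apply (monic_X_sub_C ℓ).isRegular.left
    change (X - C ℓ) * (H * D) = (X - C ℓ) * (Del p ℓ * ΘT)
    rw [← mul_assoc, mul_comm (X - C ℓ) H, ← M3, M2, ← mul_assoc, hDel]
  -- the quotient ring
  let I : Ideal T[X] := Ideal.span {pT}
  let π : T[X] →+* T[X] ⧸ I := Ideal.Quotient.mk I
  have hπp : π pT = 0 := Ideal.Quotient.eq_zero_iff_mem.mpr (Ideal.mem_span_singleton_self _)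
  obtain ⟨δ, hδ⟩ : ∃ δ, δ = π (X - C ℓ) := ⟨_, rfl⟩
  have h1 : π (Del p ℓ) * δ = 0 := by
    rw [hδ, ← map_mul, mul_comm, hDel, hπp]
  have h2 : IsNilpotent δ := by
    have hdvd : pT ∣ (X - 1) ^ N := by
      have h0 : p ∣ (X - 1) ^ N := by
        apply h.dvd_of_aeval_eq_zero
        simp [hnil]
      have := Polynomial.map_dvd (algebraMap A T) h0
      rw [hpT]
      simpa using this
    have hx : IsNilpotent (π X - 1) := by
      refine ⟨N, ?_⟩
      have : (π X - 1) ^ N = π ((X - 1) ^ N) := by simp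
      rw [this]
      exact Ideal.Quotient.eq_zero_iff_mem.mpr (Ideal.mem_span_singleton.mpr hdvd)
    have hy : IsNilpotent (π (C ℓ) - 1) := by
      refine ⟨N, ?_⟩
      have : (π (C ℓ) - 1) ^ N = π (C ((ℓ - 1) ^ N)) := by simp
      rw [this, hnil, map_zero, map_zero]
    have : δ = (π X - 1) - (π (C ℓ) - 1) := by rw [hδ, map_sub]; ring
    rw [this]
    exact Commute.isNilpotent_sub (Commute.all _ _) hx hy
  have hevalH : H.eval ℓ = (j : T) * ℓ ^ (j - 1) := by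
    rw [hH, eval_finsetSum]
    rw [Finset.sum_congr rfl (g := fun _ => ℓ ^ (j - 1))]
    · simp
    · intro i hi
      have hi' := Finset.mem_range.mp hi
      rw [eval_mul, eval_pow, eval_pow, eval_X, eval_C, ← pow_add]
      congr 1
      omega
  obtain ⟨G, hG⟩ : X - C ℓ ∣ H - C (H.eval ℓ) := X_sub_C_dvd_sub_C_eval
  obtain ⟨G₂, hG₂⟩ : X - C ℓ ∣ ΘT - C (ΘT.eval ℓ) := X_sub_C_dvd_sub_C_eval
  have hevalΘ : ΘT.eval ℓ = aeval ℓ Θ := by rw [hΘT, eval_map_algebraMap]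
  rw [hevalH] at hG
  rw [hevalΘ] at hG₂
  have hπH : π H = π (C ((j : T) * ℓ ^ (j - 1))) + δ * π G := by
    rw [hδ, ← map_mul, ← map_add, ← hG]
    congr 1
    ring
  have hπΘ : π ΘT = π (C (aeval ℓ Θ)) + δ * π G₂ := by
    rw [hδ, ← map_mul, ← map_add, ← hG₂]
    congr 1
    ring
  have hu₀ : IsUnit ((j : T) * ℓ ^ (j - 1)) :=
    hjT.mul (IsUnit.pow _ (IsUnit.of_mul_eq_one linv (by rw [mul_comm]; exact h.inv)))
  have h6 : IsUnit (π H) := by
    rw [hπH]
    exact (Commute.isNilpotent_mul_right (Commute.all _ _) h2).isUnit_add_left_of_commute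
      ((hu₀.map C).map π) (Commute.all _ _)
  have h5 : π D * δ * π H = 0 := by
    rw [hδ, ← map_mul, ← map_mul]
    have : D * (X - C ℓ) * H = pT * ΘT := by
      rw [← M2, M3]; ring
    rw [this, map_mul, hπp, zero_mul]
  have h7 : π D * δ = 0 := by
    obtain ⟨u, hu⟩ := h6
    rw [← hu] at h5
    exact (Units.mul_left_eq_zero u).mp h5
  have h8 : π (C ((j : T) * ℓ ^ (j - 1))) * π D = π (C (aeval ℓ Θ)) * π (Del p ℓ) := by
    have h9 := congrArg π M4
    rw [map_mul, map_mul, hπH, hπΘ] at h9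
    have e1 : (π (C ((j : T) * ℓ ^ (j - 1))) + δ * π G) * π D =
        π (C ((j : T) * ℓ ^ (j - 1))) * π D + π G * (π D * δ) := by ring
    have e2 : π (Del p ℓ) * (π (C (aeval ℓ Θ)) + δ * π G₂) =
        π (C (aeval ℓ Θ)) * π (Del p ℓ) + π G₂ * (π (Del p ℓ) * δ) := by ring
    rw [e1, e2, h7, h1, mul_zero, mul_zero, add_zero, add_zero] at h9
    exact h9
  have h10 : π (C ((j : T) * ℓ ^ (j - 1) * W) * D - Del p ℓ) = 0 := by
    have h11 : π (C W) * (π (C ((j : T) * ℓ ^ (j - 1))) * π D) =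
        π (C W) * (π (C (aeval ℓ Θ)) * π (Del p ℓ)) := by rw [h8]
    have h12 : π (C W) * π (C (aeval ℓ Θ)) = 1 := by
      rw [← map_mul, ← C_mul, hW, C_1, map_one]
    have h13 : π (C ((j : T) * ℓ ^ (j - 1) * W) * D) = π (Del p ℓ) := by
      calc π (C ((j : T) * ℓ ^ (j - 1) * W) * D)
          = π (C W) * (π (C ((j : T) * ℓ ^ (j - 1))) * π D) := by
            rw [C_mul, map_mul, map_mul]; ring
        _ = π (C W) * (π (C (aeval ℓ Θ)) * π (Del p ℓ)) := h11
        _ = (π (C W) * π (C (aeval ℓ Θ))) * π (Del p ℓ) := by ring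
        _ = π (Del p ℓ) := by rw [h12, one_mul]
    rw [map_sub, h13, sub_self]
  obtain ⟨E, hE⟩ := Ideal.mem_span_singleton.mp (Ideal.Quotient.eq_zero_iff_mem.mp h10)
  exact ⟨E, by rw [← hE]; ring⟩

end FrobPres

end Groth.Agent.Lib.helper6.FrobRes
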