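import Mathlib
import Groth.Agent.Lib.helper6.FrobRes

/-! Second part of the residue computation (helper6): the main theorem `FrobPres.main`. -/

namespace Groth.Agent.Lib.helper6.FrobRes

open Polynomial

variable {A T : Type*} [CommRing A] [CommRing T] [Algebra A T]

/-- `Ξ_y(Σ g_m X^m) = Σ F(linv^r y g_m) • ℓ^m`. -/
noncomputable def Xi (ℓ linv : T) (r : ℕ) (F : T →ₗ[A] A) (y : T) : T[X] →ₗ[A] T :=
  Polynomial.lsum (fun m => (F.comp (LinearMap.mulLeft A (linv ^ r * y))).smulRight (ℓ ^ m))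

variable {ℓ linv : T} {p : A[X]} {r : ℕ} {F : T →ₗ[A] A}

theorem Xi_monomial (y : T) (m : ℕ) (g : T) :
    Xi ℓ linv r F y (monomial m g) = F (linv ^ r * y * g) • ℓ ^ m := by
  rw [Xi, Polynomial.lsum_apply, sum_monomial_index]
  · simp [mul_assoc]
  · simp

theorem Xi_of_natDegree_lt (y : T) (G : T[X]) (n : ℕ) (hn : G.natDegree < n) :
    Xi ℓ linv r F y G = ∑ m ∈ Finset.range n, F (linv ^ r * y * G.coeff m) • ℓ ^ m := by
  conv_lhs => rw [as_sum_range' G n hn]
  rw [map_sum]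
  exact Finset.sum_congr rfl fun m _ => Xi_monomial y m _

theorem Xi_X_pow_mul (y : T) (i : ℕ) (E : T[X]) :
    Xi ℓ linv r F y (X ^ i * E) = ℓ ^ i * Xi ℓ linv r F y E := by
  induction E using Polynomial.induction_on' with
  | add a b ha hb => rw [mul_add, map_add, ha, hb, map_add, mul_add]
  | monomial m g =>
    rw [X_pow_mul_monomial, Xi_monomial, Xi_monomial, mul_smul_comm, add_comm m i, pow_add]

theorem Xi_C_algebraMap_mul (y : T) (a : A) (E : T[X]) :
    Xi ℓ linv r F y (C (algebraMap A T a) * E) = a • Xi ℓ linv r F y E := by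
  induction E using Polynomial.induction_on' with
  | add b c hb hc => rw [mul_add, map_add, hb, hc, map_add, smul_add]
  | monomial m g =>
    rw [C_mul_monomial, Xi_monomial, Xi_monomial, smul_smul]
    congr 1
    have e : linv ^ r * y * (algebraMap A T a * g) = a • (linv ^ r * y * g) := by
      rw [Algebra.smul_def]; ring
    rw [e, map_smul, smul_eq_mul]

theorem Xi_map_mul (y : T) (q : A[X]) (E : T[X]) :
    Xi ℓ linv r F y (q.map (algebraMap A T) * E) = aeval ℓ q * Xi ℓ linv r F y E := by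
  induction q using Polynomial.induction_on' with
  | add a b ha hb => rw [Polynomial.map_add, add_mul, map_add, ha, hb, map_add, add_mul]
  | monomial i a =>
    rw [map_monomial, ← C_mul_X_pow_eq_monomial, mul_assoc, Xi_C_algebraMap_mul, Xi_X_pow_mul,
      aeval_monomial, Algebra.smul_def, mul_assoc]

namespace FrobPres

theorem nontrivial_of (h : FrobPres ℓ linv p r F) [Nontrivial A] : Nontrivial T := by
  by_contra hT
  rw [not_nontrivial_iff_subsingleton] at hT
  have h1 := h.dual 0 0 (Nat.zero_le r) (Nat.zero_le r)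
  rw [if_pos rfl, Subsingleton.elim (linv ^ r * ℓ ^ 0 * (Del p ℓ).coeff 0) 0, map_zero] at h1
  exact zero_ne_one h1

theorem Xi_Del (h : FrobPres ℓ linv p r F) [Nontrivial T] (y : T) :
    Xi ℓ linv r F y (Del p ℓ) = y := by
  have hdeg : (Del p ℓ).natDegree < r + 1 := by
    rw [Del, natDegree_divByMonic _ (monic_X_sub_C ℓ), natDegree_X_sub_C]
    have := natDegree_map_le (f := algebraMap A T) (p := p)
    rw [h.deg] at this
    omega
  rw [Xi_of_natDegree_lt y _ (r + 1) hdeg]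
  exact (h.casimir y).symm

theorem coeff_formula (h : FrobPres ℓ linv p r F) (a : ℕ → A) (m : ℕ) (hm : m ≤ r) :
    F (linv ^ r * (∑ n ∈ Finset.range (r + 1), a n • ℓ ^ n) * (Del p ℓ).coeff m) = a m := by
  rw [Finset.mul_sum, Finset.sum_mul, map_sum]
  rw [Finset.sum_eq_single m]
  · rw [mul_smul_comm, smul_mul_assoc, map_smul, h.dual m m hm hm, if_pos rfl, smul_eq_mul,
      mul_one]
  · intro n hn hnm
    have hn' : n ≤ r := by have := Finset.mem_range.mp hn; omega
    rw [mul_smul_comm, smul_mul_assoc, map_smul, h.dual n m hn' hm, if_neg hnm, smul_zero]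
  · intro hm2; exact absurd (Finset.mem_range.mpr (by omega)) hm2

/-- Main theorem. -/
theorem main (h : FrobPres ℓ linv p r F) (j : ℕ) (hjT : IsUnit (j : T))
    (P₁ Θ : A[X]) (hP₁ : P₁.Monic) (hP₁d : P₁.natDegree = r + 1)
    (hΘ : p * Θ = expand A j P₁) (W : T) (hW : W * aeval ℓ Θ = 1)
    (N : ℕ) (hnil : (ℓ - 1) ^ N = 0) (n : ℕ) (hn : n ≤ r) :
    F (linv ^ r * ((j : T) * ℓ ^ (j - 1) * W) * (ℓ ^ j) ^ n) = if n = r then 1 else 0 := by
  nontriviality A
  have : Nontrivial T := h.nontrivial_of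
  obtain ⟨E, hE⟩ := h.key_congr j hjT P₁ Θ hΘ W hW N hnil
  obtain ⟨y₀, hy₀⟩ : ∃ y₀, y₀ = (j : T) * ℓ ^ (j - 1) * W := ⟨_, rfl⟩
  obtain ⟨D₁, hD₁⟩ : ∃ D₁, D₁ = (P₁.map (algebraMap A T)) /ₘ (X - C (ℓ ^ j)) := ⟨_, rfl⟩
  rw [← hy₀, ← hD₁] at hE
  rw [← hy₀]
  have M1 : (X - C (ℓ ^ j)) * D₁ = P₁.map (algebraMap A T) := by
    rw [hD₁, mul_divByMonic_eq_iff_isRoot, IsRoot, eval_map_algebraMap, ← expand_aeval,
      ← hΘ, map_mul, h.root, zero_mul]
  have hD₁monic : D₁.Monic := by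
    apply Monic.of_mul_monic_left (monic_X_sub_C (ℓ ^ j))
    rw [M1]
    exact hP₁.map _
  have hD₁deg : D₁.natDegree = r := by
    rw [hD₁, natDegree_divByMonic _ (monic_X_sub_C _), natDegree_X_sub_C, hP₁.natDegree_map,
      hP₁d]
    omega
  -- expansion of every `y` in powers of `ℓ^j`
  have hexp : ∀ y : T, y = ∑ m ∈ Finset.range (r + 1),
      F (linv ^ r * y * (y₀ * D₁.coeff m)) • (ℓ ^ j) ^ m := by
    intro y
    have h1 := congrArg (Xi ℓ linv r F y) hE
    rw [map_add, h.Xi_Del, Xi_map_mul, h.root, zero_mul, add_zero] at h1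
    refine h1.symm.trans ?_
    conv_lhs => rw [as_sum_range' D₁ (r + 1) (by omega)]
    rw [map_sum, Finset.mul_sum, map_sum]
    refine Finset.sum_congr rfl fun m _ => ?_
    rw [expand_monomial, C_mul_monomial, Xi_monomial, ← pow_mul, mul_comm j m]
  -- linear algebra
  let σ : (Fin (r + 1) → A) →ₗ[A] T := Fintype.linearCombination A (fun m : Fin (r + 1) => (ℓ ^ j) ^ m.1)
  let κ : T →ₗ[A] (Fin (r + 1) → A) :=
    LinearMap.pi (fun m => F.comp (LinearMap.mulRight A ((Del p ℓ).coeff m.1)) ∘ₗ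
      (LinearMap.mulLeft A (linv ^ r)))
  have hκ : ∀ (y : T) (m : Fin (r + 1)), κ y m = F (linv ^ r * y * (Del p ℓ).coeff m.1) := by
    intro y m
    rfl
  have hσ : ∀ a : Fin (r + 1) → A, σ a = ∑ m ∈ Finset.range (r + 1),
      (if hm : m < r + 1 then a ⟨m, hm⟩ else 0) • (ℓ ^ j) ^ m := by
    intro a
    rw [Finset.sum_range]
    change ∑ i, a i • (ℓ ^ j) ^ i.1 = _
    refine Finset.sum_congr rfl fun i _ => ?_
    rw [dif_pos i.2]
  have hsurj : Function.Surjective (κ ∘ₗ σ) := by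
    intro c
    obtain ⟨y, hy⟩ : ∃ y : T, y = ∑ m ∈ Finset.range (r + 1),
      (if hm : m < r + 1 then c ⟨m, hm⟩ else 0) • ℓ ^ m := ⟨_, rfl⟩
    refine ⟨fun m => F (linv ^ r * y * (y₀ * D₁.coeff m.1)), ?_⟩
    have h2 : σ (fun m => F (linv ^ r * y * (y₀ * D₁.coeff m.1))) = y := by
      rw [hσ]
      conv_rhs => rw [hexp y]
      refine Finset.sum_congr rfl fun m hm => ?_
      rw [dif_pos (Finset.mem_range.mp hm)]
    rw [LinearMap.comp_apply, h2]
    funext m
    rw [hκ, hy, h.coeff_formula _ m.1 (by have := m.2; omega), dif_pos m.2]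
  have hinj : Function.Injective (κ ∘ₗ σ) :=
    OrzechProperty.injective_of_surjective_endomorphism _ hsurj
  have hσinj : Function.Injective σ := by
    intro a b hab
    apply hinj
    rw [LinearMap.comp_apply, LinearMap.comp_apply, hab]
  -- apply to `y = (ℓ^j)^n`
  have h3 : σ (fun m => F (linv ^ r * (ℓ ^ j) ^ n * (y₀ * D₁.coeff m.1))) = (ℓ ^ j) ^ n := by
    rw [hσ]
    conv_rhs => rw [hexp ((ℓ ^ j) ^ n)]
    refine Finset.sum_congr rfl fun m hm => ?_
    rw [dif_pos (Finset.mem_range.mp hm)]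
  have h4 : σ (Pi.single (⟨n, by omega⟩ : Fin (r + 1)) 1) = (ℓ ^ j) ^ n := by
    change Fintype.linearCombination A (fun m : Fin (r + 1) => (ℓ ^ j) ^ m.1) _ = _
    rw [Fintype.linearCombination_apply_single, one_smul]
  have h5 := hσinj (h3.trans h4.symm)
  have h6 := congrFun h5 ⟨r, by omega⟩
  have hlead : D₁.coeff r = 1 := by
    rw [← hD₁deg]; exact hD₁monic.coeff_natDegree
  simp only [hlead, mul_one] at h6
  rw [mul_assoc, mul_comm y₀, ← mul_assoc, h6, Pi.single_apply]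
  simp only [Fin.mk.injEq]
  by_cases hnr : n = r
  · rw [if_pos hnr, if_pos hnr.symm]
  · rw [if_neg hnr, if_neg (fun h => hnr h.symm)]

end FrobPres

end Groth.Agent.Lib.helper6.FrobRes
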