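import Mathlib
import Groth.Agent.Lib.helper6.CMSeq2
import Groth.Agent.Lib.helper6.CplQuot2
import Groth.Agent.Lib.helper20.SmoothReg
import Groth.Agent.Lib.helper17.FlatCM
import Groth.Prelude.Def_RegImm

/-!
# Global / local complete intersections over a field are Cohen–Macaulay
-/

set_option autoImplicit false
set_option linter.style.haveILetI false
set_option linter.unusedSectionVars false

universe u

namespace Groth.Agent.Lib.helper6.GCICM

open LocCoh

/-- `k[x_1..x_n]/(r_1..r_c)` of dimension `n - c` is a Cohen–Macaulay ring. -/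
theorem isCMRing_quotient_aux (k : Type u) [Field k] (n c : ℕ) (hcn : c ≤ n)
    (r : Fin c → MvPolynomial (Fin n) k) (I : Ideal (MvPolynomial (Fin n) k))
    (hI : I = Ideal.ofList (List.ofFn r))
    (hdim : ringKrullDim (MvPolynomial (Fin n) k ⧸ I) = ((n - c : ℕ) : WithBot ℕ∞)) :
    IsCohenMacaulayRing (MvPolynomial (Fin n) k ⧸ I) := by
  haveI : Algebra.Smooth k (MvPolynomial (Fin n) k) := ⟨inferInstance, inferInstance⟩
  haveI : IsRegularRing (MvPolynomial (Fin n) k) :=
    Groth.Agent.Lib.helper20.SmoothReg.isRegularRing_of_smooth k _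
  have heq : ∀ p ∈ minimalPrimes (MvPolynomial (Fin n) k),
      ringKrullDim (MvPolynomial (Fin n) k ⧸ p) = (n : WithBot ℕ∞) := by
    intro p hp
    rw [IsDomain.minimalPrimes_eq_singleton_bot, Set.mem_singleton_iff] at hp
    subst hp
    rw [ringKrullDim_eq_of_ringEquiv (RingEquiv.quotientBot _),
      MvPolynomial.ringKrullDim_of_isNoetherianRing, ringKrullDim_eq_zero_of_field]
    simp
  refine { isCohenMacaulayLocalRing_localization := fun qb _ => ?_ }
  let Q : Ideal (MvPolynomial (Fin n) k) := qb.comap (Ideal.Quotient.mk I)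
  haveI : Q.IsPrime := Ideal.comap_isPrime _ _
  have hIQ : I ≤ Q := by
    intro x hx
    change Ideal.Quotient.mk I x ∈ qb
    rw [Ideal.Quotient.eq_zero_iff_mem.mpr hx]
    exact qb.zero_mem
  have hQmap : Q.map (Ideal.Quotient.mk I) = qb :=
    Ideal.map_comap_of_surjective _ Ideal.Quotient.mk_surjective qb
  haveI : IsRegularLocalRing (Localization.AtPrime Q) :=
    IsRegularRing.isRegularLocalRing_localization Q
  haveI : IsCohenMacaulayLocalRing (Localization.AtPrime Q) :=
    Groth.Agent.Lib.helper17.FlatCM.isCM_of_regular _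
  -- the regular sequence
  have hxs : ∀ x ∈ (List.ofFn r).map (algebraMap _ (Localization.AtPrime Q)),
      x ∈ IsLocalRing.maximalIdeal (Localization.AtPrime Q) := by
    intro x hx
    obtain ⟨y, hy, rfl⟩ := List.mem_map.mp hx
    rw [IsLocalization.AtPrime.to_map_mem_maximal_iff (Localization.AtPrime Q) Q]
    apply hIQ
    rw [hI]
    exact Ideal.subset_span hy
  have hlen : ((List.ofFn r).map (algebraMap _ (Localization.AtPrime Q))).length = c := by
    simp
  have hineq := CMSeq2.height_map_add_le k (MvPolynomial (Fin n) k) n heq I Q hIQ (n - c)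
    (le_of_eq hdim) c (by omega)
  have hofList : Ideal.ofList ((List.ofFn r).map (algebraMap _ (Localization.AtPrime Q))) =
      I.map (algebraMap _ (Localization.AtPrime Q)) := by
    rw [← Ideal.map_ofList, ← hI]
  have hdimq := CMSeq2.ringKrullDim_localization_quotient (MvPolynomial (Fin n) k) I Q hIQ
  have hdimR : ringKrullDim (Localization.AtPrime Q) = Q.height :=
    IsLocalization.AtPrime.ringKrullDim_eq_height Q _
  have hcm := (CMSeq.regular_of_dim (Localization.AtPrime Q)
    ((List.ofFn r).map (algebraMap _ (Localization.AtPrime Q))) hxs (by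
      rw [hofList, hdimq, hdimR, hlen]
      exact_mod_cast hineq)).2
  rw [hofList] at hcm
  -- identify with the localization of the quotient
  have hsub : Algebra.algebraMapSubmonoid (MvPolynomial (Fin n) k ⧸ I) Q.primeCompl =
      qb.primeCompl := by
    ext y
    constructor
    · rintro ⟨x, hx, rfl⟩
      exact hx
    · intro hy
      obtain ⟨x, rfl⟩ := Ideal.Quotient.mk_surjective y
      exact ⟨x, hy, rfl⟩
  have hloc : IsLocalization.AtPrime
      (Localization.AtPrime Q ⧸ I.map (algebraMap _ (Localization.AtPrime Q))) qb := by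
    unfold IsLocalization.AtPrime
    rw [← hsub]
    infer_instance
  exact CMFlat.isCM_of_ringEquiv
    (IsLocalization.algEquiv qb.primeCompl
      (Localization.AtPrime Q ⧸ I.map (algebraMap _ (Localization.AtPrime Q)))
      (Localization.AtPrime qb)).toRingEquiv hcm

/-- `k[x_1..x_n]/(r_1..r_c)` of dimension `n - c` is a Cohen–Macaulay ring. -/
theorem isCMRing_quotient (k : Type u) [Field k] (n c : ℕ) (hcn : c ≤ n)
    (r : Fin c → MvPolynomial (Fin n) k)
    (hdim : ringKrullDim (MvPolynomial (Fin n) k ⧸ Ideal.span (Set.range r)) =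
      ((n - c : ℕ) : WithBot ℕ∞)) :
    IsCohenMacaulayRing (MvPolynomial (Fin n) k ⧸ Ideal.span (Set.range r)) := by
  apply isCMRing_quotient_aux k n c hcn r _ _ hdim
  unfold Ideal.ofList
  congr 1
  ext y
  simp [List.mem_ofFn]

/-- A nonzero global complete intersection over a field is a Cohen–Macaulay ring. -/
theorem isCMRing_of_isGlobalCI (k T : Type u) [Field k] [CommRing T] [Algebra k T]
    (h : Synt.IsGlobalCI k T) : IsCohenMacaulayRing T := by
  rcases h with h | ⟨n, c, hcn, φ, r, hsurj, hker, hdim⟩
  · haveI : Finite T := Finite.of_subsingleton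
    haveI : IsNoetherianRing T := inferInstance
    refine { isCohenMacaulayLocalRing_localization := fun q hq => ?_ }
    exact absurd (Subsingleton.elim q ⊤) hq.ne_top
  · let e : (MvPolynomial (Fin n) k ⧸ Ideal.span (Set.range r)) ≃+* T :=
      (Ideal.quotEquivOfEq hker.symm).trans (RingHom.quotientKerEquivOfSurjective hsurj)
    have hdim' : ringKrullDim (MvPolynomial (Fin n) k ⧸ Ideal.span (Set.range r)) =
        ((n - c : ℕ) : WithBot ℕ∞) := by
      rw [ringKrullDim_eq_of_ringEquiv e]
      exact hdim
    exact CplQuot.isCMRing_of_ringEquiv e (isCMRing_quotient k n c hcn r hdim')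

theorem cm_congr {S : Type u} [CommRing S] (p p' : Ideal S) [p.IsPrime] [p'.IsPrime]
    (h : p' = p) (hcm : IsCohenMacaulayLocalRing (Localization.AtPrime p')) :
    IsCohenMacaulayLocalRing (Localization.AtPrime p) := by
  subst h
  exact hcm

/-- A local complete intersection over a field is a Cohen–Macaulay ring (= S9142). -/
theorem isCMRing_of_isLCIOver (k S : Type u) [Field k] [CommRing S] [Algebra k S]
    (h : Synt.IsLCIOver k S) : IsCohenMacaulayRing S := by
  obtain ⟨hft, hloc⟩ := h
  haveI : IsNoetherianRing S := Algebra.FiniteType.isNoetherianRing k S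
  refine { isCohenMacaulayLocalRing_localization := fun p hp => ?_ }
  obtain ⟨g, hg, hgci⟩ := hloc ⟨p, hp⟩
  have hT := isCMRing_of_isGlobalCI k (Localization.Away g) hgci
  have hdisj : Disjoint (Submonoid.powers g : Set S) (p : Set S) := by
    rw [Set.disjoint_left]
    rintro x ⟨m, rfl⟩ hx
    exact hg (hp.mem_of_pow_mem m hx)
  haveI hp' : (p.map (algebraMap S (Localization.Away g))).IsPrime :=
    IsLocalization.isPrime_of_isPrime_disjoint (Submonoid.powers g) _ p hp hdisj
  have hcomap : (p.map (algebraMap S (Localization.Away g))).comap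
      (algebraMap S (Localization.Away g)) = p :=
    IsLocalization.under_map_of_isPrime_disjoint (Submonoid.powers g) _ hp hdisj
  have hcm := hT.isCohenMacaulayLocalRing_localization (p.map (algebraMap S (Localization.Away g)))
  have e := (IsLocalization.localizationLocalizationAtPrimeIsoLocalization (Submonoid.powers g)
    (p.map (algebraMap S (Localization.Away g)))).toRingEquiv
  have hcm2 := CMFlat.isCM_of_ringEquiv e.symm hcm
  exact cm_congr p _ hcomap hcm2

end Groth.Agent.Lib.helper6.GCICM
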