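import Mathlib
import Groth.Agent.Lib.helper6.GCIFieldA
import Groth.Agent.Lib.helper7.DimFT
import Groth.Agent.Lib.helper3.SyntTransport

/-!
# Every finite subset of a field extension lies in a global complete intersection subalgebra
-/

set_option autoImplicit false
set_option linter.style.haveILetI false
set_option linter.unusedSectionVars false
set_option maxHeartbeats 400000

universe u

namespace Groth.Agent.Lib.helper6.GCIField

open MvPolynomial IsLocalRing

/-- dimension of a subalgebra of a field which is algebraic over a smaller subalgebra. -/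
theorem ringKrullDim_eq_of_algebraic {k K : Type u} [Field k] [Field K] [Algebra k K]
    (A₀ A : Subalgebra k K) (hle : A₀ ≤ A) [Algebra.FiniteType k A₀] [Algebra.FiniteType k A]
    (halg : ∀ x ∈ A, ∃ a ∈ A₀, a ≠ 0 ∧ a * x ∈ A₀) :
    ringKrullDim A = ringKrullDim A₀ := by
  letI : Algebra A₀ A := (Subalgebra.inclusion hle).toRingHom.toAlgebra
  haveI : IsScalarTower k A₀ A :=
    IsScalarTower.of_algebraMap_eq' (Subalgebra.inclusion hle).comp_algebraMap.symm
  haveI : FaithfulSMul A₀ A :=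
    (faithfulSMul_iff_algebraMap_injective A₀ A).mpr (Subalgebra.inclusion_injective hle)
  haveI : FaithfulSMul k A₀ :=
    (faithfulSMul_iff_algebraMap_injective k A₀).mpr (algebraMap k A₀).injective
  haveI : Algebra.IsAlgebraic A₀ A := by
    constructor
    rintro ⟨x, hx⟩
    obtain ⟨a, ha, ha0, hax⟩ := halg x hx
    refine ⟨Polynomial.C (⟨a, ha⟩ : A₀) * Polynomial.X - Polynomial.C (⟨a * x, hax⟩ : A₀), ?_, ?_⟩
    · intro h0
      have h1 := congrArg (fun q => Polynomial.coeff q 1) h0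
      simp only [Polynomial.coeff_sub, Polynomial.coeff_C_mul, Polynomial.coeff_X_one, mul_one,
        Polynomial.coeff_C_succ, sub_zero, Polynomial.coeff_zero] at h1
      apply ha0
      exact congrArg Subtype.val h1
    · rw [map_sub, map_mul, Polynomial.aeval_C, Polynomial.aeval_C, Polynomial.aeval_X]
      apply Subtype.ext
      change a * x - a * x = 0
      exact sub_self _
  obtain ⟨d₀, h0t, h0d⟩ := Groth.Agent.Lib.helper7.DimFT.exists_trdeg_eq_ringKrullDim (k := k) A₀
  obtain ⟨d₁, h1t, h1d⟩ := Groth.Agent.Lib.helper7.DimFT.exists_trdeg_eq_ringKrullDim (k := k) A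
  have h1 := trdeg_add_eq k A₀ (A := A)
  have h2 : Algebra.trdeg A₀ A = 0 := trdeg_eq_zero
  rw [h2, add_zero, h0t, h1t] at h1
  have h3 : d₀ = d₁ := by exact_mod_cast h1
  rw [h0d, h1d, h3]

/-- = S9430 -/
theorem main (k K : Type u) [Field k] [Field K] [Algebra k K] (E : Finset K) :
    ∃ A : Subalgebra k K, (↑E : Set K) ⊆ (A : Set K) ∧ Synt.IsGlobalCI k A := by
  classical
  set n := E.card with hn
  set e := E.equivFin with he
  let φ : MvPolynomial (Fin n) k →ₐ[k] K := MvPolynomial.aeval (fun i => ((e.symm i : E) : K))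
  set p : Ideal (MvPolynomial (Fin n) k) := RingHom.ker φ with hp
  haveI : p.IsPrime := RingHom.ker_isPrime φ
  obtain ⟨c, f, hc, hfp, g, hg, hgp⟩ := exists_gens k n p
  have hIp : Ideal.span (Set.range f) ≤ p :=
    Ideal.span_le.mpr (by rintro _ ⟨j, rfl⟩; exact hfp j)
  let φ₁ : (MvPolynomial (Fin n) k ⧸ Ideal.span (Set.range f)) →ₐ[k] K :=
    Ideal.Quotient.liftₐ (Ideal.span (Set.range f)) φ (fun x hx => hIp hx)
  have hφ₁ : ∀ x, φ₁ (Ideal.Quotient.mk _ x) = φ x := fun x => rfl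
  set g₁ : MvPolynomial (Fin n) k ⧸ Ideal.span (Set.range f) := Ideal.Quotient.mk _ g with hg₁
  have hφg : φ₁ g₁ ≠ 0 := by
    rw [hg₁, hφ₁]
    exact hg
  have hunit : ∀ y : Submonoid.powers g₁, IsUnit (φ₁ y) := by
    rintro ⟨_, m, rfl⟩
    rw [map_pow]
    exact (pow_ne_zero m hφg).isUnit
  let φ₂ : Localization.Away g₁ →ₐ[k] K := IsLocalization.liftAlgHom hunit
  have hφ₂ : ∀ x, φ₂ (algebraMap _ (Localization.Away g₁) x) = φ₁ x := fun x =>
    IsLocalization.lift_eq hunit x
  have hinj : Function.Injective φ₂ := by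
    rw [injective_iff_map_eq_zero]
    intro x hx
    obtain ⟨⟨s, m⟩, rfl⟩ := IsLocalization.mk'_surjective (Submonoid.powers g₁) x
    simp only at hx ⊢
    have h1 : φ₂ (IsLocalization.mk' (Localization.Away g₁) s m) * φ₁ m = φ₁ s := by
      rw [← hφ₂ (m : _), ← map_mul, IsLocalization.mk'_spec, hφ₂]
    rw [hx, zero_mul] at h1
    obtain ⟨s', rfl⟩ := Ideal.Quotient.mk_surjective s
    rw [hφ₁] at h1
    have hs'p : s' ∈ p := h1.symm
    rw [IsLocalization.mk'_eq_zero_iff]
    refine ⟨⟨g₁, Submonoid.mem_powers _⟩, ?_⟩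
    change g₁ * _ = 0
    rw [hg₁, ← map_mul, Ideal.Quotient.eq_zero_iff_mem]
    exact hgp s' hs'p
  -- the presentation
  let P₁ : Algebra.Presentation k (MvPolynomial (Fin n) k ⧸ Ideal.span (Set.range f)) (Fin n) (Fin c) :=
    Algebra.Presentation.naive (v := f)
  let P₂ : Algebra.Presentation (MvPolynomial (Fin n) k ⧸ Ideal.span (Set.range f))
      (Localization.Away g₁) Unit Unit := Algebra.Presentation.localizationAway _ g₁
  let P₃ := P₂.comp P₁
  haveI : Algebra.FiniteType k (Localization.Away g₁) := P₃.toGenerators.finiteType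
  -- the subalgebras
  set A := φ₂.range with hA
  set A₀ := φ.range with hA₀
  have hle : A₀ ≤ A := by
    rintro _ ⟨x, rfl⟩
    refine ⟨algebraMap _ _ (Ideal.Quotient.mk (Ideal.span (Set.range f)) x), ?_⟩
    change φ₂ _ = φ x
    rw [hφ₂, hφ₁]
  haveI : Algebra.FiniteType k A := Algebra.FiniteType.of_surjective φ₂.rangeRestrict
    φ₂.rangeRestrict_surjective
  haveI : Algebra.FiniteType k A₀ := Algebra.FiniteType.of_surjective φ.rangeRestrict
    φ.rangeRestrict_surjective
  have halg : ∀ x ∈ A, ∃ a ∈ A₀, a ≠ 0 ∧ a * x ∈ A₀ := by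
    rintro _ ⟨t, rfl⟩
    obtain ⟨⟨s, ⟨_, m, rfl⟩⟩, rfl⟩ := IsLocalization.mk'_surjective (Submonoid.powers g₁) t
    simp only
    obtain ⟨s', rfl⟩ := Ideal.Quotient.mk_surjective s
    refine ⟨φ (g ^ m), ⟨g ^ m, rfl⟩, ?_, ⟨s', ?_⟩⟩
    · rw [map_pow]
      exact pow_ne_zero m hg
    · have h1 : φ₂ (IsLocalization.mk' (Localization.Away g₁) (Ideal.Quotient.mk _ s')
          (⟨g₁ ^ m, m, rfl⟩ : Submonoid.powers g₁)) * φ₁ (g₁ ^ m) = φ₁ (Ideal.Quotient.mk _ s') := by
        rw [← hφ₂ (g₁ ^ m), ← map_mul]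
        have := IsLocalization.mk'_spec (Localization.Away g₁) (Ideal.Quotient.mk _ s')
          (⟨g₁ ^ m, m, rfl⟩ : Submonoid.powers g₁)
        rw [this, hφ₂]
      have h2 : φ₁ (g₁ ^ m) = φ (g ^ m) := by
        rw [map_pow, map_pow]
        exact congrArg (· ^ m) (hφ₁ g)
      rw [hφ₁, h2] at h1
      change φ s' = φ (g ^ m) * φ₂ _
      rw [mul_comm]
      exact h1.symm
  have hdimA : ringKrullDim A = ringKrullDim A₀ := ringKrullDim_eq_of_algebraic A₀ A hle halg
  have hdimT : ringKrullDim (Localization.Away g₁) = ringKrullDim A :=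
    ringKrullDim_eq_of_ringEquiv (AlgEquiv.ofInjective φ₂ hinj).toRingEquiv
  have hdimA₀ : ringKrullDim A₀ = ringKrullDim (MvPolynomial (Fin n) k ⧸ p) :=
    (ringKrullDim_eq_of_ringEquiv (Ideal.quotientKerEquivRange φ).toRingEquiv).symm
  have hsum := Groth.Agent.Lib.helper7.DimFT.ringKrullDim_quotient_add_height (k := k)
    (MvPolynomial (Fin n) k) p
  rw [Groth.Agent.Lib.helper7.DimFT.ringKrullDim_mvPolynomial, ← hc] at hsum
  obtain ⟨d, -, hd⟩ := Groth.Agent.Lib.helper7.DimFT.exists_trdeg_eq_ringKrullDim (k := k)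
    (MvPolynomial (Fin n) k ⧸ p)
  rw [hd] at hsum
  have hdc : d + c = n := by exact_mod_cast hsum
  refine ⟨A, ?_, ?_⟩
  · intro x hx
    refine ⟨algebraMap _ _ (Ideal.Quotient.mk (Ideal.span (Set.range f))
      (MvPolynomial.X (e ⟨x, hx⟩))), ?_⟩
    change φ₂ _ = x
    rw [hφ₂, hφ₁]
    change MvPolynomial.aeval _ (MvPolynomial.X (e ⟨x, hx⟩)) = x
    rw [MvPolynomial.aeval_X, Equiv.symm_apply_apply]
  · apply Groth.Agent.Lib.helper3.SyntTransport.isGlobalCI_of_algEquiv (AlgEquiv.ofInjective φ₂ hinj)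
    apply isGlobalCI_of_presentation P₃
    · simp only [Nat.card_sum, Nat.card_unique, Nat.card_fin]
      omega
    · rw [hdimT, hdimA, hdimA₀, hd]
      simp only [Nat.card_sum, Nat.card_unique, Nat.card_fin]
      congr 1
      omega

end Groth.Agent.Lib.helper6.GCIField
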