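import Mathlib
import Groth.Agent.Lib.helper6.GCIPoint2

set_option maxHeartbeats 400000
set_option autoImplicit false
set_option linter.style.haveILetI false
set_option linter.unusedSectionVars false

/-! Complete intersections over a field: local algebras essentially of finite type. -/

namespace Groth.Agent.H6.GCIPoint

open IsLocalRing Groth.Agent.H6.CIReg Groth.Agent.H6.CIOpen MvPolynomial
  Groth.Agent.Lib.helper6.GCILoc

universe u

section Ess

variable (k : Type u) [Field k]

/-- a local algebra essentially of finite type is the local ring of a finite type algebra -/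
theorem exists_atPrime_of_essFiniteType (S : Type u) [CommRing S] [IsLocalRing S] [Algebra k S]
    [Algebra.EssFiniteType k S] :
    ∃ (T : Type u) (_ : CommRing T) (_ : Algebra k T) (q : Ideal T) (_ : q.IsPrime),
      Algebra.FiniteType k T ∧ Nonempty (S ≃ₐ[k] Localization.AtPrime q) := by
  let T := Algebra.EssFiniteType.subalgebra k S
  let q : Ideal T := (maximalIdeal S).comap (algebraMap T S)
  haveI : q.IsPrime := Ideal.comap_isPrime _ _
  have hM : Algebra.EssFiniteType.submonoid k S = q.primeCompl := by
    ext t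
    show IsUnit (algebraMap T S t) ↔ t ∉ q
    rw [Ideal.mem_comap, IsLocalRing.mem_maximalIdeal, mem_nonunits_iff, not_not]
  haveI : IsLocalization q.primeCompl S := by
    rw [← hM]; infer_instance
  exact ⟨T, inferInstance, inferInstance, q, inferInstance, inferInstance,
    ⟨(IsLocalization.algEquiv q.primeCompl S (Localization.AtPrime q)).restrictScalars k⟩⟩

theorem nonempty_algEquiv_of_eq {T : Type u} [CommRing T] [Algebra k T] (p p' : Ideal T)
    [p.IsPrime] [p'.IsPrime] (h : p = p') :
    Nonempty (Localization.AtPrime p ≃ₐ[k] Localization.AtPrime p') := by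
  subst h
  exact ⟨AlgEquiv.refl⟩

/-- a local algebra essentially of finite type is a quotient of a regular local ring essentially
of finite type -/
theorem exists_regular_presentation (S : Type u) [CommRing S] [IsLocalRing S] [Algebra k S]
    [Algebra.EssFiniteType k S] :
    ∃ (R : Type u) (_ : CommRing R) (_ : IsRegularLocalRing R) (_ : Algebra k R),
      Algebra.EssFiniteType k R ∧ ∃ π : R →ₐ[k] S, Function.Surjective π := by
  obtain ⟨T, _, _, q, _, hft, ⟨e₀⟩⟩ := exists_atPrime_of_essFiniteType k S
  obtain ⟨n, ψ, hψ⟩ := Algebra.FiniteType.iff_quotient_mvPolynomial''.mp hft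
  let e : (MvPolynomial (Fin n) k ⧸ RingHom.ker ψ) ≃ₐ[k] T :=
    Ideal.quotientKerAlgEquivOfSurjective hψ
  set q₀ : Ideal (MvPolynomial (Fin n) k ⧸ RingHom.ker ψ) := q.comap e with hq₀
  haveI : q₀.IsPrime := Ideal.comap_isPrime _ _
  have e2 : Localization.AtPrime q₀ ≃ₐ[k] Localization.AtPrime q :=
    Localization.localAlgEquiv q₀ q e rfl
  obtain ⟨e3⟩ := nonempty_locQuotAlgEquiv k (RingHom.ker ψ) q₀
  haveI : IsRegularRing (MvPolynomial (Fin n) k) := inferInstance
  refine ⟨Localization.AtPrime (q₀.comap (Ideal.Quotient.mk _)), inferInstance, inferInstance,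
    inferInstance, inferInstance,
    (e₀.symm.toAlgHom.comp (e2.toAlgHom.comp e3.symm.toAlgHom)).comp
      (Ideal.Quotient.mkₐ k (JQ (RingHom.ker ψ) (q₀.comap (Ideal.Quotient.mk _)))), ?_⟩
  exact (e₀.symm.surjective.comp (e2.surjective.comp e3.symm.surjective)).comp
    (Ideal.Quotient.mkₐ_surjective k _)

/-- a quotient of a regular local ring by a regular sequence is a complete intersection -/
theorem isCIOver_of_surj {S : Type u} [CommRing S] [IsLocalRing S] [Algebra k S]
    (R : Type u) [CommRing R] [IsRegularLocalRing R] [Algebra k R]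
    (hR : Algebra.EssFiniteType k R) (π : R →ₐ[k] S) (hπ : Function.Surjective π)
    (rs : List R) (hreg : RingTheory.Sequence.IsRegular R rs)
    (hker : RingHom.ker π.toRingHom = Ideal.ofList rs) : Synt.IsCIOver k S := by
  have hker' : RingHom.ker π = Ideal.ofList rs := hker
  have hne : RingHom.ker π ≠ ⊤ := RingHom.ker_ne_top _
  have hm : ∀ x ∈ rs, x ∈ maximalIdeal R := by
    intro x hx
    apply IsLocalRing.le_maximalIdeal hne
    rw [hker']
    exact Ideal.subset_span hx
  exact ⟨R, inferInstance, inferInstance, inferInstance, hR, rs, hm, hreg,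
    ⟨(Ideal.quotientKerAlgEquivOfSurjective hπ).symm.trans
      (Ideal.quotientEquivAlgOfEq k hker')⟩⟩

theorem isCIOver_of_surj_dim {S : Type u} [CommRing S] [IsLocalRing S] [Algebra k S]
    (R : Type u) [CommRing R] [IsRegularLocalRing R] [Algebra k R]
    (hR : Algebra.EssFiniteType k R) (π : R →ₐ[k] S) (hπ : Function.Surjective π)
    (rs : List R) (hker : RingHom.ker π.toRingHom = Ideal.ofList rs)
    (hdim : ringKrullDim R = ringKrullDim S + (rs.length : WithBot ℕ∞)) :
    Synt.IsCIOver k S := by
  have hker' : RingHom.ker π = Ideal.ofList rs := hker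
  have hne : RingHom.ker π ≠ ⊤ := RingHom.ker_ne_top _
  have hm : ∀ x ∈ rs, x ∈ maximalIdeal R := by
    intro x hx
    apply IsLocalRing.le_maximalIdeal hne
    rw [hker']
    exact Ideal.subset_span hx
  let ε : S ≃ₐ[k] R ⧸ Ideal.ofList rs :=
    (Ideal.quotientKerAlgEquivOfSurjective hπ).symm.trans (Ideal.quotientEquivAlgOfEq k hker')
  haveI := Groth.Agent.Lib.helper6.CplFib.isCM_of_isRegularLocalRing R
  have hdim' : ringKrullDim (R ⧸ Ideal.ofList rs) + (rs.length : WithBot ℕ∞) ≤
      ringKrullDim R := by
    rw [hdim, ← ringKrullDim_eq_of_ringEquiv ε.toRingEquiv]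
  have hreg := (Groth.Agent.Lib.helper6.CMSeq.regular_of_dim R rs hm hdim').1
  exact isCIOver_of_surj k R hR π hπ rs hreg hker

/-- (C→) -/
theorem exists_globalCI_of_isCIOver (S : Type u) [CommRing S] [IsLocalRing S] [Algebra k S]
    [Algebra.EssFiniteType k S] (h : Synt.IsCIOver k S) :
    ∃ (A : Type u) (_ : CommRing A) (_ : Algebra k A) (a : Ideal A) (_ : a.IsPrime),
      Algebra.FiniteType k A ∧ Synt.IsGlobalCI k A ∧
        Nonempty (S ≃ₐ[k] Localization.AtPrime a) := by
  obtain ⟨T, _, _, q, hq, hft, ⟨e₀⟩⟩ := exists_atPrime_of_essFiniteType k S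
  have h1 := isCIOver_of_algEquiv k e₀ h
  obtain ⟨g, hg, hgci⟩ := exists_isGlobalCI_away_of_isCIOver k q h1
  have hdisj : Disjoint (Submonoid.powers g : Set T) (q : Set _) := by
    rw [Set.disjoint_left]
    rintro x ⟨j, rfl⟩ hx
    exact hg (hq.mem_of_pow_mem j hx)
  set 𝔮 : Ideal (Localization.Away g) := q.map (algebraMap _ (Localization.Away g)) with h𝔮
  haveI : 𝔮.IsPrime :=
    IsLocalization.isPrime_of_isPrime_disjoint (Submonoid.powers g) _ q hq hdisj
  have hcomap : 𝔮.comap (algebraMap T (Localization.Away g)) = q :=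
    IsLocalization.under_map_of_isPrime_disjoint (Submonoid.powers g) _ hq hdisj
  have e := IsLocalization.localizationLocalizationAtPrimeIsoLocalization
    (Submonoid.powers g) 𝔮
  obtain ⟨e'⟩ := nonempty_algEquiv_of_eq k q _ hcomap.symm
  have hftg : Algebra.FiniteType k (Localization.Away g) := by
    have h1 : Algebra.FiniteType T (Localization.Away g) :=
      (Algebra.Presentation.localizationAway (Localization.Away g) g).toGenerators.finiteType
    exact Algebra.FiniteType.trans hft h1
  exact ⟨Localization.Away g, inferInstance, inferInstance, 𝔮, inferInstance, hftg, hgci,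
    ⟨e₀.trans (e'.trans (e.restrictScalars k))⟩⟩

end Ess

end Groth.Agent.H6.GCIPoint
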