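import Mathlib

/-! Nonvanishing of `Hom(M,N)` for `M` finitely presented with `Supp N ⊆ Supp M`. -/

namespace Groth.Agent.Lib.helper6.HomSupp

universe u v

/-- A nonzero finitely presented module surjects onto `R ⧸ I` with `I` f.g. proper. -/
theorem exists_surjective_quotient (R : Type u) [CommRing R] (P : Type v) [AddCommGroup P]
    [Module R P] [Module.FinitePresentation R P] [Nontrivial P] :
    ∃ I : Ideal R, I.FG ∧ I ≠ ⊤ ∧ ∃ π : P →ₗ[R] R ⧸ I, Function.Surjective π := by
  classical
  obtain ⟨n, s, hs⟩ := Module.Finite.exists_fin (R := R) (M := P)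
  induction n with
  | zero =>
    exfalso
    have : (Set.range s) = ∅ := Set.range_eq_empty s
    rw [this, Submodule.span_empty] at hs
    exact bot_ne_top hs
  | succ k ih =>
    set M' : Submodule R P := Submodule.span R (Set.range (s ∘ Fin.succ)) with hM'
    by_cases hM : M' = ⊤
    · exact ih (s ∘ Fin.succ) hM
    · have hfg : M'.FG := Submodule.fg_span (Set.finite_range _)
      have hQfp : Module.FinitePresentation R (P ⧸ M') :=
        Module.finitePresentation_of_surjective M'.mkQ (Submodule.mkQ_surjective M')
          (by rw [Submodule.ker_mkQ]; exact hfg)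
      have hQnt : Nontrivial (P ⧸ M') := Submodule.Quotient.nontrivial_iff.2 hM
      set φ : R →ₗ[R] (P ⧸ M') := LinearMap.toSpanSingleton R (P ⧸ M') (M'.mkQ (s 0)) with hφ
      have hsurj : Function.Surjective φ := by
        rw [← LinearMap.range_eq_top]
        rw [hφ, LinearMap.range_toSpanSingleton]
        rw [eq_top_iff]
        rintro q -
        obtain ⟨q, rfl⟩ := Submodule.mkQ_surjective M' q
        have hq : q ∈ Submodule.span R (Set.range s) := hs ▸ Submodule.mem_top
        induction hq using Submodule.span_induction with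
        | mem z hz =>
          obtain ⟨i, rfl⟩ := hz
          refine Fin.cases ?_ (fun j => ?_) i
          · exact Submodule.mem_span_singleton_self _
          · have : s j.succ ∈ M' := Submodule.subset_span ⟨j, rfl⟩
            have h0 : M'.mkQ (s j.succ) = 0 := by
              simpa using this
            rw [h0]; exact Submodule.zero_mem _
        | zero => simp
        | add a b _ _ ha hb => rw [map_add]; exact Submodule.add_mem _ ha hb
        | smul r a _ ha => rw [map_smul]; exact Submodule.smul_mem _ r ha
      refine ⟨LinearMap.ker φ, Module.FinitePresentation.fg_ker φ hsurj, ?_,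
        (LinearMap.quotKerEquivOfSurjective φ hsurj).symm.toLinearMap ∘ₗ M'.mkQ, ?_⟩
      · intro htop
        have : φ = 0 := (LinearMap.ker_eq_top (f := φ)).1 htop
        obtain ⟨a, b, hab⟩ := hQnt
        obtain ⟨a', rfl⟩ := hsurj a
        obtain ⟨b', rfl⟩ := hsurj b
        simp [this] at hab
      · exact (LinearMap.quotKerEquivOfSurjective φ hsurj).symm.surjective.comp
          (Submodule.mkQ_surjective M')

/-- A nonzero element killed by a f.g. ideal consisting of locally nilpotent elements. -/
theorem exists_ne_zero_smul_eq_zero {R : Type u} [CommRing R] {Q : Type v} [AddCommGroup Q]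
    [Module R Q] (x : Q) (hx : x ≠ 0) (I : Ideal R) (hI : I.FG)
    (hnil : ∀ a ∈ I, ∃ n : ℕ, a ^ n • x = 0) : ∃ y : Q, y ≠ 0 ∧ ∀ a ∈ I, a • y = 0 := by
  classical
  obtain ⟨T, rfl⟩ := hI
  have key : ∀ T : Finset R, (∀ a ∈ T, ∃ n : ℕ, a ^ n • x = 0) →
      ∃ r : R, r • x ≠ 0 ∧ ∀ a ∈ T, a • (r • x) = 0 := by
    intro T
    induction T using Finset.induction_on with
    | empty => intro _; exact ⟨1, by simpa using hx, by simp⟩
    | insert a T haT ih =>
      intro h
      obtain ⟨r, hr, hrT⟩ := ih (fun b hb => h b (Finset.mem_insert_of_mem hb))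
      obtain ⟨n, hn⟩ := h a (Finset.mem_insert_self a T)
      have H : ∃ m : ℕ, a ^ m • (r • x) = 0 := ⟨n, by rw [smul_comm, hn, smul_zero]⟩
      have hm0 : Nat.find H ≠ 0 := by
        intro h0
        have := Nat.find_spec H
        rw [h0, pow_zero, one_smul] at this
        exact hr this
      refine ⟨a ^ (Nat.find H - 1) * r, ?_, ?_⟩
      · rw [mul_smul]
        exact Nat.find_min H (Nat.sub_one_lt hm0)
      · intro b hb
        rcases Finset.mem_insert.1 hb with rfl | hb
        · rw [mul_smul, ← mul_smul, ← pow_succ', Nat.sub_add_cancel (Nat.one_le_iff_ne_zero.2 hm0)]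
          exact Nat.find_spec H
        · rw [mul_smul, smul_comm, hrT b hb, smul_zero]
  obtain ⟨r, hr, hrT⟩ := key T (fun a ha => hnil a (Ideal.subset_span ha))
  refine ⟨r • x, hr, ?_⟩
  have : Ideal.span (T : Set R) ≤ LinearMap.ker (LinearMap.toSpanSingleton R Q (r • x)) := by
    rw [Ideal.span_le]
    intro a ha
    simpa using hrT a ha
  intro a ha
  simpa using this ha

theorem main (A : Type u) [CommRing A] (M : Type v) [AddCommGroup M] [Module A M]
    [Module.FinitePresentation A M] (N : Type v) [AddCommGroup N] [Module A N] [Nontrivial N]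
    (h : Module.support A N ⊆ Module.support A M) : Nontrivial (M →ₗ[A] N) := by
  classical
  obtain ⟨x, hx⟩ := exists_ne (0 : N)
  set J : Ideal A := (Submodule.span A {x}).annihilator with hJdef
  have hJmem : ∀ a : A, a ∈ J ↔ a • x = 0 := fun a => Submodule.mem_annihilator_span_singleton x a
  have hJ : J ≠ ⊤ := by
    intro htop
    have : (1 : A) ∈ J := htop ▸ Submodule.mem_top
    rw [hJmem, one_smul] at this
    exact hx this
  obtain ⟨⟨p, hp⟩⟩ := Ideal.nonempty_minimalPrimes hJ
  have hpp : p.IsPrime := hp.1.1
  have hpN : (⟨p, hpp⟩ : PrimeSpectrum A) ∈ Module.support A N := by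
    rw [Module.mem_support_iff_exists_annihilator]
    exact ⟨x, hp.1.2⟩
  have hpM := h hpN
  rw [Module.mem_support_iff] at hpM
  change Nontrivial (LocalizedModule p.primeCompl M) at hpM
  set R := Localization.AtPrime p
  set P := LocalizedModule p.primeCompl M
  set Q := LocalizedModule p.primeCompl N
  set x' : Q := LocalizedModule.mkLinearMap p.primeCompl N x with hx'
  have hx'0 : x' ≠ 0 := by
    intro h0
    rw [hx', IsLocalizedModule.eq_zero_iff p.primeCompl] at h0
    obtain ⟨c, hc⟩ := h0
    have : (c : A) ∈ J := (hJmem _).2 hc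
    exact c.2 (hp.1.2 this)
  obtain ⟨I, hIfg, hItop, π, hπ⟩ := exists_surjective_quotient R P
  have hnil : ∀ a ∈ I, ∃ n : ℕ, a ^ n • x' = 0 := by
    intro a ha
    have ha' : a ∈ IsLocalRing.maximalIdeal R := IsLocalRing.le_maximalIdeal hItop ha
    rw [← IsLocalization.AtPrime.map_eq_maximalIdeal p R,
      ← IsLocalization.AtPrime.radical_map_of_mem_minimalPrimes R p J hp] at ha'
    obtain ⟨n, hn⟩ := ha'
    refine ⟨n, ?_⟩
    have hle : J.map (algebraMap A R) ≤ LinearMap.ker (LinearMap.toSpanSingleton R Q x') := by
      rw [Ideal.map_le_iff_le_comap]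
      intro j hj
      rw [Ideal.mem_comap, LinearMap.mem_ker, LinearMap.toSpanSingleton_apply, algebraMap_smul,
        hx', ← map_smul, (hJmem j).1 hj, map_zero]
    simpa using hle hn
  obtain ⟨y, hy0, hy⟩ := exists_ne_zero_smul_eq_zero x' hx'0 I hIfg hnil
  set ψ : (R ⧸ I) →ₗ[R] Q := Submodule.liftQ I (LinearMap.toSpanSingleton R Q y)
    (fun a ha => by simpa using hy a ha) with hψ
  set g' : P →ₗ[R] Q := ψ ∘ₗ π with hg'
  have hg'0 : g' ≠ 0 := by
    intro h0
    obtain ⟨z, hz⟩ := hπ (Submodule.Quotient.mk 1)
    have := LinearMap.congr_fun h0 z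
    rw [hg', LinearMap.comp_apply, hz, hψ, Submodule.liftQ_apply] at this
    simp at this
    exact hy0 this
  set g : M →ₗ[A] Q := (g'.restrictScalars A) ∘ₗ LocalizedModule.mkLinearMap p.primeCompl M with hg
  have hg0 : g ≠ 0 := by
    intro h0
    apply hg'0
    ext z
    induction z using LocalizedModule.induction_on with
    | h m s =>
      have e : LocalizedModule.mk m s = (Localization.mk 1 s : R) • LocalizedModule.mk m 1 := by
        rw [LocalizedModule.mk_smul_mk, one_smul, mul_one]
      rw [e, map_smul]
      have := LinearMap.congr_fun h0 m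
      simp only [hg, LinearMap.comp_apply, LinearMap.restrictScalars_apply,
        LinearMap.zero_apply] at this
      change g' (LocalizedModule.mk m 1) = 0 at this
      rw [this, smul_zero, LinearMap.zero_apply]
  by_contra hnt
  rw [not_nontrivial_iff_subsingleton] at hnt
  obtain ⟨h', s, hs⟩ := Module.FinitePresentation.exists_lift_of_isLocalizedModule p.primeCompl
    (LocalizedModule.mkLinearMap p.primeCompl N) g
  have h'0 : h' = 0 := Subsingleton.elim _ _
  rw [h'0, LinearMap.comp_zero] at hs
  apply hg0
  ext m
  have := LinearMap.congr_fun hs m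
  simp only [LinearMap.zero_apply, LinearMap.smul_apply] at this
  have hu := IsLocalizedModule.map_units (LocalizedModule.mkLinearMap p.primeCompl N) s
  rw [Module.End.isUnit_iff] at hu
  apply hu.1
  rw [LinearMap.zero_apply, map_zero, Module.algebraMap_end_apply]
  exact this.symm

end Groth.Agent.Lib.helper6.HomSupp
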