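import Mathlib
import Groth.Agent.Lib.helper6.ExtPolySplit
import Groth.Agent.Lib.helper6.FrobRes2

/-! The elementary extension `K_e = K[T]/(p_e)` with its functional is a Frobenius presentation
in the sense of `FrobRes` (helper6). -/

namespace Groth.Agent.Lib.helper6.KRRFrob

open LambdaRing Polynomial Groth.Agent.Lib.helper6.KRRElem Groth.Agent.Lib.helper6.FrobRes
  Groth.Agent.Lib.helper6.ExtPolySplit

universe u

theorem seq_dual {R : Type*} [CommRing R] (c s : ℕ → R)
    (hcs : ∀ k, ∑ a ∈ Finset.range (k + 1), c a * s (k - a) = if k = 0 then 1 else 0)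
    (r n m : ℕ) (hn : n ≤ r) (hm : m ≤ r) :
    ∑ a ∈ Finset.range (r - m + 1),
      c a * (if r ≤ n + r - m - a then s (n + r - m - a - r) else 0) =
      if n = m then 1 else 0 := by
  by_cases hnm : m ≤ n
  · have hsub : Finset.range (n - m + 1) ⊆ Finset.range (r - m + 1) := by
      intro a ha
      simp only [Finset.mem_range] at ha ⊢
      omega
    rw [← Finset.sum_subset hsub]
    · have h1 := hcs (n - m)
      have h2 : (if n - m = 0 then (1 : R) else 0) = if n = m then 1 else 0 := by
        by_cases h : n = m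
        · rw [if_pos h, if_pos (by omega)]
        · rw [if_neg h, if_neg (by omega)]
      rw [← h2, ← h1]
      refine Finset.sum_congr rfl fun a ha => ?_
      simp only [Finset.mem_range] at ha
      rw [if_pos (by omega)]
      congr 2
      omega
    · intro a ha1 ha2
      simp only [Finset.mem_range] at ha1 ha2
      rw [if_neg (by omega), mul_zero]
  · rw [if_neg (by omega)]
    apply Finset.sum_eq_zero
    intro a ha
    simp only [Finset.mem_range] at ha
    rw [if_neg (by omega), mul_zero]

variable {K : Type u} [CommRing K] [LambdaOps K] (P : PosStructure K)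

theorem coeff_extPoly (e : K) (i : ℕ) (hi : i ≤ (P.aug e).toNat) :
    (KRR.extPoly P e).coeff i = cf e ((P.aug e).toNat - i) := by
  rw [extPoly_eq, finsetSum_coeff]
  rw [Finset.sum_eq_single ((P.aug e).toNat - i)]
  · rw [coeff_C_mul, coeff_X_pow, if_pos (by omega), mul_one]
  · intro k hk hne
    simp only [Finset.mem_range] at hk
    rw [coeff_C_mul, coeff_X_pow, if_neg (by omega), mul_zero]
  · intro h
    exfalso
    apply h
    simp only [Finset.mem_range]
    omega

theorem frobPres_Ke {e : K} (he : e ∈ P.pos) (r : ℕ) (hr : P.aug e = r + 1)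
    (f : AdjoinRoot (KRR.extPoly P e) →ₗ[K] K)
    (hf : ∀ i : ℕ, i ≤ r → f (AdjoinRoot.root (KRR.extPoly P e) ^ i) = KRR.sigma i e)
    (linv : AdjoinRoot (KRR.extPoly P e)) (hlinv : linv * AdjoinRoot.root (KRR.extPoly P e) = 1) :
    FrobPres (A := K) (T := AdjoinRoot (KRR.extPoly P e)) (AdjoinRoot.root (KRR.extPoly P e)) linv
      (KRR.extPoly P e) r f := by
  have hm : (P.aug e).toNat = r + 1 := by rw [hr]; rfl
  have hnt : Nontrivial K := P.aug.domain_nontrivial
  have hmon : (KRR.extPoly P e).Monic := extPoly_monic e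
  have hdeg : (KRR.extPoly P e).natDegree = r + 1 := by rw [extPoly_natDegree, hm]
  have hp1 : KRR.extPoly P e ≠ 1 := by
    intro h
    rw [h, natDegree_one] at hdeg
    omega
  have hf' := functional_pow P he r hr f hf
  have hfinv := functional_inv_pow P he r hr f hf' linv hlinv
  set ℓ := AdjoinRoot.root (KRR.extPoly P e) with hℓ
  have hntT : Nontrivial (AdjoinRoot (KRR.extPoly P e)) := by
    by_contra hT
    rw [not_nontrivial_iff_subsingleton] at hT
    have h1 := hf' 0
    rw [Subsingleton.elim (ℓ ^ 0) 0, map_zero, sigma_zero] at h1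
    exact zero_ne_one h1
  refine ⟨hlinv, hmon, hdeg, ?_, ?_, ?_⟩
  · rw [AdjoinRoot.aeval_eq, AdjoinRoot.mk_self]
  · intro y
    obtain ⟨q, rfl⟩ := AdjoinRoot.mk_surjective y
    refine ⟨fun m => (q %ₘ KRR.extPoly P e).coeff m, ?_⟩
    have hsdeg : (q %ₘ KRR.extPoly P e).natDegree < r + 1 := by
      rw [← hdeg]; exact natDegree_modByMonic_lt q hmon hp1
    have h1 : AdjoinRoot.mk (KRR.extPoly P e) q =
        AdjoinRoot.mk (KRR.extPoly P e) (q %ₘ KRR.extPoly P e) := by
      rw [AdjoinRoot.mk_eq_mk, modByMonic_eq_sub_mul_div, sub_sub_cancel]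
      exact dvd_mul_right _ _
    rw [h1]
    conv_lhs => rw [as_sum_range' (q %ₘ KRR.extPoly P e) (r + 1) hsdeg]
    rw [map_sum]
    refine Finset.sum_congr rfl fun m _ => ?_
    rw [← C_mul_X_pow_eq_monomial, map_mul, map_pow, AdjoinRoot.mk_C, AdjoinRoot.mk_X,
      of_mul_eq_smul]
  · intro n m hn hmr
    -- the values of `f` on `linv^r ℓ^t`
    have hg : ∀ t : ℕ, f (linv ^ r * ℓ ^ t) = if r ≤ t then KRR.sigma (t - r) e else 0 := by
      intro t
      rw [mul_comm, pow_mul_pow_inv ℓ linv hlinv t r]
      split_ifs with ht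
      · exact hf' (t - r)
      · exact hfinv (r - t) (by omega) (by omega)
    have hdegT : ((KRR.extPoly P e).map (algebraMap K (AdjoinRoot (KRR.extPoly P e)))).natDegree =
        r + 1 := by
      rw [hmon.natDegree_map, hdeg]
    rw [Del, coeff_divByMonic_X_sub_C, hdegT, Finset.mul_sum, map_sum]
    have hterm : ∀ i ∈ Finset.Icc (m + 1) (r + 1),
        f (linv ^ r * ℓ ^ n * (ℓ ^ (i - (m + 1)) *
          ((KRR.extPoly P e).map (algebraMap K (AdjoinRoot (KRR.extPoly P e)))).coeff i)) =
        cf e (r + 1 - i) * (if r ≤ n + r - m - (r + 1 - i) then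
          KRR.sigma (n + r - m - (r + 1 - i) - r) e else 0) := by
      intro i hi
      have hi' := Finset.mem_Icc.mp hi
      rw [coeff_map, coeff_extPoly P e i (by omega), hm, AdjoinRoot.algebraMap_eq]
      have e1 : linv ^ r * ℓ ^ n * (ℓ ^ (i - (m + 1)) *
          AdjoinRoot.of (KRR.extPoly P e) (cf e (r + 1 - i))) =
          cf e (r + 1 - i) • (linv ^ r * ℓ ^ (n + (i - (m + 1)))) := by
        rw [← of_mul_eq_smul, pow_add]; ring
      rw [e1, map_smul, smul_eq_mul, hg]
      have e2 : n + (i - (m + 1)) = n + r - m - (r + 1 - i) := by omega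
      rw [e2]
    rw [Finset.sum_congr rfl hterm]
    rw [← seq_dual (cf e) (fun k => KRR.sigma k e) (sigma_rec_all e) r n m hn hmr]
    -- reindex
    refine Finset.sum_bij' (fun i _ => r + 1 - i) (fun a _ => r + 1 - a) ?_ ?_ ?_ ?_ ?_
    · intro i hi
      have hi' := Finset.mem_Icc.mp hi
      simp only [Finset.mem_range]
      omega
    · intro a ha
      simp only [Finset.mem_range] at ha
      simp only [Finset.mem_Icc]
      omega
    · intro i hi
      have hi' := Finset.mem_Icc.mp hi
      omega
    · intro a ha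
      simp only [Finset.mem_range] at ha
      omega
    · intro i hi
      rfl

end Groth.Agent.Lib.helper6.KRRFrob
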