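import Mathlib
import Groth.Agent.Lib.helper6.ExtPolySplit
import Groth.Agent.Lib.helper6.AdamsGr

/-! λ-ring computations for the Adams–Riemann–Roch theorem for an elementary projection
(helper6): Bott's class of `e ℓ⁻¹`, Adams operations on `K_e`, nilpotence. -/

namespace Groth.Agent.Lib.helper6.KRRProj

open LambdaRing Polynomial Groth.Agent.H5.Adams Groth.Agent.Lib.helper6.Split
  Groth.Agent.Lib.helper6.LineMul Groth.Agent.Lib.helper6.ExtPolySplit
  Groth.Agent.Lib.helper6.GammaFil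

universe u

variable {K : Type u} [CommRing K] [LambdaOps K] {P : PosStructure K}
  {B : Type u} [CommRing B] [LambdaOps B] {PB : PosStructure B}

/-- In a splitting extension of `B`, Bott's class of `ι(e) ℓ⁻¹` is `Π_k Σ_a (ℓ⁻¹ u_k)^a`. -/
theorem exists_split_bott (hB : HasSplitting B PB) {ι : K →+* B} (hι : IsExtension P PB ι)
    {ℓ linv : B} (hline : PB.IsLine ℓ) (hlinv : linv * ℓ = 1) (e : K) (he : e ∈ P.pos) (m : ℕ)
    (hm : (P.aug e).toNat = m) (j : ℕ) :
    ∃ (L' : PosLambdaRing.{u}) (g : B →+* L'.carrier) (_ : IsExtension PB L'.posStr g)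
      (u : Fin m → L'.carrier), (∀ k, L'.posStr.IsLine (u k)) ∧ ∑ k, u k = g (ι e) ∧
      g (KRR.bott PB j (ι e * linv)) = ∏ k, ∑ a ∈ Finset.range j, (g linv * u k) ^ a := by
  have hm' : (PB.aug (ι e)).toNat = m := by rw [hι.aug_comp, hm]
  obtain ⟨L', hL', g, hg, u, hu, hsum⟩ := exists_split_fin PB hB (ι e) (hι.pos_subset e he)
  subst hm'
  refine ⟨L', g, hg, u, hu, hsum, ?_⟩
  have hgl : L'.posStr.IsLine (g ℓ) := IsExtension.isLine hg hline
  have hginv : g linv * g ℓ = 1 := by rw [← map_mul, hlinv, map_one]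
  have haug_inv : L'.posStr.aug (g linv) = 1 := by
    have := congrArg L'.posStr.aug hginv
    rwa [map_mul, hgl.2, mul_one, map_one] at this
  rw [map_bott hg, map_mul]
  apply bott_of_lam_eq L'.posStr (g (ι e) * g linv) ?_ (fun k => g linv * u k)
  · intro i
    rw [mul_comm, lam_inv_line_mul L'.posStr hL' hgl hginv, ← hsum, lam_sum_fin_eq_S L'.posStr u hu,
      S_smul]
  · rw [map_mul, haug_inv, mul_one, hg.aug_comp]

theorem aug_bott (hB : HasSplitting B PB) {ι : K →+* B} (hι : IsExtension P PB ι)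
    {ℓ linv : B} (hline : PB.IsLine ℓ) (hlinv : linv * ℓ = 1) (e : K) (he : e ∈ P.pos) (m : ℕ)
    (hm : (P.aug e).toNat = m) (j : ℕ) :
    PB.aug (KRR.bott PB j (ι e * linv)) = (j : ℤ) ^ m := by
  obtain ⟨L', g, hg, u, hu, -, hbott⟩ := exists_split_bott hB hι hline hlinv e he m hm j
  have hgl : L'.posStr.IsLine (g ℓ) := IsExtension.isLine hg hline
  have hginv : g linv * g ℓ = 1 := by rw [← map_mul, hlinv, map_one]
  have haug_inv : L'.posStr.aug (g linv) = 1 := by
    have := congrArg L'.posStr.aug hginv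
    rwa [map_mul, hgl.2, mul_one, map_one] at this
  rw [← hg.aug_comp, hbott, map_prod]
  have : ∀ k ∈ (Finset.univ : Finset (Fin m)),
      L'.posStr.aug (∑ a ∈ Finset.range j, (g linv * u k) ^ a) = (j : ℤ) := by
    intro k _
    rw [map_sum]
    simp [map_pow, map_mul, haug_inv, (hu k).2]
  rw [Finset.prod_congr rfl this]
  simp

/-- Bott's class of `ι(e) ℓ⁻¹` in terms of the cofactor `Θ`. -/
theorem bott_eq_Theta (hK : HasSplitting K P) (hB : HasSplitting B PB) {ι : K →+* B}
    (hι : IsExtension P PB ι) {ℓ linv : B} (hline : PB.IsLine ℓ) (hlinv : linv * ℓ = 1) (e : K)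
    (he : e ∈ P.pos) (m : ℕ) (hm : (P.aug e).toNat = m) (j : ℕ) (hj : 1 ≤ j) :
    KRR.bott PB j (ι e * linv) = (Theta P j e).eval₂ ι ℓ * linv ^ ((j - 1) * m) := by
  obtain ⟨L', g, hg, u, hu, hsum, hbott⟩ := exists_split_bott hB hι hline hlinv e he m hm j
  apply hg.injective
  have hginv : g linv * g ℓ = 1 := by rw [← map_mul, hlinv, map_one]
  have hcomp : IsExtension P L'.posStr (g.comp ι) := IsExtension.comp hι hg
  have hΘ := map_Theta hcomp hK j hj e he hm u hu (by rw [hsum]; rfl)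
  rw [hbott, map_mul, map_pow, Polynomial.hom_eval₂, ← eval_map, hΘ, eval_prod, pow_mul]
  have hpow : (g linv ^ (j - 1)) ^ m = ∏ _k : Fin m, g linv ^ (j - 1) := by
    rw [Finset.prod_const, Finset.card_univ, Fintype.card_fin]
  rw [hpow, ← Finset.prod_mul_distrib]
  refine Finset.prod_congr rfl fun k _ => ?_
  rw [Hpoly, eval_finsetSum, Finset.sum_mul, ← Finset.sum_range_reflect]
  refine Finset.sum_congr rfl fun a ha => ?_
  have ha' := Finset.mem_range.mp ha
  rw [eval_mul, eval_pow, eval_pow, eval_X, eval_C]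
  have e2 : g linv ^ (j - 1) = g linv ^ (j - 1 - a) * g linv ^ a := by
    rw [← pow_add]; congr 1; omega
  rw [e2, mul_pow]
  calc g linv ^ (j - 1 - a) * u k ^ (j - 1 - a)
      = (g linv * g ℓ) ^ a * (g linv ^ (j - 1 - a) * u k ^ (j - 1 - a)) := by
        rw [hginv, one_pow, one_mul]
    _ = g ℓ ^ a * u k ^ (j - 1 - a) * (g linv ^ (j - 1 - a) * g linv ^ a) := by
        rw [mul_pow]; ring

/-- Adams operations on `B`: `ψ^j(ℓ⁻¹) = ℓ^{-j}`. -/
theorem adams_linv (hB : HasSplitting B PB) {ℓ linv : B} (hline : PB.IsLine ℓ)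
    (hlinv : linv * ℓ = 1) (j : ℕ) : adams PB j linv = linv ^ j := by
  have h1 : adams PB j linv * ℓ ^ j = 1 := by
    rw [← adams_of_isLine PB ℓ hline j, ← adams_mul PB hB, hlinv, adams_one]
  calc adams PB j linv = adams PB j linv * (ℓ ^ j * linv ^ j) := by
        rw [← mul_pow, mul_comm ℓ linv, hlinv, one_pow, mul_one]
    _ = (adams PB j linv * ℓ ^ j) * linv ^ j := by ring
    _ = linv ^ j := by rw [h1, one_mul]

/-- Elements of augmentation zero are nilpotent when the γ-filtration is finite. -/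
theorem pow_eq_zero_of_aug_eq_zero {N : ℕ} (hN : gammaFiltration PB N = ⊥) {x : B}
    (hx : PB.aug x = 0) : x ^ N = 0 := by
  have h1 : x ∈ gammaFiltration PB 1 := by
    have := gamma_mem PB hx 1
    rwa [gamma_one] at this
  have h2 := pow_mem PB h1 N
  rw [one_mul, hN, AddSubgroup.mem_bot] at h2
  exact h2

end Groth.Agent.Lib.helper6.KRRProj
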