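import Mathlib
import Groth.Agent.Lib.helper6.FrobRes2

/-! Base change of a Frobenius presentation `(K, B)` to `(R ⊗[ℤ] K, R ⊗[ℤ] B)` (helper6). -/

namespace Groth.Agent.Lib.helper6.TensorFrob

open TensorProduct Polynomial Groth.Agent.Lib.helper6.FrobRes

variable (R : Type*) [CommRing R] {K B : Type*} [CommRing K] [CommRing B] [Algebra K B]

/-- The ring homomorphism `R ⊗ K → R ⊗ B`. -/
noncomputable def alpha : R ⊗[ℤ] K →+* R ⊗[ℤ] B :=
  (Algebra.TensorProduct.map (AlgHom.id ℤ R) (algebraMap K B).toIntAlgHom).toRingHom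

theorem alpha_tmul (ρ : R) (k : K) :
    alpha R (B := B) (ρ ⊗ₜ[ℤ] k) = ρ ⊗ₜ[ℤ] (algebraMap K B k) := by
  simp [alpha]

/-- The `R ⊗ K`-algebra structure on `R ⊗ B`. -/
@[reducible] noncomputable def algInst : Algebra (R ⊗[ℤ] K) (R ⊗[ℤ] B) := (alpha R).toAlgebra

attribute [local instance] algInst

theorem algebraMap_eq : algebraMap (R ⊗[ℤ] K) (R ⊗[ℤ] B) = alpha R := rfl

theorem smul_eq (a : R ⊗[ℤ] K) (y : R ⊗[ℤ] B) : a • y = alpha R a * y := by
  rw [Algebra.smul_def]; rfl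

/-- `x ↦ 1 ⊗ x` as a ring homomorphism. -/
noncomputable def incl (M : Type*) [CommRing M] : M →+* R ⊗[ℤ] M :=
  (Algebra.TensorProduct.includeRight : M →ₐ[ℤ] R ⊗[ℤ] M).toRingHom

theorem incl_apply (M : Type*) [CommRing M] (x : M) : incl R M x = (1 : R) ⊗ₜ[ℤ] x := rfl

theorem alpha_comp_incl :
    (alpha R (B := B)).comp (incl R K) = (incl R B).comp (algebraMap K B) := by
  ext k
  simp [incl_apply, alpha_tmul]

/-- The functional `R ⊗ f` as an `R ⊗ K`-linear map. -/
noncomputable def FA (f : B →ₗ[K] K) : R ⊗[ℤ] B →ₗ[R ⊗[ℤ] K] R ⊗[ℤ] K where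
  toFun := LinearMap.lTensor R f.toAddMonoidHom.toIntLinearMap
  map_add' := map_add _
  map_smul' := by
    intro a y
    rw [RingHom.id_apply, smul_eq, smul_eq_mul]
    induction a using TensorProduct.induction_on with
    | zero => simp
    | add a b ha hb => rw [map_add, add_mul, map_add, ha, hb, add_mul]
    | tmul ρ k =>
      induction y using TensorProduct.induction_on with
      | zero => simp
      | add y z hy hz => rw [mul_add, map_add, hy, hz, map_add, mul_add]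
      | tmul ρ' x =>
        rw [alpha_tmul, Algebra.TensorProduct.tmul_mul_tmul, LinearMap.lTensor_tmul,
          LinearMap.lTensor_tmul, Algebra.TensorProduct.tmul_mul_tmul]
        congr 1
        change f (algebraMap K B k * x) = k * f x
        rw [← Algebra.smul_def, map_smul, smul_eq_mul]

theorem FA_apply (f : B →ₗ[K] K) (y : R ⊗[ℤ] B) :
    FA R f y = LinearMap.lTensor R f.toAddMonoidHom.toIntLinearMap y := rfl

theorem FA_tmul (f : B →ₗ[K] K) (ρ : R) (x : B) : FA R f (ρ ⊗ₜ[ℤ] x) = ρ ⊗ₜ[ℤ] f x := by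
  rw [FA_apply, LinearMap.lTensor_tmul]; rfl

theorem baseChange [Nontrivial (R ⊗[ℤ] K)] {ℓ linv : B} {p : K[X]} {r : ℕ} {f : B →ₗ[K] K}
    (h : FrobPres (A := K) (T := B) ℓ linv p r f) :
    FrobPres (A := R ⊗[ℤ] K) (T := R ⊗[ℤ] B) ((1 : R) ⊗ₜ[ℤ] ℓ) ((1 : R) ⊗ₜ[ℤ] linv)
      (p.map (incl R K)) r (FA R f) := by
  have hpow : ∀ (x : B) (n : ℕ), ((1 : R) ⊗ₜ[ℤ] x) ^ n = (1 : R) ⊗ₜ[ℤ] (x ^ n) := by
    intro x n
    rw [Algebra.TensorProduct.tmul_pow, one_pow]
  have hmapp : (p.map (incl R K)).map (algebraMap (R ⊗[ℤ] K) (R ⊗[ℤ] B)) =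
      (p.map (algebraMap K B)).map (incl R B) := by
    rw [Polynomial.map_map, Polynomial.map_map, algebraMap_eq, alpha_comp_incl]
  refine ⟨?_, h.monic.map _, ?_, ?_, ?_, ?_⟩
  · rw [Algebra.TensorProduct.tmul_mul_tmul, h.inv, one_mul]; rfl
  · rw [h.monic.natDegree_map, h.deg]
  · rw [← eval_map_algebraMap, hmapp, ← incl_apply, eval_map, Polynomial.eval₂_hom,
      eval_map_algebraMap, h.root, map_zero]
  · intro y
    have key : ∃ a : ℕ → R ⊗[ℤ] K, y = ∑ m ∈ Finset.range (r + 1),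
        alpha R (a m) * ((1 : R) ⊗ₜ[ℤ] ℓ) ^ m := by
      induction y using TensorProduct.induction_on with
      | zero => exact ⟨fun _ => 0, by simp⟩
      | add y z hy hz =>
        obtain ⟨a, ha⟩ := hy
        obtain ⟨b, hb⟩ := hz
        refine ⟨fun m => a m + b m, ?_⟩
        rw [ha, hb, ← Finset.sum_add_distrib]
        exact Finset.sum_congr rfl fun m _ => by rw [map_add, add_mul]
      | tmul ρ x =>
        obtain ⟨a, ha⟩ := h.span x
        refine ⟨fun m => ρ ⊗ₜ[ℤ] a m, ?_⟩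
        rw [ha, TensorProduct.tmul_sum]
        refine Finset.sum_congr rfl fun m _ => ?_
        rw [alpha_tmul, hpow, Algebra.TensorProduct.tmul_mul_tmul, mul_one,
          Algebra.smul_def]
    obtain ⟨a, ha⟩ := key
    refine ⟨a, ?_⟩
    rw [ha]
    exact Finset.sum_congr rfl fun m _ => (smul_eq R _ _).symm
  · intro n m hn hm
    have hDel : Del (p.map (incl R K)) ((1 : R) ⊗ₜ[ℤ] ℓ) = (Del p ℓ).map (incl R B) := by
      rw [Del, Del, hmapp, Polynomial.map_divByMonic _ (monic_X_sub_C ℓ), Polynomial.map_sub,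
        Polynomial.map_X, Polynomial.map_C, incl_apply]
    rw [hDel, coeff_map, incl_apply, hpow, hpow, Algebra.TensorProduct.tmul_mul_tmul,
      Algebra.TensorProduct.tmul_mul_tmul, FA_tmul, h.dual n m hn hm]
    split_ifs
    · simp [Algebra.TensorProduct.one_def]
    · simp

end Groth.Agent.Lib.helper6.TensorFrob
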