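import Mathlib
import Groth.Agent.Lib.helper6.KRRProj
import Groth.Agent.Lib.helper6.KRRFrob
import Groth.Agent.Lib.helper6.TensorFrob

/-! Adams–Riemann–Roch for an elementary projection (helper6): assembly. -/

namespace Groth.Agent.Lib.helper6.KRRProjMain

open LambdaRing Polynomial TensorProduct Groth.Agent.H5.Adams Groth.Agent.Lib.helper6.Split
  Groth.Agent.Lib.helper6.ExtPolySplit Groth.Agent.Lib.helper6.KRRProj
  Groth.Agent.Lib.helper6.KRRFrob Groth.Agent.Lib.helper6.TensorFrob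
  Groth.Agent.Lib.helper6.FrobRes Groth.Agent.Lib.helper6.KRRElem

universe v

attribute [local instance] Groth.Agent.Lib.helper6.TensorFrob.algInst

theorem nontrivial_tensor (R : Type*) [CommRing R] [Nontrivial R] {K : Type v} [CommRing K]
    [LambdaOps K] (P : PosStructure K) : Nontrivial (R ⊗[ℤ] K) := by
  let φ : R ⊗[ℤ] K →+* R :=
    ((Algebra.TensorProduct.rid ℤ ℤ R).toAlgHom.comp
      (Algebra.TensorProduct.map (AlgHom.id ℤ R) P.aug.toIntAlgHom)).toRingHom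
  exact φ.domain_nontrivial

theorem isUnit_natCast_tensor (R : Type*) [CommRing R] (M : Type*) [CommRing M] (j : ℕ)
    (hj : IsUnit ((j : ℕ) : R)) : IsUnit ((j : ℕ) : R ⊗[ℤ] M) := by
  have h2 := hj.map (Algebra.TensorProduct.includeLeft : R →ₐ[ℤ] R ⊗[ℤ] M)
  simpa using h2

theorem one_tmul_pow (R : Type*) [CommRing R] {M : Type*} [CommRing M] (x : M) (n : ℕ) :
    ((1 : R) ⊗ₜ[ℤ] x) ^ n = (1 : R) ⊗ₜ[ℤ] (x ^ n) := by
  rw [Algebra.TensorProduct.tmul_pow, one_pow]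

theorem one_tmul_natCast (R : Type*) [CommRing R] {M : Type*} [CommRing M] (n : ℕ) :
    (1 : R) ⊗ₜ[ℤ] ((n : ℕ) : M) = ((n : ℕ) : R ⊗[ℤ] M) := by
  have h := map_natCast (incl R M) n
  rwa [incl_apply] at h

/-- `1 ⊗ θ` is a unit when `θ ≡ j^m` modulo nilpotents and `j` is invertible in `R`. -/
theorem isUnit_one_tmul (R : Type*) [CommRing R] {M : Type*} [CommRing M] (j m N : ℕ)
    (hj : IsUnit ((j : ℕ) : R)) (θ : M) (hθ : (θ - ((j : ℕ) : M) ^ m) ^ N = 0) :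
    IsUnit ((1 : R) ⊗ₜ[ℤ] θ) := by
  have h1 : (1 : R) ⊗ₜ[ℤ] θ = ((j : ℕ) : R ⊗[ℤ] M) ^ m + (1 : R) ⊗ₜ[ℤ] (θ - ((j : ℕ) : M) ^ m) := by
    rw [TensorProduct.tmul_sub, ← one_tmul_pow, one_tmul_natCast]
    ring
  rw [h1]
  have hnil : IsNilpotent ((1 : R) ⊗ₜ[ℤ] (θ - ((j : ℕ) : M) ^ m)) :=
    ⟨N, by rw [one_tmul_pow, hθ, TensorProduct.tmul_zero]⟩
  exact hnil.isUnit_add_left_of_commute ((isUnit_natCast_tensor R M j hj).pow m) (Commute.all _ _)


theorem arr_proj (R : Type*) [CommRing R] [Nontrivial R] (K : Type v) [CommRing K] [LambdaOps K]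
    (P : PosStructure K) (hK : HasSplitting K P) (e : K) (he : e ∈ P.pos) (r : ℕ)
    (hr : P.aug e = r + 1) [inst : LambdaOps (AdjoinRoot (KRR.extPoly P e))]
    (Pe : PosStructure (AdjoinRoot (KRR.extPoly P e)))
    (hext : IsExtension P Pe (AdjoinRoot.of (KRR.extPoly P e)))
    (hline : Pe.IsLine (AdjoinRoot.root (KRR.extPoly P e)))
    (hsplit : HasSplitting (AdjoinRoot (KRR.extPoly P e)) Pe) (N : ℕ)
    (hN : gammaFiltration Pe N = ⊥)
    (f : AdjoinRoot (KRR.extPoly P e) →ₗ[K] K)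
    (hf : ∀ i : ℕ, i ≤ r → f (AdjoinRoot.root (KRR.extPoly P e) ^ i) = KRR.sigma i e)
    (linv : AdjoinRoot (KRR.extPoly P e)) (hlinv : linv * AdjoinRoot.root (KRR.extPoly P e) = 1)
    (j : ℕ) (hj : 1 ≤ j) (hjR : IsUnit ((j : ℕ) : R)) :
    (∃ w : R ⊗[ℤ] AdjoinRoot (KRR.extPoly P e),
      w * ((1 : R) ⊗ₜ[ℤ] KRR.bott Pe j (AdjoinRoot.of (KRR.extPoly P e) e * linv)) = 1) ∧
    ∀ w : R ⊗[ℤ] AdjoinRoot (KRR.extPoly P e),
      w * ((1 : R) ⊗ₜ[ℤ] KRR.bott Pe j (AdjoinRoot.of (KRR.extPoly P e) e * linv)) = 1 →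
      ∀ x : AdjoinRoot (KRR.extPoly P e),
        (1 : R) ⊗ₜ[ℤ] adams P j (f x) =
          LinearMap.lTensor R f.toAddMonoidHom.toIntLinearMap
            ((j : R ⊗[ℤ] AdjoinRoot (KRR.extPoly P e)) * w * ((1 : R) ⊗ₜ[ℤ] adams Pe j x)) := by
  have hm : (P.aug e).toNat = r + 1 := by rw [hr]; rfl
  obtain ⟨ℓ, hℓ⟩ : ∃ ℓ, ℓ = AdjoinRoot.root (KRR.extPoly P e) := ⟨_, rfl⟩
  rw [← hℓ] at hline hlinv hf
  obtain ⟨θ, hθdef⟩ : ∃ θ, θ = KRR.bott Pe j (AdjoinRoot.of (KRR.extPoly P e) e * linv) :=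
    ⟨_, rfl⟩
  rw [← hθdef]
  have hθ : θ = (Theta P j e).eval₂ (AdjoinRoot.of (KRR.extPoly P e)) ℓ *
      linv ^ ((j - 1) * (r + 1)) := by
    rw [hθdef]; exact bott_eq_Theta hK hsplit hext hline hlinv e he (r + 1) hm j hj
  have haug : Pe.aug θ = (j : ℤ) ^ (r + 1) := by
    rw [hθdef]; exact aug_bott hsplit hext hline hlinv e he (r + 1) hm j
  have hnilθ : (θ - ((j : ℕ) : AdjoinRoot (KRR.extPoly P e)) ^ (r + 1)) ^ N = 0 :=
    pow_eq_zero_of_aug_eq_zero hN (by rw [map_sub, haug, map_pow, map_natCast]; simp)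
  have hnilℓ : (ℓ - 1) ^ N = 0 :=
    pow_eq_zero_of_aug_eq_zero hN (by rw [map_sub, hline.2, map_one, sub_self])
  refine ⟨?_, ?_⟩
  · obtain ⟨u, hu⟩ := isUnit_one_tmul R j (r + 1) N hjR θ hnilθ
    exact ⟨↑u⁻¹, by rw [← hu]; simp⟩
  · intro w hw x
    have hnt : Nontrivial (R ⊗[ℤ] K) := nontrivial_tensor R P
    have hf' := functional_pow P he r hr f (by rw [← hℓ]; exact hf)
    rw [← hℓ] at hf'
    have hfinv := functional_inv_pow P he r hr f (by rw [← hℓ]; exact hf') linv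
      (by rw [← hℓ]; exact hlinv)
    have hFPK : FrobPres (A := K) (T := AdjoinRoot (KRR.extPoly P e)) ℓ linv
        (KRR.extPoly P e) r f := by
      rw [hℓ]; exact frobPres_Ke P he r hr f (by rw [← hℓ]; exact hf) linv (by rw [← hℓ]; exact hlinv)
    have hFP := baseChange R hFPK
    obtain ⟨W, hWdef⟩ : ∃ W, W = w * ((1 : R) ⊗ₜ[ℤ] linv) ^ ((j - 1) * (r + 1)) := ⟨_, rfl⟩
    have hΘeval : aeval ((1 : R) ⊗ₜ[ℤ] ℓ) ((Theta P j e).map (incl R K)) =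
        (1 : R) ⊗ₜ[ℤ] ((Theta P j e).eval₂ (AdjoinRoot.of (KRR.extPoly P e)) ℓ) := by
      rw [← eval_map_algebraMap, Polynomial.map_map, algebraMap_eq, alpha_comp_incl,
        ← Polynomial.map_map, ← incl_apply, eval_map, Polynomial.eval₂_hom, eval_map,
        AdjoinRoot.algebraMap_eq]
      rfl
    have hW : W * aeval ((1 : R) ⊗ₜ[ℤ] ℓ) ((Theta P j e).map (incl R K)) = 1 := by
      rw [hΘeval, hWdef, mul_assoc, one_tmul_pow, Algebra.TensorProduct.tmul_mul_tmul, one_mul,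
        mul_comm (linv ^ ((j - 1) * (r + 1))), ← hθ]
      exact hw
    have hnil' : ((1 : R) ⊗ₜ[ℤ] ℓ - 1) ^ N = 0 := by
      have : (1 : R) ⊗ₜ[ℤ] ℓ - 1 = (1 : R) ⊗ₜ[ℤ] (ℓ - 1) := by
        rw [TensorProduct.tmul_sub]; rfl
      rw [this, one_tmul_pow, hnilℓ, TensorProduct.tmul_zero]
    have hP₁d : ((KRR.extPoly P (adams P j e)).map (incl R K)).natDegree = r + 1 := by
      rw [(extPoly_monic _).natDegree_map, extPoly_natDegree, aug_adams hK j hj e he, hm]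
    have hΘ' : (KRR.extPoly P e).map (incl R K) * (Theta P j e).map (incl R K) =
        expand (R ⊗[ℤ] K) j ((KRR.extPoly P (adams P j e)).map (incl R K)) := by
      rw [← Polynomial.map_mul, extPoly_mul_Theta hK j hj e he, map_expand]
    have hmain := hFP.main j (isUnit_natCast_tensor R _ j hjR)
      ((KRR.extPoly P (adams P j e)).map (incl R K)) ((Theta P j e).map (incl R K))
      ((extPoly_monic _).map _) hP₁d hΘ' W hW N hnil'
    -- the predicate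
    have hG0 : (1 : R) ⊗ₜ[ℤ] adams P j (f 0) =
        FA R f ((j : R ⊗[ℤ] AdjoinRoot (KRR.extPoly P e)) * w * ((1 : R) ⊗ₜ[ℤ] adams Pe j 0)) := by
      rw [map_zero, adams_zero, adams_zero, TensorProduct.tmul_zero, TensorProduct.tmul_zero,
        mul_zero, map_zero]
    have hGadd : ∀ x y : AdjoinRoot (KRR.extPoly P e),
        ((1 : R) ⊗ₜ[ℤ] adams P j (f x) =
          FA R f ((j : R ⊗[ℤ] AdjoinRoot (KRR.extPoly P e)) * w * ((1 : R) ⊗ₜ[ℤ] adams Pe j x))) →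
        ((1 : R) ⊗ₜ[ℤ] adams P j (f y) =
          FA R f ((j : R ⊗[ℤ] AdjoinRoot (KRR.extPoly P e)) * w * ((1 : R) ⊗ₜ[ℤ] adams Pe j y))) →
        (1 : R) ⊗ₜ[ℤ] adams P j (f (x + y)) =
          FA R f ((j : R ⊗[ℤ] AdjoinRoot (KRR.extPoly P e)) * w *
            ((1 : R) ⊗ₜ[ℤ] adams Pe j (x + y))) := by
      intro x y hx hy
      rw [map_add, adams_add, adams_add, TensorProduct.tmul_add, TensorProduct.tmul_add, mul_add,
        map_add, hx, hy]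
    have hGsmul : ∀ (a : K) (x : AdjoinRoot (KRR.extPoly P e)),
        ((1 : R) ⊗ₜ[ℤ] adams P j (f x) =
          FA R f ((j : R ⊗[ℤ] AdjoinRoot (KRR.extPoly P e)) * w * ((1 : R) ⊗ₜ[ℤ] adams Pe j x))) →
        (1 : R) ⊗ₜ[ℤ] adams P j (f (a • x)) =
          FA R f ((j : R ⊗[ℤ] AdjoinRoot (KRR.extPoly P e)) * w *
            ((1 : R) ⊗ₜ[ℤ] adams Pe j (a • x))) := by
      intro a x hx
      have e1 : (1 : R) ⊗ₜ[ℤ] adams Pe j (a • x) =
          alpha R ((1 : R) ⊗ₜ[ℤ] adams P j a) * ((1 : R) ⊗ₜ[ℤ] adams Pe j x) := by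
        rw [Algebra.smul_def, AdjoinRoot.algebraMap_eq, adams_mul Pe hsplit, ← map_adams hext,
          alpha_tmul, AdjoinRoot.algebraMap_eq, Algebra.TensorProduct.tmul_mul_tmul, one_mul]
      have e2 : (j : R ⊗[ℤ] AdjoinRoot (KRR.extPoly P e)) * w *
          (alpha R ((1 : R) ⊗ₜ[ℤ] adams P j a) * ((1 : R) ⊗ₜ[ℤ] adams Pe j x)) =
          ((1 : R) ⊗ₜ[ℤ] adams P j a) •
            ((j : R ⊗[ℤ] AdjoinRoot (KRR.extPoly P e)) * w * ((1 : R) ⊗ₜ[ℤ] adams Pe j x)) := by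
        rw [smul_eq]; ring
      have e3 : FA R f (((1 : R) ⊗ₜ[ℤ] adams P j a) •
            ((j : R ⊗[ℤ] AdjoinRoot (KRR.extPoly P e)) * w * ((1 : R) ⊗ₜ[ℤ] adams Pe j x))) =
          ((1 : R) ⊗ₜ[ℤ] adams P j a) •
            FA R f ((j : R ⊗[ℤ] AdjoinRoot (KRR.extPoly P e)) * w * ((1 : R) ⊗ₜ[ℤ] adams Pe j x)) :=
        map_smul _ _ _
      have e4 : f (a • x) = a * f x := by rw [map_smul, smul_eq_mul]
      rw [e1, e2, e3, ← hx, smul_eq_mul, Algebra.TensorProduct.tmul_mul_tmul, one_mul, e4,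
        adams_mul P hK]
    have hGbase : ∀ n : ℕ, n ≤ r →
        (1 : R) ⊗ₜ[ℤ] adams P j (f (linv ^ r * ℓ ^ n)) =
          FA R f ((j : R ⊗[ℤ] AdjoinRoot (KRR.extPoly P e)) * w *
            ((1 : R) ⊗ₜ[ℤ] adams Pe j (linv ^ r * ℓ ^ n))) := by
      intro n hn
      have hfx : f (linv ^ r * ℓ ^ n) = if n = r then 1 else 0 := by
        rw [mul_comm, pow_mul_pow_inv ℓ linv hlinv n r]
        by_cases hnr : n = r
        · rw [if_pos (by omega), if_pos hnr, hnr, Nat.sub_self, hf' 0, sigma_zero]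
        · rw [if_neg (by omega), if_neg hnr]
          exact hfinv (r - n) (by omega) (by omega)
      have hL : adams P j (f (linv ^ r * ℓ ^ n)) = if n = r then 1 else 0 := by
        rw [hfx]
        split_ifs
        · exact adams_one P j
        · exact adams_zero P j
      have hA : adams Pe j (linv ^ r * ℓ ^ n) = (linv ^ j) ^ r * (ℓ ^ j) ^ n := by
        rw [adams_mul Pe hsplit]
        have h1 : adams Pe j (linv ^ r) = (adams Pe j linv) ^ r :=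
          map_pow (adamsRingHom Pe hsplit j) linv r
        have h2 : adams Pe j (ℓ ^ n) = (adams Pe j ℓ) ^ n :=
          map_pow (adamsRingHom Pe hsplit j) ℓ n
        rw [h1, h2, adams_linv hsplit hline hlinv, adams_of_isLine Pe ℓ hline]
      have hinvT : ((1 : R) ⊗ₜ[ℤ] linv) * ((1 : R) ⊗ₜ[ℤ] ℓ) = 1 := by
        rw [Algebra.TensorProduct.tmul_mul_tmul, hlinv, one_mul]; rfl
      have hT : (j : R ⊗[ℤ] AdjoinRoot (KRR.extPoly P e)) * w *
          ((1 : R) ⊗ₜ[ℤ] ((linv ^ j) ^ r * (ℓ ^ j) ^ n)) =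
          ((1 : R) ⊗ₜ[ℤ] linv) ^ r *
            ((j : R ⊗[ℤ] AdjoinRoot (KRR.extPoly P e)) * ((1 : R) ⊗ₜ[ℤ] ℓ) ^ (j - 1) * W) *
            (((1 : R) ⊗ₜ[ℤ] ℓ) ^ j) ^ n := by
        have h3 : (1 : R) ⊗ₜ[ℤ] ((linv ^ j) ^ r * (ℓ ^ j) ^ n) =
            (((1 : R) ⊗ₜ[ℤ] linv) ^ j) ^ r * (((1 : R) ⊗ₜ[ℤ] ℓ) ^ j) ^ n := by
          simp only [one_tmul_pow]
          rw [Algebra.TensorProduct.tmul_mul_tmul, one_mul]
        have h4 : (((1 : R) ⊗ₜ[ℤ] linv) ^ j) ^ r =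
            ((1 : R) ⊗ₜ[ℤ] linv) ^ r * ((1 : R) ⊗ₜ[ℤ] ℓ) ^ (j - 1) *
              ((1 : R) ⊗ₜ[ℤ] linv) ^ ((j - 1) * (r + 1)) := by
          have h5 : (j - 1) * (r + 1) = (j - 1) + (j - 1) * r := by ring
          have h6 : j * r = r + (j - 1) * r := by
            obtain ⟨j', rfl⟩ := Nat.exists_eq_add_of_le hj
            simp
            ring
          calc (((1 : R) ⊗ₜ[ℤ] linv) ^ j) ^ r
              = ((1 : R) ⊗ₜ[ℤ] linv) ^ r * ((1 : R) ⊗ₜ[ℤ] linv) ^ ((j - 1) * r) := by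
                rw [← pow_mul, h6, pow_add]
            _ = ((1 : R) ⊗ₜ[ℤ] linv) ^ r *
                  ((((1 : R) ⊗ₜ[ℤ] linv) * ((1 : R) ⊗ₜ[ℤ] ℓ)) ^ (j - 1)) *
                  ((1 : R) ⊗ₜ[ℤ] linv) ^ ((j - 1) * r) := by
                rw [hinvT, one_pow, mul_one]
            _ = _ := by
                rw [h5, pow_add, mul_pow]; ring
        rw [h3, h4, hWdef]
        ring
      rw [hL, hA, hT, hmain n hn]
      split_ifs
      · rfl
      · exact TensorProduct.tmul_zero _ _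
    -- conclude by spanning
    obtain ⟨a, ha⟩ := hFPK.span (ℓ ^ r * x)
    have hx : x = ∑ n ∈ Finset.range (r + 1), a n • (linv ^ r * ℓ ^ n) := by
      have h1 : x = linv ^ r * (ℓ ^ r * x) := by
        rw [← mul_assoc, ← mul_pow, hlinv, one_pow, one_mul]
      rw [h1, ha, Finset.mul_sum]
      refine Finset.sum_congr rfl fun n _ => ?_
      rw [mul_smul_comm]
    have hGx : (1 : R) ⊗ₜ[ℤ] adams P j (f x) =
        FA R f ((j : R ⊗[ℤ] AdjoinRoot (KRR.extPoly P e)) * w * ((1 : R) ⊗ₜ[ℤ] adams Pe j x)) := by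
      rw [hx]
      refine Finset.sum_induction _ (fun y => (1 : R) ⊗ₜ[ℤ] adams P j (f y) =
        FA R f ((j : R ⊗[ℤ] AdjoinRoot (KRR.extPoly P e)) * w * ((1 : R) ⊗ₜ[ℤ] adams Pe j y)))
        hGadd hG0 ?_
      intro n hn
      exact hGsmul (a n) _ (hGbase n (by have := Finset.mem_range.mp hn; omega))
    exact hGx

end Groth.Agent.Lib.helper6.KRRProjMain
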