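import Mathlib
import Groth.Agent.Lib.helper6.FibDepth
import Groth.Prelude.Def_FlatCA

/-!
# Kernels of maps of flat modules with deep fibres have depth `≥ 2`
-/

set_option autoImplicit false
set_option linter.style.haveILetI false
set_option linter.unusedSectionVars false
set_option maxHeartbeats 400000

universe u

namespace Groth.Agent.Lib.helper6.KolA

open TensorProduct LocCoh IsLocalRing
open Groth.Agent.Lib.helper9.Depth Groth.Agent.Lib.helper9
open Groth.Agent.Lib.helper6.FibDepth

theorem one_le_sub_one {x : ℕ∞} (h : 2 ≤ x) : 1 ≤ x - 1 := by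
  have := tsub_le_tsub_right h 1
  have h21 : ((2 : ℕ∞) - 1) = 1 := rfl
  rwa [h21] at this

theorem two_le_add_one {x : ℕ∞} (h : 1 ≤ x) : 2 ≤ x + 1 := by
  have := add_le_add_left h 1
  rwa [one_add_one_eq_two] at this

/-- = S18707 -/
theorem main (A B : Type u) [CommRing A] [CommRing B]
    [IsNoetherianRing A] [IsNoetherianRing B] [Algebra A B] (J : Ideal B)
    (F E0 E1 : Type u) [AddCommGroup F] [Module B F] [Module.Finite B F]
    [AddCommGroup E0] [Module B E0] [Module A E0] [IsScalarTower A B E0] [Module.Finite B E0]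
    [Module.Flat A E0]
    [AddCommGroup E1] [Module B E1] [Module A E1] [IsScalarTower A B E1] [Module.Finite B E1]
    [Module.Flat A E1]
    (f : F →ₗ[B] E0) (u : E0 →ₗ[B] E1)
    (hf : Function.Injective f) (hfu : Function.Exact f u)
    (h0 : ∀ q : PrimeSpectrum B, J ≤ q.asIdeal →
      2 ≤ LocCoh.idealDepth (q.asIdeal.map (algebraMap B (EGA4.FibLocRing A B q.asIdeal)))
        (EGA4.FibLocMod A B q.asIdeal E0))
    (h1 : ∀ q : PrimeSpectrum B, J ≤ q.asIdeal →
      1 ≤ LocCoh.idealDepth (q.asIdeal.map (algebraMap B (EGA4.FibLocRing A B q.asIdeal)))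
        (EGA4.FibLocMod A B q.asIdeal E1)) :
    2 ≤ LocCoh.idealDepth J F := by
  rw [idealDepth_eq_iInf_depth_localization]
  refine le_iInf₂ fun q hq => ?_
  have hd0 := (h0 q hq).trans (fib_le_depth A B q.asIdeal E0)
  have hd1 := (h1 q hq).trans (fib_le_depth A B q.asIdeal E1)
  -- `K = range u`
  set K := LinearMap.range u with hK
  have hK1 := (depth_localized_ses q.asIdeal K.subtype K.mkQ Subtype.val_injective
    (Submodule.mkQ_surjective K) (LinearMap.exact_subtype_mkQ K)).2.2
  have hdK : 1 ≤ depth (Localization.AtPrime q.asIdeal)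
      (LocalizedModule q.asIdeal.primeCompl K) := by
    refine le_trans ?_ hK1
    rw [le_min_iff]
    exact ⟨hd1, le_add_self⟩
  have hex : Function.Exact f u.rangeRestrict := by
    intro y
    rw [← hfu y]
    constructor
    · intro h
      exact congrArg Subtype.val h
    · intro h
      exact Subtype.ext h
  have hF := (depth_localized_ses q.asIdeal f u.rangeRestrict hf u.surjective_rangeRestrict
    hex).2.2
  refine le_trans ?_ hF
  rw [le_min_iff]
  exact ⟨hd0, two_le_add_one hdK⟩

end Groth.Agent.Lib.helper6.KolA
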