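import Mathlib
import Groth.Agent.Lib.helper6.FibDepth
import Groth.Agent.Lib.helper9.FlatLocal
import Groth.Agent.Lib.helper9.Depth11
import Groth.Agent.Lib.helper28.ReflDepth
import Groth.Agent.S18703

/-!
# Reflexive modules and fibrewise depth
-/

set_option autoImplicit false
set_option linter.style.haveILetI false
set_option linter.unusedSectionVars false
set_option maxHeartbeats 400000

universe u

namespace Groth.Agent.Lib.helper6.KolB

open TensorProduct LocCoh IsLocalRing
open Groth.Agent.Lib.helper9.Depth Groth.Agent.Lib.helper9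
open Groth.Agent.Lib.helper6.FibDepth Groth.Agent.Lib.helper6.SkTensor

variable (A B : Type u) [CommRing A] [CommRing B]
    [IsNoetherianRing A] [IsNoetherianRing B] [Algebra A B] [Module.Flat A B]

/-- the depth of `B_q` is at least the depth of the fibre local ring. -/
theorem fibRing_le_depth (q : Ideal B) [q.IsPrime] :
    idealDepth (q.map (algebraMap B (EGA4.FibLocRing A B q))) (EGA4.FibLocRing A B q) ≤
      depth (Localization.AtPrime q) (LocalizedModule q.primeCompl B) := by
  haveI := nontrivial_fibLocRing A B q
  rw [map_fibLocRing_eq_maximalIdeal, depth_localizedModule_self]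
  set P : Ideal A := q.comap (algebraMap A B) with hP
  haveI : q.LiesOver P := ⟨rfl⟩
  letI := Localization.AtPrime.algebraOfLiesOver P q
  haveI : IsLocalHom (algebraMap (Localization.AtPrime P) (Localization.AtPrime q)) :=
    Localization.isLocalHom_localRingHom _ _ _ _
  have hI : P.map (algebraMap A (Localization.AtPrime q)) =
      (IsLocalRing.maximalIdeal (Localization.AtPrime P)).map
        (algebraMap (Localization.AtPrime P) (Localization.AtPrime q)) := by
    rw [← Localization.AtPrime.map_eq_maximalIdeal, Ideal.map_map,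
      ← IsScalarTower.algebraMap_eq]
  have h := FlatLocal.depth_eq_add (R := Localization.AtPrime P) (S := Localization.AtPrime q)
    (P.map (algebraMap A (Localization.AtPrime q))) hI
  rw [h]
  exact le_add_self

theorem le_idealDepth_self (J : Ideal B) (n : ℕ∞)
    (hZ : ∀ q : PrimeSpectrum B, J ≤ q.asIdeal →
      n ≤ idealDepth (q.asIdeal.map (algebraMap B (EGA4.FibLocRing A B q.asIdeal)))
        (EGA4.FibLocRing A B q.asIdeal)) :
    n ≤ idealDepth J B := by
  rw [idealDepth_eq_iInf_depth_localization]
  exact le_iInf₂ fun q hq => (hZ q hq).trans (fibRing_le_depth A B q.asIdeal)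

/-- = S18722 -/
theorem main (J : Ideal B)
    (hZ1 : ∀ q : PrimeSpectrum B, J ≤ q.asIdeal →
      1 ≤ LocCoh.idealDepth (q.asIdeal.map (algebraMap B (EGA4.FibLocRing A B q.asIdeal)))
        (EGA4.FibLocRing A B q.asIdeal))
    (F : Type u) [AddCommGroup F] [Module B F] [Module.Finite B F] :
    ((∀ q : PrimeSpectrum B, ¬ J ≤ q.asIdeal →
        Module.IsReflexive (Localization.AtPrime q.asIdeal)
          (LocalizedModule q.asIdeal.primeCompl F)) →
      2 ≤ LocCoh.idealDepth J F → Module.IsReflexive B F) ∧
    (Module.IsReflexive B F →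
      (∀ q : PrimeSpectrum B, J ≤ q.asIdeal →
        2 ≤ LocCoh.idealDepth (q.asIdeal.map (algebraMap B (EGA4.FibLocRing A B q.asIdeal)))
          (EGA4.FibLocRing A B q.asIdeal)) →
      2 ≤ LocCoh.idealDepth J F) := by
  refine ⟨fun hU hF => ?_, fun hrefl hZ2 => ?_⟩
  · exact Groth.Agent.S18703.result B J (le_idealDepth_self A B J 1 hZ1) F hU hF
  · haveI := hrefl
    exact Groth.Agent.Lib.helper28.ReflDepth.two_le_idealDepth_of_isReflexive J F
      (le_idealDepth_self A B J 2 hZ2)

end Groth.Agent.Lib.helper6.KolB
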