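import Mathlib
import Groth.Prelude.Def_EGA4b
import Groth.Prelude.Def_FlatCA
import Groth.Prelude.Def_Wider
import Groth.Agent.Lib.helper6.KolE
import Groth.Agent.Lib.helper21.LC44

/-!
# Kollár: vanishing of `H²_J` of the closed fibre of `F` forces flatness
-/

set_option autoImplicit false
set_option linter.style.haveILetI false
set_option linter.unusedSectionVars false
set_option maxHeartbeats 400000

universe u

namespace Groth.Agent.Lib.helper6.KolF

open LocCoh IsLocalRing TensorProduct Groth.Agent.Lib.helper9.Depth Groth.Agent.Lib.helper6.KolD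
  Groth.Agent.Lib.helper6.KolE CategoryTheory
open scoped Pointwise

section LES

variable {R : Type u} [CommRing R] [IsNoetherianRing R] (J : Ideal R)
  {X Y Z : Type u} [AddCommGroup X] [Module R X] [AddCommGroup Y] [Module R Y]
  [AddCommGroup Z] [Module R Z]

theorem H_X3 (f : X →ₗ[R] Y) (g : Y →ₗ[R] Z) (hf : Function.Injective f)
    (hg : Function.Surjective g) (hfg : Function.Exact f g) (i : ℕ)
    (h2 : Subsingleton (H J i Y)) (h1 : Subsingleton (H J (i + 1) X)) :
    Subsingleton (H J i Z) := by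
  let S : ShortComplex (ModuleCat.{u} R) :=
    ModuleCat.shortComplexOfCompEqZero f g hfg.linearMap_comp_eq_zero
  have hS : S.ShortExact := ModuleCat.shortComplex_shortExact S hfg hf hg
  exact Groth.Agent.H21.LC.subsingleton_X₃ J hS i h2 h1

/-- two-step vanishing: `X → Y → Z → 0` exact, kernel of `X → Y` power torsion. -/
theorem H_two_step (φ : X →ₗ[R] Y) (ψ : Y →ₗ[R] Z) (hψ : Function.Surjective ψ)
    (hex : Function.Exact φ ψ)
    (htors : ∀ x : X, φ x = 0 → x ∈ DRing.torsionSub J X) (i : ℕ)
    (hY : Subsingleton (H J i Y)) (hX : Subsingleton (H J (i + 1) X)) :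
    Subsingleton (H J i Z) := by
  -- (a) `0 → ker φ → X → range φ → 0`
  have hker : Subsingleton (H J (i + 1 + 1) (LinearMap.ker φ)) := by
    refine Groth.Agent.H21.LC.subsingleton_of_torsion J (i + 1 + 1) (by omega)
      (ModuleCat.of R (LinearMap.ker φ)) ?_
    rintro ⟨x, hx⟩
    obtain ⟨n, hn⟩ := htors x hx
    exact ⟨n, fun a ha => Subtype.ext (hn a ha)⟩
  have hrange : Subsingleton (H J (i + 1) (LinearMap.range φ)) :=
    H_X3 J (LinearMap.ker φ).subtype φ.rangeRestrict Subtype.val_injective
      φ.surjective_rangeRestrict (by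
        intro x
        constructor
        · intro hx
          exact ⟨⟨x, by simpa using congrArg Subtype.val hx⟩, rfl⟩
        · rintro ⟨y, rfl⟩
          apply Subtype.ext
          simp) (i + 1) hX hker
  -- (b) `0 → range φ → Y → Z → 0`
  exact H_X3 J (LinearMap.range φ).subtype ψ Subtype.val_injective hψ (by
    intro y
    rw [hex y]
    constructor
    · rintro ⟨x, rfl⟩
      exact ⟨⟨φ x, x, rfl⟩, rfl⟩
    · rintro ⟨⟨_, x, rfl⟩, rfl⟩
      exact ⟨x, rfl⟩) i hY hrange

end LES

section Fib

variable (A B : Type u) [CommRing A] [CommRing B] [IsLocalRing A] [Algebra A B]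
  {M N P : Type u} [AddCommGroup M] [Module B M] [Module A M] [IsScalarTower A B M]
  [AddCommGroup N] [Module B N] [Module A N] [IsScalarTower A B N]
  [AddCommGroup P] [Module B P] [Module A P] [IsScalarTower A B P]

/-- right exactness of the closed fibre. -/
theorem fib_right_exact (f : M →ₗ[B] N) (g : N →ₗ[B] P)
    (hg : Function.Surjective g) (hfg : Function.Exact f g) :
    Function.Surjective (fibMap A B g) ∧ Function.Exact (fibMap A B f) (fibMap A B g) := by
  refine ⟨?_, ?_⟩
  · intro z
    obtain ⟨y, rfl⟩ := Submodule.Quotient.mk_surjective _ z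
    obtain ⟨y', rfl⟩ := hg y
    exact ⟨Submodule.Quotient.mk y', rfl⟩
  · intro z
    obtain ⟨y, rfl⟩ := Submodule.Quotient.mk_surjective _ z
    constructor
    · intro hz
      rw [fibMap_mk, Submodule.Quotient.mk_eq_zero] at hz
      have h1 : eM A B P (maximalIdeal A) = Submodule.map g (eM A B N (maximalIdeal A)) := by
        rw [Submodule.map_smul'', Submodule.map_top, LinearMap.range_eq_top.mpr hg]
      have hz' : g y ∈ Submodule.map g (eM A B N (maximalIdeal A)) := by
        rw [← h1]
        exact hz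
      obtain ⟨y', hy', hyy'⟩ := hz'
      have h2 : g (y - y') = 0 := by rw [map_sub, hyy', sub_self]
      obtain ⟨x, hx⟩ := (hfg _).mp h2
      refine ⟨Submodule.Quotient.mk x, ?_⟩
      rw [fibMap_mk, hx, Submodule.Quotient.eq]
      simpa using hy'
    · rintro ⟨w, hw⟩
      obtain ⟨x, rfl⟩ := Submodule.Quotient.mk_surjective _ w
      rw [← hw, fibMap_mk, fibMap_mk, hfg.apply_apply_eq_zero, Submodule.Quotient.mk_zero]

/-- local killing: if `P_q` is `A`-flat and `f x ∈ m N` then some `s ∉ q` has `s x ∈ m M`. -/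
theorem exists_smul_mem (f : M →ₗ[B] N) (g : N →ₗ[B] P) (hf : Function.Injective f)
    (hg : Function.Surjective g) (hfg : Function.Exact f g) (q : Ideal B) [q.IsPrime]
    [Module.Flat A (LocalizedModule q.primeCompl P)] (x : M)
    (hx : f x ∈ eM A B N (maximalIdeal A)) :
    ∃ s : q.primeCompl, s • x ∈ eM A B M (maximalIdeal A) := by
  have hinj := LinearMap.lTensor_injective_of_exact_of_flat
    (locMapA (A := A) q.primeCompl g)
    (LocalizedModule.map_surjective q.primeCompl g hg)
    (locMapA (A := A) q.primeCompl f)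
    (LocalizedModule.map_injective q.primeCompl f hf)
    (LocalizedModule.map_exact q.primeCompl f g hfg) (A ⧸ maximalIdeal A)
  have h2 : (LocalizedModule.mk (f x) 1 : LocalizedModule q.primeCompl N) ∈
      maximalIdeal A • (⊤ : Submodule A (LocalizedModule q.primeCompl N)) :=
    mk_mem_smul_top _ N _ _
      ((Groth.Agent.Lib.helper6.KolC.mem_map_smul_top_iff A B N _ _).mp hx) 1
  have h3 : (LocalizedModule.mk x 1 : LocalizedModule q.primeCompl M) ∈
      maximalIdeal A • (⊤ : Submodule A (LocalizedModule q.primeCompl M)) := by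
    rw [← Groth.Agent.H21.one_tmul_eq_zero_iff] at h2 ⊢
    apply hinj
    rw [LinearMap.lTensor_tmul, map_zero, locMapA_mk]
    exact h2
  obtain ⟨y, hy, s, hys⟩ := exists_of_mem_smul_top _ M _ _ h3
  rw [LocalizedModule.mk_eq] at hys
  obtain ⟨t, ht⟩ := hys
  refine ⟨t * s, ?_⟩
  rw [mul_smul, ht, one_smul]
  exact Submodule.smul_mem _ _ hy

/-- the kernel of the closed-fibre map is `J`-power torsion when the cokernel is flat off `V(J)`. -/
theorem ker_fibMap_torsion [IsNoetherianRing B] (J : Ideal B)
    (f : M →ₗ[B] N) (g : N →ₗ[B] P) (hf : Function.Injective f)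
    (hg : Function.Surjective g) (hfg : Function.Exact f g)
    (hP : ∀ q : PrimeSpectrum B, ¬ J ≤ q.asIdeal →
      Module.Flat A (LocalizedModule q.asIdeal.primeCompl P))
    (c : EGA4.FibMod A B M) (hc : fibMap A B f c = 0) :
    c ∈ DRing.torsionSub J (EGA4.FibMod A B M) := by
  obtain ⟨x, rfl⟩ := Submodule.Quotient.mk_surjective _ c
  rw [fibMap_mk, Submodule.Quotient.mk_eq_zero] at hc
  set 𝔞 : Ideal B := (Submodule.span B
    {(Submodule.Quotient.mk x : EGA4.FibMod A B M)}).annihilator with h𝔞
  have hmem𝔞 : ∀ a : B, a ∈ 𝔞 ↔ a • (Submodule.Quotient.mk x : EGA4.FibMod A B M) = 0 := by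
    intro a
    rw [h𝔞, Submodule.mem_annihilator_span_singleton]
  have hrad : J ≤ 𝔞.radical := by
    rw [Ideal.radical_eq_sInf]
    refine le_sInf ?_
    rintro q ⟨hq𝔞, hqprime⟩
    by_contra hJq
    haveI := hqprime
    haveI := hP ⟨q, hqprime⟩ hJq
    obtain ⟨s, hs⟩ := exists_smul_mem A B f g hf hg hfg q x hc
    have : (s : B) ∈ q := hq𝔞 ((hmem𝔞 s).2 (by
      rw [← Submodule.Quotient.mk_smul, Submodule.Quotient.mk_eq_zero]
      exact hs))
    exact s.2 this
  obtain ⟨n, hn⟩ := Ideal.exists_pow_le_of_le_radical_of_fg hrad (Ideal.fg_of_isNoetherianRing J)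
  exact ⟨n, fun a ha => (hmem𝔞 a).1 (hn ha)⟩

end Fib

section Main

variable (A B : Type u) [CommRing A] [CommRing B]
  [IsNoetherianRing A] [IsNoetherianRing B] [IsLocalRing A] [IsLocalRing B] [Algebra A B]
  [IsLocalHom (algebraMap A B)] (J : Ideal B)
  {F E0 E1 G : Type u} [AddCommGroup F] [Module B F] [Module A F] [IsScalarTower A B F]
  [Module.Finite B F]
  [AddCommGroup E0] [Module B E0] [Module A E0] [IsScalarTower A B E0] [Module.Finite B E0]
  [Module.Flat A E0]
  [AddCommGroup E1] [Module B E1] [Module A E1] [IsScalarTower A B E1] [Module.Finite B E1]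
  [Module.Flat A E1]
  [AddCommGroup G] [Module B G] [Module A G] [IsScalarTower A B G] [Module.Finite B G]
  (f : F →ₗ[B] E0) (u : E0 →ₗ[B] E1) (v : E1 →ₗ[B] G)
  (hf : Function.Injective f) (hfu : Function.Exact f u) (huv : Function.Exact u v)
  (hv : Function.Surjective v)

include hf hfu huv hv in
theorem depth_G_of_H2
    (hGU : ∀ q : PrimeSpectrum B, ¬ J ≤ q.asIdeal → FlatCA.FlatAt A q.asIdeal G)
    (h0 : 2 ≤ idealDepth J (EGA4.FibMod A B E0)) (h1 : 1 ≤ idealDepth J (EGA4.FibMod A B E1))
    (hH2 : Subsingleton (LocCoh.H J 2 (EGA4.FibMod A B F))) :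
    1 ≤ idealDepth J (EGA4.FibMod A B G) := by
  haveI : IsNoetherian B E1 := isNoetherian_of_isNoetherianRing_of_finite B E1
  haveI : Module.Finite B (LinearMap.range u) := inferInstance
  have hKloc : ∀ q : PrimeSpectrum B, ¬ J ≤ q.asIdeal →
      Module.Flat A (LocalizedModule q.asIdeal.primeCompl (LinearMap.range u)) := by
    intro q hq
    haveI : Module.Flat A (LocalizedModule q.asIdeal.primeCompl G) := hGU q hq
    haveI := flat_localized (A := A) q.asIdeal.primeCompl E1
    exact flat_loc_left q.asIdeal.primeCompl (LinearMap.range u).subtype v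
      Subtype.val_injective hv (exact_subtype (u := u) (v := v) (huv := huv))
  have hE0 := (Groth.Agent.H21.LC.forall_subsingleton_iff_le_idealDepth J
    (EGA4.FibMod A B E0) 2).mpr (by exact_mod_cast h0)
  have hE1 := (Groth.Agent.H21.LC.forall_subsingleton_iff_le_idealDepth J
    (EGA4.FibMod A B E1) 1).mpr (by exact_mod_cast h1)
  obtain ⟨s2, e2⟩ := fib_right_exact A B f u.rangeRestrict u.surjective_rangeRestrict
    (exact_rangeRestrict (f := f) (u := u) (hfu := hfu))
  obtain ⟨s1, e1⟩ := fib_right_exact A B (LinearMap.range u).subtype v hv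
    (exact_subtype (u := u) (v := v) (huv := huv))
  have hK1 : Subsingleton (H J 1 (EGA4.FibMod A B (LinearMap.range u))) :=
    H_two_step J (fibMap A B f) (fibMap A B u.rangeRestrict) s2 e2
      (fun c hc => ker_fibMap_torsion A B J f u.rangeRestrict hf u.surjective_rangeRestrict
        (exact_rangeRestrict (f := f) (u := u) (hfu := hfu)) hKloc c hc) 1
      (hE0 1 (by norm_num)) hH2
  have hG0 : Subsingleton (H J 0 (EGA4.FibMod A B G)) :=
    H_two_step J (fibMap A B (LinearMap.range u).subtype) (fibMap A B v) s1 e1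
      (fun c hc => ker_fibMap_torsion A B J (LinearMap.range u).subtype v Subtype.val_injective hv
        (exact_subtype (u := u) (v := v) (huv := huv)) (fun q hq => hGU q hq) c hc) 0
      (hE1 0 (by norm_num)) hK1
  have := (Groth.Agent.H21.LC.forall_subsingleton_iff_le_idealDepth J
    (EGA4.FibMod A B G) 1).mp (fun i hi => by
      have : i = 0 := by omega
      subst this
      exact hG0)
  exact_mod_cast this

include hf hfu huv hv in
/-- = S18726 -/
theorem main
    (hGU : ∀ q : PrimeSpectrum B, ¬ J ≤ q.asIdeal → FlatCA.FlatAt A q.asIdeal G)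
    (h0 : 2 ≤ idealDepth J (EGA4.FibMod A B E0)) (h1 : 1 ≤ idealDepth J (EGA4.FibMod A B E1))
    (hH2 : Subsingleton (LocCoh.H J 2 (EGA4.FibMod A B F))) :
    Module.Flat A F ∧ Module.Flat A G ∧ 2 ≤ idealDepth J (EGA4.FibMod A B F) := by
  have hG : Module.Flat A G := Groth.Agent.Lib.helper6.KolC.main A B J G hGU
    (depth_G_of_H2 A B J f u v hf hfu huv hv hGU h0 h1 hH2)
  exact ⟨(flat_of_flat_G A B f u v hf hfu huv hv).2, hG,
    depth_of_flat_G A B J f u v hf hfu huv hv h0 h1⟩

end Main

end Groth.Agent.Lib.helper6.KolF
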