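import Mathlib
import Groth.Agent.Lib.helper6.KosInv3

set_option maxHeartbeats 400000
set_option autoImplicit false
set_option linter.style.haveILetI false
set_option linter.unusedSectionVars false

/-! Flat base change of the first Koszul homology of a linear form. -/

namespace Groth.Agent.H6.KosFlat

open TensorProduct Groth.Agent.H6.KosInv IsLocalRing

universe u v

section BC

variable {A : Type u} [CommRing A] (B : Type u) [CommRing B] [Algebra A B]
variable {F : Type v} [AddCommGroup F] [Module A F] (ℓ : F →ₗ[A] A)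

/-- base change of a linear form -/
noncomputable def lB : B ⊗[A] F →ₗ[B] B :=
  LinearMap.liftBaseChange B ((Algebra.linearMap A B).comp ℓ)

lemma lB_tmul (b : B) (x : F) : lB B ℓ (b ⊗ₜ x) = b * algebraMap A B (ℓ x) := by
  simp [lB, LinearMap.liftBaseChange_tmul]

lemma lB_eq : lB B ℓ = (AlgebraTensorModule.rid A B B).toLinearMap ∘ₗ (ℓ.baseChange B) := by
  apply AlgebraTensorModule.ext
  intro b x
  rw [lB_tmul]
  simp [Algebra.smul_def, mul_comm]

lemma ker_lB [Module.Flat A B] :
    LinearMap.ker (lB B ℓ) = LinearMap.range ((LinearMap.ker ℓ).subtype.baseChange B) := by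
  rw [lB_eq, LinearEquiv.ker_comp]
  exact Module.Flat.ker_lTensor_eq B B ℓ

lemma T_lB : T (lB B ℓ) = LinearMap.range ((T ℓ).subtype.baseChange B) := by
  apply le_antisymm
  · unfold T
    rw [Submodule.span_le]
    rintro _ ⟨⟨u, v⟩, rfl⟩
    show lB B ℓ u • v - lB B ℓ v • u ∈ LinearMap.range ((T ℓ).subtype.baseChange B)
    induction u using TensorProduct.induction_on with
    | zero => simp
    | tmul b x =>
      induction v using TensorProduct.induction_on with
      | zero => simp
      | tmul b' y =>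
        refine ⟨(b * b') ⊗ₜ ⟨ℓ x • y - ℓ y • x, gen_mem_T ℓ x y⟩, ?_⟩
        rw [LinearMap.baseChange_tmul, lB_tmul, lB_tmul]
        simp only [Submodule.subtype_apply, tmul_sub, tmul_smul, smul_tmul', smul_eq_mul,
          Algebra.smul_def]
        congr 2 <;> ring
      | add v v' hv hv' =>
        have : lB B ℓ (b ⊗ₜ x) • (v + v') - lB B ℓ (v + v') • (b ⊗ₜ[A] x) =
            (lB B ℓ (b ⊗ₜ x) • v - lB B ℓ v • (b ⊗ₜ[A] x)) +
              (lB B ℓ (b ⊗ₜ x) • v' - lB B ℓ v' • (b ⊗ₜ[A] x)) := by
          rw [map_add, smul_add, add_smul]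
          abel
        rw [this]
        exact add_mem hv hv'
    | add u u' hu hu' =>
      have : lB B ℓ (u + u') • v - lB B ℓ v • (u + u') =
          (lB B ℓ u • v - lB B ℓ v • u) + (lB B ℓ u' • v - lB B ℓ v • u') := by
        rw [map_add, smul_add, add_smul]
        abel
      rw [this]
      exact add_mem hu hu'
  · rintro _ ⟨w, rfl⟩
    induction w using TensorProduct.induction_on with
    | zero => simp
    | tmul b t =>
      obtain ⟨t, ht⟩ := t
      show b ⊗ₜ[A] t ∈ T (lB B ℓ)
      induction ht using Submodule.span_induction with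
      | mem t ht =>
        obtain ⟨⟨x, y⟩, rfl⟩ := ht
        have h1 := (T (lB B ℓ)).smul_mem b
          (gen_mem_T (lB B ℓ) ((1 : B) ⊗ₜ[A] x) ((1 : B) ⊗ₜ[A] y))
        convert h1 using 1
        rw [lB_tmul, lB_tmul, one_mul, one_mul]
        simp only [tmul_sub, tmul_smul, smul_sub, smul_tmul', Algebra.smul_def,
          mul_one]
        simp only [Algebra.algebraMap_self, RingHom.id_apply]
        congr 2 <;> ring
      | zero => simp
      | add t t' _ _ h1 h2 =>
        rw [tmul_add]
        exact add_mem h1 h2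
      | smul a t _ h1 =>
        rw [tmul_smul, ← algebraMap_smul B a]
        exact (T (lB B ℓ)).smul_mem _ h1
    | add w w' hw hw' =>
      rw [map_add]
      exact add_mem hw hw'

end BC

section Main

variable {A : Type u} [CommRing A] (B : Type u) [CommRing B] [Algebra A B]
variable {F : Type v} [AddCommGroup F] [Module A F] (ℓ : F →ₗ[A] A)

/-- flat base change of `H` -/
theorem nonempty_H_lB_equiv [Module.Flat A B] :
    Nonempty (H (lB B ℓ) ≃ₗ[B] B ⊗[A] H ℓ) := by
  let j : T ℓ →ₗ[A] LinearMap.ker ℓ := Submodule.inclusion (T_le_ker ℓ)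
  let π : LinearMap.ker ℓ →ₗ[A] H ℓ := (TK ℓ).mkQ
  have hπ : Function.Surjective π := Submodule.mkQ_surjective _
  have hex : Function.Exact j π := by
    rw [LinearMap.exact_iff, Submodule.ker_mkQ, Submodule.range_inclusion]
    rfl
  have hexB : Function.Exact (j.baseChange B) (π.baseChange B) := lTensor_exact B hex hπ
  have hsurjB : Function.Surjective (π.baseChange B) := LinearMap.lTensor_surjective B hπ
  let e1 : ((B ⊗[A] LinearMap.ker ℓ) ⧸ LinearMap.ker (π.baseChange B)) ≃ₗ[B] B ⊗[A] H ℓ :=
    (π.baseChange B).quotKerEquivOfSurjective hsurjB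
  let Ψ : B ⊗[A] LinearMap.ker ℓ →ₗ[B] LinearMap.ker (lB B ℓ) :=
    LinearMap.codRestrict _ ((LinearMap.ker ℓ).subtype.baseChange B) (fun w => by
      rw [ker_lB]
      exact ⟨w, rfl⟩)
  have hΨi : Function.Injective Ψ := by
    intro w w' hww'
    have h1 : (LinearMap.ker ℓ).subtype.baseChange B w =
        (LinearMap.ker ℓ).subtype.baseChange B w' := congrArg Subtype.val hww'
    exact Module.Flat.lTensor_preserves_injective_linearMap (M := B) (LinearMap.ker ℓ).subtype
      (Submodule.subtype_injective _) h1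
  have hΨs : Function.Surjective Ψ := by
    rintro ⟨z, hz⟩
    rw [ker_lB] at hz
    obtain ⟨w, rfl⟩ := hz
    exact ⟨w, Subtype.ext rfl⟩
  let Ψe : (B ⊗[A] LinearMap.ker ℓ) ≃ₗ[B] LinearMap.ker (lB B ℓ) :=
    LinearEquiv.ofBijective Ψ ⟨hΨi, hΨs⟩
  have hcomp : ∀ w', (LinearMap.ker ℓ).subtype.baseChange B (j.baseChange B w') =
      (T ℓ).subtype.baseChange B w' := by
    intro w'
    induction w' using TensorProduct.induction_on with
    | zero => simp
    | tmul b t => rfl
    | add w w' hw hw' => rw [map_add, map_add, map_add, hw, hw']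
  have hmap : (LinearMap.ker (π.baseChange B)).map (Ψe : _ →ₗ[B] _) = TK (lB B ℓ) := by
    rw [LinearMap.exact_iff.mp hexB]
    ext ⟨z, hz⟩
    simp only [Submodule.mem_map, TK, Submodule.mem_comap, Submodule.subtype_apply]
    rw [T_lB]
    constructor
    · rintro ⟨w, ⟨w', rfl⟩, hw⟩
      have h1 : (LinearMap.ker ℓ).subtype.baseChange B (j.baseChange B w') = z :=
        congrArg Subtype.val hw
      rw [hcomp] at h1
      exact ⟨w', h1⟩
    · rintro ⟨w', rfl⟩
      refine ⟨j.baseChange B w', ⟨w', rfl⟩, Subtype.ext ?_⟩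
      exact hcomp w'
  let e2 : ((B ⊗[A] LinearMap.ker ℓ) ⧸ LinearMap.ker (π.baseChange B)) ≃ₗ[B] H (lB B ℓ) :=
    Submodule.Quotient.equiv _ _ Ψe hmap
  exact ⟨e2.symm.trans e1⟩

theorem h_lB [IsLocalRing A] [IsLocalRing B] [IsLocalHom (algebraMap A B)] [Module.Flat A B]
    (hm : (maximalIdeal A).map (algebraMap A B) = maximalIdeal B) : h (lB B ℓ) = h ℓ := by
  obtain ⟨e⟩ := nonempty_H_lB_equiv B ℓ
  unfold h
  rw [e.length_eq, IsLocalRing.length_baseChange A B (H ℓ), hm]
  have hlen : Module.length B (B ⧸ maximalIdeal B) = 1 := by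
    rw [Module.length_eq_one_iff, isSimpleModule_iff_isCoatom]
    exact (Ideal.isMaximal_def.mp (maximalIdeal.isMaximal B))
  rw [hlen, mul_one]

theorem h_lin_map [IsLocalRing A] [IsLocalRing B] [IsLocalHom (algebraMap A B)] [Module.Flat A B]
    (hm : (maximalIdeal A).map (algebraMap A B) = maximalIdeal B) {n : ℕ} (z : Fin n → A) :
    h (lin (fun i => algebraMap A B (z i))) = h (lin z) := by
  classical
  rw [← h_lB B (lin z) hm]
  symm
  apply h_eq_of_equiv (lB B (lin z)) (lin (fun i => algebraMap A B (z i)))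
    (TensorProduct.piScalarRight A B B (Fin n))
  intro a
  have key : (lin (fun i => algebraMap A B (z i))).comp
      (TensorProduct.piScalarRight A B B (Fin n)).toLinearMap = lB B (lin z) := by
    apply AlgebraTensorModule.ext
    intro b x
    rw [lB_tmul, lin_apply]
    simp only [LinearMap.coe_comp, LinearEquiv.coe_coe, Function.comp_apply,
      TensorProduct.piScalarRight_apply, TensorProduct.piScalarRightHom_tmul, lin_apply]
    rw [map_sum, Finset.mul_sum]
    refine Finset.sum_congr rfl fun i _ => ?_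
    rw [Algebra.smul_def, map_mul]
    ring
  exact LinearMap.congr_fun key a

end Main

end Groth.Agent.H6.KosFlat
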