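import Mathlib
import Groth.Agent.Lib.helper6.KosFlat
import Groth.Agent.Lib.helper6.CI2

set_option maxHeartbeats 400000
set_option autoImplicit false
set_option linter.style.haveILetI false
set_option linter.unusedSectionVars false

/-! Geometric depth is invariant under flat local maps with `m_A A' = m_A'`. -/

namespace Groth.Agent.H6.KosFlat

open TensorProduct Groth.Agent.H6.KosInv IsLocalRing Groth.Agent.Lib.helper6.CplMap

universe u

/-- the geometric depth computed from generators of the maximal ideal of `A` itself -/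
theorem spanFinrank_add (A : Type u) [CommRing A] [IsLocalRing A] [IsNoetherianRing A]
    (B : Type u) [CommRing B] [IsRegularLocalRing B] (I : Ideal B)
    (hpres : Nonempty (AdicCompletion (maximalIdeal A) A ≃+* B ⧸ I)) (e : ℕ)
    (he : ringKrullDim B = (e : WithBot ℕ∞)) {N : ℕ} (z : Fin N → A)
    (hz : Ideal.span (Set.range z) = maximalIdeal A) :
    (I.spanFinrank : ℕ∞) + N = h (lin z) + e := by
  classical
  obtain ⟨ε⟩ := hpres
  set C := AdicCompletion (maximalIdeal A) A with hC
  haveI : IsNoetherianRing C := isNoetherianRing_cpl A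
  have hne : maximalIdeal A ≠ ⊤ := (maximalIdeal.isMaximal A).ne_top
  haveI : IsLocalHom (algebraMap A C) := Groth.Agent.Lib.helper24.AdicLocal.isLocalHom A _ hne
  have hmC : (maximalIdeal A).map (algebraMap A C) = maximalIdeal C :=
    (AdicCompletion.maximalIdeal_eq_map).symm
  let f : B →+* C := (ε.symm : (B ⧸ I) →+* C).comp (Ideal.Quotient.mk I)
  have hf : Function.Surjective f := ε.symm.surjective.comp Ideal.Quotient.mk_surjective
  have hkf : RingHom.ker f = I := by
    have := RingHom.ker_equiv_comp (Ideal.Quotient.mk I) ε.symm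
    rw [Ideal.mk_ker] at this
    exact this
  obtain ⟨n, zC, hn, hzC, hh⟩ := by
    letI := f.toAlgebra
    exact exists_h_eq_spanFinrank (B := B) (A := C) hf e he
  have hzC' : Ideal.span (Set.range zC) = maximalIdeal C :=
    hzC.trans (IsLocalRing.map_maximalIdeal_of_surjective f hf)
  have hhI : h (lin zC) = (I.spanFinrank : ℕ∞) := by
    rw [hh]
    congr 2
  have hzhat : Ideal.span (Set.range fun i => algebraMap A C (z i)) = maximalIdeal C := by
    have h1 : (Ideal.span (Set.range z)).map (algebraMap A C) =
        Ideal.span (Set.range fun i => algebraMap A C (z i)) := by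
      rw [Ideal.map_span, ← Set.range_comp]
      rfl
    rw [← h1, hz]
    exact hmC
  have key := h_add_comm zC (fun i => algebraMap A C (z i)) (hzC'.trans hzhat.symm)
  have hlen : Module.length C (C ⧸ Ideal.span (Set.range zC)) = 1 := by
    rw [hzC', Module.length_eq_one_iff, isSimpleModule_iff_isCoatom]
    exact (Ideal.isMaximal_def.mp (maximalIdeal.isMaximal C))
  rw [hlen, mul_one, mul_one, hhI, hn, h_lin_map C hmC z] at key
  exact key

/-- S5179 -/
theorem main (A A' : Type u) [CommRing A] [IsLocalRing A] [IsNoetherianRing A] [CommRing A']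
    [IsLocalRing A'] [IsNoetherianRing A'] [Algebra A A'] [IsLocalHom (algebraMap A A')]
    [Module.Flat A A']
    (hmax : Ideal.map (algebraMap A A') (maximalIdeal A) = maximalIdeal A')
    (B B' : Type u) [CommRing B] [IsRegularLocalRing B] [CommRing B'] [IsRegularLocalRing B']
    (I : Ideal B) (I' : Ideal B')
    (hpres : Nonempty (AdicCompletion (maximalIdeal A) A ≃+* B ⧸ I))
    (hpres' : Nonempty (AdicCompletion (maximalIdeal A') A' ≃+* B' ⧸ I')) (e e' : ℕ)
    (he : ringKrullDim B = (e : WithBot ℕ∞)) (he' : ringKrullDim B' = (e' : WithBot ℕ∞)) :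
    (e : ℤ) - (I.spanFinrank : ℤ) = (e' : ℤ) - (I'.spanFinrank : ℤ) := by
  classical
  obtain ⟨xs, hxs1, hxs2⟩ := Groth.Agent.H6.CIReg.exists_list_ofList_eq (maximalIdeal A)
  let z : Fin xs.length → A := xs.get
  have hz : Ideal.span (Set.range z) = maximalIdeal A := by
    rw [← hxs1]
    unfold Ideal.ofList
    congr 1
    ext y
    simp [z, List.mem_iff_get]
  have hz' : Ideal.span (Set.range fun i => algebraMap A A' (z i)) = maximalIdeal A' := by
    rw [← hmax, ← hz, Ideal.map_span, ← Set.range_comp]
    rfl
  have h1 := spanFinrank_add A B I hpres e he z hz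
  have h2 := spanFinrank_add A' B' I' hpres' e' he' (fun i => algebraMap A A' (z i)) hz'
  rw [h_lin_map A' hmax z] at h2
  have hfin : h (lin z) ≠ ⊤ := by
    intro htop
    rw [htop, top_add] at h1
    exact ENat.natCast_ne_top _ (by exact_mod_cast h1 : ((I.spanFinrank + xs.length : ℕ) : ℕ∞) = ⊤)
  obtain ⟨r, hr⟩ := ENat.ne_top_iff_exists.mp hfin
  rw [← hr] at h1 h2
  have h1' : I.spanFinrank + xs.length = r + e := by exact_mod_cast h1
  have h2' : I'.spanFinrank + xs.length = r + e' := by exact_mod_cast h2
  omega

end Groth.Agent.H6.KosFlat
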