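import Mathlib
import Groth.Prelude

/-!
# Koszul complex of `(x f₁, …, x fₙ)` as the Koszul complex of `f` with scaled differentials
-/

set_option autoImplicit false
set_option maxHeartbeats 400000
set_option linter.style.haveILetI false
set_option linter.unusedSectionVars false

namespace Groth.Agent.H6.KosScale

open CategoryTheory CategoryTheory.Limits CochainComplex HomologicalComplex
open CochainComplex.HomComplex

universe u
variable {A : Type u} [CommRing A]

/-- The complex with the same terms and differential scaled by `x`. -/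
noncomputable abbrev scl (x : A) (K : CochainComplex (ModuleCat.{u} A) ℤ) :
    CochainComplex (ModuleCat.{u} A) ℤ where
  X := K.X
  d i j := x • K.d i j
  shape i j h := by rw [K.shape i j h, smul_zero]
  d_comp_d' i j k _ _ := by
    rw [Linear.smul_comp, Linear.comp_smul, K.d_comp_d, smul_zero, smul_zero]

/-- The induced map between scaled complexes. -/
noncomputable abbrev sclMap (x : A) {K L : CochainComplex (ModuleCat.{u} A) ℤ} (φ : K ⟶ L) :
    scl x K ⟶ scl x L where
  f := φ.f
  comm' i j _ := by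
    show φ.f i ≫ (x • L.d i j) = (x • K.d i j) ≫ φ.f j
    rw [Linear.comp_smul, Linear.smul_comp, φ.comm]

variable {K L : CochainComplex (ModuleCat.{u} A) ℤ}

section Cone

variable (x : A) (φ : K ⟶ L) (ψ : scl x K ⟶ scl x L) (hψ : ∀ n, ψ.f n = x • φ.f n)

/-- Component of the comparison. -/
noncomputable def cHom (n : ℤ) : (mappingCone ψ).X n ⟶ (mappingCone φ).X n :=
  (mappingCone.fst ψ).1.v n (n + 1) rfl ≫ (mappingCone.inl φ).v (n + 1) n (by omega) +
    (mappingCone.snd ψ).v n n (add_zero n) ≫ (mappingCone.inr φ).f n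

/-- Component of the inverse comparison. -/
noncomputable def cInv (n : ℤ) : (mappingCone φ).X n ⟶ (mappingCone ψ).X n :=
  (mappingCone.fst φ).1.v n (n + 1) rfl ≫ (mappingCone.inl ψ).v (n + 1) n (by omega) +
    (mappingCone.snd φ).v n n (add_zero n) ≫ (mappingCone.inr ψ).f n

lemma cHom_cInv (n : ℤ) : cHom x φ ψ n ≫ cInv x φ ψ n = 𝟙 _ := by
  simp only [cHom, cInv, Preadditive.add_comp, Preadditive.comp_add, Category.assoc,
    mappingCone.inl_v_fst_v_assoc, mappingCone.inl_v_snd_v_assoc, mappingCone.inr_f_fst_v_assoc,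
    mappingCone.inr_f_snd_v_assoc, zero_comp, comp_zero, add_zero, zero_add]
  exact mappingCone.id_X ψ n (n + 1) rfl

lemma cInv_cHom (n : ℤ) : cInv x φ ψ n ≫ cHom x φ ψ n = 𝟙 _ := by
  simp only [cHom, cInv, Preadditive.add_comp, Preadditive.comp_add, Category.assoc,
    mappingCone.inl_v_fst_v_assoc, mappingCone.inl_v_snd_v_assoc, mappingCone.inr_f_fst_v_assoc,
    mappingCone.inr_f_snd_v_assoc, zero_comp, comp_zero, add_zero, zero_add]
  exact mappingCone.id_X φ n (n + 1) rfl

lemma cHom_fst (n : ℤ) : cHom x φ ψ n ≫ (mappingCone.fst φ).1.v n (n + 1) rfl =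
    (mappingCone.fst ψ).1.v n (n + 1) rfl := by
  simp [cHom]

lemma cHom_snd (n : ℤ) : cHom x φ ψ n ≫ (mappingCone.snd φ).v n n (add_zero n) =
    (mappingCone.snd ψ).v n n (add_zero n) := by
  simp [cHom]

include hψ in
lemma cHom_comm (i : ℤ) :
    cHom x φ ψ i ≫ (x • (mappingCone φ).d i (i + 1)) =
      (mappingCone ψ).d i (i + 1) ≫ cHom x φ ψ (i + 1) := by
  apply mappingCone.ext_to φ (i + 1) (i + 1 + 1) rfl
  · rw [Category.assoc, Category.assoc, cHom_fst, Linear.smul_comp,
      mappingCone.d_fst_v φ i (i + 1) (i + 1 + 1) rfl rfl,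
      mappingCone.d_fst_v ψ i (i + 1) (i + 1 + 1) rfl rfl, Linear.comp_smul,
      Preadditive.comp_neg, ← Category.assoc, cHom_fst]
    show x • -((mappingCone.fst ψ).1.v i (i + 1) rfl ≫ K.d (i + 1) (i + 1 + 1)) =
      -((mappingCone.fst ψ).1.v i (i + 1) rfl ≫ (x • K.d (i + 1) (i + 1 + 1)))
    rw [Linear.comp_smul, smul_neg]
  · rw [Category.assoc, Category.assoc, cHom_snd, Linear.smul_comp,
      mappingCone.d_snd_v φ i (i + 1) rfl, mappingCone.d_snd_v ψ i (i + 1) rfl,
      Linear.comp_smul, Preadditive.comp_add, ← Category.assoc, cHom_fst, ← Category.assoc,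
      cHom_snd, hψ]
    show x • ((mappingCone.fst ψ).1.v i (i + 1) rfl ≫ φ.f (i + 1) +
        (mappingCone.snd ψ).v i i (add_zero i) ≫ L.d i (i + 1)) =
      (mappingCone.fst ψ).1.v i (i + 1) rfl ≫ (x • φ.f (i + 1)) +
        (mappingCone.snd ψ).v i i (add_zero i) ≫ (x • L.d i (i + 1))
    rw [Linear.comp_smul, Linear.comp_smul, smul_add]

include hψ in
/-- `cone ψ ≅ scl x (cone φ)` when `ψ = x • φ` componentwise. -/
lemma nonempty_cone_iso : Nonempty (mappingCone ψ ≅ scl x (mappingCone φ)) := by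
  refine ⟨HomologicalComplex.Hom.isoOfComponents
    (fun n => ⟨cHom x φ ψ n, cInv x φ ψ n, cHom_cInv x φ ψ n, cInv_cHom x φ ψ n⟩) ?_⟩
  intro i j hij
  have hj : j = i + 1 := hij.symm
  subst hj
  exact cHom_comm x φ ψ hψ i

end Cone

lemma map_eq_id (φ : K ⟶ L) (a : K ⟶ K) (b : L ⟶ L) (comm : φ ≫ b = a ≫ φ)
    (ha : a = 𝟙 _) (hb : b = 𝟙 _) : mappingCone.map φ φ a b comm = 𝟙 _ := by
  subst ha hb
  exact mappingCone.map_id φ

/-- Cones of `a • 𝟙` on isomorphic complexes are isomorphic. -/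
lemma nonempty_cone_smul_iso {K K' : CochainComplex (ModuleCat.{u} A) ℤ} (e : K ≅ K') (a : A) :
    Nonempty (mappingCone (a • 𝟙 K) ≅ mappingCone (a • 𝟙 K')) := by
  have c1 : (a • 𝟙 K) ≫ e.hom = e.hom ≫ (a • 𝟙 K') := by
    rw [Linear.smul_comp, Linear.comp_smul, Category.id_comp, Category.comp_id]
  have c2 : (a • 𝟙 K') ≫ e.inv = e.inv ≫ (a • 𝟙 K) := by
    rw [Linear.smul_comp, Linear.comp_smul, Category.id_comp, Category.comp_id]
  refine ⟨⟨mappingCone.map _ _ e.hom e.hom c1, mappingCone.map _ _ e.inv e.inv c2, ?_, ?_⟩⟩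
  · rw [← mappingCone.map_comp]
    exact map_eq_id _ _ _ _ e.hom_inv_id e.hom_inv_id
  · rw [← mappingCone.map_comp]
    exact map_eq_id _ _ _ _ e.inv_hom_id e.inv_hom_id

/-- `K(x f) ≅ scl x K(f)`. -/
theorem nonempty_koszul_iso (x : A) : ∀ l : List A,
    Nonempty (Koszul.koszul A (l.map (fun f => x * f)) ≅ scl x (Koszul.koszul A l))
  | [] => by
    refine ⟨HomologicalComplex.Hom.isoOfComponents (fun n => Iso.refl _) ?_⟩
    intro i j _
    show 𝟙 _ ≫ (x • (Koszul.koszul A []).d i j) = (Koszul.koszul A []).d i j ≫ 𝟙 _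
    have h : (Koszul.koszul A []).d i j = 0 := by
      simp [Koszul.koszul]
      rfl
    rw [h, smul_zero, Category.id_comp, zero_comp]
  | f :: l => by
    obtain ⟨e⟩ := nonempty_koszul_iso x l
    obtain ⟨e1⟩ := nonempty_cone_smul_iso e (x * f)
    obtain ⟨e2⟩ := nonempty_cone_iso x (f • 𝟙 (Koszul.koszul A l))
      ((x * f) • 𝟙 (scl x (Koszul.koszul A l))) (by
        intro n
        show (x * f) • 𝟙 _ = x • (f • 𝟙 _)
        rw [smul_smul])
    exact ⟨e1 ≪≫ e2⟩

section Reg

lemma cone_X_reg (x : A) {K L : CochainComplex (ModuleCat.{u} A) ℤ} (φ : K ⟶ L) (n : ℤ)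
    (hK : ∀ v : K.X (n + 1), x • v = 0 → v = 0) (hL : ∀ v : L.X n, x • v = 0 → v = 0)
    (v : (mappingCone φ).X n) (hv : x • v = 0) : v = 0 := by
  have ha : ((mappingCone.fst φ).1.v n (n + 1) rfl).hom v = 0 := by
    apply hK
    have := congrArg ((mappingCone.fst φ).1.v n (n + 1) rfl).hom hv
    rwa [map_smul, map_zero] at this
  have hb : ((mappingCone.snd φ).v n n (add_zero n)).hom v = 0 := by
    apply hL
    have := congrArg ((mappingCone.snd φ).v n n (add_zero n)).hom hv
    rwa [map_smul, map_zero] at this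
  have hid := mappingCone.id_X φ n (n + 1) rfl
  have h1 := congrArg (fun t => t.hom v) hid
  change ((mappingCone.inl φ).v (n + 1) n (by omega)).hom
      (((mappingCone.fst φ).1.v n (n + 1) rfl).hom v) +
    ((mappingCone.inr φ).f n).hom (((mappingCone.snd φ).v n n (add_zero n)).hom v) = v at h1
  rw [ha, hb, map_zero, map_zero, add_zero] at h1
  exact h1.symm

/-- `x` is a nonzerodivisor on every term of the Koszul complex. -/
theorem koszul_X_reg (x : A) (hx : x ∈ nonZeroDivisors A) :
    ∀ (l : List A) (n : ℤ) (v : (Koszul.koszul A l).X n), x • v = 0 → v = 0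
  | [], n, v, hv => by
    by_cases hn : n = 0
    · subst hn
      let e : (Koszul.koszul A []).X 0 ≅ ModuleCat.of A A :=
        HomologicalComplex.singleObjXSelf (ComplexShape.up ℤ) 0 (ModuleCat.of A A)
      have h1 : x • e.hom.hom v = 0 := by rw [← map_smul, hv, map_zero]
      have h2 : e.hom.hom v = 0 := (mul_left_mem_nonZeroDivisors_eq_zero_iff hx).1 h1
      have h3 : e.inv.hom (e.hom.hom v) = v := by
        have := congrArg (fun t => t.hom v) e.hom_inv_id
        exact this
      rw [← h3, h2, map_zero]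
    · have hz : IsZero ((Koszul.koszul A []).X n) :=
        HomologicalComplex.isZero_single_obj_X (ComplexShape.up ℤ) 0 _ n hn
      have := ModuleCat.subsingleton_of_isZero hz
      exact Subsingleton.elim _ _
  | f :: l, n, v, hv => by
    have ih := koszul_X_reg x hx l
    exact cone_X_reg x (f • 𝟙 (Koszul.koszul A l)) n (ih (n + 1)) (ih n) v hv

end Reg

/-- The homology of the scaled complex. -/
theorem nonempty_homology_scl (x : A) (K : CochainComplex (ModuleCat.{u} A) ℤ) (q : ℤ)
    (hreg : ∀ v : K.X (q + 1), x • v = 0 → v = 0) :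
    Nonempty ((scl x K).homology q ≅
      ModuleCat.of A (↥(LinearMap.ker (K.d q (q + 1)).hom) ⧸
        Submodule.comap (LinearMap.ker (K.d q (q + 1)).hom).subtype
          (Ideal.span {x} • LinearMap.range (K.d (q - 1) q).hom))) := by
  let S := (scl x K).sc' (q - 1) q (q + 1)
  have e1 : (scl x K).homology q ≅ S.homology :=
    (scl x K).homologyIsoSc' (q - 1) q (q + 1) (by simp) (by simp)
  have e2 : S.homology ≅ S.moduleCatLeftHomologyData.H := S.moduleCatHomologyIso
  have hker : LinearMap.ker S.g.hom = LinearMap.ker (K.d q (q + 1)).hom := by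
    ext z
    show x • (K.d q (q + 1)).hom z = 0 ↔ (K.d q (q + 1)).hom z = 0
    constructor
    · intro h
      exact hreg _ h
    · intro h
      rw [h, smul_zero]
  let f : ↥(LinearMap.ker S.g.hom) ≃ₗ[A] ↥(LinearMap.ker (K.d q (q + 1)).hom) :=
    LinearEquiv.ofEq _ _ hker
  have e3 : (↥(LinearMap.ker S.g.hom) ⧸ LinearMap.range S.moduleCatToCycles) ≃ₗ[A]
      (↥(LinearMap.ker (K.d q (q + 1)).hom) ⧸
        Submodule.comap (LinearMap.ker (K.d q (q + 1)).hom).subtype
          (Ideal.span {x} • LinearMap.range (K.d (q - 1) q).hom)) :=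
    Submodule.Quotient.equiv _ _ f (by
      ext ⟨z, hz⟩
      simp only [Submodule.mem_map, LinearMap.mem_range, Submodule.mem_comap,
        Submodule.subtype_apply]
      rw [Submodule.ideal_span_singleton_smul, Submodule.mem_smul_pointwise_iff_exists]
      constructor
      · rintro ⟨w, ⟨y, rfl⟩, hw⟩
        refine ⟨(K.d (q - 1) q).hom y, ⟨y, rfl⟩, ?_⟩
        exact congrArg Subtype.val hw
      · rintro ⟨_, ⟨y, rfl⟩, hy⟩
        exact ⟨S.moduleCatToCycles y, ⟨y, rfl⟩, Subtype.ext hy⟩)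
  exact ⟨e1 ≪≫ e2 ≪≫ e3.toModuleIso⟩

/-- The homology of the Koszul complex of `(x f₁, …, x fₙ)` for a nonzerodivisor `x`. -/
theorem main (l : List A) (x : A) (hx : x ∈ nonZeroDivisors A) (q : ℤ) :
    Nonempty ((Koszul.koszul A (l.map (fun f => x * f))).homology q ≅
      ModuleCat.of A (↥(LinearMap.ker ((Koszul.koszul A l).d q (q + 1)).hom) ⧸
        Submodule.comap (LinearMap.ker ((Koszul.koszul A l).d q (q + 1)).hom).subtype
          (Ideal.span {x} • LinearMap.range ((Koszul.koszul A l).d (q - 1) q).hom))) := by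
  obtain ⟨e⟩ := nonempty_koszul_iso x l
  obtain ⟨e'⟩ := nonempty_homology_scl x (Koszul.koszul A l) q (koszul_X_reg x hx l (q + 1))
  exact ⟨(HomologicalComplex.homologyFunctor _ _ q).mapIso e ≪≫ e'⟩

end Groth.Agent.H6.KosScale
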