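import Mathlib
import Groth.Prelude
import Groth.Agent.Lib.helper6.KosScale
import Groth.Agent.Lib.helper21.Kos5

/-!
# Koszul homology of `(x f₁, …, x fₙ)` for a weakly regular sequence `f`
-/

set_option autoImplicit false
set_option maxHeartbeats 400000
set_option linter.style.haveILetI false
set_option linter.unusedSectionVars false

namespace Groth.Agent.H6.KosScale

open CategoryTheory CategoryTheory.Limits CochainComplex HomologicalComplex TensorProduct

universe u
variable {A : Type u} [CommRing A]

lemma koszul_eq (l : List A) :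
    Koszul.koszul A l = CohIII.koszulCx (ModuleCat.of A A) l := by
  induction l with
  | nil => rfl
  | cons f l ih =>
    show CochainComplex.mappingCone (f • 𝟙 (Koszul.koszul A l)) =
      CochainComplex.mappingCone (f • 𝟙 (CohIII.koszulCx (ModuleCat.of A A) l))
    rw [ih]

/-- Exactness of the Koszul complex of a weakly regular sequence away from degree `0`. -/
theorem range_eq_ker (l : List A) (hl : RingTheory.Sequence.IsWeaklyRegular A l) (q : ℤ)
    (hq : q ≠ 0) :
    LinearMap.range ((Koszul.koszul A l).d (q - 1) q).hom =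
      LinearMap.ker ((Koszul.koszul A l).d q (q + 1)).hom := by
  have hz : IsZero ((Koszul.koszul A l).homology q) := by
    rw [koszul_eq]
    exact Groth.Agent.H21.Kos.isZero_homology_of_weaklyRegular l A hl q hq
  rw [← HomologicalComplex.exactAt_iff_isZero_homology,
    HomologicalComplex.exactAt_iff' _ (q - 1) q (q + 1) (by simp) (by simp)] at hz
  exact (ShortComplex.moduleCat_exact_iff_range_eq_ker _).1 hz

lemma comap_smul_self {M : Type u} [AddCommGroup M] [Module A M] (Z : Submodule A M) (x : A) :
    Submodule.comap Z.subtype (Ideal.span {x} • Z) = Ideal.span {x} • (⊤ : Submodule A Z) := by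
  ext ⟨z, hz⟩
  rw [Submodule.mem_comap, Submodule.ideal_span_singleton_smul,
    Submodule.ideal_span_singleton_smul, Submodule.mem_smul_pointwise_iff_exists,
    Submodule.mem_smul_pointwise_iff_exists]
  constructor
  · rintro ⟨w, hw, h⟩
    exact ⟨⟨w, hw⟩, trivial, Subtype.ext h⟩
  · rintro ⟨w, -, h⟩
    exact ⟨w.1, w.2, congrArg Subtype.val h⟩

/-- `H^q(K(x f)) ≅ ker ∂^q ⊗ A/(x)` for `q < 0` and `f` weakly regular. -/
theorem main2 (l : List A) (hl : RingTheory.Sequence.IsWeaklyRegular A l) (x : A)
    (hx : x ∈ nonZeroDivisors A) (q : ℤ) (hq : q < 0) :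
    Nonempty ((Koszul.koszul A (l.map (fun f => x * f))).homology q ≅
      ModuleCat.of A (↥(LinearMap.ker ((Koszul.koszul A l).d q (q + 1)).hom) ⊗[A]
        (A ⧸ Ideal.span {x}))) := by
  obtain ⟨e⟩ := main l x hx q
  have hBZ := range_eq_ker l hl q (by omega)
  have hsub : Submodule.comap (LinearMap.ker ((Koszul.koszul A l).d q (q + 1)).hom).subtype
      (Ideal.span {x} • LinearMap.range ((Koszul.koszul A l).d (q - 1) q).hom) =
      Ideal.span {x} • (⊤ : Submodule A ↥(LinearMap.ker ((Koszul.koszul A l).d q (q + 1)).hom)) := by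
    rw [hBZ]
    exact comap_smul_self _ x
  have e2 : (↥(LinearMap.ker ((Koszul.koszul A l).d q (q + 1)).hom) ⧸
      Submodule.comap (LinearMap.ker ((Koszul.koszul A l).d q (q + 1)).hom).subtype
        (Ideal.span {x} • LinearMap.range ((Koszul.koszul A l).d (q - 1) q).hom)) ≃ₗ[A]
      (↥(LinearMap.ker ((Koszul.koszul A l).d q (q + 1)).hom) ⊗[A] (A ⧸ Ideal.span {x})) :=
    (Submodule.quotEquivOfEq _ _ hsub) ≪≫ₗ
      (TensorProduct.tensorQuotEquivQuotSMul _ (Ideal.span {x})).symm
  exact ⟨e ≪≫ e2.toModuleIso⟩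

end Groth.Agent.H6.KosScale
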