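import Mathlib

/-! Multivariate McCoy theorem and flatness of `A[T]/(f)` for primitive `f`. -/

namespace Groth.Agent.Lib.helper6.McCoy

open Polynomial

universe u v

/-- Kronecker combination of a list of univariate polynomials. -/
theorem exists_comb {B : Type u} [CommRing B] (l : List B[X]) :
    ∃ H : B[X], (∀ b : B[X], (∀ F ∈ l, b * F = 0) → b * H = 0) ∧
      (∀ c : B, c • H = 0 → ∀ F ∈ l, c • F = 0) := by
  induction l with
  | nil => exact ⟨0, fun b _ => mul_zero b, fun c _ F hF => by simp at hF⟩
  | cons F l ih =>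
    obtain ⟨H', h1, h2⟩ := ih
    refine ⟨F + X ^ (F.natDegree + 1) * H', ?_, ?_⟩
    · intro b hb
      rw [mul_add, hb F List.mem_cons_self, zero_add, mul_left_comm,
        h1 b (fun G hG => hb G (List.mem_cons_of_mem _ hG)), mul_zero]
    · intro c hc
      have hF : c • F = 0 := by
        ext i
        rw [coeff_smul, coeff_zero]
        by_cases hi : i < F.natDegree + 1
        · have := congrArg (fun p => p.coeff i) hc
          simp only [smul_add, coeff_add, coeff_smul, coeff_zero] at this
          rw [coeff_X_pow_mul', if_neg (not_le.2 hi), smul_zero, add_zero] at this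
          exact this
        · rw [coeff_eq_zero_of_natDegree_lt (by omega), smul_zero]
      have hH : c • H' = 0 := by
        rw [smul_add, hF, zero_add, smul_eq_C_mul, mul_left_comm, ← smul_eq_C_mul,
          mul_comm] at hc
        exact mul_X_pow_eq_zero hc
      intro G hG
      rcases List.mem_cons.1 hG with rfl | hG
      · exact hF
      · exact h2 c hH G hG

/-- McCoy's theorem for finitely many multivariate polynomials. -/
theorem mccoy_list : ∀ (n : ℕ) (A : Type u) [CommRing A] (l : List (MvPolynomial (Fin n) A))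
    (b : MvPolynomial (Fin n) A),
    (∀ F ∈ l, b * F = 0) → (∀ a : A, (∀ F ∈ l, a • F = 0) → a = 0) → b = 0 := by
  intro n
  induction n with
  | zero =>
    intro A _ l b hb ha
    have hbC : b = MvPolynomial.C (MvPolynomial.isEmptyAlgEquiv A (Fin 0) b) := by
      rw [← MvPolynomial.isEmptyAlgEquiv_symm_apply, AlgEquiv.symm_apply_apply]
    have := ha (MvPolynomial.isEmptyAlgEquiv A (Fin 0) b) (fun F hF => by
      rw [MvPolynomial.smul_eq_C_mul, ← hbC]; exact hb F hF)
    rw [hbC, this, map_zero]
  | succ n ih =>
    intro A _ l b hb ha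
    set e := MvPolynomial.finSuccEquiv A n with he
    obtain ⟨H, h1, h2⟩ := exists_comb (l.map e)
    have hbH : e b * H = 0 := h1 (e b) (by
      intro F' hF'
      obtain ⟨F, hF, rfl⟩ := List.mem_map.1 hF'
      rw [← map_mul, hb F hF, map_zero])
    have hH : H ∈ nonZeroDivisors (Polynomial (MvPolynomial (Fin n) A)) := by
      rw [Polynomial.mem_nonZeroDivisors_iff]
      intro c hc
      have hcF := h2 c hc
      apply ih A (l.flatMap (fun F => (List.range ((e F).natDegree + 1)).map
        (fun i => (e F).coeff i))) c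
      · intro G hG
        obtain ⟨F, hF, hG⟩ := List.mem_flatMap.1 hG
        obtain ⟨i, -, rfl⟩ := List.mem_map.1 hG
        have := hcF (e F) (List.mem_map_of_mem hF)
        have := congrArg (fun p => p.coeff i) this
        simpa [coeff_smul] using this
      · intro a haG
        apply ha a
        intro F hF
        apply e.injective
        rw [map_smul, map_zero]
        ext i : 1
        rw [coeff_smul, coeff_zero]
        by_cases hi : i < (e F).natDegree + 1
        · exact haG _ (List.mem_flatMap.2 ⟨F, hF, List.mem_map.2 ⟨i, List.mem_range.2 hi, rfl⟩⟩)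
        · rw [coeff_eq_zero_of_natDegree_lt (by omega), smul_zero]
    have : e b = 0 := mem_nonZeroDivisors_iff_right.1 hH _ hbH
    exact e.injective (by rw [this, map_zero])

/-- A primitive multivariate polynomial is a non-zero-divisor. -/
theorem mem_nonZeroDivisors_of_span_coeff {A : Type u} [CommRing A] {n : ℕ}
    (f : MvPolynomial (Fin n) A) (hf : Ideal.span (Set.range f.coeff) = ⊤) :
    f ∈ nonZeroDivisors (MvPolynomial (Fin n) A) := by
  rw [mem_nonZeroDivisors_iff_right]
  intro b hb
  apply mccoy_list n A [f] b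
  · intro F hF
    rw [List.mem_singleton] at hF
    subst hF; exact hb
  · intro a ha
    have h1 := ha f (List.mem_singleton.2 rfl)
    have hle : Ideal.span (Set.range f.coeff) ≤ (Ideal.span {a}).annihilator := by
      rw [Ideal.span_le]
      rintro _ ⟨m, rfl⟩
      rw [SetLike.mem_coe, Submodule.mem_annihilator_span_singleton, smul_eq_mul, mul_comm]
      have := congrArg (MvPolynomial.coeff m) h1
      simpa [MvPolynomial.coeff_smul] using this
    have : (1 : A) ∈ (Ideal.span {a}).annihilator := hle (hf ▸ Submodule.mem_top)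
    rw [Submodule.mem_annihilator_span_singleton, one_smul] at this
    exact this

/-- Flatness of a quotient `B/(f)` of a flat algebra, from ideal-wise regularity. -/
theorem flat_quotient_span_singleton {A : Type u} [CommRing A] {B : Type v} [CommRing B]
    [Algebra A B] [Module.Flat A B] (f : B)
    (h : ∀ I : Ideal A, ∀ p : B, f * p ∈ I.map (algebraMap A B) → p ∈ I.map (algebraMap A B)) :
    Module.Flat A (B ⧸ Ideal.span ({f} : Set B)) := by
  classical
  rw [Module.Flat.iff_rTensor_injective']
  intro I
  set J : Ideal B := Ideal.span ({f} : Set B) with hJ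
  set π : B →ₗ[A] (B ⧸ J) := (Ideal.Quotient.mkₐ A J).toLinearMap with hπ
  have hπs : Function.Surjective π := Ideal.Quotient.mkₐ_surjective A J
  -- `β = lid ∘ (I ⊗ B → A ⊗ B)`
  set β : TensorProduct A I B →ₗ[A] B :=
    (TensorProduct.lid A B).toLinearMap ∘ₗ LinearMap.rTensor B I.subtype with hβ
  have hβt : ∀ (i : I) (x : B), β (i ⊗ₜ x) = (i : A) • x := by
    intro i x; simp [hβ]
  have hβinj : Function.Injective β := by
    rw [hβ]
    exact (TensorProduct.lid A B).injective.comp
      (Module.Flat.rTensor_preserves_injective_linearMap I.subtype Subtype.val_injective)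
  have hβmem : ∀ z, β z ∈ I.map (algebraMap A B) := by
    intro z
    induction z using TensorProduct.induction_on with
    | zero => rw [map_zero]; exact Submodule.zero_mem _
    | tmul i x =>
      rw [hβt, Algebra.smul_def]
      exact Ideal.mul_mem_right _ _ (Ideal.mem_map_of_mem _ i.2)
    | add a b ha hb => rw [map_add]; exact Submodule.add_mem _ ha hb
  have hβsurj : ∀ p ∈ I.map (algebraMap A B), ∃ w, β w = p := by
    intro p hp
    have hp' : p ∈ (I • (⊤ : Submodule A B)) := by
      rw [Ideal.smul_top_eq_map]; exact hp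
    refine Submodule.smul_induction_on (p := fun p => ∃ w, β w = p) hp' ?_ ?_
    · intro i hi x _
      exact ⟨(⟨i, hi⟩ : I) ⊗ₜ x, hβt _ _⟩
    · rintro x y ⟨wx, hwx⟩ ⟨wy, hwy⟩
      exact ⟨wx + wy, by rw [map_add, hwx, hwy]⟩
  set μ : B →ₗ[A] B := LinearMap.mulLeft A f with hμ
  have hβμ : ∀ w, β (LinearMap.lTensor I μ w) = f * β w := by
    intro w
    induction w using TensorProduct.induction_on with
    | zero => simp
    | tmul i x =>
      rw [LinearMap.lTensor_tmul, hβt, hβt, hμ, LinearMap.mulLeft_apply, mul_smul_comm]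
    | add a b ha hb => rw [map_add, map_add, ha, hb, map_add, mul_add]
  have hπμ : π ∘ₗ μ = 0 := by
    ext x
    simp only [LinearMap.comp_apply, LinearMap.zero_apply, hμ, LinearMap.mulLeft_apply, hπ,
      AlgHom.toLinearMap_apply, Ideal.Quotient.mkₐ_eq_mk]
    rw [Ideal.Quotient.eq_zero_iff_mem]
    exact Ideal.mul_mem_right _ _ (Ideal.subset_span rfl)
  have hsq : ∀ z' : TensorProduct A I B, (TensorProduct.lid A (B ⧸ J))
      (LinearMap.rTensor (B ⧸ J) I.subtype (LinearMap.lTensor I π z')) = π (β z') := by
    intro z'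
    induction z' using TensorProduct.induction_on with
    | zero => simp
    | tmul i x => simp [hβt]
    | add a b ha hb => simp only [map_add, ha, hb]
  rw [injective_iff_map_eq_zero]
  intro z hz
  obtain ⟨z', rfl⟩ := LinearMap.lTensor_surjective I hπs z
  have hsq := hsq z'
  rw [hz, map_zero] at hsq
  have hmemJ : β z' ∈ J := by
    rw [← Ideal.Quotient.eq_zero_iff_mem]
    exact hsq.symm
  obtain ⟨p, hp⟩ := Ideal.mem_span_singleton'.1 hmemJ
  have hfp : f * p ∈ I.map (algebraMap A B) := by
    rw [mul_comm, hp]; exact hβmem z'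
  obtain ⟨w, hw⟩ := hβsurj p (h I p hfp)
  have : LinearMap.lTensor I μ w = z' := by
    apply hβinj
    rw [hβμ, hw, mul_comm, hp]
  rw [← this, ← LinearMap.comp_apply, ← LinearMap.lTensor_comp, hπμ, LinearMap.lTensor_zero,
    LinearMap.zero_apply]

/-- A primitive polynomial `f ∈ A[T₁,…,Tₙ]` is a non-zero-divisor and `A[T]/(f)` is `A`-flat. -/
theorem main (A : Type u) [CommRing A] (n : ℕ)
    (f : MvPolynomial (Fin n) A) (hf : Ideal.span (Set.range f.coeff) = ⊤) :
    f ∈ nonZeroDivisors (MvPolynomial (Fin n) A) ∧
      Module.Flat A (MvPolynomial (Fin n) A ⧸ Ideal.span ({f} : Set (MvPolynomial (Fin n) A))) := by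
  refine ⟨mem_nonZeroDivisors_of_span_coeff f hf, ?_⟩
  apply flat_quotient_span_singleton
  intro I p hfp
  set φ : MvPolynomial (Fin n) A →+* MvPolynomial (Fin n) (A ⧸ I) :=
    MvPolynomial.map (Ideal.Quotient.mk I) with hφ
  have hker : RingHom.ker φ = I.map (algebraMap A (MvPolynomial (Fin n) A)) := by
    rw [hφ, MvPolynomial.ker_map, Ideal.mk_ker]
    rfl
  rw [← hker, RingHom.mem_ker] at hfp ⊢
  rw [map_mul] at hfp
  have hprim : Ideal.span (Set.range (φ f).coeff) = ⊤ := by
    have : Set.range (φ f).coeff = (Ideal.Quotient.mk I) '' (Set.range f.coeff) := by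
      ext r
      simp only [Set.mem_range, Set.mem_image, exists_exists_eq_and, hφ, MvPolynomial.coeff_map]
    rw [this, ← Ideal.map_span, hf, Ideal.map_top]
  have hnzd := mem_nonZeroDivisors_of_span_coeff (φ f) hprim
  exact mem_nonZeroDivisors_iff_right.1 hnzd _ (by rw [mul_comm]; exact hfp)

end Groth.Agent.Lib.helper6.McCoy
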