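import Mathlib

/-!
# Morphisms of monads and their cohomology (Okonek–Schneider–Spindler II.4.1.3)
-/

set_option linter.style.haveILetI false
set_option linter.unusedSectionVars false

namespace Groth.Agent.Lib.helper6.Monad

open CategoryTheory CategoryTheory.Limits Abelian

universe u v w

variable {C : Type u} [Category.{v} C] [Abelian C] [HasExt.{w} C]

section

variable (M : ShortComplex C) [Mono M.f] [Epi M.g]

/-- `0 → A → K → E → 0` -/
noncomputable abbrev T₁ : ShortComplex C :=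
  ShortComplex.mk M.toCycles M.homologyπ M.toCycles_comp_homologyπ

/-- `0 → K → B → C → 0` -/
noncomputable abbrev T₂ : ShortComplex C :=
  ShortComplex.mk M.iCycles M.g M.iCycles_g

lemma T₁_shortExact : (T₁ M).ShortExact := by
  haveI : Mono (T₁ M).f := by
    change Mono M.toCycles
    have : Mono (M.toCycles ≫ M.iCycles) := by
      rw [M.toCycles_i]
      infer_instance
    exact mono_of_mono M.toCycles M.iCycles
  haveI : Epi (T₁ M).g := by
    change Epi M.homologyπ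
    infer_instance
  exact ShortComplex.ShortExact.mk' (ShortComplex.exact_of_g_is_cokernel _ M.homologyIsCokernel)
    inferInstance inferInstance

lemma T₂_shortExact : (T₂ M).ShortExact := by
  haveI : Mono (T₂ M).f := by
    change Mono M.iCycles
    infer_instance
  haveI : Epi (T₂ M).g := by
    change Epi M.g
    infer_instance
  exact ShortComplex.ShortExact.mk' (ShortComplex.exact_of_f_is_kernel _ M.cyclesIsKernel)
    inferInstance inferInstance

end

section main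

variable (M M' : ShortComplex C) [Mono M.f] [Epi M.g] [Mono M'.f] [Epi M'.g]
  (hBA : ∀ f : M.X₂ ⟶ M'.X₁, f = 0) (hCB : ∀ f : M.X₃ ⟶ M'.X₂, f = 0)
  (hCA₁ : Subsingleton (Ext M.X₃ M'.X₁ 1)) (hBA₁ : Subsingleton (Ext M.X₂ M'.X₁ 1))
  (hCB₁ : Subsingleton (Ext M.X₃ M'.X₂ 1)) (hCA₂ : Subsingleton (Ext M.X₃ M'.X₁ 2))

include hBA hCA₁ in
/-- `Hom(K, A') = 0` -/
lemma hom_cycles_eq_zero (u : M.cycles ⟶ M'.X₁) : u = 0 := by
  have hT := T₂_shortExact M
  obtain ⟨x₂, hx₂⟩ := Ext.contravariant_sequence_exact₁ hT M'.X₁ (Ext.mk₀ u) (add_zero 1)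
    (@Subsingleton.elim _ hCA₁ _ _)
  obtain ⟨v, rfl⟩ := (Ext.mk₀_bijective _ _).2 x₂
  have hv : v = 0 := hBA v
  subst hv
  rw [Ext.mk₀_zero, Ext.comp_zero] at hx₂
  apply (Ext.mk₀_bijective _ _).1
  rw [Ext.mk₀_zero]
  exact hx₂.symm

include hBA₁ hCA₂ in
/-- `Ext¹(K, A') = 0` -/
lemma ext_cycles_eq_zero (x : Ext M.cycles M'.X₁ 1) : x = 0 := by
  have hT := T₂_shortExact M
  obtain ⟨x₂, hx₂⟩ := Ext.contravariant_sequence_exact₁ hT M'.X₁ x (n₁ := 2) (by norm_num)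
    (@Subsingleton.elim _ hCA₂ _ _)
  have hx0 : x₂ = 0 := @Subsingleton.elim _ hBA₁ x₂ 0
  subst hx0
  rw [← hx₂, Ext.comp_zero]

include hBA hCB hCA₁ in
theorem injective : Function.Injective (fun φ : M ⟶ M' => ShortComplex.homologyMap φ) := by
  intro φ ψ h
  have h' : ShortComplex.homologyMap (φ - ψ) = 0 := by
    rw [ShortComplex.homologyMap_sub]
    exact sub_eq_zero.mpr h
  suffices hδ : ∀ δ : M ⟶ M', ShortComplex.homologyMap δ = 0 → δ = 0 from
    sub_eq_zero.mp (hδ _ h')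
  intro δ hδ
  have hT₁' := T₁_shortExact M'
  have hT₂ := T₂_shortExact M
  haveI := hT₁'.mono_f
  haveI := hT₂.epi_g
  have h1 : ShortComplex.cyclesMap δ ≫ M'.homologyπ = 0 := by
    rw [← ShortComplex.homologyπ_naturality, hδ, comp_zero]
  have h2 : ShortComplex.cyclesMap δ = 0 := by
    have e := hT₁'.exact.lift_f (ShortComplex.cyclesMap δ) h1
    rw [← e, hom_cycles_eq_zero M M' hBA hCA₁ (hT₁'.exact.lift (ShortComplex.cyclesMap δ) h1),
      zero_comp]
  have h3 : M.iCycles ≫ δ.τ₂ = 0 := by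
    rw [← ShortComplex.cyclesMap_i, h2, zero_comp]
  have h4 : δ.τ₂ = 0 := by
    have e := hT₂.exact.g_desc δ.τ₂ h3
    rw [← e, hCB (hT₂.exact.desc δ.τ₂ h3), comp_zero]
  have h5 : δ.τ₁ = 0 := by
    rw [← cancel_mono M'.f, δ.comm₁₂, h4, comp_zero, zero_comp]
  have h6 : δ.τ₃ = 0 := by
    rw [← cancel_epi M.g, ← δ.comm₂₃, h4, zero_comp, comp_zero]
  ext
  · exact h5
  · exact h4
  · exact h6

include hBA₁ hCB₁ hCA₂ in
theorem surjective : Function.Surjective (fun φ : M ⟶ M' => ShortComplex.homologyMap φ) := by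
  intro e
  have hT₁ := T₁_shortExact M
  have hT₁' := T₁_shortExact M'
  have hT₂ := T₂_shortExact M
  have hT₂' := T₂_shortExact M'
  haveI := hT₁'.mono_f
  haveI := hT₂.epi_g
  -- Step 1: lift `K → E → E'` to `k : K → K'`
  obtain ⟨x₂, hx₂⟩ := Ext.covariant_sequence_exact₃ M.cycles hT₁' (Ext.mk₀ (M.homologyπ ≫ e))
    (zero_add 1) (ext_cycles_eq_zero M M' hBA₁ hCA₂ _)
  obtain ⟨k, rfl⟩ := (Ext.mk₀_bijective _ _).2 x₂
  rw [Ext.mk₀_comp_mk₀] at hx₂
  have hk : k ≫ M'.homologyπ = M.homologyπ ≫ e := (Ext.mk₀_bijective _ _).1 hx₂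
  -- Step 2: `a : A → A'`
  have ha0 : (M.toCycles ≫ k) ≫ M'.homologyπ = 0 := by
    rw [Category.assoc, hk, ← Category.assoc, M.toCycles_comp_homologyπ, zero_comp]
  let a : M.X₁ ⟶ M'.X₁ := hT₁'.exact.lift (M.toCycles ≫ k) ha0
  have ha : a ≫ M'.toCycles = M.toCycles ≫ k := hT₁'.exact.lift_f (M.toCycles ≫ k) ha0
  -- Step 3: extend to `b : B → B'`
  obtain ⟨y₂, hy₂⟩ := Ext.contravariant_sequence_exact₁ hT₂ M'.X₂ (Ext.mk₀ (k ≫ M'.iCycles))
    (add_zero 1) (@Subsingleton.elim _ hCB₁ _ _)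
  obtain ⟨b, rfl⟩ := (Ext.mk₀_bijective _ _).2 y₂
  rw [Ext.mk₀_comp_mk₀] at hy₂
  have hb : M.iCycles ≫ b = k ≫ M'.iCycles := (Ext.mk₀_bijective _ _).1 hy₂
  -- Step 4: `c : C → C'`
  have hc0 : M.iCycles ≫ (b ≫ M'.g) = 0 := by
    rw [← Category.assoc, hb, Category.assoc, M'.iCycles_g, comp_zero]
  let c : M.X₃ ⟶ M'.X₃ := hT₂.exact.desc (b ≫ M'.g) hc0
  have hc : M.g ≫ c = b ≫ M'.g := hT₂.exact.g_desc (b ≫ M'.g) hc0
  -- Step 5: the morphism of monads
  let φ : M ⟶ M' :=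
    { τ₁ := a
      τ₂ := b
      τ₃ := c
      comm₁₂ := by
        rw [← M'.toCycles_i, ← Category.assoc, ha, Category.assoc, ← hb, ← Category.assoc,
          M.toCycles_i]
      comm₂₃ := hc.symm }
  refine ⟨φ, ?_⟩
  have hcy : ShortComplex.cyclesMap φ = k := by
    rw [← cancel_mono M'.iCycles, ShortComplex.cyclesMap_i]
    exact hb
  change ShortComplex.homologyMap φ = e
  rw [← cancel_epi M.homologyπ, ShortComplex.homologyπ_naturality, hcy, hk]

include hBA hCB hCA₁ hBA₁ hCB₁ hCA₂ in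
theorem bijective : Function.Bijective (fun φ : M ⟶ M' => ShortComplex.homologyMap φ) :=
  ⟨injective M M' hBA hCB hCA₁, surjective M M' hBA₁ hCB₁ hCA₂⟩

end main

end Groth.Agent.Lib.helper6.Monad
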