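import Mathlib
import Groth.Prelude.Def_EGA4b
import Groth.Prelude.Def_CAlg
import Groth.Agent.Lib.helper24.NormFlat
import Groth.Agent.Lib.helper9.Depth27
import Groth.Agent.S2612

/-! Normal flatness localizes; Serre conditions and codepth for normally flat modules along a
nilpotent ideal. -/

set_option maxHeartbeats 400000
set_option linter.style.haveILetI false
set_option linter.unusedSectionVars false

universe u

namespace Groth.Agent.H6.NFLoc

open Groth.Agent.Lib.helper24.NormFlat Groth.Agent.Lib.helper9.Depth LocCoh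

/-- flatness of a localized graded piece. -/
theorem flat_quotient_of_isLocalizedModule {A : Type*} [CommRing A] (I : Ideal A)
    (S : Submonoid A) (A' : Type*) [CommRing A'] [Algebra A A'] [IsLocalization S A']
    {Q N' : Type*} [AddCommGroup Q] [Module A Q]
    [Module (A ⧸ I) Q] [IsScalarTower A (A ⧸ I) Q] [Module.Flat (A ⧸ I) Q]
    [AddCommGroup N'] [Module A N'] [Module A' N'] [IsScalarTower A A' N']
    (ψ : Q →ₗ[A] (N' ⧸ (I.map (algebraMap A A') • ⊤ : Submodule A' N')))
    [hψ : IsLocalizedModule S ψ] :
    Module.Flat (A' ⧸ I.map (algebraMap A A'))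
      (N' ⧸ (I.map (algebraMap A A') • ⊤ : Submodule A' N')) := by
  letI : Module (A ⧸ I) (N' ⧸ (I.map (algebraMap A A') • ⊤ : Submodule A' N')) :=
    Module.compHom _ (algebraMap (A ⧸ I) (A' ⧸ I.map (algebraMap A A')))
  haveI : IsScalarTower (A ⧸ I) (A' ⧸ I.map (algebraMap A A'))
      (N' ⧸ (I.map (algebraMap A A') • ⊤ : Submodule A' N')) :=
    ⟨fun r s x => by
      rw [Algebra.smul_def, mul_smul]
      rfl⟩
  haveI : IsScalarTower A (A ⧸ I) (N' ⧸ (I.map (algebraMap A A') • ⊤ : Submodule A' N')) :=
    IsScalarTower.of_algebraMap_smul (fun a y => by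
      induction y using Submodule.Quotient.induction_on with
      | H m =>
        have e1 : algebraMap A (A ⧸ I) a •
            (Submodule.Quotient.mk m : N' ⧸ (I.map (algebraMap A A') • ⊤ : Submodule A' N')) =
            Submodule.Quotient.mk ((algebraMap A A' a) • m) := rfl
        rw [e1, algebraMap_smul]
        rfl)
  have hsm : ∀ (a : A) (y : N' ⧸ (I.map (algebraMap A A') • ⊤ : Submodule A' N')),
      (Ideal.Quotient.mk I a) • y = a • y := fun a y => algebraMap_smul (A ⧸ I) a y
  have hsm' : ∀ (a : A) (x : Q), (Ideal.Quotient.mk I a) • x = a • x :=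
    fun a x => algebraMap_smul (A ⧸ I) a x
  haveI : IsLocalizedModule (Algebra.algebraMapSubmonoid (A ⧸ I) S)
      (ψ.extendScalarsOfSurjective Ideal.Quotient.mk_surjective) := by
    refine ⟨?_, ?_, ?_⟩
    · rintro ⟨_, s, hs, rfl⟩
      rw [Module.End.isUnit_iff]
      have h1 := (Module.End.isUnit_iff _).mp (hψ.map_units ⟨s, hs⟩)
      convert h1 using 1
      funext y
      exact hsm s y
    · intro y
      obtain ⟨⟨x, s⟩, h⟩ := hψ.surj y
      refine ⟨⟨x, ⟨algebraMap A (A ⧸ I) s, s, s.2, rfl⟩⟩, ?_⟩
      change (Ideal.Quotient.mk I (s : A)) • y = ψ x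
      rw [hsm]
      exact h
    · intro x₁ x₂ hx
      obtain ⟨c, hc⟩ := hψ.exists_of_eq (x₁ := x₁) (x₂ := x₂) hx
      refine ⟨⟨algebraMap A (A ⧸ I) c, c, c.2, rfl⟩, ?_⟩
      change (Ideal.Quotient.mk I (c : A)) • x₁ = (Ideal.Quotient.mk I (c : A)) • x₂
      rw [hsm', hsm']
      exact hc
  exact Module.Flat.of_isLocalizedModule (A' ⧸ I.map (algebraMap A A'))
    (Algebra.algebraMapSubmonoid (A ⧸ I) S)
    (ψ.extendScalarsOfSurjective Ideal.Quotient.mk_surjective)

/-- normal flatness passes to localizations. -/
theorem isNormallyFlat_localization {A : Type u} [CommRing A] (I : Ideal A)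
    (S : Submonoid A) (A' : Type u) [CommRing A'] [Algebra A A'] [IsLocalization S A']
    {M M' : Type u} [AddCommGroup M] [Module A M]
    [AddCommGroup M'] [Module A M'] [Module A' M'] [IsScalarTower A A' M'] (ℓ : M →ₗ[A] M')
    [IsLocalizedModule S ℓ] (hM : EGA4.IsNormallyFlat I M) :
    EGA4.IsNormallyFlat (I.map (algebraMap A A')) M' := by
  intro n
  have hN' : (I.map (algebraMap A A') ^ n • (⊤ : Submodule A' M')) =
      (I ^ n • (⊤ : Submodule A M)).localized' A' S ℓ := by
    rw [Submodule.localized'_smul, Ideal.localized'_eq_map, Submodule.localized'_top,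
      Ideal.map_pow]
  obtain ⟨ψ, hψ⟩ := exists_localized_quot S A' ℓ I (I ^ n • (⊤ : Submodule A M))
    (I.map (algebraMap A A') ^ n • (⊤ : Submodule A' M')) hN' _ rfl
  haveI := hM n
  exact flat_quotient_of_isLocalizedModule I S A' ψ

section Main

variable (A : Type u) [CommRing A] [IsNoetherianRing A] (I : Ideal A) (hI : IsNilpotent I)
  (M : Type u) [AddCommGroup M] [Module A M] [Module.Finite A M]

include hI in
/-- dimension and depth of `M_q` agree with those of `(A/I)_q`. -/
theorem dim_depth_eq (hsupp : Module.support A M = Set.univ) (hM : EGA4.IsNormallyFlat I M)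
    (q : Ideal A) [q.IsPrime] :
    Module.supportDim (Localization.AtPrime q) (LocalizedModule q.primeCompl M) =
      Module.supportDim (Localization.AtPrime q) (LocalizedModule q.primeCompl (A ⧸ I)) ∧
    LocCoh.depth (Localization.AtPrime q) (LocalizedModule q.primeCompl M) =
      LocCoh.depth (Localization.AtPrime q) (LocalizedModule q.primeCompl (A ⧸ I)) := by
  have hIq : IsNilpotent (I.map (algebraMap A (Localization.AtPrime q))) := by
    obtain ⟨k, hk⟩ := hI
    refine ⟨k, ?_⟩
    rw [← Ideal.map_pow, hk, Ideal.zero_eq_bot, Ideal.map_bot]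
    rfl
  haveI : Nontrivial (LocalizedModule q.primeCompl M) := by
    have : (⟨q, inferInstance⟩ : PrimeSpectrum A) ∈ Module.support A M := by
      rw [hsupp]
      trivial
    exact Module.mem_support_iff.mp this
  have hNF := isNormallyFlat_localization I q.primeCompl (Localization.AtPrime q)
    (LocalizedModule.mkLinearMap q.primeCompl M) hM
  obtain ⟨h1, h2⟩ := Groth.Agent.S2612.result (Localization.AtPrime q)
    (I.map (algebraMap A (Localization.AtPrime q))) hIq (LocalizedModule q.primeCompl M) hNF
  -- the quotient side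
  have key : ∀ (J : Ideal (Localization.AtPrime q))
      (hJ : J = I.localized' (Localization.AtPrime q) q.primeCompl
        (Algebra.linearMap A (Localization.AtPrime q))),
      Module.supportDim (Localization.AtPrime q) (LocalizedModule q.primeCompl (A ⧸ I)) =
        Module.supportDim (Localization.AtPrime q) (Localization.AtPrime q ⧸ J) ∧
      LocCoh.depth (Localization.AtPrime q) (LocalizedModule q.primeCompl (A ⧸ I)) =
        LocCoh.depth (Localization.AtPrime q) (Localization.AtPrime q ⧸ J) := by
    intro J hJ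
    subst hJ
    exact ⟨supportDim_eq_of_isLocalizedModule q (Localization.AtPrime q)
      (I.toLocalizedQuotient' (Localization.AtPrime q) q.primeCompl
        (Algebra.linearMap A (Localization.AtPrime q))),
      depth_eq_of_isLocalizedModule q (Localization.AtPrime q)
      (I.toLocalizedQuotient' (Localization.AtPrime q) q.primeCompl
        (Algebra.linearMap A (Localization.AtPrime q)))⟩
  obtain ⟨k1, k2⟩ := key (I.map (algebraMap A (Localization.AtPrime q)))
    (Ideal.localized'_eq_map _ _ I).symm
  refine ⟨?_, ?_⟩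
  · rw [h1, k1, Module.supportDim_quotient_eq_ringKrullDim]
  · rw [h2, k2]

include hI in
theorem main (n : ℕ) (hsupp : Module.support A M = Set.univ) (hM : EGA4.IsNormallyFlat I M)
    (p : Ideal A) [p.IsPrime] :
    (EGA4.HasSkAt n A M p ↔ EGA4.HasSkAt n A (A ⧸ I) p) ∧
      (Module.supportDim (Localization.AtPrime p) (LocalizedModule p.primeCompl M) ≤
          ((LocCoh.depth (Localization.AtPrime p) (LocalizedModule p.primeCompl M) : ℕ∞) :
            WithBot ℕ∞) + n ↔
        Module.supportDim (Localization.AtPrime p) (LocalizedModule p.primeCompl (A ⧸ I)) ≤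
          ((LocCoh.depth (Localization.AtPrime p) (LocalizedModule p.primeCompl (A ⧸ I)) : ℕ∞) :
            WithBot ℕ∞) + n) := by
  refine ⟨?_, ?_⟩
  · unfold EGA4.HasSkAt LocCoh.HasSk
    refine forall_congr' fun P => forall_congr' fun hP => ?_
    obtain ⟨a1, a2⟩ := depth_supportDim_localization_localization p.primeCompl M P
    obtain ⟨b1, b2⟩ := depth_supportDim_localization_localization p.primeCompl (A ⧸ I) P
    obtain ⟨e1, e2⟩ := dim_depth_eq A I hI M hsupp hM
      (P.comap (algebraMap A (Localization p.primeCompl)))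
    have a1' : LocCoh.depth (Localization.AtPrime P)
        (LocalizedModule P.primeCompl (LocalizedModule p.primeCompl M)) =
        LocCoh.depth (Localization.AtPrime P)
          (LocalizedModule P.primeCompl (LocalizedModule p.primeCompl (A ⧸ I))) := by
      rw [a1, b1, e2]
    have a2' : Module.supportDim (Localization.AtPrime P)
        (LocalizedModule P.primeCompl (LocalizedModule p.primeCompl M)) =
        Module.supportDim (Localization.AtPrime P)
          (LocalizedModule P.primeCompl (LocalizedModule p.primeCompl (A ⧸ I))) := by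
      rw [a2, b2, e1]
    rw [a1', a2']
  · obtain ⟨e1, e2⟩ := dim_depth_eq A I hI M hsupp hM p
    rw [e1, e2]

end Main

end Groth.Agent.H6.NFLoc
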