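import Mathlib
import Groth.Agent.Lib.helper9.IntegralDim

/-!
# Noether normalization with integer-coefficient parameters
-/

set_option linter.style.haveILetI false

open private NoetherNormalization.hom2 NoetherNormalization.hom2_isIntegral
  NoetherNormalization.hom1 NoetherNormalization.eqv1 NoetherNormalization.eqv2
  NoetherNormalization.T from Mathlib.RingTheory.NoetherNormalization

namespace Groth.Agent.Lib.helper6.NoetherInt

universe u

open MvPolynomial Ideal

variable {k : Type u} [Field k]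

/-- integer-coefficient polynomials -/
def IsInt {n : ℕ} (p : MvPolynomial (Fin n) k) : Prop :=
  p ∈ Set.range (MvPolynomial.map (Int.castRingHom k) :
    MvPolynomial (Fin n) ℤ → MvPolynomial (Fin n) k)

theorem isInt_aeval {n m : ℕ} (z : Fin n → MvPolynomial (Fin m) k) (hz : ∀ i, IsInt (z i))
    (p : MvPolynomial (Fin n) k) (hp : IsInt p) : IsInt (aeval z p) := by
  obtain ⟨q, rfl⟩ := hp
  choose w hw using hz
  refine ⟨bind₁ w q, ?_⟩
  rw [MvPolynomial.map_bind₁, aeval_eq_bind₁]
  have : (fun i => MvPolynomial.map (Int.castRingHom k) (w i)) = z := funext hw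
  rw [this]

/-- the parameters of the Nagata substitution -/
noncomputable def zz {n : ℕ} (f : MvPolynomial (Fin (n + 1)) k) (i : Fin n) :
    MvPolynomial (Fin (n + 1)) k :=
  X i.succ + (-1 : k) • X 0 ^ ((2 + f.totalDegree) ^ (i.succ : ℕ))

theorem isInt_zz {n : ℕ} (f : MvPolynomial (Fin (n + 1)) k) (i : Fin n) : IsInt (zz f i) := by
  refine ⟨X i.succ - X 0 ^ ((2 + f.totalDegree) ^ (i.succ : ℕ)), ?_⟩
  simp [zz, sub_eq_add_neg]

theorem hom2_eq {n : ℕ} (f : MvPolynomial (Fin (n + 1)) k)
    (I : Ideal (MvPolynomial (Fin (n + 1)) k)) :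
    NoetherNormalization.hom2 f I = (Ideal.Quotient.mkₐ k I).comp (aeval (zz f)) := by
  apply MvPolynomial.algHom_ext
  intro i
  simp only [NoetherNormalization.hom2, AlgHom.coe_comp, Function.comp_apply, aeval_X]
  have h1 : (AlgHom.restrictScalars k (NoetherNormalization.hom1 f I)) (X i) =
      Ideal.Quotient.mk _ (Polynomial.C (X i : MvPolynomial (Fin n) k)) := rfl
  have h0 : (MvPolynomial.finSuccEquiv k n).symm (Polynomial.C (X i : MvPolynomial (Fin n) k)) = X i.succ := by
    rw [AlgEquiv.symm_apply_eq, MvPolynomial.finSuccEquiv_X_succ]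
  rw [h1]
  erw [Ideal.quotientEquivAlg_mk]
  show Ideal.Quotient.mk I ((NoetherNormalization.T f).symm
    ((MvPolynomial.finSuccEquiv k n).symm (Polynomial.C (X i : MvPolynomial (Fin n) k)))) = _
  rw [h0]
  simp [zz, Fin.succ_ne_zero]

theorem base {n : ℕ} (I : Ideal (MvPolynomial (Fin n) k))
    (hinj : Function.Injective (Ideal.Quotient.mkₐ k I)) :
    ∃ (s : ℕ) (y : Fin s → MvPolynomial (Fin n) k), (∀ i, IsInt (y i)) ∧
      Function.Injective ((Ideal.Quotient.mkₐ k I).comp (aeval y)) ∧
      ((Ideal.Quotient.mkₐ k I).comp (aeval y)).IsIntegral := by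
  refine ⟨n, X, fun i => ⟨X i, by simp⟩, ?_, ?_⟩
  · rw [MvPolynomial.aeval_X_left, AlgHom.comp_id]
    exact hinj
  · rw [MvPolynomial.aeval_X_left, AlgHom.comp_id]
    exact RingHom.isIntegral_of_surjective _ (Ideal.Quotient.mkₐ_surjective k I)

theorem exists_int (n : ℕ) (I : Ideal (MvPolynomial (Fin n) k)) (hI : I ≠ ⊤) :
    ∃ (s : ℕ) (y : Fin s → MvPolynomial (Fin n) k), (∀ i, IsInt (y i)) ∧
      Function.Injective ((Ideal.Quotient.mkₐ k I).comp (aeval y)) ∧
      ((Ideal.Quotient.mkₐ k I).comp (aeval y)).IsIntegral := by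
  induction n with
  | zero =>
    refine base I (fun a b hab => ?_)
    rw [Quotient.mkₐ_eq_mk, Ideal.Quotient.eq] at hab
    by_contra ne
    have eq := eq_C_of_isEmpty (a - b)
    have ne : coeff 0 (a - b) ≠ 0 := fun h ↦ h ▸ eq ▸ sub_ne_zero_of_ne ne <| map_zero _
    obtain ⟨c, _, eqr⟩ := isUnit_iff_exists.mp ne.isUnit
    have one : c • (a - b) = 1 := by
      rw [MvPolynomial.smul_eq_C_mul, eq, ← map_mul, eqr, MvPolynomial.C_1]
    exact hI ((eq_top_iff_one I).mpr (one ▸ I.smul_of_tower_mem c hab))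
  | succ d hd =>
    by_cases eqi : I = ⊥
    · exact base I ((Quotient.mk_bijective_iff_eq_bot I).mpr eqi).1
    · obtain ⟨f, fi, fne⟩ := Submodule.exists_mem_ne_zero_of_ne_bot eqi
      have := Quotient.nontrivial_iff.mpr hI
      obtain ⟨s, y', hy', injg, intg⟩ := hd (RingHom.ker (NoetherNormalization.hom2 f I))
        (RingHom.ker_ne_top _)
      have comp : (kerLiftAlg (NoetherNormalization.hom2 f I)).comp
          (Quotient.mkₐ k <| RingHom.ker <| NoetherNormalization.hom2 f I) =
          (NoetherNormalization.hom2 f I) :=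
        AlgHom.ext fun a ↦ by
          simp only [AlgHom.coe_comp, Quotient.mkₐ_eq_mk, Function.comp_apply, kerLiftAlg_mk]
      have hcomp : (Ideal.Quotient.mkₐ k I).comp (aeval fun i => aeval (zz f) (y' i)) =
          (kerLiftAlg (NoetherNormalization.hom2 f I)).comp
            ((Quotient.mkₐ k (RingHom.ker (NoetherNormalization.hom2 f I))).comp (aeval y')) := by
        apply MvPolynomial.algHom_ext
        intro i
        have h3 := AlgHom.congr_fun comp (y' i)
        simp only [AlgHom.coe_comp, Function.comp_apply, aeval_X] at h3 ⊢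
        rw [h3, hom2_eq]
        rfl
      refine ⟨s, fun i => aeval (zz f) (y' i), fun i => isInt_aeval _ (isInt_zz f) _ (hy' i),
        ?_, ?_⟩
      · rw [hcomp, AlgHom.coe_comp]
        exact (kerLiftAlg_injective _).comp injg
      · rw [hcomp]
        exact intg.trans _ _ <|
          (comp ▸ NoetherNormalization.hom2_isIntegral f I fne fi).tower_top _ _

theorem main (n : ℕ) (I : Ideal (MvPolynomial (Fin n) k)) (hI : I ≠ ⊤) :
    (∃ (r : ℕ) (y : Fin r → MvPolynomial (Fin n) k),
      (∀ i, y i ∈ Set.range (MvPolynomial.map (Int.castRingHom k) :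
        MvPolynomial (Fin n) ℤ → MvPolynomial (Fin n) k)) ∧
      Function.Injective ((Ideal.Quotient.mkₐ k I).comp (MvPolynomial.aeval y)) ∧
      ((Ideal.Quotient.mkₐ k I).comp (MvPolynomial.aeval y)).toRingHom.Finite) ∧
    ∀ (r : ℕ) (y : Fin r → MvPolynomial (Fin n) k),
      Function.Injective ((Ideal.Quotient.mkₐ k I).comp (MvPolynomial.aeval y)) →
      ((Ideal.Quotient.mkₐ k I).comp (MvPolynomial.aeval y)).toRingHom.Finite →
      ringKrullDim (MvPolynomial (Fin n) k ⧸ I) = r := by
  constructor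
  · obtain ⟨s, y, hy, hinj, hint⟩ := exists_int n I hI
    refine ⟨s, y, hy, hinj, ?_⟩
    set g := (Ideal.Quotient.mkₐ k I).comp (MvPolynomial.aeval y) with hg
    have h : algebraMap k (MvPolynomial (Fin n) k ⧸ I) =
        g.toRingHom.comp (algebraMap k (MvPolynomial (Fin s) k)) := by
      ext c
      simp
    have fin : Algebra.FiniteType k (MvPolynomial (Fin n) k ⧸ I) := inferInstance
    exact hint.to_finite (h ▸ RingHom.finiteType_algebraMap.mpr fin).of_comp_finiteType
  · intro r y hinj hfin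
    set g := (Ideal.Quotient.mkₐ k I).comp (MvPolynomial.aeval y) with hg
    letI : Algebra (MvPolynomial (Fin r) k) (MvPolynomial (Fin n) k ⧸ I) := g.toRingHom.toAlgebra
    haveI : Algebra.IsIntegral (MvPolynomial (Fin r) k) (MvPolynomial (Fin n) k ⧸ I) :=
      ⟨hfin.to_isIntegral⟩
    have h1 := Groth.Agent.Lib.helper9.IntegralDim.ringKrullDim_eq_of_isIntegral_of_injective
      (MvPolynomial (Fin r) k) (MvPolynomial (Fin n) k ⧸ I) hinj
    rw [← h1, MvPolynomial.ringKrullDim_of_isNoetherianRing, ringKrullDim_eq_zero_of_field]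
    simp

end Groth.Agent.Lib.helper6.NoetherInt
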