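import Mathlib
import Groth.Agent.Lib.helper20.NormalSmooth4

/-!
# Normality of local rings along étale morphisms of schemes (using helper20's NormalSmooth)
-/

set_option autoImplicit false
set_option linter.style.haveILetI false

namespace Groth.Agent.Lib.helper6.NormEtaleSch

open IsLocalRing AlgebraicGeometry CategoryTheory

universe u

lemma normal_iff_of_ringEquiv {R S : Type u} [CommRing R] [CommRing S] (e : R ≃+* S) :
    (IsDomain R ∧ IsIntegrallyClosed R) ↔ (IsDomain S ∧ IsIntegrallyClosed S) := by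
  constructor
  · rintro ⟨h1, h2⟩
    haveI : IsDomain S := e.isDomain_iff.mp h1
    exact ⟨inferInstance, IsIntegrallyClosed.of_equiv e⟩
  · rintro ⟨h1, h2⟩
    haveI : IsDomain R := e.isDomain_iff.mpr h1
    exact ⟨inferInstance, IsIntegrallyClosed.of_equiv e.symm⟩

theorem stalk_normal_iff {X Y : Scheme.{u}} (f : X ⟶ Y) [Etale f] (x : X) :
    (IsDomain (X.presheaf.stalk x) ∧ IsIntegrallyClosed (X.presheaf.stalk x)) ↔
      (IsDomain (Y.presheaf.stalk (f x)) ∧ IsIntegrallyClosed (Y.presheaf.stalk (f x))) := by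
  obtain ⟨_, ⟨U, hU, rfl⟩, hxU, -⟩ :=
    Y.isBasis_affineOpens.exists_subset_of_mem_open (Set.mem_univ (f x)) isOpen_univ
  obtain ⟨_, ⟨V, hV, rfl⟩, hxV, hVU⟩ :=
    X.isBasis_affineOpens.exists_subset_of_mem_open hxU (U.2.preimage f.continuous)
  have het : (f.appLE U V hVU).hom.Etale :=
    HasRingHomProperty.appLE (P := @Etale) (f := f) ‹Etale f› ⟨U, hU⟩ ⟨V, hV⟩ hVU
  letI := (f.appLE U V hVU).hom.toAlgebra
  haveI : Algebra.Etale Γ(Y, U) Γ(X, V) := het
  have hpq : (hU.primeIdealOf ⟨f x, hVU hxV⟩).asIdeal =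
      Ideal.comap (algebraMap Γ(Y, U) Γ(X, V)) (hV.primeIdealOf ⟨x, hxV⟩).asIdeal :=
    congr($(IsAffineOpen.comap_primeIdealOf_appLE U hU V hV hVU hxV).1).symm
  letI := Y.presheaf.algebra_section_stalk ⟨f x, hVU hxV⟩
  haveI := hU.isLocalization_stalk ⟨f x, hVU hxV⟩
  letI := X.presheaf.algebra_section_stalk ⟨x, hxV⟩
  haveI := hV.isLocalization_stalk ⟨x, hxV⟩
  let eY : Y.presheaf.stalk (f x) ≃+*
      Localization.AtPrime (hU.primeIdealOf ⟨f x, hVU hxV⟩).asIdeal :=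
    (IsLocalization.algEquiv (hU.primeIdealOf ⟨f x, hVU hxV⟩).asIdeal.primeCompl
      (Y.presheaf.stalk (f x))
      (Localization.AtPrime (hU.primeIdealOf ⟨f x, hVU hxV⟩).asIdeal)).toRingEquiv
  let eX : X.presheaf.stalk x ≃+* Localization.AtPrime (hV.primeIdealOf ⟨x, hxV⟩).asIdeal :=
    (IsLocalization.algEquiv (hV.primeIdealOf ⟨x, hxV⟩).asIdeal.primeCompl
      (X.presheaf.stalk x)
      (Localization.AtPrime (hV.primeIdealOf ⟨x, hxV⟩).asIdeal)).toRingEquiv
  rw [normal_iff_of_ringEquiv eX, normal_iff_of_ringEquiv eY]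
  exact (Groth.Agent.Lib.helper20.NormalSmooth.smooth_pointwise Γ(Y, U) Γ(X, V) _ _ hpq).2

end Groth.Agent.Lib.helper6.NormEtaleSch
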