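import Groth.Prelude.Def_PP16
import Mathlib.LinearAlgebra.TensorProduct.RightExactness
import Mathlib.LinearAlgebra.TensorProduct.Quotient
import Mathlib.Tactic

/-!
# Principal parts: general lemmas (helper6)
-/

set_option autoImplicit false
universe u
open scoped TensorProduct

namespace Groth.Agent.H6.PP

open PP16

section general

variable {R R' : Type*} [CommRing R] [CommRing R']

theorem comap_map_pow (φ : R →+* R') (hφ : Function.Surjective φ) (I : Ideal R) (n : ℕ) :
    Ideal.comap φ ((I.map φ) ^ n) = I ^ n ⊔ RingHom.ker φ := by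
  rw [← Ideal.map_pow, Ideal.comap_map_of_surjective φ hφ]
  rfl

end general

section

variable (n : ℕ) (A B A' B' : Type u) [CommRing A] [CommRing B] [Algebra A B]
  [CommRing A'] [CommRing B'] [Algebra A' B'] [Algebra A A'] [Algebra B B'] [Algebra A B']
  [IsScalarTower A A' B'] [IsScalarTower A B B']

theorem tensorMap_surjective (hB : Function.Surjective (algebraMap B B')) :
    Function.Surjective (tensorMap A B A' B') := by
  intro x
  induction x using TensorProduct.induction_on with
  | zero => exact ⟨0, map_zero _⟩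
  | tmul b c =>
    obtain ⟨b, rfl⟩ := hB b
    obtain ⟨c, rfl⟩ := hB c
    exact ⟨b ⊗ₜ c, tensorMap_tmul A B A' B' b c⟩
  | add x y hx hy =>
    obtain ⟨x, rfl⟩ := hx
    obtain ⟨y, rfl⟩ := hy
    exact ⟨x + y, map_add _ _ _⟩

theorem ideal_map_tensorMap_eq (hB : Function.Surjective (algebraMap B B')) :
    (KaehlerDifferential.ideal A B).map (tensorMap A B A' B') = KaehlerDifferential.ideal A' B' := by
  refine le_antisymm (ideal_map_tensorMap_le A B A' B') ?_
  rw [← KaehlerDifferential.span_range_eq_ideal, Ideal.span_le]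
  rintro _ ⟨b, rfl⟩
  obtain ⟨b, rfl⟩ := hB b
  have : (1 : B') ⊗ₜ[A'] algebraMap B B' b - algebraMap B B' b ⊗ₜ[A'] (1 : B') =
      tensorMap A B A' B' ((1 : B) ⊗ₜ[A] b - b ⊗ₜ[A] (1 : B)) := by
    rw [map_sub, tensorMap_tmul, tensorMap_tmul, map_one]
  change (1 : B') ⊗ₜ[A'] algebraMap B B' b - algebraMap B B' b ⊗ₜ[A'] (1 : B') ∈ _
  rw [this]
  exact Ideal.mem_map_of_mem _ (KaehlerDifferential.one_smul_sub_smul_one_mem_ideal A b)

theorem map_surjective (hB : Function.Surjective (algebraMap B B')) :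
    Function.Surjective (PP16.map n A B A' B') := by
  intro x
  obtain ⟨y, rfl⟩ := Ideal.Quotient.mk_surjective x
  obtain ⟨z, rfl⟩ := tensorMap_surjective A B A' B' hB y
  exact ⟨Ideal.Quotient.mk _ z, rfl⟩

theorem ker_map (hB : Function.Surjective (algebraMap B B')) :
    RingHom.ker (PP16.map n A B A' B') =
      (RingHom.ker (tensorMap A B A' B')).map
        (Ideal.Quotient.mk ((KaehlerDifferential.ideal A B) ^ (n + 1))) := by
  have hsurj := tensorMap_surjective A B A' B' hB
  have hI := ideal_map_tensorMap_eq A B A' B' hB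
  have hcomap := comap_map_pow (tensorMap A B A' B' : B ⊗[A] B →+* B' ⊗[A'] B') hsurj
    (KaehlerDifferential.ideal A B) (n + 1)
  ext x
  obtain ⟨y, rfl⟩ := Ideal.Quotient.mk_surjective x
  rw [RingHom.mem_ker, map_mk, Ideal.Quotient.eq_zero_iff_mem]
  have h1 : tensorMap A B A' B' y ∈ KaehlerDifferential.ideal A' B' ^ (n + 1) ↔
      y ∈ KaehlerDifferential.ideal A B ^ (n + 1) ⊔ RingHom.ker (tensorMap A B A' B') := by
    have h2 : y ∈ KaehlerDifferential.ideal A B ^ (n + 1) ⊔ RingHom.ker (tensorMap A B A' B') ↔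
        y ∈ Ideal.comap (tensorMap A B A' B' : B ⊗[A] B →+* B' ⊗[A'] B')
          (Ideal.map (tensorMap A B A' B' : B ⊗[A] B →+* B' ⊗[A'] B')
            (KaehlerDifferential.ideal A B) ^ (n + 1)) := by
      rw [hcomap]; rfl
    rw [h2, Ideal.mem_comap]
    have : Ideal.map (tensorMap A B A' B' : B ⊗[A] B →+* B' ⊗[A'] B')
      (KaehlerDifferential.ideal A B) = KaehlerDifferential.ideal A' B' := hI
    rw [this]
    rfl
  rw [h1]
  constructor
  · intro h
    obtain ⟨a, ha, b, hb, rfl⟩ := Submodule.mem_sup.mp h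
    rw [map_add, Ideal.Quotient.eq_zero_iff_mem.mpr ha, zero_add]
    exact Ideal.mem_map_of_mem _ hb
  · intro h
    rw [Ideal.mem_map_iff_of_surjective _ Ideal.Quotient.mk_surjective] at h
    obtain ⟨z, hz, hzy⟩ := h
    have : y - z ∈ KaehlerDifferential.ideal A B ^ (n + 1) := by
      rw [← Ideal.Quotient.eq]; exact hzy.symm
    have : y = (y - z) + z := by ring
    rw [this]
    exact Submodule.add_mem_sup ‹_› hz

end

section tower

variable (A B C : Type u) [CommRing A] [CommRing B] [CommRing C]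
  [Algebra A B] [Algebra B C] [Algebra A C] [IsScalarTower A B C]

theorem tensorMap_tower_apply (x : C ⊗[A] C) :
    tensorMap A C B C x = TensorProduct.mapOfCompatibleSMul B A B C C x := by
  induction x using TensorProduct.induction_on with
  | zero => simp
  | tmul c c' =>
    rw [tensorMap_tmul]
    rfl
  | add x y hx hy => rw [map_add, map_add, hx, hy]

theorem ker_tensorMap_tower :
    RingHom.ker (tensorMap A C B C) =
      (KaehlerDifferential.ideal A B).map (tensorMap A B A C) := by
  apply le_antisymm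
  · intro x hx
    have hx' : x ∈ LinearMap.ker (TensorProduct.mapOfCompatibleSMul B A B C C) := by
      rw [LinearMap.mem_ker, ← tensorMap_tower_apply]
      exact hx
    rw [TensorProduct.AlgebraTensorModule.ker_mapOfCompatibleSMul] at hx'
    refine Submodule.span_induction
      (p := fun x _ => x ∈ (KaehlerDifferential.ideal A B).map (tensorMap A B A C)) ?_ ?_ ?_ ?_ hx'
    · rintro _ ⟨b, c, c', rfl⟩
      have h1 : (b • c) ⊗ₜ[A] c' - c ⊗ₜ[A] (b • c') =
          - ((c ⊗ₜ[A] c') * tensorMap A B A C ((1 : B) ⊗ₜ[A] b - b ⊗ₜ[A] (1 : B))) := by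
        rw [map_sub, tensorMap_tmul, tensorMap_tmul, map_one, mul_sub,
          Algebra.TensorProduct.tmul_mul_tmul, Algebra.TensorProduct.tmul_mul_tmul, mul_one, mul_one,
          Algebra.smul_def, Algebra.smul_def, mul_comm c, mul_comm c']
        ring
      rw [h1]
      exact neg_mem (Ideal.mul_mem_left _ _ (Ideal.mem_map_of_mem _
        (KaehlerDifferential.one_smul_sub_smul_one_mem_ideal A b)))
    · exact Ideal.zero_mem _
    · intro x y _ _ hx hy
      exact Ideal.add_mem _ hx hy
    · intro b x _ hx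
      rw [Algebra.smul_def]
      exact Ideal.mul_mem_left _ _ hx
  · rw [← KaehlerDifferential.span_range_eq_ideal, Ideal.map_span, Ideal.span_le]
    rintro _ ⟨_, ⟨b, rfl⟩, rfl⟩
    change tensorMap A C B C (tensorMap A B A C ((1 : B) ⊗ₜ[A] b - b ⊗ₜ[A] (1 : B))) = 0
    rw [map_sub, tensorMap_tmul, tensorMap_tmul, map_one, map_sub, tensorMap_tmul, tensorMap_tmul,
      map_one, Algebra.algebraMap_self, RingHom.id_apply, sub_eq_zero, Algebra.algebraMap_eq_smul_one,
      TensorProduct.smul_tmul]

end tower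

section lift

variable (n : ℕ) (A B : Type u) [CommRing A] [CommRing B] [Algebra A B]

theorem mk_tmul (b c : B) :
    (Ideal.Quotient.mk ((KaehlerDifferential.ideal A B) ^ (n + 1)) (b ⊗ₜ[A] c) : P n A B) =
      algebraMap B (P n A B) b * dn n A B c := by
  change _ = Ideal.Quotient.mk _ (b ⊗ₜ[A] (1 : B)) * Ideal.Quotient.mk _ ((1 : B) ⊗ₜ[A] c)
  rw [← map_mul, Algebra.TensorProduct.tmul_mul_tmul, mul_one, one_mul]

theorem algebraMap_eq_mk (b : B) :
    algebraMap B (P n A B) b =
      Ideal.Quotient.mk ((KaehlerDifferential.ideal A B) ^ (n + 1)) (b ⊗ₜ[A] (1 : B)) := rfl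

theorem dn_eq_mk (b : B) :
    dn n A B b =
      Ideal.Quotient.mk ((KaehlerDifferential.ideal A B) ^ (n + 1)) ((1 : B) ⊗ₜ[A] b) := rfl

/-- Ring homomorphisms out of `P^n` are determined by their values on `b ⊗ 1` and `1 ⊗ b`. -/
theorem ringHom_ext {L : Type*} [Semiring L] (g₁ g₂ : P n A B →+* L)
    (h1 : ∀ b : B, g₁ (algebraMap B (P n A B) b) = g₂ (algebraMap B (P n A B) b))
    (h2 : ∀ b : B, g₁ (dn n A B b) = g₂ (dn n A B b)) : g₁ = g₂ := by
  apply Ideal.Quotient.ringHom_ext
  refine RingHom.ext (fun x => ?_)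
  induction x using TensorProduct.induction_on with
  | zero => simp
  | tmul b c =>
    change g₁ (Ideal.Quotient.mk _ (b ⊗ₜ[A] c)) = g₂ (Ideal.Quotient.mk _ (b ⊗ₜ[A] c))
    rw [mk_tmul, map_mul, map_mul, h1, h2]
  | add x y hx hy => rw [map_add, map_add, hx, hy]

theorem augIdeal_pow : (augIdeal n A B) ^ (n + 1) = ⊥ := by
  unfold augIdeal
  rw [← Ideal.map_pow, Ideal.map_quotient_self]

theorem dn_sub_algebraMap_mem (b : B) :
    dn n A B b - algebraMap B (P n A B) b ∈ augIdeal n A B := by
  rw [dn_eq_mk, algebraMap_eq_mk, ← map_sub]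
  exact Ideal.mem_map_of_mem _ (KaehlerDifferential.one_smul_sub_smul_one_mem_ideal A b)

variable {L : Type*} [CommRing L] [Algebra A L]

/-- Lift a pair of algebra maps `gl, gr : B → L` with `gr - gl` in an ideal of `(n+1)`-st power zero
to `P^n_{B/A} → L`. -/
noncomputable def liftP (gl gr : B →ₐ[A] L) (J : Ideal L) (hJ : J ^ (n + 1) = ⊥)
    (h : ∀ b : B, gr b - gl b ∈ J) : P n A B →ₐ[A] L :=
  Ideal.Quotient.liftₐ ((KaehlerDifferential.ideal A B) ^ (n + 1))
    (Algebra.TensorProduct.lift gl gr (fun _ _ => Commute.all _ _))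
    (by
      have h1 : (KaehlerDifferential.ideal A B).map
          (Algebra.TensorProduct.lift gl gr (fun _ _ => Commute.all _ _)) ≤ J := by
        rw [← KaehlerDifferential.span_range_eq_ideal, Ideal.map_span, Ideal.span_le]
        rintro _ ⟨_, ⟨b, rfl⟩, rfl⟩
        change Algebra.TensorProduct.lift gl gr (fun _ _ => Commute.all _ _)
          ((1 : B) ⊗ₜ[A] b - b ⊗ₜ[A] (1 : B)) ∈ J
        rw [map_sub, Algebra.TensorProduct.lift_tmul, Algebra.TensorProduct.lift_tmul, map_one,
          map_one, one_mul, mul_one]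
        exact h b
      intro x hx
      have h2 : Algebra.TensorProduct.lift gl gr (fun _ _ => Commute.all _ _) x ∈
          ((KaehlerDifferential.ideal A B) ^ (n + 1)).map
            (Algebra.TensorProduct.lift gl gr (fun _ _ => Commute.all _ _)) :=
        Ideal.mem_map_of_mem _ hx
      rw [Ideal.map_pow] at h2
      have h3 := Ideal.pow_right_mono h1 (n + 1) h2
      rw [hJ] at h3
      exact h3)

theorem liftP_algebraMap (gl gr : B →ₐ[A] L) (J : Ideal L) (hJ : J ^ (n + 1) = ⊥)
    (h : ∀ b : B, gr b - gl b ∈ J) (b : B) :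
    liftP n A B gl gr J hJ h (algebraMap B (P n A B) b) = gl b := by
  rw [algebraMap_eq_mk]
  change Algebra.TensorProduct.lift gl gr (fun _ _ => Commute.all _ _) (b ⊗ₜ[A] (1 : B)) = _
  rw [Algebra.TensorProduct.lift_tmul, map_one, mul_one]

theorem liftP_dn (gl gr : B →ₐ[A] L) (J : Ideal L) (hJ : J ^ (n + 1) = ⊥)
    (h : ∀ b : B, gr b - gl b ∈ J) (b : B) :
    liftP n A B gl gr J hJ h (dn n A B b) = gr b := by
  rw [dn_eq_mk]
  change Algebra.TensorProduct.lift gl gr (fun _ _ => Commute.all _ _) ((1 : B) ⊗ₜ[A] b) = _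
  rw [Algebra.TensorProduct.lift_tmul, map_one, one_mul]

end lift

section augmentation

variable (n : ℕ) (A B : Type u) [CommRing A] [CommRing B] [Algebra A B]

/-- The augmentation `P^n_{B/A} → B` induced by multiplication. -/
noncomputable def aug : P n A B →ₐ[B] B :=
  Ideal.Quotient.liftₐ _ (Algebra.TensorProduct.lmul'' (S := B) A) (by
    intro x hx
    have hle : KaehlerDifferential.ideal A B ^ (n + 1) ≤ KaehlerDifferential.ideal A B :=
      Ideal.pow_le_self (Nat.succ_ne_zero n)
    exact (RingHom.mem_ker).mp (hle hx))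

theorem aug_mk (x : B ⊗[A] B) :
    aug n A B (Ideal.Quotient.mk _ x) = Algebra.TensorProduct.lmul' (S := B) A x := rfl

theorem aug_dn (b : B) : aug n A B (dn n A B b) = b := by
  rw [dn_eq_mk, aug_mk]; simp

theorem aug_algebraMap (b : B) : aug n A B (algebraMap B (P n A B) b) = b := by
  rw [algebraMap_eq_mk, aug_mk]; simp

theorem ker_aug : RingHom.ker (aug n A B) = augIdeal n A B := by
  unfold augIdeal
  ext x
  obtain ⟨y, rfl⟩ := Ideal.Quotient.mk_surjective x
  rw [RingHom.mem_ker, aug_mk]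
  constructor
  · intro h
    exact Ideal.mem_map_of_mem _ ((RingHom.mem_ker).mpr h)
  · intro h
    rw [Ideal.mem_map_iff_of_surjective _ Ideal.Quotient.mk_surjective] at h
    obtain ⟨z, hz, hzy⟩ := h
    have : z - y ∈ KaehlerDifferential.ideal A B ^ (n + 1) := by
      rw [← Ideal.Quotient.eq]; exact hzy
    have hle : KaehlerDifferential.ideal A B ^ (n + 1) ≤ KaehlerDifferential.ideal A B :=
      Ideal.pow_le_self (Nat.succ_ne_zero n)
    have hy : y ∈ KaehlerDifferential.ideal A B := by
      have := Ideal.sub_mem _ hz (hle this)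
      simpa using this
    exact (RingHom.mem_ker).mp hy

end augmentation

end Groth.Agent.H6.PP
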