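import Groth.Agent.Lib.helper6.PP
import Mathlib.RingTheory.IsTensorProduct

/-!
# Principal parts and base change (helper6)
-/

set_option autoImplicit false
universe u
open scoped TensorProduct

namespace Groth.Agent.H6.PPBase

open PP16 Groth.Agent.H6.PP

section

variable (n : ℕ) (A B A' B' : Type u) [CommRing A] [CommRing B] [Algebra A B]
  [CommRing A'] [CommRing B'] [Algebra A' B'] [Algebra A A'] [Algebra B B'] [Algebra A B']
  [IsScalarTower A A' B'] [IsScalarTower A B B'] [Algebra.IsPushout A B A' B']

/-- Universal property of `P^n_{B'/A'}` for a pushout square. -/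
theorem exists_desc (L : Type u) [CommRing L] (i : P n A B →+* L) (j : B' →+* L)
    (hij : ∀ b : B, i (algebraMap B (P n A B) b) = j (algebraMap B B' b)) :
    ∃ ψ : P n A' B' →+* L, (∀ p, ψ (PP16.map n A B A' B' p) = i p) ∧
      (∀ b', ψ (algebraMap B' (P n A' B') b') = j b') := by
  let algA' : Algebra A' L := (j.comp (algebraMap A' B')).toAlgebra
  let algA : Algebra A L := (j.comp (algebraMap A B')).toAlgebra
  have : IsScalarTower A A' L := IsScalarTower.of_algebraMap_eq (fun a => by
    change j (algebraMap A B' a) = j (algebraMap A' B' (algebraMap A A' a))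
    rw [← IsScalarTower.algebraMap_apply A A' B'])
  let jA' : B' →ₐ[A'] L := { j with commutes' := fun a' => rfl }
  let iA : P n A B →ₐ[A] L :=
    { i with
      commutes' := fun a => by
        change i (algebraMap A (P n A B) a) = j (algebraMap A B' a)
        rw [IsScalarTower.algebraMap_apply A B (P n A B), hij,
          ← IsScalarTower.algebraMap_apply A B B'] }
  let f0 : B →ₐ[A] L := iA.comp (dn n A B)
  let g0 : A' →ₐ[A] L := (jA'.restrictScalars A).comp (IsScalarTower.toAlgHom A A' B')
  let gr0 : B' →ₐ[A] L := Algebra.pushoutDesc B' f0 g0 (fun _ _ => mul_comm _ _)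
  have hgr0B : ∀ b, gr0 (algebraMap B B' b) = i (dn n A B b) :=
    fun b => Algebra.pushoutDesc_left B' f0 g0 _ b
  have hgr0A' : ∀ a', gr0 (algebraMap A' B' a') = j (algebraMap A' B' a') :=
    fun a' => Algebra.pushoutDesc_right B' f0 g0 _ a'
  let gr : B' →ₐ[A'] L := { gr0.toRingHom with commutes' := fun a' => hgr0A' a' }
  have hgr : ∀ b', gr b' = gr0 b' := fun _ => rfl
  obtain ⟨J, hJdef⟩ : ∃ J : Ideal L, J = (augIdeal n A B).map i := ⟨_, rfl⟩
  have hJ : J ^ (n + 1) = ⊥ := by
    rw [hJdef, ← Ideal.map_pow, augIdeal_pow, Ideal.map_bot]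
  have hdiff : ∀ b', gr b' - jA' b' ∈ J := by
    intro b'
    have h1 : (Ideal.Quotient.mkₐ A J).comp gr0 =
        (Ideal.Quotient.mkₐ A J).comp (jA'.restrictScalars A) := by
      apply Algebra.IsPushout.algHom_ext (R := A) (S := B) (R' := A') (S' := B')
      · refine AlgHom.ext (fun a' => ?_)
        simp only [AlgHom.comp_apply, IsScalarTower.coe_toAlgHom']
        rw [hgr0A']
        rfl
      · refine AlgHom.ext (fun b => ?_)
        simp only [AlgHom.comp_apply, IsScalarTower.coe_toAlgHom']
        rw [hgr0B]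
        change Ideal.Quotient.mk J (i (dn n A B b)) = Ideal.Quotient.mk J (j (algebraMap B B' b))
        rw [Ideal.Quotient.eq]
        rw [← hij, ← map_sub, hJdef]
        exact Ideal.mem_map_of_mem _ (dn_sub_algebraMap_mem n A B b)
    have h2 := DFunLike.congr_fun h1 b'
    simp only [AlgHom.comp_apply, Ideal.Quotient.mkₐ_eq_mk] at h2
    rw [Ideal.Quotient.eq] at h2
    exact h2
  let ψ : P n A' B' →ₐ[A'] L := liftP n A' B' jA' gr J hJ hdiff
  have hψ1 : ∀ b', ψ (algebraMap B' (P n A' B') b') = j b' :=
    fun b' => liftP_algebraMap n A' B' jA' gr J hJ hdiff b'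
  have hψ2 : ∀ b', ψ (dn n A' B' b') = gr0 b' :=
    fun b' => liftP_dn n A' B' jA' gr J hJ hdiff b'
  refine ⟨ψ, ?_, hψ1⟩
  have h3 : (ψ : P n A' B' →+* L).comp (PP16.map n A B A' B' : P n A B →+* P n A' B') = i := by
    apply PP.ringHom_ext
    · intro b
      simp only [RingHom.comp_apply, RingHom.coe_coe]
      rw [PP16.map_algebraMap, hψ1, hij]
    · intro b
      simp only [RingHom.comp_apply, RingHom.coe_coe]
      rw [PP16.map_dn, hψ2, hgr0B]
  intro p
  exact DFunLike.congr_fun h3 p

end

section

variable (n : ℕ) (A B A' B' : Type u) [CommRing A] [CommRing B] [Algebra A B]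
  [CommRing A'] [CommRing B'] [Algebra A' B'] [Algebra A A'] [Algebra B B'] [Algebra A B']
  [IsScalarTower A A' B'] [IsScalarTower A B B'] [Algebra.IsPushout A B A' B']

include A in
theorem pushout_ringHom_ext {X : Type*} [Semiring X] (f g : B' →+* X)
    (h1 : ∀ b, f (algebraMap B B' b) = g (algebraMap B B' b))
    (h2 : ∀ a', f (algebraMap A' B' a') = g (algebraMap A' B' a')) : f = g := by
  refine RingHom.ext (fun x => ?_)
  refine (Algebra.IsPushout.out (R := A) (S := B) (R' := A') (S' := B')).inductionOn x _ ?_ ?_ ?_ ?_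
  · rw [map_zero, map_zero]
  · intro a'
    exact h2 a'
  · intro b x hx
    rw [Algebra.smul_def, map_mul, map_mul, hx, h1]
  · intro x y hx hy
    rw [map_add, map_add, hx, hy]

attribute [local instance] PP16.mapAlgebra PP16.isScalarTower_mapAlgebra

theorem isPushout_P : Algebra.IsPushout B (P n A B) B' (P n A' B') := by
  let i : P n A B →+* (P n A B ⊗[B] B') :=
    (Algebra.TensorProduct.includeLeft : P n A B →ₐ[B] (P n A B ⊗[B] B'))
  let j : B' →+* (P n A B ⊗[B] B') :=
    (Algebra.TensorProduct.includeRight : B' →ₐ[B] (P n A B ⊗[B] B'))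
  have hi : ∀ p, i p = p ⊗ₜ[B] (1 : B') := fun _ => rfl
  have hj : ∀ b', j b' = (1 : P n A B) ⊗ₜ[B] b' := fun _ => rfl
  have hij : ∀ b : B, i (algebraMap B (P n A B) b) = j (algebraMap B B' b) := by
    intro b
    exact ((Algebra.TensorProduct.includeLeft : P n A B →ₐ[B] (P n A B ⊗[B] B')).commutes b).trans
      ((Algebra.TensorProduct.includeRight : B' →ₐ[B] (P n A B ⊗[B] B')).commutes b).symm
  obtain ⟨ψ, hψ1, hψ2⟩ := exists_desc n A B A' B' (P n A B ⊗[B] B') i j hij
  let φ : (P n A B ⊗[B] B') →ₐ[P n A B] P n A' B' :=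
    Algebra.TensorProduct.lift (Algebra.ofId (P n A B) (P n A' B'))
      (IsScalarTower.toAlgHom B B' (P n A' B')) (fun _ _ => Commute.all _ _)
  have hφ : ∀ p b', φ (p ⊗ₜ[B] b') = PP16.map n A B A' B' p * algebraMap B' (P n A' B') b' := by
    intro p b'
    simp only [φ, Algebra.TensorProduct.lift_tmul]
    rfl
  have h1 : ∀ x, φ (ψ x) = x := by
    have h3 : (φ : (P n A B ⊗[B] B') →+* P n A' B').comp ψ = RingHom.id _ := by
      apply PP.ringHom_ext
      · intro b'
        simp only [RingHom.comp_apply, RingHom.coe_coe, RingHom.id_apply]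
        rw [hψ2, hj, hφ, map_one, one_mul]
      · intro b'
        have h4 : ((φ : (P n A B ⊗[B] B') →+* P n A' B').comp ψ).comp
            (dn n A' B' : B' →+* P n A' B') = (dn n A' B' : B' →+* P n A' B') := by
          apply pushout_ringHom_ext A B A' B'
          · intro b
            simp only [RingHom.comp_apply, RingHom.coe_coe]
            rw [← PP16.map_dn n A B A' B', hψ1, hi, hφ, map_one, mul_one]
          · intro a'
            simp only [RingHom.comp_apply, RingHom.coe_coe]
            have h5 : dn n A' B' (algebraMap A' B' a') =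
                algebraMap B' (P n A' B') (algebraMap A' B' a') := by
              rw [AlgHom.commutes, IsScalarTower.algebraMap_apply A' B' (P n A' B')]
            rw [h5, hψ2, hj, hφ, map_one, one_mul]
        exact DFunLike.congr_fun h4 b'
    intro x
    exact DFunLike.congr_fun h3 x
  have h2 : ∀ y, ψ (φ y) = y := by
    intro y
    induction y using TensorProduct.induction_on with
    | zero => simp
    | tmul p b' =>
      rw [hφ, map_mul, hψ1, hψ2, hi, hj, Algebra.TensorProduct.tmul_mul_tmul, mul_one, one_mul]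
    | add x y hx hy => rw [map_add, map_add, hx, hy]
  let e : (P n A B ⊗[B] B') ≃ₗ[P n A B] P n A' B' :=
    { φ.toLinearMap with
      invFun := ψ
      left_inv := h2
      right_inv := h1 }
  refine ⟨IsBaseChange.of_equiv e (fun b' => ?_)⟩
  change φ ((1 : P n A B) ⊗ₜ[B] b') = _
  rw [hφ, map_one, one_mul]
  rfl

end

end Groth.Agent.H6.PPBase
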