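import Groth.Prelude.Def_PP16
import Groth.Prelude.Def_DiffOp
import Groth.Agent.Lib.helper5.DiffOp
import Groth.Agent.S3805

/-!
# Principal parts of a module and differential operators (helper6)
-/

set_option autoImplicit false
universe u
open scoped TensorProduct

namespace Groth.Agent.H6.PPDiff

open PP16 Diff16

section

variable (n : ℕ) (A B : Type u) [CommRing A] [CommRing B] [Algebra A B]
  (M N : Type u) [AddCommGroup M] [Module A M] [Module B M] [IsScalarTower A B M]
  [AddCommGroup N] [Module A N] [Module B N] [IsScalarTower A B N]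

/-- `c ↦ c • m` as an `A`-linear map `B → M`. -/
noncomputable def smulRight (m : M) : B →ₗ[A] M :=
  (LinearMap.toSpanSingleton B M m).restrictScalars A

@[simp] lemma smulRight_apply (m : M) (c : B) : smulRight A B M m c = c • m := rfl

lemma isDiffOpLE_smulRight (m : M) : IsDiffOpLE A B B M 0 (smulRight A B M m) := by
  intro b c
  simp [mul_smul]

lemma isDiffOpLE_comp_smulRight (D : M →ₗ[A] N) (h : IsDiffOpLE A B M N n D) (m : M) :
    IsDiffOpLE A B B N n (D ∘ₗ smulRight A B M m) :=
  Groth.Agent.H5.DiffOp.isDiffOpLE_comp A B B M N n 0 n (zero_add n) _ _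
    (isDiffOpLE_smulRight A B M m) h

/-- The pairing `B ⊗ B → Hom_A(M, N)`, `b ⊗ c ↦ (m ↦ b • D (c • m))`. -/
noncomputable def pair (D : M →ₗ[A] N) : B ⊗[A] B →ₗ[A] (M →ₗ[A] N) :=
  TensorProduct.lift
    (LinearMap.mk₂ A (fun b c => b • (D ∘ₗ ((LinearMap.lsmul B M c).restrictScalars A)))
      (fun b b' c => by rw [add_smul])
      (fun a b c => by rw [smul_assoc])
      (fun b c c' => by
        ext m
        simp)
      (fun a b c => by
        ext m
        simp [smul_comm a b]))

@[simp] lemma pair_tmul (D : M →ₗ[A] N) (b c : B) (m : M) :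
    pair A B M N D (b ⊗ₜ[A] c) m = b • D (c • m) := by
  simp [pair]

lemma pair_apply (D : M →ₗ[A] N) (y : B ⊗[A] B) (m : M) :
    pair A B M N D y m = linearize A B B N (D ∘ₗ smulRight A B M m) y := by
  induction y using TensorProduct.induction_on with
  | zero => simp
  | tmul b c => simp
  | add x y hx hy => rw [map_add, map_add, LinearMap.add_apply, hx, hy]

lemma pair_eq_zero_of_mem (D : M →ₗ[A] N) (h : IsDiffOpLE A B M N n D) (y : B ⊗[A] B)
    (hy : y ∈ (KaehlerDifferential.ideal A B) ^ (n + 1)) : pair A B M N D y = 0 := by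
  ext m
  rw [pair_apply]
  exact (Groth.Agent.H5.DiffOp.isDiffOpLE_iff_linearize A B N n _).mp
    (isDiffOpLE_comp_smulRight n A B M N D h m) y hy

lemma pair_mul_left (D : M →ₗ[A] N) (b : B) (y : B ⊗[A] B) (m : M) :
    pair A B M N D ((b ⊗ₜ[A] (1 : B)) * y) m = b • pair A B M N D y m := by
  induction y using TensorProduct.induction_on with
  | zero => simp
  | tmul c c' => simp [Algebra.TensorProduct.tmul_mul_tmul, mul_smul]
  | add x y hx hy => rw [mul_add, map_add, map_add, LinearMap.add_apply, LinearMap.add_apply, hx, hy,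
      smul_add]

lemma pair_mul_right (D : M →ₗ[A] N) (b : B) (y : B ⊗[A] B) (m : M) :
    pair A B M N D (((1 : B) ⊗ₜ[A] b) * y) m = pair A B M N D y (b • m) := by
  induction y using TensorProduct.induction_on with
  | zero => simp
  | tmul c c' => simp [Algebra.TensorProduct.tmul_mul_tmul, mul_smul, mul_comm b c']
  | add x y hx hy => rw [mul_add, map_add, map_add, LinearMap.add_apply, LinearMap.add_apply, hx, hy]

end

section

variable (n : ℕ) (A B : Type u) [CommRing A] [CommRing B] [Algebra A B]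
  (M N : Type u) [AddCommGroup M] [Module A M] [Module B M] [IsScalarTower A B M]
  [AddCommGroup N] [Module A N] [Module B N] [IsScalarTower A B N]

/-- The induced pairing on principal parts. -/
noncomputable def pairQ (D : M →ₗ[A] N) (h : IsDiffOpLE A B M N n D) :
    P n A B →ₗ[A] (M →ₗ[A] N) :=
  (Submodule.liftQ (((KaehlerDifferential.ideal A B) ^ (n + 1)).restrictScalars A)
    (pair A B M N D) (fun y hy => pair_eq_zero_of_mem n A B M N D h y hy)) ∘ₗ
    (Submodule.Quotient.restrictScalarsEquiv A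
      ((KaehlerDifferential.ideal A B) ^ (n + 1))).symm.toLinearMap

lemma pairQ_mk (D : M →ₗ[A] N) (h : IsDiffOpLE A B M N n D) (y : B ⊗[A] B) :
    pairQ n A B M N D h (Ideal.Quotient.mk _ y) = pair A B M N D y := rfl

lemma prod_mem_pow' {R : Type*} [CommRing R] (I : Ideal R) {ι : Type*} (s : Finset ι) (x : ι → R)
    (hx : ∀ i ∈ s, x i ∈ I) : ∏ i ∈ s, x i ∈ I ^ s.card := by
  classical
  induction s using Finset.induction_on with
  | empty => simp
  | insert a s ha ih =>
    rw [Finset.prod_insert ha, Finset.card_insert_of_notMem ha, pow_succ']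
    exact Ideal.mul_mem_mul (hx a (by simp)) (ih fun i hi => hx i (by simp [hi]))

/-- Cast from `P` to its synonym `Pr`. -/
def toPr (x : P n A B) : Pr n A B := x

/-- Cast from `Pr` to `P`. -/
def ofPr (x : Pr n A B) : P n A B := x

@[simp] lemma toPr_ofPr (x : Pr n A B) : toPr n A B (ofPr n A B x) = x := rfl
@[simp] lemma ofPr_toPr (x : P n A B) : ofPr n A B (toPr n A B x) = x := rfl

lemma toPr_add (x y : P n A B) : toPr n A B (x + y) = toPr n A B x + toPr n A B y := rfl
lemma toPr_zero : toPr n A B 0 = 0 := rfl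
lemma toPr_one : toPr n A B 1 = 1 := rfl

lemma smul_toPr (c : B) (x : P n A B) : c • toPr n A B x = toPr n A B (dn n A B c * x) := rfl

lemma P_smul_toPr (p : P n A B) (x : P n A B) : p • toPr n A B x = toPr n A B (p * x) := rfl

/-- `d^n c = c • 1` in `Pr`. -/
lemma toPr_dn (c : B) : toPr n A B (dn n A B c) = c • (1 : Pr n A B) := by
  rw [← toPr_one, smul_toPr, mul_one]

omit [Module A M] [IsScalarTower A B M] in
lemma dn_tmul (c : B) (m : M) :
    (toPr n A B (dn n A B c) ⊗ₜ[B] m : PM n A B M) = dM n A B M (c • m) := by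
  rw [toPr_dn, TensorProduct.smul_tmul]
  rfl

omit [Module A M] [IsScalarTower A B M] in
lemma P_smul_tmul (p : P n A B) (x : P n A B) (m : M) :
    p • (toPr n A B x ⊗ₜ[B] m : PM n A B M) = toPr n A B (p * x) ⊗ₜ[B] m := by
  rw [TensorProduct.smul_tmul', P_smul_toPr]

omit [Module A M] [IsScalarTower A B M] [Module A N] [IsScalarTower A B N] in
/-- Two left-linear additive maps out of `P^n(M)` agreeing on `d^n_M` are equal. -/
lemma ext_of_dM (u₁ u₂ : PM n A B M →+ N)
    (h₁ : ∀ (b : B) (t : PM n A B M), u₁ (algebraMap B (P n A B) b • t) = b • u₁ t)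
    (h₂ : ∀ (b : B) (t : PM n A B M), u₂ (algebraMap B (P n A B) b • t) = b • u₂ t)
    (h : ∀ m : M, u₁ (dM n A B M m) = u₂ (dM n A B M m)) : u₁ = u₂ := by
  ext t
  induction t using TensorProduct.induction_on with
  | zero => simp
  | tmul x m =>
    have hx : ofPr n A B x ∈ Submodule.span B (Set.range (dn n A B)) := by
      rw [Groth.Agent.S3805.result n A B]; trivial
    rw [← toPr_ofPr n A B x]
    refine Submodule.span_induction
      (p := fun (x' : P n A B) _ => u₁ (toPr n A B x' ⊗ₜ[B] m) = u₂ (toPr n A B x' ⊗ₜ[B] m))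
      ?_ ?_ ?_ ?_ hx
    · rintro _ ⟨c, rfl⟩
      rw [dn_tmul]
      exact h _
    · rw [toPr_zero, TensorProduct.zero_tmul, map_zero, map_zero]
    · intro x y _ _ hx hy
      rw [toPr_add, TensorProduct.add_tmul, map_add, map_add, hx, hy]
    · intro b x _ hx
      have : toPr n A B (b • x) ⊗ₜ[B] m =
          algebraMap B (P n A B) b • (toPr n A B x ⊗ₜ[B] m : PM n A B M) := by
        rw [P_smul_tmul, Algebra.smul_def]
      rw [this, h₁, h₂, hx]
  | add x y hx hy => rw [map_add, map_add, hx, hy]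

end

section

variable (n : ℕ) (A B : Type u) [CommRing A] [CommRing B] [Algebra A B]
  (M N : Type u) [AddCommGroup M] [Module A M] [Module B M] [IsScalarTower A B M]
  [AddCommGroup N] [Module A N] [Module B N] [IsScalarTower A B N]

lemma pairQ_dn_mul (D : M →ₗ[A] N) (h : IsDiffOpLE A B M N n D) (r : B) (p : P n A B) (m : M) :
    pairQ n A B M N D h (dn n A B r * p) m = pairQ n A B M N D h p (r • m) := by
  obtain ⟨y, rfl⟩ := Ideal.Quotient.mk_surjective p
  have : dn n A B r * Ideal.Quotient.mk _ y =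
      Ideal.Quotient.mk ((KaehlerDifferential.ideal A B) ^ (n + 1)) (((1 : B) ⊗ₜ[A] r) * y) := by
    rw [map_mul]; rfl
  rw [this, pairQ_mk, pairQ_mk, pair_mul_right]

lemma pairQ_algebraMap_mul (D : M →ₗ[A] N) (h : IsDiffOpLE A B M N n D) (r : B) (p : P n A B)
    (m : M) :
    pairQ n A B M N D h (algebraMap B (P n A B) r * p) m = r • pairQ n A B M N D h p m := by
  obtain ⟨y, rfl⟩ := Ideal.Quotient.mk_surjective p
  have : algebraMap B (P n A B) r * Ideal.Quotient.mk _ y =
      Ideal.Quotient.mk ((KaehlerDifferential.ideal A B) ^ (n + 1)) ((r ⊗ₜ[A] (1 : B)) * y) := by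
    rw [map_mul]; rfl
  rw [this, pairQ_mk, pairQ_mk, pair_mul_left]

/-- The additive map `P^n(M) → N` attached to a differential operator of order `≤ n`. -/
noncomputable def uMap (D : M →ₗ[A] N) (h : IsDiffOpLE A B M N n D) : PM n A B M →+ N :=
  TensorProduct.liftAddHom
    (AddMonoidHom.mk' (fun x : Pr n A B => (pairQ n A B M N D h (ofPr n A B x)).toAddMonoidHom)
      (by
        intro x y
        ext m
        change pairQ n A B M N D h (ofPr n A B x + ofPr n A B y) m = _
        rw [map_add]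
        rfl))
    (by
      intro r x m
      exact pairQ_dn_mul n A B M N D h r (ofPr n A B x) m)

lemma uMap_tmul (D : M →ₗ[A] N) (h : IsDiffOpLE A B M N n D) (p : P n A B) (m : M) :
    uMap n A B M N D h (toPr n A B p ⊗ₜ[B] m) = pairQ n A B M N D h p m := rfl

lemma uMap_smul (D : M →ₗ[A] N) (h : IsDiffOpLE A B M N n D) (b : B) (t : PM n A B M) :
    uMap n A B M N D h (algebraMap B (P n A B) b • t) = b • uMap n A B M N D h t := by
  induction t using TensorProduct.induction_on with
  | zero => simp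
  | tmul x m =>
    rw [← toPr_ofPr n A B x, P_smul_tmul, uMap_tmul, uMap_tmul, pairQ_algebraMap_mul]
  | add x y hx hy => rw [smul_add, map_add, map_add, hx, hy, smul_add]

lemma uMap_dM (D : M →ₗ[A] N) (h : IsDiffOpLE A B M N n D) (m : M) :
    uMap n A B M N D h (dM n A B M m) = D m := by
  change uMap n A B M N D h (toPr n A B 1 ⊗ₜ[B] m) = D m
  rw [uMap_tmul]
  change pair A B M N D ((1 : B) ⊗ₜ[A] (1 : B)) m = D m
  rw [pair_tmul, one_smul, one_smul]

end

section

variable (n : ℕ) (A B : Type u) [CommRing A] [CommRing B] [Algebra A B]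
  (M N : Type u) [AddCommGroup M] [Module A M] [Module B M] [IsScalarTower A B M]
  [AddCommGroup N] [Module A N] [Module B N] [IsScalarTower A B N]

lemma prod_dn_sub_eq_zero (b : Fin (n + 1) → B) :
    ∏ i, (dn n A B (b i) - algebraMap B (P n A B) (b i)) = 0 := by
  have h1 : ∀ i, dn n A B (b i) - algebraMap B (P n A B) (b i) =
      Ideal.Quotient.mk ((KaehlerDifferential.ideal A B) ^ (n + 1))
        ((1 : B) ⊗ₜ[A] b i - b i ⊗ₜ[A] (1 : B)) := by
    intro i
    rw [map_sub]
    rfl
  simp_rw [h1]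
  rw [← map_prod, Ideal.Quotient.eq_zero_iff_mem]
  have := prod_mem_pow' (KaehlerDifferential.ideal A B) (Finset.univ : Finset (Fin (n + 1)))
    (fun i => (1 : B) ⊗ₜ[A] b i - b i ⊗ₜ[A] (1 : B))
    (fun i _ => KaehlerDifferential.one_smul_sub_smul_one_mem_ideal A (b i))
  simpa using this

lemma sum_alt_eq_zero (b : Fin (n + 1) → B) :
    ∑ H : Finset (Fin (n + 1)), ((-1 : ℤ) ^ H.card) •
      (algebraMap B (P n A B) (∏ i ∈ H, b i) * dn n A B (∏ i ∈ Hᶜ, b i)) = 0 := by
  rw [← prod_dn_sub_eq_zero n A B b]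
  have h1 : ∀ i, dn n A B (b i) - algebraMap B (P n A B) (b i) =
      (- algebraMap B (P n A B) (b i)) + dn n A B (b i) := by
    intro i; ring
  simp_rw [h1]
  rw [Finset.prod_add, Finset.powerset_univ]
  refine Finset.sum_congr rfl (fun H _ => ?_)
  rw [Finset.prod_neg, zsmul_eq_mul, map_prod, map_prod, Finset.compl_eq_univ_sdiff]
  push_cast
  ring

omit [IsScalarTower A B M] [IsScalarTower A B N] in
lemma isDiffOpLE_of_factor [IsScalarTower A B M] [IsScalarTower A B N]
    (D : M →ₗ[A] N) (u : PM n A B M →+ N)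
    (h₁ : ∀ (b : B) (t : PM n A B M), u (algebraMap B (P n A B) b • t) = b • u t)
    (h₂ : ∀ m : M, u (dM n A B M m) = D m) : IsDiffOpLE A B M N n D := by
  rw [Groth.Agent.H5.DiffOp.isDiffOpLE_iff_altSum_fin]
  intro b t
  let g : P n A B →+ N :=
    { toFun := fun p => u (toPr n A B p ⊗ₜ[B] t)
      map_zero' := by rw [toPr_zero, TensorProduct.zero_tmul, map_zero]
      map_add' := fun x y => by rw [toPr_add, TensorProduct.add_tmul, map_add] }
  have key : ∀ H : Finset (Fin (n + 1)),
      (∏ i ∈ H, b i) • D ((∏ i ∈ Hᶜ, b i) • t) =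
        g (algebraMap B (P n A B) (∏ i ∈ H, b i) * dn n A B (∏ i ∈ Hᶜ, b i)) := by
    intro H
    change _ = u (toPr n A B _ ⊗ₜ[B] t)
    rw [← h₂, ← dn_tmul, ← h₁, P_smul_tmul]
  simp_rw [key, ← map_zsmul, ← map_sum]
  rw [sum_alt_eq_zero, map_zero]

end

end Groth.Agent.H6.PPDiff
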