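import Groth.Agent.Lib.helper6.PP
import Mathlib.RingTheory.Localization.Basic
import Mathlib.RingTheory.Localization.Ideal

/-!
# Principal parts and localization (helper6)
-/

set_option autoImplicit false
universe u
open scoped TensorProduct

namespace Groth.Agent.H6.PPLoc

open PP16 Groth.Agent.H6.PP

attribute [local instance] PP16.mapAlgebra PP16.isScalarTower_mapAlgebra

section

variable (n : ℕ) (A B : Type u) [CommRing A] [CommRing B] [Algebra A B]

lemma algebraMap_sub_dn_pow (s : B) :
    (algebraMap B (P n A B) s - dn n A B s) ^ (n + 1) = 0 := by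
  have h1 : algebraMap B (P n A B) s - dn n A B s ∈ augIdeal n A B := by
    have := neg_mem (dn_sub_algebraMap_mem n A B s)
    rwa [neg_sub] at this
  have h2 := Ideal.pow_mem_pow h1 (n + 1)
  rw [augIdeal_pow] at h2
  exact h2

lemma dn_dvd_pow (s : B) : dn n A B s ∣ (algebraMap B (P n A B) s) ^ (n + 1) := by
  have := sub_dvd_pow_sub_pow (algebraMap B (P n A B) s)
    (algebraMap B (P n A B) s - dn n A B s) (n + 1)
  rw [algebraMap_sub_dn_pow, sub_zero, sub_sub_cancel] at this
  exact this

lemma algebraMap_dvd_pow (s : B) : algebraMap B (P n A B) s ∣ (dn n A B s) ^ (n + 1) := by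
  have h0 : (dn n A B s - algebraMap B (P n A B) s) ^ (n + 1) = 0 := by
    have h2 := Ideal.pow_mem_pow (dn_sub_algebraMap_mem n A B s) (n + 1)
    rw [augIdeal_pow] at h2
    exact h2
  have := sub_dvd_pow_sub_pow (dn n A B s) (dn n A B s - algebraMap B (P n A B) s) (n + 1)
  rw [h0, sub_zero, sub_sub_cancel] at this
  exact this

end

section main

variable (n : ℕ) (A B B' : Type u) [CommRing A] [CommRing B] [Algebra A B]
  [CommRing B'] [Algebra B B'] [Algebra A B'] [IsScalarTower A B B'] (S : Submonoid B)
  [IsLocalization S B']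

theorem isLocalization_P_aux (T : Submonoid (P n A B)) (hT : T = S.map (algebraMap B (P n A B)))
    (L : Type u) [CommRing L] [Algebra (P n A B) L] [Algebra A L] [IsScalarTower A (P n A B) L]
    [IsLocalization T L] :
    IsLocalization T (P n A B') := by
  have hu1 : ∀ s : S, IsUnit ((algebraMap (P n A B) (L)).comp
      (algebraMap B (P n A B)) s) := fun s =>
    IsLocalization.map_units L
      (⟨algebraMap B (P n A B) s, by rw [hT]; exact Submonoid.mem_map_of_mem _ s.2⟩ : T)
  have hu2 : ∀ s : S, IsUnit ((algebraMap (P n A B) (L)).comp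
      (dn n A B : B →+* P n A B) s) := by
    intro s
    obtain ⟨y, hy⟩ := dn_dvd_pow n A B (s : B)
    have : IsUnit (algebraMap (P n A B) (L) (dn n A B s) *
        algebraMap (P n A B) (L) y) := by
      rw [← map_mul, ← hy, map_pow]
      exact (hu1 s).pow _
    exact isUnit_of_mul_isUnit_left this
  let gl0 : B' →+* L := IsLocalization.lift (M := S) hu1
  let gr0 : B' →+* L := IsLocalization.lift (M := S) hu2
  have hgl0 : ∀ b : B, gl0 (algebraMap B B' b) =
      algebraMap (P n A B) (L) (algebraMap B (P n A B) b) :=
    fun b => IsLocalization.lift_eq hu1 b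
  have hgr0 : ∀ b : B, gr0 (algebraMap B B' b) =
      algebraMap (P n A B) (L) (dn n A B b) :=
    fun b => IsLocalization.lift_eq hu2 b
  let gl : B' →ₐ[A] L :=
    { gl0 with
      commutes' := fun a => by
        change gl0 (algebraMap A B' a) = _
        rw [IsScalarTower.algebraMap_apply A B B', hgl0,
          ← IsScalarTower.algebraMap_apply A B (P n A B),
          ← IsScalarTower.algebraMap_apply A (P n A B) (L)] }
  let gr : B' →ₐ[A] L :=
    { gr0 with
      commutes' := fun a => by
        change gr0 (algebraMap A B' a) = _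
        rw [IsScalarTower.algebraMap_apply A B B', hgr0, AlgHom.commutes,
          ← IsScalarTower.algebraMap_apply A (P n A B) (L)] }
  have hgl : ∀ b', gl b' = gl0 b' := fun _ => rfl
  have hgr : ∀ b', gr b' = gr0 b' := fun _ => rfl
  obtain ⟨J, hJdef⟩ : ∃ J : Ideal (L),
      J = (augIdeal n A B).map (algebraMap (P n A B) (L)) := ⟨_, rfl⟩
  have hJ : J ^ (n + 1) = ⊥ := by
    rw [hJdef, ← Ideal.map_pow, augIdeal_pow, Ideal.map_bot]
  have hdiff : ∀ b' : B', gr b' - gl b' ∈ J := by
    intro b'
    have h1 : (Ideal.Quotient.mk J).comp gr0 = (Ideal.Quotient.mk J).comp gl0 := by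
      apply IsLocalization.ringHom_ext S
      refine RingHom.ext (fun b => ?_)
      simp only [RingHom.comp_apply]
      rw [hgr0, hgl0, Ideal.Quotient.eq, ← map_sub, hJdef]
      exact Ideal.mem_map_of_mem _ (dn_sub_algebraMap_mem n A B b)
    have h2 := DFunLike.congr_fun h1 b'
    simp only [RingHom.comp_apply] at h2
    rw [Ideal.Quotient.eq] at h2
    exact h2
  let G : P n A B' →ₐ[A] L := liftP n A B' gl gr J hJ hdiff
  have hG1 : ∀ b', G (algebraMap B' (P n A B') b') = gl0 b' :=
    fun b' => liftP_algebraMap n A B' gl gr J hJ hdiff b'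
  have hG2 : ∀ b', G (dn n A B' b') = gr0 b' :=
    fun b' => liftP_dn n A B' gl gr J hJ hdiff b'
  have hfu : ∀ t : T, IsUnit (algebraMap (P n A B) (P n A B') t) := by
    rintro ⟨t, ht⟩
    rw [hT] at ht
    obtain ⟨s, hs, rfl⟩ := ht
    change IsUnit (PP16.map n A B A B' (algebraMap B (P n A B) s))
    rw [PP16.map_algebraMap]
    exact (IsLocalization.map_units B' (⟨s, hs⟩ : S)).map _
  let F : L →+* P n A B' := IsLocalization.lift (M := T) hfu
  have hF : ∀ p, F (algebraMap (P n A B) (L) p) = PP16.map n A B A B' p :=
    fun p => IsLocalization.lift_eq hfu p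
  have hGf : ∀ p : P n A B, G (PP16.map n A B A B' p) = algebraMap (P n A B) (L) p := by
    have h1 : (G : P n A B' →+* L).comp
        (PP16.map n A B A B' : P n A B →+* P n A B') = algebraMap (P n A B) (L) := by
      apply PP.ringHom_ext
      · intro b
        simp only [RingHom.comp_apply, RingHom.coe_coe]
        rw [PP16.map_algebraMap, hG1, hgl0]
      · intro b
        simp only [RingHom.comp_apply, RingHom.coe_coe]
        rw [PP16.map_dn, hG2, hgr0]
    intro p
    exact DFunLike.congr_fun h1 p
  have hFG : ∀ x : P n A B', F (G x) = x := by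
    have h1 : F.comp (G : P n A B' →+* L) = RingHom.id _ := by
      apply PP.ringHom_ext
      · intro b'
        have h2 : (F.comp (G : P n A B' →+* L)).comp (algebraMap B' (P n A B')) =
            algebraMap B' (P n A B') := by
          apply IsLocalization.ringHom_ext S
          refine RingHom.ext (fun b => ?_)
          simp only [RingHom.comp_apply, RingHom.coe_coe]
          rw [hG1, hgl0, hF, PP16.map_algebraMap]
        exact DFunLike.congr_fun h2 b'
      · intro b'
        have h2 : (F.comp (G : P n A B' →+* L)).comp (dn n A B' : B' →+* P n A B') =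
            (dn n A B' : B' →+* P n A B') := by
          apply IsLocalization.ringHom_ext S
          refine RingHom.ext (fun b => ?_)
          simp only [RingHom.comp_apply, RingHom.coe_coe]
          rw [hG2, hgr0, hF, PP16.map_dn]
        exact DFunLike.congr_fun h2 b'
    intro x
    exact DFunLike.congr_fun h1 x
  have hGF : ∀ y : L, G (F y) = y := by
    have h1 : (G : P n A B' →+* L).comp F = RingHom.id _ := by
      apply IsLocalization.ringHom_ext T
      refine RingHom.ext (fun p => ?_)
      simp only [RingHom.comp_apply, RingHom.coe_coe, RingHom.id_apply]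
      rw [hF, hGf]
    intro y
    exact DFunLike.congr_fun h1 y
  let e : L ≃ₐ[P n A B] P n A B' :=
    AlgEquiv.ofRingEquiv (f := RingEquiv.ofRingHom F (G : P n A B' →+* L)
      (RingHom.ext hFG) (RingHom.ext hGF)) (fun p => hF p)
  exact IsLocalization.isLocalization_of_algEquiv T e

theorem isLocalization_P :
    IsLocalization (S.map (algebraMap B (P n A B))) (P n A B') :=
  isLocalization_P_aux n A B B' S _ rfl (Localization (S.map (algebraMap B (P n A B))))

end main

end Groth.Agent.H6.PPLoc
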