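import Groth.Agent.Lib.helper6.PP
import Mathlib.LinearAlgebra.SymmetricAlgebra.Basic

/-!
# Principal parts of a symmetric algebra (helper6)
-/

set_option autoImplicit false
universe u
open scoped TensorProduct

namespace Groth.Agent.H6.PPSym

open PP16 Groth.Agent.H6.PP

section

variable (n : ℕ) (A : Type u) [CommRing A] (E : Type u) [AddCommGroup E] [Module A E]

/-- The augmentation ideal of the symmetric algebra. -/
noncomputable def K : Ideal (SymmetricAlgebra A E) :=
  RingHom.ker (SymmetricAlgebra.lift (0 : E →ₗ[A] A))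

lemma ι_mem_K (t : E) : SymmetricAlgebra.ι A E t ∈ K A E := by
  unfold K
  rw [RingHom.mem_ker, SymmetricAlgebra.lift_ι_apply]
  rfl

/-- `t ↦ d^n t - t` extended to the symmetric algebra. -/
noncomputable def hr : SymmetricAlgebra A E →ₐ[A] P n A (SymmetricAlgebra A E) :=
  SymmetricAlgebra.lift (A := P n A (SymmetricAlgebra A E))
    ((dn n A (SymmetricAlgebra A E)).toLinearMap ∘ₗ SymmetricAlgebra.ι A E -
      (Algebra.ofId (SymmetricAlgebra A E) (P n A (SymmetricAlgebra A E))).toLinearMap.restrictScalars A ∘ₗ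
        SymmetricAlgebra.ι A E)

lemma hr_ι (t : E) : hr n A E (SymmetricAlgebra.ι A E t) =
    dn n A (SymmetricAlgebra A E) (SymmetricAlgebra.ι A E t) -
      algebraMap (SymmetricAlgebra A E) (P n A (SymmetricAlgebra A E)) (SymmetricAlgebra.ι A E t) := by
  unfold hr
  rw [SymmetricAlgebra.lift_ι_apply]
  rfl

lemma aug_hr (x : SymmetricAlgebra A E) :
    aug n A (SymmetricAlgebra A E) (hr n A E x) =
      algebraMap A (SymmetricAlgebra A E) (SymmetricAlgebra.lift (0 : E →ₗ[A] A) x) := by
  have h1 : ((aug n A (SymmetricAlgebra A E)).restrictScalars A).comp (hr n A E) =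
      (Algebra.ofId A (SymmetricAlgebra A E)).comp (SymmetricAlgebra.lift (0 : E →ₗ[A] A)) := by
    apply SymmetricAlgebra.algHom_ext
    refine LinearMap.ext (fun t => ?_)
    change aug n A (SymmetricAlgebra A E) (hr n A E (SymmetricAlgebra.ι A E t)) =
      algebraMap A (SymmetricAlgebra A E)
        (SymmetricAlgebra.lift (0 : E →ₗ[A] A) (SymmetricAlgebra.ι A E t))
    rw [hr_ι, map_sub, aug_dn, aug_algebraMap, sub_self, SymmetricAlgebra.lift_ι_apply]
    simp
  exact DFunLike.congr_fun h1 x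

lemma hr_mem_augIdeal (x : SymmetricAlgebra A E) (hx : x ∈ K A E) :
    hr n A E x ∈ augIdeal n A (SymmetricAlgebra A E) := by
  rw [← ker_aug, RingHom.mem_ker, aug_hr]
  unfold K at hx
  rw [RingHom.mem_ker] at hx
  rw [hx, map_zero]

lemma hr_eq_zero (x : SymmetricAlgebra A E) (hx : x ∈ K A E ^ (n + 1)) : hr n A E x = 0 := by
  have h1 : (K A E).map (hr n A E) ≤ augIdeal n A (SymmetricAlgebra A E) := by
    rw [Ideal.map_le_iff_le_comap]
    intro y hy
    exact hr_mem_augIdeal n A E y hy
  have h2 : hr n A E x ∈ ((K A E) ^ (n + 1)).map (hr n A E) := Ideal.mem_map_of_mem _ hx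
  rw [Ideal.map_pow] at h2
  have h3 := Ideal.pow_right_mono h1 (n + 1) h2
  rw [augIdeal_pow] at h3
  exact h3

/-- The induced map on the truncated symmetric algebra. -/
noncomputable def hrQ : (SymmetricAlgebra A E ⧸ K A E ^ (n + 1)) →ₐ[A] P n A (SymmetricAlgebra A E) :=
  Ideal.Quotient.liftₐ (K A E ^ (n + 1)) (hr n A E) (fun x hx => hr_eq_zero n A E x hx)

lemma hrQ_mk (x : SymmetricAlgebra A E) :
    hrQ n A E (Ideal.Quotient.mk (K A E ^ (n + 1)) x) = hr n A E x := rfl

/-- Abstract forward map. -/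
theorem exists_fwd {C : Type u} [CommRing C] [Algebra A C] (gl : SymmetricAlgebra A E →ₐ[A] C)
    (r : (SymmetricAlgebra A E ⧸ K A E ^ (n + 1)) →ₐ[A] C) :
    ∃ e₀ : P n A (SymmetricAlgebra A E) →ₐ[A] C,
      (∀ b, e₀ (algebraMap (SymmetricAlgebra A E) (P n A (SymmetricAlgebra A E)) b) = gl b) ∧
      (∀ t, e₀ (dn n A (SymmetricAlgebra A E) (SymmetricAlgebra.ι A E t)) =
        gl (SymmetricAlgebra.ι A E t) +
          r (Ideal.Quotient.mk (K A E ^ (n + 1)) (SymmetricAlgebra.ι A E t))) ∧
      (∀ x, e₀ (hr n A E x) = r (Ideal.Quotient.mk (K A E ^ (n + 1)) x)) := by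
  let v : E →ₗ[A] C := gl.toLinearMap ∘ₗ SymmetricAlgebra.ι A E +
    r.toLinearMap ∘ₗ (Ideal.Quotient.mkₐ A (K A E ^ (n + 1))).toLinearMap ∘ₗ SymmetricAlgebra.ι A E
  have hv : ∀ t, v t = gl (SymmetricAlgebra.ι A E t) +
      r (Ideal.Quotient.mk (K A E ^ (n + 1)) (SymmetricAlgebra.ι A E t)) := fun t => rfl
  let gr : SymmetricAlgebra A E →ₐ[A] C := SymmetricAlgebra.lift v
  have hgr : ∀ t, gr (SymmetricAlgebra.ι A E t) = v t := by
    intro t
    simp only [gr]
    rw [SymmetricAlgebra.lift_ι_apply]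
  obtain ⟨J, hJdef⟩ : ∃ J : Ideal C,
      J = ((K A E).map (Ideal.Quotient.mk (K A E ^ (n + 1)))).map r := ⟨_, rfl⟩
  have hJ : J ^ (n + 1) = ⊥ := by
    have e1 := Ideal.map_pow r ((K A E).map (Ideal.Quotient.mk (K A E ^ (n + 1)))) (n + 1)
    have e2 := Ideal.map_pow (Ideal.Quotient.mk (K A E ^ (n + 1))) (K A E) (n + 1)
    rw [hJdef, ← e1, ← e2, Ideal.map_quotient_self, Ideal.map_bot]
  have hdiff : ∀ b : SymmetricAlgebra A E, gr b - gl b ∈ J := by
    intro b
    have h1 : (Ideal.Quotient.mkₐ A J).comp gr = (Ideal.Quotient.mkₐ A J).comp gl := by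
      apply SymmetricAlgebra.algHom_ext
      refine LinearMap.ext (fun t => ?_)
      change Ideal.Quotient.mk J (gr (SymmetricAlgebra.ι A E t)) =
        Ideal.Quotient.mk J (gl (SymmetricAlgebra.ι A E t))
      rw [hgr, hv, Ideal.Quotient.eq, add_sub_cancel_left, hJdef]
      exact Ideal.mem_map_of_mem _ (Ideal.mem_map_of_mem _ (ι_mem_K A E t))
    have h2 := DFunLike.congr_fun h1 b
    simp only [AlgHom.comp_apply, Ideal.Quotient.mkₐ_eq_mk] at h2
    rw [Ideal.Quotient.eq] at h2
    exact h2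
  refine ⟨liftP n A (SymmetricAlgebra A E) gl gr J hJ hdiff,
    fun b => liftP_algebraMap n A (SymmetricAlgebra A E) gl gr J hJ hdiff b, ?_, ?_⟩
  · intro t
    rw [liftP_dn, hgr, hv]
  · intro x
    have h1 : (liftP n A (SymmetricAlgebra A E) gl gr J hJ hdiff).comp (hr n A E) =
        r.comp (Ideal.Quotient.mkₐ A (K A E ^ (n + 1))) := by
      apply SymmetricAlgebra.algHom_ext
      refine LinearMap.ext (fun t => ?_)
      change liftP n A (SymmetricAlgebra A E) gl gr J hJ hdiff (hr n A E (SymmetricAlgebra.ι A E t)) =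
        r (Ideal.Quotient.mk (K A E ^ (n + 1)) (SymmetricAlgebra.ι A E t))
      rw [hr_ι, map_sub, liftP_dn, liftP_algebraMap, hgr, hv, add_sub_cancel_left]
    exact DFunLike.congr_fun h1 x

end

section main

variable (n : ℕ) (A : Type u) [CommRing A] (E : Type u) [AddCommGroup E] [Module A E]

theorem main : ∃ e : P n A (SymmetricAlgebra A E) ≃ₐ[SymmetricAlgebra A E]
      (SymmetricAlgebra A E ⊗[A] (SymmetricAlgebra A E ⧸ K A E ^ (n + 1))),
    ∀ t : E, e (dn n A (SymmetricAlgebra A E) (SymmetricAlgebra.ι A E t)) =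
      SymmetricAlgebra.ι A E t ⊗ₜ 1 + 1 ⊗ₜ Ideal.Quotient.mk _ (SymmetricAlgebra.ι A E t) := by
  obtain ⟨e₀, h1, h2, h3⟩ := exists_fwd n A E
    (C := SymmetricAlgebra A E ⊗[A] (SymmetricAlgebra A E ⧸ K A E ^ (n + 1)))
    Algebra.TensorProduct.includeLeft Algebra.TensorProduct.includeRight
  let Ψ : (SymmetricAlgebra A E ⊗[A] (SymmetricAlgebra A E ⧸ K A E ^ (n + 1)))
      →ₐ[SymmetricAlgebra A E] P n A (SymmetricAlgebra A E) :=
    Algebra.TensorProduct.lift (Algebra.ofId (SymmetricAlgebra A E) (P n A (SymmetricAlgebra A E)))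
      (hrQ n A E) (fun _ _ => Commute.all _ _)
  have hΨ : ∀ b q, Ψ (b ⊗ₜ[A] q) =
      algebraMap (SymmetricAlgebra A E) (P n A (SymmetricAlgebra A E)) b * hrQ n A E q := by
    intro b q
    simp only [Ψ, Algebra.TensorProduct.lift_tmul]
    rfl
  have h4 : ∀ p, Ψ (e₀ p) = p := by
    have h6 : ((Ψ.restrictScalars A).comp e₀ : P n A (SymmetricAlgebra A E) →ₐ[A]
        P n A (SymmetricAlgebra A E)) = AlgHom.id A _ := by
      have h8 : (((Ψ.restrictScalars A).comp e₀ : P n A (SymmetricAlgebra A E) →ₐ[A]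
          P n A (SymmetricAlgebra A E)) : P n A (SymmetricAlgebra A E) →+*
            P n A (SymmetricAlgebra A E)) = RingHom.id _ := by
        apply PP.ringHom_ext
        · intro b
          change Ψ (e₀ (algebraMap _ _ b)) = algebraMap _ _ b
          rw [h1, Algebra.TensorProduct.includeLeft_apply, hΨ, map_one, mul_one]
        · intro b
          have h7 : ((Ψ.restrictScalars A).comp e₀).comp (dn n A (SymmetricAlgebra A E)) =
              dn n A (SymmetricAlgebra A E) := by
            apply SymmetricAlgebra.algHom_ext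
            refine LinearMap.ext (fun t => ?_)
            change Ψ (e₀ (dn n A (SymmetricAlgebra A E) (SymmetricAlgebra.ι A E t))) =
              dn n A (SymmetricAlgebra A E) (SymmetricAlgebra.ι A E t)
            rw [h2, map_add, Algebra.TensorProduct.includeLeft_apply,
              Algebra.TensorProduct.includeRight_apply, hΨ, hΨ, map_one, mul_one, map_one, one_mul,
              hrQ_mk, hr_ι]
            ring
          exact DFunLike.congr_fun h7 b
      exact AlgHom.ext (fun p => DFunLike.congr_fun h8 p)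
    intro p
    exact DFunLike.congr_fun h6 p
  have h5 : ∀ c, e₀ (Ψ c) = c := by
    intro c
    induction c using TensorProduct.induction_on with
    | zero => simp
    | tmul b q =>
      obtain ⟨x, rfl⟩ := Ideal.Quotient.mk_surjective q
      rw [hΨ, hrQ_mk, map_mul, h1, h3, Algebra.TensorProduct.includeLeft_apply,
        Algebra.TensorProduct.includeRight_apply, Algebra.TensorProduct.tmul_mul_tmul, mul_one,
        one_mul]
    | add x y hx hy => rw [map_add, map_add, hx, hy]
  refine ⟨{ toFun := e₀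
            invFun := Ψ
            left_inv := h4
            right_inv := h5
            map_mul' := map_mul e₀
            map_add' := map_add e₀
            commutes' := fun b => ?_ }, ?_⟩
  · change e₀ (algebraMap _ _ b) = _
    rw [h1]
    rfl
  · intro t
    change e₀ _ = _
    rw [h2]
    rfl

end main

end Groth.Agent.H6.PPSym
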