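import Mathlib
import Groth.Agent.Lib.helper6.GeomRedPI

set_option autoImplicit false
set_option linter.style.haveILetI false
open TensorProduct
universe u
namespace Groth.Agent.Lib.helper6.PSGeomRed

/-- `k[[T]] ⊗ k' → k'[[T]]` -/
noncomputable def φ (k k' : Type*) [Field k] [Field k'] [Algebra k k'] (σ : Type*) :
    MvPowerSeries σ k ⊗[k] k' →ₐ[k] MvPowerSeries σ k' :=
  Algebra.TensorProduct.productMap (MvPowerSeries.mapAlgHom (Algebra.ofId k k'))
    ((Algebra.ofId k' (MvPowerSeries σ k')).restrictScalars k)

theorem φ_injective (k k' : Type*) [Field k] [Field k'] [Algebra k k'] [Module.Finite k k']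
    (σ : Type*) : Function.Injective (φ k k' σ) := by
  classical
  rw [injective_iff_map_eq_zero]
  intro x hx
  let b := Module.finBasis k k'
  let B := Algebra.TensorProduct.basis (MvPowerSeries σ k) b
  have hx1 : x = ∑ i, (B.repr x i) ⊗ₜ[k] b i := by
    conv_lhs => rw [← B.sum_repr x]
    refine Finset.sum_congr rfl (fun i _ => ?_)
    exact Algebra.TensorProduct.basis_repr_symm_apply' b _ i
  have hφ : φ k k' σ x = ∑ i, MvPowerSeries.map (algebraMap k k') (B.repr x i) *
      MvPowerSeries.C (b i) := by
    conv_lhs => rw [hx1]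
    rw [map_sum]
    refine Finset.sum_congr rfl (fun i _ => ?_)
    simp only [φ, Algebra.TensorProduct.productMap_apply_tmul, MvPowerSeries.mapAlgHom_apply]
    rfl
  have hcoef : ∀ (α : σ →₀ ℕ) (i), MvPowerSeries.coeff α (B.repr x i) = 0 := by
    intro α
    have h1 : MvPowerSeries.coeff α (φ k k' σ x) = 0 := by rw [hx, map_zero]
    rw [hφ, map_sum] at h1
    have h2 : ∑ i, (MvPowerSeries.coeff α (B.repr x i)) • b i = 0 := by
      rw [← h1]
      refine Finset.sum_congr rfl (fun i _ => ?_)
      rw [MvPowerSeries.coeff_mul_C, MvPowerSeries.coeff_map, Algebra.smul_def]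
    exact fun i => Fintype.linearIndependent_iff.1 b.linearIndependent _ h2 i
  have hrepr : B.repr x = 0 := by
    ext i : 1
    rw [Finsupp.zero_apply]
    ext α
    rw [hcoef α i, map_zero]
  exact B.repr.injective (by rw [hrepr, map_zero])

open Groth.Agent.Lib.helper6 in
theorem isGeometricallyReduced_powerSeries (k : Type u) [Field k] (σ : Type) :
    Algebra.IsGeometricallyReduced k (MvPowerSeries σ k) := by
  refine GeomRedPI.isGeometricallyReduced_of_purelyInseparable (fun k' _ _ _ _ => ?_)
  haveI : IsReduced (MvPowerSeries σ k ⊗[k] k') :=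
    isReduced_of_injective (φ k k' σ) (φ_injective k k' σ)
  exact isReduced_of_injective (Algebra.TensorProduct.comm k k' (MvPowerSeries σ k)).toAlgHom
    (AlgEquiv.injective _)

theorem isGeometricallyReduced_fractionRing (k : Type u) [Field k] (σ : Type) :
    Algebra.IsGeometricallyReduced k (FractionRing (MvPowerSeries σ k)) := by
  haveI := isGeometricallyReduced_powerSeries k σ
  rw [Algebra.isGeometricallyReduced_field_iff]
  haveI h0 : IsReduced (AlgebraicClosure k ⊗[k] MvPowerSeries σ k) :=
    (Algebra.isGeometricallyReduced_field_iff _ _).1 inferInstance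
  haveI h1 : IsReduced (MvPowerSeries σ k ⊗[k] AlgebraicClosure k) :=
    isReduced_of_injective (Algebra.TensorProduct.comm k _ _).toAlgHom (AlgEquiv.injective _)
  haveI h2 : IsReduced (FractionRing (MvPowerSeries σ k) ⊗[k] AlgebraicClosure k) :=
    H14.SG.isReduced_fractionRing_tensor (D := MvPowerSeries σ k)
  exact isReduced_of_injective (Algebra.TensorProduct.comm k _ _).toAlgHom (AlgEquiv.injective _)

end Groth.Agent.Lib.helper6.PSGeomRed
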