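import Mathlib
import Groth.Agent.Lib.helper6.AusBuchE
import Groth.Agent.Lib.helper9.Depth24

/-!
# Change of rings for projective dimension along `R → R/I` (local case).
-/

set_option autoImplicit false

namespace Groth.Agent.Lib.helper6.PdChange

open CategoryTheory Abelian IsLocalRing LocCoh
open Groth.Agent.Lib.helper9.Depth

universe u

section general

variable {R : Type u} [CommRing R] {S : Type u} [CommRing S] [Algebra R S]

/-- `pd_R Sᵏ < n` if `pd_R S < n`. -/
lemma pd_pi (n k : ℕ) (h : HasProjectiveDimensionLT (ModuleCat.of R S) n) :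
    HasProjectiveDimensionLT (ModuleCat.of R (Fin k → S)) n := by
  classical
  rw [hasProjectiveDimensionLT_iff]
  intro i hi Y α
  let p : ∀ j : Fin k, ModuleCat.of R (Fin k → S) ⟶ ModuleCat.of R S :=
    fun j => ModuleCat.ofHom (LinearMap.proj j)
  let ι : ∀ j : Fin k, ModuleCat.of R S ⟶ ModuleCat.of R (Fin k → S) :=
    fun j => ModuleCat.ofHom (LinearMap.single R (fun _ => S) j)
  have hid : 𝟙 (ModuleCat.of R (Fin k → S)) = ∑ j, p j ≫ ι j := by
    apply ModuleCat.hom_ext
    apply LinearMap.ext
    intro v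
    simp only [ModuleCat.hom_id, LinearMap.id_coe, id_eq, ModuleCat.hom_sum, ModuleCat.hom_comp,
      LinearMap.coe_sum, Finset.sum_apply, LinearMap.coe_comp, Function.comp_apply, p, ι,
      ModuleCat.hom_ofHom, LinearMap.coe_proj, Function.eval, LinearMap.coe_single]
    exact (Finset.univ_sum_single v).symm
  have h0 : ∀ j, (Ext.mk₀ (ι j)).comp α (zero_add i) = 0 :=
    fun j => Ext.eq_zero_of_hasProjectiveDimensionLT _ n hi
  calc α = (Ext.mk₀ (𝟙 _)).comp α (zero_add i) := (Ext.mk₀_id_comp α).symm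
    _ = ∑ j, (Ext.mk₀ (p j ≫ ι j)).comp α (zero_add i) := by
        rw [hid, Ext.mk₀_sum, Ext.sum_comp]
    _ = ∑ j, (Ext.mk₀ (p j)).comp ((Ext.mk₀ (ι j)).comp α (zero_add i)) (zero_add i) := by
        refine Finset.sum_congr rfl (fun j _ => ?_)
        rw [← Ext.mk₀_comp_mk₀, Ext.comp_assoc_of_second_deg_zero]
    _ = 0 := by
        refine Finset.sum_eq_zero (fun j _ => ?_)
        rw [h0 j, Ext.comp_zero]

end general

variable {R : Type u} [CommRing R] [IsLocalRing R] [IsNoetherianRing R]
  {S : Type u} [CommRing S] [IsLocalRing S] [IsNoetherianRing S] [Algebra R S]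

/-- `pd_R E ≤ pd_R S + pd_S E` for finite `S`-modules, `S` a local `R`-algebra. -/
theorem pd_restrictScalars_lt (a : ℕ) (ha : HasProjectiveDimensionLT (ModuleCat.of R S) (a + 1)) :
    ∀ (n : ℕ) (E : Type u) [AddCommGroup E] [Module S E] [Module R E] [IsScalarTower R S E]
      [Module.Finite S E], HasProjectiveDimensionLT (ModuleCat.of S E) (n + 1) →
      HasProjectiveDimensionLT (ModuleCat.of R E) (a + n + 1) := by
  intro n
  induction n with
  | zero =>
    intro E _ _ _ _ _ hE
    have hproj : Projective (ModuleCat.of S E) := projective_iff_hasProjectiveDimensionLT_one.mpr hE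
    rw [← IsProjective.iff_projective] at hproj
    haveI : Module.Free S E := Module.free_of_flat_of_isLocalRing
    let b := Module.finBasis S E
    let e : E ≃ₗ[R] (Fin (Module.finrank S E) → S) := b.equivFun.restrictScalars R
    haveI := pd_pi (a + 1) (Module.finrank S E) ha
    have h3 : HasProjectiveDimensionLT (ModuleCat.of R E) (a + 1) :=
      hasProjectiveDimensionLT_of_iso e.toModuleIso.symm _
    exact h3
  | succ n ih =>
    intro E _ _ _ _ _ hE
    obtain ⟨k, f, hf⟩ := Module.Finite.exists_fin' S E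
    have hS := LinearMap.shortExact_shortComplexKer hf
    have hF : Projective (ModuleCat.of S (Fin k → S)) := by
      rw [← IsProjective.iff_projective]
      infer_instance
    have hK : HasProjectiveDimensionLT (ModuleCat.of S (LinearMap.ker f)) (n + 1) :=
      (hS.hasProjectiveDimensionLT_X₃_iff n hF).mp hE
    have hK' := ih (LinearMap.ker f) hK
    -- the same sequence over R
    let fR : (Fin k → S) →ₗ[R] E := f.restrictScalars R
    let iR : (LinearMap.ker f) →ₗ[R] (Fin k → S) := (LinearMap.ker f).subtype.restrictScalars R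
    have hex : Function.Exact iR fR := LinearMap.exact_subtype_ker_map f
    let T : ShortComplex (ModuleCat.{u} R) :=
      ModuleCat.shortComplexOfCompEqZero iR fR hex.linearMap_comp_eq_zero
    have hT : T.ShortExact := ModuleCat.shortComplex_shortExact T hex
      (Submodule.injective_subtype _) hf
    haveI := pd_pi (a + 1) k ha
    have h2 : HasProjectiveDimensionLT T.X₂ (a + n + 1 + 1) :=
      hasProjectiveDimensionLT_of_ge (ModuleCat.of R (Fin k → S)) (a + 1) (a + n + 1 + 1)
        (by omega)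
    exact hT.hasProjectiveDimensionLT_X₃ (a + n + 1) hK' h2

omit [IsLocalRing S] [IsNoetherianRing S] [Algebra R S] in
/-- `pd_R E = pd_R (R/I) + pd_{R/I} E` when both are finite. -/
theorem pd_quotient_add (I : Ideal R) (E : Type u) [AddCommGroup E] [Module (R ⧸ I) E]
    [Module R E] [IsScalarTower R (R ⧸ I) E] [Module.Finite (R ⧸ I) E] [Nontrivial E]
    (h1 : projectiveDimension (ModuleCat.of R (R ⧸ I)) ≠ ⊤)
    (h2 : projectiveDimension (ModuleCat.of (R ⧸ I) E) ≠ ⊤) :
    projectiveDimension (ModuleCat.of R E) ≠ ⊤ ∧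
      projectiveDimension (ModuleCat.of R E) =
        projectiveDimension (ModuleCat.of R (R ⧸ I)) +
          projectiveDimension (ModuleCat.of (R ⧸ I) E) := by
  haveI : Nontrivial (R ⧸ I) := Module.nontrivial (R ⧸ I) E
  haveI : IsLocalRing (R ⧸ I) :=
    IsLocalRing.of_surjective' (Ideal.Quotient.mk I) Ideal.Quotient.mk_surjective
  have hsurj : Function.Surjective (algebraMap R (R ⧸ I)) := Ideal.Quotient.mk_surjective
  obtain ⟨a', ha'⟩ := (projectiveDimension_ne_top_iff _).mp h1
  obtain ⟨b', hb'⟩ := (projectiveDimension_ne_top_iff _).mp h2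
  have hc' := pd_restrictScalars_lt a' ha' b' E hb'
  have hnzS : ¬ Limits.IsZero (ModuleCat.of R (R ⧸ I)) := by
    rw [ModuleCat.isZero_iff_subsingleton]; exact not_subsingleton _
  have hnzE : ¬ Limits.IsZero (ModuleCat.of (R ⧸ I) E) := by
    rw [ModuleCat.isZero_iff_subsingleton]; exact not_subsingleton _
  have hnzE' : ¬ Limits.IsZero (ModuleCat.of R E) := by
    rw [ModuleCat.isZero_iff_subsingleton]; exact not_subsingleton _
  obtain ⟨a, ha⟩ := AusBuchE.exists_nat_pd _ hnzS _ ha'
  obtain ⟨b, hb⟩ := AusBuchE.exists_nat_pd _ hnzE _ hb'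
  obtain ⟨c, hc⟩ := AusBuchE.exists_nat_pd _ hnzE' _ hc'
  haveI : Module.Finite R E := Module.Finite.trans (R ⧸ I) E
  have hab1 := AusBuchD.auslander_buchsbaum a (R ⧸ I) ha
  have hab2 := AusBuchD.auslander_buchsbaum (R := R ⧸ I) b E hb
  have hab3 := AusBuchD.auslander_buchsbaum c E hc
  have hd1 : depth R (R ⧸ I) = depth (R ⧸ I) (R ⧸ I) := depth_eq_of_surjective hsurj
  have hd2 : depth R E = depth (R ⧸ I) E := depth_eq_of_surjective hsurj
  obtain ⟨dE, hdE⟩ := exists_nat_depth (R := R ⧸ I) E
  rw [hd1, hab2, hdE] at hab1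
  rw [hd2, hdE, hab1] at hab3
  have hcab : c = a + b := by
    have : a + (b + dE) = c + dE := by exact_mod_cast hab3
    omega
  rw [hc, ha, hb, hcab]
  refine ⟨?_, by push_cast; rfl⟩
  intro h
  have h3 : (((a + b : ℕ) : ℕ∞) : WithBot ℕ∞) = ((⊤ : ℕ∞) : WithBot ℕ∞) := h
  exact ENat.coe_ne_top (a + b) (WithBot.coe_injective h3)

end Groth.Agent.Lib.helper6.PdChange
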