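import Mathlib.RingTheory.QuasiFinite.Polynomial
import Mathlib.RingTheory.Ideal.GoingDown
import Mathlib.RingTheory.Flat.Basic
import Mathlib.Tactic

/-!
# Flat algebras over polynomial rings are nowhere quasi-finite over the base (helper6)
-/

set_option autoImplicit false

namespace Groth.Agent.H6.QFPoly

open Polynomial

theorem comap_C_map_C {R : Type*} [CommRing R] (p : Ideal R) :
    (Ideal.map (C : R →+* R[X]) p).comap (C : R →+* R[X]) = p := by
  ext x
  rw [Ideal.mem_comap, Ideal.mem_map_C_iff]
  constructor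
  · intro h
    have := h 0
    simpa using this
  · intro hx n
    rw [coeff_C]
    split_ifs
    · exact hx
    · exact Ideal.zero_mem _

theorem not_quasiFiniteAt_of_flat {R S : Type*} [CommRing R] [CommRing S] [Algebra R S]
    [Algebra R[X] S] [IsScalarTower R R[X] S] [Module.Flat R[X] S] (P : Ideal S) [P.IsPrime] :
    ¬ Algebra.QuasiFiniteAt R P := by
  intro H
  have h := Polynomial.map_under_lt_comap_of_quasiFiniteAt (IsScalarTower.toAlgHom R R[X] S) P
  have hcomap : P.comap ((IsScalarTower.toAlgHom R R[X] S : R[X] →ₐ[R] S) : R[X] →+* S) =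
      P.under R[X] := rfl
  rw [hcomap] at h
  obtain ⟨Q₁, hQ₁P, hQ₁prime, hQ₁over⟩ :=
    Ideal.exists_ideal_le_liesOver_of_le (p := (P.under R).map (C : R →+* R[X]))
      (q := P.under R[X]) P h.le
  have h2 : Q₁.under R = P.under R := by
    rw [← Ideal.under_under (B := R[X]) Q₁, ← hQ₁over.over]
    exact comap_C_map_C (P.under R)
  have h3 := Algebra.QuasiFiniteAt.eq_of_le_of_under_eq (R := R) hQ₁P h2
  have h4 : (P.under R).map (C : R →+* R[X]) = P.under R[X] := by
    rw [hQ₁over.over, h3]
  exact h.ne h4

theorem not_quasiFiniteAt_of_flat_of_ringEquiv {R R₁ S : Type*} [CommRing R] [CommRing R₁]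
    [CommRing S] [Algebra R₁ S] [Module.Flat R₁ S] (e : R₁ ≃+* R[X]) [Algebra R S]
    (h : ∀ r, algebraMap R S r = algebraMap R₁ S (e.symm (C r))) (P : Ideal S) [P.IsPrime] :
    ¬ Algebra.QuasiFiniteAt R P := by
  letI : Algebra R[X] S := ((algebraMap R₁ S).comp (e.symm : R[X] →+* R₁)).toAlgebra
  letI : Algebra R[X] R₁ := (e.symm : R[X] →+* R₁).toAlgebra
  haveI : IsScalarTower R[X] R₁ S := IsScalarTower.of_algebraMap_eq (fun x => rfl)
  haveI : IsScalarTower R R[X] S := IsScalarTower.of_algebraMap_eq (fun r => h r)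
  haveI : Module.Flat R[X] R₁ := by
    let l : R[X] ≃ₗ[R[X]] R₁ :=
      { toFun := e.symm
        invFun := e
        left_inv := fun x => e.apply_symm_apply x
        right_inv := fun x => e.symm_apply_apply x
        map_add' := map_add e.symm
        map_smul' := fun c x => by
          change e.symm (c * x) = e.symm c * e.symm x
          exact map_mul e.symm c x }
    exact Module.Flat.of_linearEquiv l.symm
  haveI : Module.Flat R[X] S := Module.Flat.trans R[X] R₁ S
  exact not_quasiFiniteAt_of_flat P

/-- A flat algebra over a polynomial ring in `m + 1` variables is nowhere quasi-finite over the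
base. -/
theorem not_quasiFiniteAt_of_flat_mvPolynomial {A S : Type*} [CommRing A] [CommRing S] (m : ℕ)
    [Algebra A S] [Algebra (MvPolynomial (Fin (m + 1)) A) S]
    [IsScalarTower A (MvPolynomial (Fin (m + 1)) A) S]
    [Module.Flat (MvPolynomial (Fin (m + 1)) A) S] (P : Ideal S) [P.IsPrime] :
    ¬ Algebra.QuasiFiniteAt A P := by
  intro H
  let e := MvPolynomial.finSuccEquiv A m
  letI : Algebra (MvPolynomial (Fin m) A) S :=
    ((algebraMap (MvPolynomial (Fin (m + 1)) A) S).comp
      ((e.symm : (MvPolynomial (Fin m) A)[X] →+* MvPolynomial (Fin (m + 1)) A).comp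
        (C : MvPolynomial (Fin m) A →+* (MvPolynomial (Fin m) A)[X]))).toAlgebra
  haveI : IsScalarTower A (MvPolynomial (Fin m) A) S := IsScalarTower.of_algebraMap_eq (fun a => by
    change algebraMap A S a = algebraMap (MvPolynomial (Fin (m + 1)) A) S
      (e.symm (C (algebraMap A (MvPolynomial (Fin m) A) a)))
    have : (C (algebraMap A (MvPolynomial (Fin m) A) a) : (MvPolynomial (Fin m) A)[X]) =
        algebraMap A (MvPolynomial (Fin m) A)[X] a := rfl
    rw [this, AlgEquiv.commutes, ← IsScalarTower.algebraMap_apply])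
  haveI : Algebra.QuasiFiniteAt (MvPolynomial (Fin m) A) P :=
    Algebra.QuasiFinite.of_restrictScalars A (MvPolynomial (Fin m) A) (Localization.AtPrime P)
  exact not_quasiFiniteAt_of_flat_of_ringEquiv (R := MvPolynomial (Fin m) A) e.toRingEquiv
    (fun r => rfl) P inferInstance

end Groth.Agent.H6.QFPoly
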