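import Mathlib
import Groth.Agent.Lib.helper19.Koszul1

/-! Second Koszul homology (elementary coordinates) vanishes for sequences that are regular in the
sense of `helper19.Koszul1.koszul_h1`.  Antisymmetric matrices are presented as `u - uᵀ`. -/

set_option maxHeartbeats 400000
set_option linter.style.haveILetI false
set_option linter.unusedSectionVars false

universe u

namespace Groth.Agent.H6.QR

open Groth.Agent.Lib.helper19.Koszul1

variable {S : Type u} [CommRing S]

/-- trivial relations (in the form used by `CAlgX.IsH1Regular`). -/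
def triv {r : ℕ} (x : Fin r → S) : Submodule S (Fin r → S) :=
  Submodule.span S {v | ∃ i j : Fin r, v = Pi.single i (x j) - Pi.single j (x i)}

lemma kosz_le_triv {r : ℕ} (x : Fin r → S) : kosz x ≤ triv x := by
  refine Submodule.span_le.mpr ?_
  rintro y ⟨j, k, rfl⟩
  refine Submodule.subset_span ⟨k, j, ?_⟩
  funext l
  simp [Pi.single_apply]

lemma exists_alt_of_mem_triv {r : ℕ} (x : Fin r → S) {v : Fin r → S} (hv : v ∈ triv x) :
    ∃ e : Fin r → Fin r → S, ∀ i, v i = ∑ j, (e i j - e j i) * x j := by
  induction hv using Submodule.span_induction with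
  | mem v hv =>
    obtain ⟨i0, j0, rfl⟩ := hv
    refine ⟨fun k l => if k = i0 then (if l = j0 then 1 else 0) else 0, fun i => ?_⟩
    simp only [Pi.sub_apply, Pi.single_apply, sub_mul, Finset.sum_sub_distrib, ite_mul, one_mul,
      zero_mul]
    by_cases h1 : i = i0 <;> by_cases h2 : i = j0 <;>
      simp [h1, h2, Finset.sum_ite_eq']
  | zero => exact ⟨0, fun i => by simp⟩
  | add v w _ _ hv hw =>
    obtain ⟨e1, h1⟩ := hv
    obtain ⟨e2, h2⟩ := hw
    refine ⟨e1 + e2, fun i => ?_⟩
    rw [Pi.add_apply, h1 i, h2 i, ← Finset.sum_add_distrib]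
    refine Finset.sum_congr rfl fun j _ => ?_
    simp only [Pi.add_apply]
    ring
  | smul a v _ hv =>
    obtain ⟨e, h⟩ := hv
    refine ⟨a • e, fun i => ?_⟩
    rw [Pi.smul_apply, h i, smul_eq_mul, Finset.mul_sum]
    refine Finset.sum_congr rfl fun j _ => ?_
    simp only [Pi.smul_apply, smul_eq_mul]
    ring

/-- `ε i j = E_ij - E_ji`. -/
def eps {r : ℕ} (i j : Fin r) : Fin r → Fin r → S := fun k l =>
  (if k = i then (if l = j then 1 else 0) else 0) - (if k = j then (if l = i then 1 else 0) else 0)

/-- Koszul boundary of `e_l ∧ e_i ∧ e_j`, as an antisymmetric matrix. -/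
def bd3 {r : ℕ} (x : Fin r → S) (t : Fin r × Fin r × Fin r) : Fin r → Fin r → S :=
  x t.1 • eps t.2.1 t.2.2 - x t.2.1 • eps t.1 t.2.2 + x t.2.2 • eps t.1 t.2.1

/-- the boundaries. -/
def V2 {r : ℕ} (x : Fin r → S) : Submodule S (Fin r → Fin r → S) :=
  Submodule.span S (Set.range (bd3 x))

/-- extension by zero of matrices. -/
def ext2 (r : ℕ) : (Fin r → Fin r → S) →ₗ[S] (Fin (r + 1) → Fin (r + 1) → S) where
  toFun w := fun k l => Fin.lastCases 0 (fun k' => Fin.lastCases 0 (fun l' => w k' l') l) k
  map_add' w1 w2 := by
    funext k l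
    induction k using Fin.lastCases with
    | last => simp
    | cast k =>
      induction l using Fin.lastCases with
      | last => simp
      | cast l => simp
  map_smul' a w := by
    funext k l
    induction k using Fin.lastCases with
    | last => simp
    | cast k =>
      induction l using Fin.lastCases with
      | last => simp
      | cast l => simp

@[simp] lemma ext2_cc {r : ℕ} (w : Fin r → Fin r → S) (k l : Fin r) :
    ext2 r w k.castSucc l.castSucc = w k l := by
  simp [ext2]

@[simp] lemma ext2_last_left {r : ℕ} (w : Fin r → Fin r → S) (l : Fin (r + 1)) :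
    ext2 r w (Fin.last r) l = 0 := by
  simp [ext2]

@[simp] lemma ext2_last_right {r : ℕ} (w : Fin r → Fin r → S) (k : Fin (r + 1)) :
    ext2 r w k (Fin.last r) = 0 := by
  induction k using Fin.lastCases with
  | last => simp [ext2]
  | cast k => simp [ext2]

lemma ext2_bd3 {r : ℕ} (x : Fin (r + 1) → S) (t : Fin r × Fin r × Fin r) :
    ext2 r (bd3 (fun i => x i.castSucc) t) =
      bd3 x (t.1.castSucc, t.2.1.castSucc, t.2.2.castSucc) := by
  obtain ⟨l, i, j⟩ := t
  funext k m
  induction k using Fin.lastCases with
  | last =>
    simp [bd3, eps, (Fin.castSucc_ne_last _).symm]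
  | cast k =>
    induction m using Fin.lastCases with
    | last => simp [bd3, eps, (Fin.castSucc_ne_last _).symm]
    | cast m => simp [bd3, eps, Fin.castSucc_inj]

lemma map_ext2_V2_le {r : ℕ} (x : Fin (r + 1) → S) :
    Submodule.map (ext2 r) (V2 (fun i => x i.castSucc)) ≤ V2 x := by
  rw [V2, Submodule.map_span, Submodule.span_le]
  rintro _ ⟨_, ⟨t, rfl⟩, rfl⟩
  rw [ext2_bd3]
  exact Submodule.subset_span ⟨_, rfl⟩

lemma dsum {r : ℕ} (e : Fin r → Fin r → S) (y : Fin r → S) (m : Fin r) :
    ∑ a, ∑ b, e a b * ((-if m = b then y a else 0) + if m = a then y b else 0) =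
      ∑ j, (e m j - e j m) * y j := by
  have h1 : ∀ a, ∑ b, e a b * ((-if m = b then y a else 0) + if m = a then y b else 0) =
      -(e a m * y a) + ∑ b, (if m = a then e a b * y b else 0) := by
    intro a
    simp only [mul_add, mul_neg, mul_ite, mul_zero, Finset.sum_add_distrib,
      Finset.sum_neg_distrib, Finset.sum_ite_eq, Finset.mem_univ, if_true]
  simp only [h1, Finset.sum_add_distrib, Finset.sum_neg_distrib]
  rw [Finset.sum_comm]
  simp only [Finset.sum_ite_eq, Finset.mem_univ, if_true, sub_mul, Finset.sum_sub_distrib]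
  ring

lemma dsum2 {r : ℕ} (e : Fin r → Fin r → S) (y : Fin r → S) (k : Fin r) :
    ∑ a, ∑ b, e a b * ((if k = b then y a else 0) + -if k = a then y b else 0) =
      -∑ j, (e k j - e j k) * y j := by
  have h1 : ∀ a b, e a b * ((if k = b then y a else 0) + -if k = a then y b else 0) =
      -(e a b * ((-if k = b then y a else 0) + if k = a then y b else 0)) := by
    intro a b
    ring
  simp only [h1, Finset.sum_neg_distrib, dsum]

lemma dsum3 {r : ℕ} (e : Fin r → Fin r → S) (z : S) (k m : Fin r) :
    ∑ a, ∑ b, e a b * (z * ((if k = a then if m = b then 1 else 0 else 0) -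
      if k = b then if m = a then 1 else 0 else 0)) = z * (e k m - e m k) := by
  have h1 : ∀ a, ∑ b, e a b * (z * ((if k = a then if m = b then 1 else 0 else 0) -
      if k = b then if m = a then 1 else 0 else 0)) =
      (if k = a then e a m * z else 0) - (if m = a then e a k * z else 0) := by
    intro a
    simp only [mul_sub, mul_ite, mul_one, mul_zero, Finset.sum_sub_distrib]
    congr 1
    · by_cases h : k = a
      · simp [h]
      · simp [h]
    · by_cases h : m = a
      · simp [h]
      · simp [h]
  simp only [h1, Finset.sum_sub_distrib, Finset.sum_ite_eq, Finset.mem_univ, if_true]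
  ring

/-- vanishing of the second Koszul homology in coordinates. -/
theorem h2 : ∀ (r : ℕ) (x : Fin r → S)
    (_ : ∀ i : Fin r, ∀ s : S, s * x i ∈ Ideal.span (x '' {j | j < i}) →
      s ∈ Ideal.span (x '' {j | j < i}))
    (u : Fin r → Fin r → S) (_ : ∀ i, ∑ j, (u i j - u j i) * x j = 0),
    (fun i j => u i j - u j i) ∈ V2 x := by
  intro r
  induction r with
  | zero =>
    intro x _ u _
    have : (fun i j => u i j - u j i) = 0 := by
      funext i
      exact i.elim0
    rw [this]
    exact Submodule.zero_mem _
  | succ r ih =>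
    intro x hreg u hu
    have hreg' : ∀ i : Fin r, ∀ s : S,
        s * x i.castSucc ∈ Ideal.span ((fun i : Fin r => x i.castSucc) '' {j | j < i}) →
        s ∈ Ideal.span ((fun i : Fin r => x i.castSucc) '' {j | j < i}) := by
      intro i s hs
      rw [image_lt_castSucc] at hs ⊢
      exact hreg i.castSucc s hs
    have hq : ∑ j : Fin r, (u j.castSucc (Fin.last r) - u (Fin.last r) j.castSucc) *
        x j.castSucc = 0 := by
      have h1 := hu (Fin.last r)
      rw [Fin.sum_univ_castSucc, sub_self, zero_mul, add_zero] at h1
      have h2 : ∑ j : Fin r, (u j.castSucc (Fin.last r) - u (Fin.last r) j.castSucc) *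
          x j.castSucc =
          - ∑ j : Fin r, (u (Fin.last r) j.castSucc - u j.castSucc (Fin.last r)) *
            x j.castSucc := by
        rw [← Finset.sum_neg_distrib]
        refine Finset.sum_congr rfl fun j _ => ?_
        ring
      rw [h2, h1, neg_zero]
    have hq' := koszul_h1 r (fun i : Fin r => x i.castSucc) hreg'
      (fun j : Fin r => u j.castSucc (Fin.last r) - u (Fin.last r) j.castSucc) hq
    obtain ⟨e, he⟩ := exists_alt_of_mem_triv _ (kosz_le_triv _ hq')
    have hu'' : ∀ i : Fin r, ∑ j : Fin r,
        ((u i.castSucc j.castSucc + x (Fin.last r) * e i j) -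
          (u j.castSucc i.castSucc + x (Fin.last r) * e j i)) * x j.castSucc = 0 := by
      intro i
      have h1 := hu i.castSucc
      rw [Fin.sum_univ_castSucc] at h1
      have h3 : ∑ j : Fin r,
          ((u i.castSucc j.castSucc + x (Fin.last r) * e i j) -
            (u j.castSucc i.castSucc + x (Fin.last r) * e j i)) * x j.castSucc =
          ∑ j : Fin r, (u i.castSucc j.castSucc - u j.castSucc i.castSucc) * x j.castSucc +
            x (Fin.last r) * ∑ j, (e i j - e j i) * x j.castSucc := by
        rw [Finset.mul_sum, ← Finset.sum_add_distrib]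
        refine Finset.sum_congr rfl fun j _ => ?_
        ring
      rw [h3, ← he i, ← h1]
      ring
    have ih' := ih (fun i : Fin r => x i.castSucc) hreg'
      (fun i j => u i.castSucc j.castSucc + x (Fin.last r) * e i j) hu''
    have h4 : ext2 r (fun i j : Fin r => (u i.castSucc j.castSucc + x (Fin.last r) * e i j) -
        (u j.castSucc i.castSucc + x (Fin.last r) * e j i)) ∈ V2 x :=
      map_ext2_V2_le x (Submodule.mem_map_of_mem ih')
    have h5 : ∑ i : Fin r, ∑ j : Fin r, e i j • bd3 x (Fin.last r, i.castSucc, j.castSucc) ∈ V2 x :=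
      Submodule.sum_mem _ fun i _ => Submodule.sum_mem _ fun j _ =>
        Submodule.smul_mem _ _ (Submodule.subset_span ⟨_, rfl⟩)
    have h6 : (fun i j => u i j - u j i) =
        ext2 r (fun i j : Fin r => (u i.castSucc j.castSucc + x (Fin.last r) * e i j) -
          (u j.castSucc i.castSucc + x (Fin.last r) * e j i)) -
        ∑ i : Fin r, ∑ j : Fin r, e i j • bd3 x (Fin.last r, i.castSucc, j.castSucc) := by
      funext k m
      rw [Pi.sub_apply, Pi.sub_apply, Finset.sum_apply, Finset.sum_apply]
      simp only [Finset.sum_apply, Pi.smul_apply, smul_eq_mul]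
      induction k using Fin.lastCases with
      | last =>
        induction m using Fin.lastCases with
        | last =>
          simp [bd3, eps, (Fin.castSucc_ne_last _).symm]
        | cast m =>
          have h7 := he m
          simp only [ext2_last_left, zero_sub]
          simp [bd3, eps, (Fin.castSucc_ne_last _).symm, Fin.castSucc_inj, mul_ite]
          rw [dsum e (fun j => x j.castSucc) m, ← h7]
          ring
      | cast k =>
        induction m using Fin.lastCases with
        | last =>
          have h7 := he k
          simp only [ext2_last_right, zero_sub]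
          simp [bd3, eps, (Fin.castSucc_ne_last _).symm, Fin.castSucc_inj, mul_ite]
          rw [dsum2 e (fun j => x j.castSucc) k, ← h7]
          ring
        | cast m =>
          simp only [ext2_cc]
          simp [bd3, eps, (Fin.castSucc_ne_last _).symm, Fin.castSucc_inj, mul_ite]
          rw [dsum3]
          ring
    rw [h6]
    exact Submodule.sub_mem _ h4 h5

end Groth.Agent.H6.QR
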