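import Mathlib
import Groth.Agent.Lib.helper6.QRKos

/-! Koszul `H_2` of the variables of a polynomial ring, and bookkeeping lemmas for homogeneous
polynomials. -/

set_option maxHeartbeats 400000
set_option linter.style.haveILetI false
set_option linter.unusedSectionVars false

universe u

namespace Groth.Agent.H6.QR

open MvPolynomial

variable {B : Type u} [CommRing B]

lemma reg_X (r : ℕ) : ∀ i : Fin r, ∀ s : MvPolynomial (Fin r) B,
    s * X i ∈ Ideal.span ((fun j : Fin r => (X j : MvPolynomial (Fin r) B)) '' {j | j < i}) →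
    s ∈ Ideal.span ((fun j : Fin r => (X j : MvPolynomial (Fin r) B)) '' {j | j < i}) := by
  intro i s hs
  rw [MvPolynomial.mem_ideal_span_X_image] at hs ⊢
  intro m hm
  have hm' : m + Finsupp.single i 1 ∈ (s * X i).support := by
    rw [MvPolynomial.mem_support_iff, MvPolynomial.coeff_mul_X]
    exact MvPolynomial.mem_support_iff.mp hm
  obtain ⟨j, hj, hj'⟩ := hs _ hm'
  refine ⟨j, hj, ?_⟩
  have hji : i ≠ j := (ne_of_lt hj).symm
  simpa [Finsupp.single_apply, hji] using hj'

/-- Koszul `H_2 = 0` for the variables. -/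
theorem k2_poly (r : ℕ) (u : Fin r → Fin r → MvPolynomial (Fin r) B)
    (hu : ∀ i, ∑ j, (u i j - u j i) * X j = 0) :
    ∃ P : Fin r × Fin r × Fin r → MvPolynomial (Fin r) B,
      ∀ i j, u i j - u j i = ∑ t, P t * bd3 (fun j => (X j : MvPolynomial (Fin r) B)) t i j := by
  have h := h2 r (fun j => (X j : MvPolynomial (Fin r) B)) (reg_X r) u hu
  rw [V2, Submodule.mem_span_range_iff_exists_fun] at h
  obtain ⟨P, hP⟩ := h
  refine ⟨P, fun i j => ?_⟩
  have := congrFun (congrFun hP i) j
  rw [Finset.sum_apply, Finset.sum_apply] at this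
  rw [← this]
  rfl

lemma hc_succ_mul_X {r : ℕ} (m : ℕ) (P : MvPolynomial (Fin r) B) (l : Fin r) :
    homogeneousComponent (m + 1) (P * X l) = homogeneousComponent m P * X l := by
  classical
  ext d
  rw [coeff_homogeneousComponent, coeff_mul_X', coeff_mul_X', coeff_homogeneousComponent]
  by_cases hl : l ∈ d.support
  · have hdl : 1 ≤ d l := Nat.one_le_iff_ne_zero.mpr (Finsupp.mem_support_iff.mp hl)
    have hdeg : d.degree = (d - Finsupp.single l 1).degree + 1 := by
      have h1 : d = (d - Finsupp.single l 1) + Finsupp.single l 1 := by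
        rw [tsub_add_cancel_of_le]
        rw [Finsupp.single_le_iff]
        exact hdl
      conv_lhs => rw [h1]
      rw [map_add, Finsupp.degree_single]
    simp only [hl, if_true]
    by_cases h2 : (d - Finsupp.single l 1).degree = m
    · simp [hdeg, h2]
    · have : ¬ d.degree = m + 1 := by
        rw [hdeg]
        intro h3
        exact h2 (Nat.succ_injective h3)
      simp [this, h2]
  · simp [hl]

lemma hc_zero_mul_X {r : ℕ} (P : MvPolynomial (Fin r) B) (l : Fin r) :
    homogeneousComponent 0 (P * X l) = 0 := by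
  classical
  ext d
  rw [coeff_homogeneousComponent, coeff_mul_X', coeff_zero]
  by_cases hl : l ∈ d.support
  · have hdl : d l ≠ 0 := Finsupp.mem_support_iff.mp hl
    have : ¬ d.degree = 0 := by
      intro h0
      rw [Finsupp.degree_eq_zero_iff] at h0
      rw [h0] at hdl
      simp at hdl
    simp [this]
  · simp [hl]

end Groth.Agent.H6.QR
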