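import Mathlib
import Groth.Prelude.Def_CAlgX
import Groth.Agent.Lib.helper6.QRPoly

/-! `H_1`-regular sequences are quasi-regular. -/

set_option maxHeartbeats 400000
set_option linter.style.haveILetI false
set_option linter.unusedSectionVars false

universe u

namespace Groth.Agent.H6.QR

open MvPolynomial

variable {A : Type u} [CommRing A] {r : ℕ} (f : Fin r → A)

/-- the ideal generated by the sequence. -/
abbrev JJ : Ideal A := Ideal.span (Set.range f)

lemma exists_sum_of_mem_mul (K : Ideal A) {x : A} (hx : x ∈ JJ f * K) :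
    ∃ η : Fin r → A, (∀ i, η i ∈ K) ∧ x = ∑ i, f i * η i := by
  refine Submodule.mul_induction_on
    (C := fun x => ∃ η : Fin r → A, (∀ i, η i ∈ K) ∧ x = ∑ i, f i * η i) hx ?_ ?_
  · intro a ha k hk
    obtain ⟨c, rfl⟩ := Ideal.mem_span_range_iff_exists_fun.mp ha
    refine ⟨fun i => c i * k, fun i => K.mul_mem_left _ hk, ?_⟩
    rw [Finset.sum_mul]
    exact Finset.sum_congr rfl fun i _ => by ring
  · intro x y hx hy
    obtain ⟨η1, h1, e1⟩ := hx
    obtain ⟨η2, h2, e2⟩ := hy
    refine ⟨η1 + η2, fun i => K.add_mem (h1 i) (h2 i), ?_⟩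
    rw [e1, e2]
    simp [mul_add, Finset.sum_add_distrib]

lemma exists_hom_of_mem_pow : ∀ (m : ℕ) (x : A), x ∈ JJ f ^ m →
    ∃ P : MvPolynomial (Fin r) A, P.IsHomogeneous m ∧ eval f P = x := by
  intro m
  induction m with
  | zero =>
    intro x _
    exact ⟨C x, isHomogeneous_C _ x, by simp⟩
  | succ m ih =>
    intro x hx
    rw [pow_succ'] at hx
    obtain ⟨η, hη, rfl⟩ := exists_sum_of_mem_mul f _ hx
    choose P hP1 hP2 using fun i => ih (η i) (hη i)
    refine ⟨∑ i, X i * P i, IsHomogeneous.sum _ _ _ (fun i _ => ?_), ?_⟩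
    · rw [add_comm]
      exact (isHomogeneous_X _ i).mul (hP1 i)
    · simp [hP2]

lemma degree_eq_of_mem_support {m : ℕ} {P : MvPolynomial (Fin r) A} (hP : P.IsHomogeneous m)
    {d : Fin r →₀ ℕ} (hd : d ∈ P.support) : d.degree = m := by
  by_contra h
  exact (mem_support_iff.mp hd) (hP.coeff_eq_zero h)

lemma eval_mem_of_hom {m : ℕ} {P : MvPolynomial (Fin r) A} (hP : P.IsHomogeneous m)
    (K : Ideal A) (hK : ∀ d, coeff d P ∈ K) : eval f P ∈ K * JJ f ^ m := by
  rw [eval_eq']
  refine Ideal.sum_mem _ fun d hd => Ideal.mul_mem_mul (hK d) ?_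
  have hdeg : d.degree = m := degree_eq_of_mem_support hP hd
  rw [Finsupp.degree_eq_sum] at hdeg
  rw [← hdeg, ← Finset.prod_pow_eq_pow_sum]
  refine Ideal.prod_mem_prod fun i _ => Ideal.pow_mem_pow ?_ _
  exact Ideal.subset_span (Set.mem_range_self i)

lemma exists_decomp {n : ℕ} {P : MvPolynomial (Fin r) A} (hP : P.IsHomogeneous (n + 1)) :
    ∃ F : Fin r → MvPolynomial (Fin r) A, (∀ i, (F i).IsHomogeneous n) ∧
      P = ∑ i, X i * F i := by
  classical
  have hex : ∀ d : P.support, ∃ i : Fin r, (d : Fin r →₀ ℕ) i ≠ 0 := by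
    intro d
    have hdeg := degree_eq_of_mem_support hP d.2
    by_contra hno
    push Not at hno
    have : (d : Fin r →₀ ℕ) = 0 := Finsupp.ext hno
    rw [this] at hdeg
    simp at hdeg
  choose ι hι using hex
  refine ⟨fun i => ∑ d ∈ P.support.attach, if ι d = i then
    monomial ((d : Fin r →₀ ℕ) - Finsupp.single i 1) (coeff (d : Fin r →₀ ℕ) P) else 0, ?_, ?_⟩
  · intro i
    refine IsHomogeneous.sum _ _ _ fun d _ => ?_
    split_ifs with h
    · refine isHomogeneous_monomial _ ?_
      have hdeg := degree_eq_of_mem_support hP d.2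
      have h1 : (d : Fin r →₀ ℕ) = ((d : Fin r →₀ ℕ) - Finsupp.single i 1) +
          Finsupp.single i 1 := by
        rw [tsub_add_cancel_of_le]
        rw [Finsupp.single_le_iff]
        rw [← h]
        exact Nat.one_le_iff_ne_zero.mpr (hι d)
      rw [h1, map_add, Finsupp.degree_single] at hdeg
      exact Nat.succ_injective hdeg
    · exact isHomogeneous_zero _ _ _
  · conv_lhs => rw [← support_sum_monomial_coeff P, ← Finset.sum_attach]
    simp only [Finset.mul_sum]
    rw [Finset.sum_comm]
    refine Finset.sum_congr rfl fun d _ => ?_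
    simp only [mul_ite, mul_zero]
    rw [Finset.sum_ite_eq]
    simp only [Finset.mem_univ, if_true]
    change _ = monomial (Finsupp.single (ι d) 1) 1 * _
    rw [monomial_mul, one_mul, add_tsub_cancel_of_le]
    rw [Finsupp.single_le_iff]
    exact Nat.one_le_iff_ne_zero.mpr (hι d)

lemma map_mk_eq_zero_iff (P : MvPolynomial (Fin r) A) :
    map (Ideal.Quotient.mk (JJ f)) P = 0 ↔ ∀ d, coeff d P ∈ JJ f := by
  rw [MvPolynomial.ext_iff]
  simp [coeff_map, Ideal.Quotient.eq_zero_iff_mem]

/-! properties of `bd3` -/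

lemma eps_antisymm (a b i j : Fin r) : (eps a b i j : A) = - eps a b j i := by
  simp only [eps, ← ite_and]
  simp only [and_comm (a := j = a), and_comm (a := j = b)]
  ring

lemma eps_diag (a b i : Fin r) : (eps a b i i : A) = 0 := by
  simp only [eps]
  by_cases h1 : i = a <;> by_cases h2 : i = b <;> simp [h1, h2]

lemma eps_d2 (a b i : Fin r) : ∑ j, eps a b i j * f j =
    (if i = a then f b else 0) - (if i = b then f a else 0) := by
  simp only [eps, sub_mul, Finset.sum_sub_distrib]
  by_cases h1 : i = a <;> by_cases h2 : i = b <;> simp [h1, h2]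

lemma bd3_apply (t : Fin r × Fin r × Fin r) (i j : Fin r) :
    bd3 f t i j = f t.1 * eps t.2.1 t.2.2 i j - f t.2.1 * eps t.1 t.2.2 i j +
      f t.2.2 * eps t.1 t.2.1 i j := by
  simp only [bd3, Pi.add_apply, Pi.sub_apply, Pi.smul_apply, smul_eq_mul]

lemma bd3_antisymm (t : Fin r × Fin r × Fin r) (i j : Fin r) :
    bd3 f t i j = - bd3 f t j i := by
  rw [bd3_apply, bd3_apply, eps_antisymm t.2.1 t.2.2 i j, eps_antisymm t.1 t.2.2 i j,
    eps_antisymm t.1 t.2.1 i j]
  ring

lemma bd3_diag (t : Fin r × Fin r × Fin r) (i : Fin r) : bd3 f t i i = 0 := by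
  rw [bd3_apply, eps_diag, eps_diag, eps_diag]
  ring

lemma bd3_d2 (t : Fin r × Fin r × Fin r) (i : Fin r) : ∑ j, bd3 f t i j * f j = 0 := by
  simp only [bd3_apply, add_mul, sub_mul, Finset.sum_add_distrib, Finset.sum_sub_distrib,
    mul_assoc, ← Finset.mul_sum, eps_d2]
  obtain ⟨l, a, b⟩ := t
  simp only
  split_ifs <;> ring

/-! ring homs and `bd3`, integrality of `eps` -/

lemma map_eps {S S' : Type*} [CommRing S] [CommRing S'] (φ : S →+* S') (a b i j : Fin r) :
    φ (eps a b i j) = eps a b i j := by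
  simp only [eps, map_sub, apply_ite φ, map_one, map_zero]

lemma map_bd3' {S S' : Type*} [CommRing S] [CommRing S'] (φ : S →+* S') (x : Fin r → S)
    (t : Fin r × Fin r × Fin r) (i j : Fin r) :
    φ (bd3 x t i j) = bd3 (fun l => φ (x l)) t i j := by
  rw [bd3_apply, bd3_apply, map_add, map_sub, map_mul, map_mul, map_mul, map_eps, map_eps, map_eps]

lemma eps_cast {S : Type*} [CommRing S] (a b i j : Fin r) :
    (eps a b i j : S) = (((eps a b i j : ℤ)) : S) :=
  (map_eps (Int.castRingHom S) a b i j).symm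

lemma hc_mul_bd3 {B : Type u} [CommRing B] (m : ℕ) (P Pm : MvPolynomial (Fin r) B)
    (h : ∀ l, homogeneousComponent m (P * X l) = Pm * X l) (t : Fin r × Fin r × Fin r)
    (i j : Fin r) :
    homogeneousComponent m (P * bd3 (fun l => (X l : MvPolynomial (Fin r) B)) t i j) =
      Pm * bd3 (fun l => (X l : MvPolynomial (Fin r) B)) t i j := by
  have h' : ∀ (l : Fin r) (z : ℤ),
      homogeneousComponent m (P * (X l * (z : MvPolynomial (Fin r) B))) =
        Pm * (X l * (z : MvPolynomial (Fin r) B)) := by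
    intro l z
    have h1 : P * (X l * (z : MvPolynomial (Fin r) B)) = z • (P * X l) := by
      rw [zsmul_eq_mul]
      ring
    rw [h1, map_zsmul, h l, zsmul_eq_mul]
    ring
  rw [bd3_apply, eps_cast (S := MvPolynomial (Fin r) B) t.2.1 t.2.2 i j,
    eps_cast (S := MvPolynomial (Fin r) B) t.1 t.2.2 i j,
    eps_cast (S := MvPolynomial (Fin r) B) t.1 t.2.1 i j, mul_add, mul_sub, map_add, map_sub,
    h', h', h']
  ring

lemma exists_U (m : ℕ) (c : Fin r → Fin r → A) (hanti : ∀ i j, c i j = - c j i)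
    (hdiag : ∀ i, c i i = 0) (hmem : ∀ i j, c i j ∈ JJ f ^ m) :
    ∃ U : Fin r → Fin r → MvPolynomial (Fin r) A, (∀ i j, (U i j).IsHomogeneous m) ∧
      ∀ i j, eval f (U i j) - eval f (U j i) = c i j := by
  classical
  choose W hW1 hW2 using fun i j => exists_hom_of_mem_pow f m (c i j) (hmem i j)
  refine ⟨fun i j => if i < j then W i j else 0, ?_, ?_⟩
  · intro i j
    simp only
    split_ifs
    · exact hW1 i j
    · exact isHomogeneous_zero _ _ _
  · intro i j
    simp only
    rcases lt_trichotomy i j with h | h | h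
    · rw [if_pos h, if_neg (not_lt_of_gt h), map_zero, sub_zero, hW2]
    · subst h
      simp [hdiag]
    · rw [if_neg (not_lt_of_gt h), if_pos h, map_zero, zero_sub, hW2, ← hanti]

/-- quasi-regularity in degree `n`. -/
def QRn (n : ℕ) : Prop :=
  ∀ P : MvPolynomial (Fin r) A, P.IsHomogeneous n → eval f P ∈ JJ f ^ (n + 1) →
    ∀ d, coeff d P ∈ JJ f

lemma key_step (m : ℕ) (hQR : QRn f (m + 1)) (c : Fin r → Fin r → A)
    (hanti : ∀ i j, c i j = - c j i) (hdiag : ∀ i, c i i = 0)
    (hmem : ∀ i j, c i j ∈ JJ f ^ m) (hd : ∀ i, ∑ j, c i j * f j ∈ JJ f ^ (m + 2)) :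
    ∃ c' : Fin r → Fin r → A, (∀ i j, c' i j = - c' j i) ∧ (∀ i, c' i i = 0) ∧
      (∀ i j, c' i j ∈ JJ f ^ (m + 1)) ∧ ∀ i, ∑ j, c' i j * f j = ∑ j, c i j * f j := by
  classical
  obtain ⟨U, hU1, hU2⟩ := exists_U f m c hanti hdiag hmem
  have hG : ∀ i, map (Ideal.Quotient.mk (JJ f)) (∑ j, (U i j - U j i) * X j) = 0 := by
    intro i
    rw [map_mk_eq_zero_iff]
    refine hQR _ ?_ ?_
    · exact IsHomogeneous.sum _ _ _ fun j _ =>
        ((hU1 i j).sub (hU1 j i)).mul (isHomogeneous_X _ j)
    · rw [map_sum]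
      simp only [map_mul, map_sub, eval_X, hU2]
      exact hd i
  have hG' : ∀ i, ∑ j, (map (Ideal.Quotient.mk (JJ f)) (U i j) -
      map (Ideal.Quotient.mk (JJ f)) (U j i)) * X j = 0 := by
    intro i
    have := hG i
    rw [map_sum] at this
    simpa only [map_mul, map_sub, map_X] using this
  obtain ⟨Pbar, hPbar⟩ := k2_poly r (fun i j => map (Ideal.Quotient.mk (JJ f)) (U i j)) hG'
  have hsurj : Function.Surjective (map (Ideal.Quotient.mk (JJ f)) :
      MvPolynomial (Fin r) A → MvPolynomial (Fin r) (A ⧸ JJ f)) :=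
    map_surjective _ Ideal.Quotient.mk_surjective
  choose Pt hPt using fun t => hsurj (Pbar t)
  obtain ⟨Pm, hPm1⟩ : ∃ Pm : Fin r × Fin r × Fin r → MvPolynomial (Fin r) A,
      ∀ t l, homogeneousComponent m (Pt t * X l) = Pm t * X l := by
    cases m with
    | zero => exact ⟨fun _ => 0, fun t l => by rw [hc_zero_mul_X, zero_mul]⟩
    | succ m' => exact ⟨fun t => homogeneousComponent m' (Pt t), fun t l => hc_succ_mul_X m' _ l⟩
  have hR : ∀ i j, ∀ d, coeff d (homogeneousComponent m ((U i j - U j i) -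
      ∑ t, Pt t * bd3 (fun l => (X l : MvPolynomial (Fin r) A)) t i j)) ∈ JJ f := by
    intro i j d
    rw [coeff_homogeneousComponent]
    split_ifs
    · have h0 : map (Ideal.Quotient.mk (JJ f)) ((U i j - U j i) -
          ∑ t, Pt t * bd3 (fun l => (X l : MvPolynomial (Fin r) A)) t i j) = 0 := by
        rw [map_sub, map_sub, map_sum, hPbar i j, sub_eq_zero]
        refine Finset.sum_congr rfl fun t _ => ?_
        rw [map_mul, hPt t, map_bd3']
        simp only [map_X]
      exact (map_mk_eq_zero_iff f _).mp h0 d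
    · exact Ideal.zero_mem _
  have hR2 : ∀ i j, homogeneousComponent m ((U i j - U j i) -
      ∑ t, Pt t * bd3 (fun l => (X l : MvPolynomial (Fin r) A)) t i j) =
      (U i j - U j i) - ∑ t, Pm t * bd3 (fun l => (X l : MvPolynomial (Fin r) A)) t i j := by
    intro i j
    rw [map_sub, map_sum, homogeneousComponent_eq_self ((hU1 i j).sub (hU1 j i))]
    congr 1
    exact Finset.sum_congr rfl fun t _ => hc_mul_bd3 m _ _ (hPm1 t) t i j
  refine ⟨fun i j => c i j - ∑ t, eval f (Pm t) * bd3 f t i j, ?_, ?_, ?_, ?_⟩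
  · intro i j
    simp only
    have h : ∑ t, eval f (Pm t) * bd3 f t i j = -∑ t, eval f (Pm t) * bd3 f t j i := by
      rw [← Finset.sum_neg_distrib]
      refine Finset.sum_congr rfl fun t _ => ?_
      rw [bd3_antisymm f t i j]
      ring
    rw [h, hanti i j]
    ring
  · intro i
    simp [hdiag, bd3_diag]
  · intro i j
    have h1 : c i j - ∑ t, eval f (Pm t) * bd3 f t i j = eval f (homogeneousComponent m
        ((U i j - U j i) - ∑ t, Pt t * bd3 (fun l => (X l : MvPolynomial (Fin r) A)) t i j)) := by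
      rw [hR2 i j, map_sub, map_sub, hU2 i j, map_sum]
      congr 1
      refine Finset.sum_congr rfl fun t _ => ?_
      rw [map_mul, map_bd3']
      simp only [eval_X]
    simp only
    rw [h1]
    have := eval_mem_of_hom f (homogeneousComponent_isHomogeneous m _) (JJ f) (hR i j)
    rwa [← pow_succ'] at this
  · intro i
    simp only [sub_mul, Finset.sum_sub_distrib]
    rw [sub_eq_self]
    simp only [Finset.sum_mul]
    rw [Finset.sum_comm]
    refine Finset.sum_eq_zero fun t _ => ?_
    simp only [mul_assoc, ← Finset.mul_sum, bd3_d2, mul_zero]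

lemma sum_antisymm_eq_zero {S : Type*} [CommRing S] (x : Fin r → S) (a : Fin r → Fin r → S) :
    ∑ i, x i * ∑ j, (a i j - a j i) * x j = 0 := by
  simp only [Finset.mul_sum, sub_mul, mul_sub, Finset.sum_sub_distrib]
  rw [sub_eq_zero]
  conv_rhs => rw [Finset.sum_comm]
  refine Finset.sum_congr rfl fun i _ => Finset.sum_congr rfl fun j _ => ?_
  ring

lemma eval_mem_pow_of_hom {m : ℕ} {P : MvPolynomial (Fin r) A} (hP : P.IsHomogeneous m) :
    eval f P ∈ JJ f ^ m := by
  have := eval_mem_of_hom f hP ⊤ (fun _ => Submodule.mem_top)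
  rwa [Ideal.top_mul] at this

theorem qrn (hf : CAlgX.IsH1Regular f) : ∀ n, QRn f n := by
  intro n
  induction n using Nat.strong_induction_on with
  | _ n ih =>
  intro P hP hev
  rcases n with _ | n
  · -- degree zero
    have hC : P = C (coeff 0 P) :=
      totalDegree_eq_zero_iff_eq_C.mp (Nat.le_zero.mp hP.totalDegree_le)
    intro d
    rw [hC] at hev ⊢
    rw [eval_C, zero_add, pow_one] at hev
    rw [coeff_C]
    split_ifs
    · exact hev
    · exact Ideal.zero_mem _
  · obtain ⟨F, hF1, hF2⟩ := exists_decomp hP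
    have hev' : ∑ i, f i * eval f (F i) ∈ JJ f * JJ f ^ (n + 1) := by
      rw [hF2, map_sum] at hev
      simp only [map_mul, eval_X] at hev
      rw [pow_succ'] at hev
      exact hev
    obtain ⟨η, hη, hsum⟩ := exists_sum_of_mem_mul f _ hev'
    have hrel : ∑ i, (eval f (F i) - η i) * f i = 0 := by
      have h1 : ∑ i, (eval f (F i) - η i) * f i =
          ∑ i, f i * eval f (F i) - ∑ i, f i * η i := by
        rw [← Finset.sum_sub_distrib]
        exact Finset.sum_congr rfl fun i _ => by ring
      rw [h1, hsum, sub_self]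
    obtain ⟨e, he⟩ := exists_alt_of_mem_triv f (hf _ hrel)
    -- it suffices to show that each `F i` reduces to an antisymmetric combination
    have hmain : ∃ a : Fin r → Fin r → MvPolynomial (Fin r) (A ⧸ JJ f), ∀ i,
        map (Ideal.Quotient.mk (JJ f)) (F i) = ∑ j, (a i j - a j i) * X j := by
      rcases n with _ | n
      · -- `F i` has degree zero and value in `J`
        refine ⟨0, fun i => ?_⟩
        have hFi : eval f (F i) ∈ JJ f ^ (0 + 1) := by
          have h2 : eval f (F i) = η i + ∑ j, (e i j - e j i) * f j := by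
            rw [← he i]
            ring
          rw [h2, zero_add, pow_one]
          refine Ideal.add_mem _ ?_ (Ideal.sum_mem _ fun j _ =>
            Ideal.mul_mem_left _ _ (Ideal.subset_span (Set.mem_range_self j)))
          have := hη i
          rwa [zero_add, pow_one] at this
        have h3 := (map_mk_eq_zero_iff f (F i)).mpr (ih 0 (Nat.succ_pos _) (F i) (hF1 i) hFi)
        rw [h3]
        simp
      · -- degree `n + 2`
        have hξ : ∀ i, eval f (F i) - η i ∈ JJ f ^ (n + 1) := by
          intro i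
          refine Ideal.sub_mem _ (eval_mem_pow_of_hom f (hF1 i)) ?_
          exact Ideal.pow_le_pow_right (Nat.le_succ _) (hη i)
        have hclaim : ∀ k, k ≤ n → ∃ c : Fin r → Fin r → A, (∀ i j, c i j = - c j i) ∧
            (∀ i, c i i = 0) ∧ (∀ i j, c i j ∈ JJ f ^ k) ∧
            ∀ i, ∑ j, c i j * f j = eval f (F i) - η i := by
          intro k
          induction k with
          | zero =>
            intro _
            refine ⟨fun i j => e i j - e j i, fun i j => by ring, fun i => sub_self _,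
              fun i j => by rw [pow_zero, Ideal.one_eq_top]; trivial, fun i => (he i).symm⟩
          | succ k ihk =>
            intro hk
            obtain ⟨c, hc1, hc2, hc3, hc4⟩ := ihk (Nat.le_of_succ_le hk)
            have hd : ∀ i, ∑ j, c i j * f j ∈ JJ f ^ (k + 2) := by
              intro i
              rw [hc4 i]
              exact Ideal.pow_le_pow_right (by omega) (hξ i)
            obtain ⟨c', h1, h2, h3, h4⟩ := key_step f k (ih (k + 1) (by omega)) c hc1 hc2 hc3 hd
            exact ⟨c', h1, h2, h3, fun i => (h4 i).trans (hc4 i)⟩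
        obtain ⟨c, hc1, hc2, hc3, hc4⟩ := hclaim n le_rfl
        obtain ⟨U, hU1, hU2⟩ := exists_U f n c hc1 hc2 hc3
        refine ⟨fun i j => map (Ideal.Quotient.mk (JJ f)) (U i j), fun i => ?_⟩
        have hG1 : (F i - ∑ j, (U i j - U j i) * X j).IsHomogeneous (n + 1) :=
          (hF1 i).sub (IsHomogeneous.sum _ _ _ fun j _ =>
            ((hU1 i j).sub (hU1 j i)).mul (isHomogeneous_X _ j))
        have hG2 : eval f (F i - ∑ j, (U i j - U j i) * X j) ∈ JJ f ^ (n + 1 + 1) := by
          rw [map_sub, map_sum]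
          simp only [map_mul, map_sub, eval_X, hU2]
          rw [hc4 i, sub_sub_cancel]
          exact hη i
        have h3 := (map_mk_eq_zero_iff f _).mpr (ih (n + 1) (Nat.lt_succ_self _) _ hG1 hG2)
        rw [map_sub, sub_eq_zero, map_sum] at h3
        rw [h3]
        simp only [map_mul, map_sub, map_X]
    obtain ⟨a, ha⟩ := hmain
    rw [← map_mk_eq_zero_iff, hF2, map_sum]
    simp only [map_mul, map_X, ha]
    exact sum_antisymm_eq_zero _ a

theorem isQuasiRegular_of_isH1Regular (hf : CAlgX.IsH1Regular f) : CAlgX.IsQuasiRegular f :=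
  fun n P hP hev d => qrn f hf n P hP hev d

end Groth.Agent.H6.QR
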