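import Mathlib
import Groth.Prelude.Def_CAlgX
import Groth.Agent.Lib.helper6.QRMain

/-! Appending an `H_1`-regular-modulo sequence to a quasi-regular sequence. -/

set_option maxHeartbeats 400000
set_option linter.style.haveILetI false
set_option linter.unusedSectionVars false

universe u

namespace Groth.Agent.H6.QR

open MvPolynomial

variable {A : Type u} [CommRing A] {n m : ℕ} (f : Fin n → A) (g : Fin m → A)

/-- converse of `exists_alt_of_mem_triv`. -/
lemma mem_triv_of_alt {S : Type*} [CommRing S] {r : ℕ} (x : Fin r → S) (e : Fin r → Fin r → S)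
    (v : Fin r → S) (hv : ∀ i, v i = ∑ j, (e i j - e j i) * x j) :
    v ∈ Submodule.span S {v | ∃ i j : Fin r, v = Pi.single i (x j) - Pi.single j (x i)} := by
  classical
  have h : v = ∑ i, ∑ j, e i j • (Pi.single i (x j) - Pi.single j (x i) : Fin r → S) := by
    funext l
    rw [hv l, Finset.sum_apply]
    simp only [Finset.sum_apply, Pi.smul_apply, Pi.sub_apply, Pi.single_apply, smul_eq_mul,
      mul_sub, mul_ite, mul_zero, Finset.sum_sub_distrib, sub_mul]
    congr 1
    · rw [Finset.sum_comm]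
      simp only [Finset.sum_ite_eq, Finset.mem_univ, if_true]
    · refine Finset.sum_congr rfl fun i _ => ?_
      simp only [Finset.sum_ite_eq, Finset.mem_univ, if_true]
  rw [h]
  exact Submodule.sum_mem _ fun i _ => Submodule.sum_mem _ fun j _ =>
    Submodule.smul_mem _ _ (Submodule.subset_span ⟨i, j, rfl⟩)

lemma sum_alt_mul_eq_zero {S : Type*} [CommRing S] {r : ℕ} (x : Fin r → S)
    (e : Fin r → Fin r → S) : ∑ l, (∑ l', (e l l' - e l' l) * x l') * x l = 0 := by
  have := sum_antisymm_eq_zero x e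
  rw [← this]
  exact Finset.sum_congr rfl fun l _ => mul_comm _ _

/-- `H_1`-regularity modulo `J`, elementwise. -/
lemma h1_mod (hg : CAlgX.IsH1Regular (fun j => Ideal.Quotient.mk (JJ f) (g j)))
    (a : Fin m → A) (ha : ∑ l, a l * g l ∈ JJ f) :
    ∃ e : Fin m → Fin m → A, ∀ l, a l - ∑ l', (e l l' - e l' l) * g l' ∈ JJ f := by
  have h0 : ∑ l, (fun l => Ideal.Quotient.mk (JJ f) (a l)) l *
      (fun j => Ideal.Quotient.mk (JJ f) (g j)) l = 0 := by
    simp only [← map_mul, ← map_sum]
    exact Ideal.Quotient.eq_zero_iff_mem.mpr ha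
  obtain ⟨ebar, hebar⟩ := exists_alt_of_mem_triv _ (hg _ h0)
  choose e he using fun l l' => Ideal.Quotient.mk_surjective (ebar l l')
  refine ⟨e, fun l => ?_⟩
  rw [← Ideal.Quotient.eq_zero_iff_mem, map_sub, map_sum, hebar l, sub_eq_zero]
  refine Finset.sum_congr rfl fun l' _ => ?_
  rw [map_mul, map_sub, he, he]

/-- `H_1`-regularity modulo `J ^ k`, elementwise. -/
lemma h1_mod_pow (hf : CAlgX.IsQuasiRegular f)
    (hg : CAlgX.IsH1Regular (fun j => Ideal.Quotient.mk (JJ f) (g j))) :
    ∀ (k : ℕ) (a : Fin m → A), ∑ l, a l * g l ∈ JJ f ^ k →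
      ∃ e : Fin m → Fin m → A, ∀ l, a l - ∑ l', (e l l' - e l' l) * g l' ∈ JJ f ^ k := by
  classical
  intro k
  induction k with
  | zero =>
    intro a _
    exact ⟨0, fun l => by rw [pow_zero, Ideal.one_eq_top]; trivial⟩
  | succ k ih =>
    intro a ha
    obtain ⟨e0, he0⟩ := ih a (Ideal.pow_le_pow_right (Nat.le_succ k) ha)
    -- a' l := a l - ∑ ...
    have ha' : ∑ l, (a l - ∑ l', (e0 l l' - e0 l' l) * g l') * g l ∈ JJ f ^ (k + 1) := by
      rw [show ∑ l, (a l - ∑ l', (e0 l l' - e0 l' l) * g l') * g l =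
        ∑ l, a l * g l - ∑ l, (∑ l', (e0 l l' - e0 l' l) * g l') * g l from by
          rw [← Finset.sum_sub_distrib]
          exact Finset.sum_congr rfl fun l _ => sub_mul _ _ _]
      rw [sum_alt_mul_eq_zero, sub_zero]
      exact ha
    choose P hP1 hP2 using fun l => exists_hom_of_mem_pow f k _ (he0 l)
    have hQ1 : (∑ l, C (g l) * P l).IsHomogeneous k := by
      refine IsHomogeneous.sum _ _ _ fun l _ => ?_
      have := (isHomogeneous_C (Fin n) (g l)).mul (hP1 l)
      rwa [zero_add] at this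
    have hQ2 : eval f (∑ l, C (g l) * P l) ∈ JJ f ^ (k + 1) := by
      rw [map_sum]
      simp only [map_mul, eval_C, hP2]
      convert ha' using 1
      exact Finset.sum_congr rfl fun l _ => mul_comm _ _
    have hQ3 := hf k _ hQ1 hQ2
    have hcoef : ∀ α : Fin n →₀ ℕ, ∑ l, coeff α (P l) * g l ∈ JJ f := by
      intro α
      have := hQ3 α
      rw [coeff_sum] at this
      simp only [coeff_C_mul] at this
      convert this using 1
      exact Finset.sum_congr rfl fun l _ => mul_comm _ _
    choose eα heα using fun α => h1_mod f g hg (fun l => coeff α (P l)) (hcoef α)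
    set T : Finset (Fin n →₀ ℕ) := Finset.univ.biUnion fun l => (P l).support with hT
    have hTdeg : ∀ α ∈ T, α.degree = k := by
      intro α hα
      rw [hT, Finset.mem_biUnion] at hα
      obtain ⟨l, -, hl⟩ := hα
      exact degree_eq_of_mem_support (hP1 l) hl
    let E : Fin m → Fin m → MvPolynomial (Fin n) A := fun l l' =>
      ∑ α ∈ T, monomial α (eα α l l')
    have hE1 : ∀ l l', (E l l').IsHomogeneous k := fun l l' =>
      IsHomogeneous.sum _ _ _ fun α hα => isHomogeneous_monomial _ (hTdeg α hα)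
    have hE2 : ∀ l l' α, coeff α (E l l') = if α ∈ T then eα α l l' else 0 := by
      intro l l' α
      simp only [E, coeff_sum, coeff_monomial]
      rw [Finset.sum_ite_eq' T α]
    have hR1 : ∀ l, (P l - ∑ l', C (g l') * (E l l' - E l' l)).IsHomogeneous k := by
      intro l
      refine (hP1 l).sub (IsHomogeneous.sum _ _ _ fun l' _ => ?_)
      have := (isHomogeneous_C (Fin n) (g l')).mul ((hE1 l l').sub (hE1 l' l))
      rwa [zero_add] at this
    have hR2 : ∀ l α, coeff α (P l - ∑ l', C (g l') * (E l l' - E l' l)) ∈ JJ f := by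
      intro l α
      rw [coeff_sub, coeff_sum]
      simp only [coeff_C_mul, coeff_sub, hE2]
      by_cases hα : α ∈ T
      · simp only [hα, if_true]
        have h5 : ∑ x, g x * (eα α l x - eα α x l) = ∑ l', (eα α l l' - eα α l' l) * g l' :=
          Finset.sum_congr rfl fun l' _ => mul_comm _ _
        rw [h5]
        exact heα α l
      · have h0 : coeff α (P l) = 0 := by
          by_contra hne
          exact hα (by
            rw [hT, Finset.mem_biUnion]
            exact ⟨l, Finset.mem_univ _, mem_support_iff.mpr hne⟩)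
        simp [hα, h0]
    have hR3 : ∀ l, eval f (P l - ∑ l', C (g l') * (E l l' - E l' l)) ∈ JJ f ^ (k + 1) := by
      intro l
      have := eval_mem_of_hom f (hR1 l) (JJ f) (hR2 l)
      rwa [← pow_succ'] at this
    refine ⟨fun l l' => e0 l l' + eval f (E l l'), fun l => ?_⟩
    have h2 : a l - ∑ l', ((e0 l l' + eval f (E l l')) - (e0 l' l + eval f (E l' l))) * g l' =
        eval f (P l - ∑ l', C (g l') * (E l l' - E l' l)) := by
      rw [map_sub, map_sum, hP2 l]
      simp only [map_mul, map_sub, eval_C]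
      rw [sub_sub, ← Finset.sum_add_distrib]
      congr 1
      refine Finset.sum_congr rfl fun l' _ => ?_
      ring
    rw [h2]
    exact hR3 l

/-- `g` is `H_1`-regular in `A ⧸ J ^ k`. -/
lemma isH1Regular_mod_pow (hf : CAlgX.IsQuasiRegular f)
    (hg : CAlgX.IsH1Regular (fun j => Ideal.Quotient.mk (JJ f) (g j))) (k : ℕ) :
    CAlgX.IsH1Regular (fun j => Ideal.Quotient.mk (JJ f ^ k) (g j)) := by
  intro abar habar
  choose a ha using fun l => Ideal.Quotient.mk_surjective (abar l)
  have h0 : ∑ l, a l * g l ∈ JJ f ^ k := by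
    rw [← Ideal.Quotient.eq_zero_iff_mem, map_sum]
    simp only [map_mul, ha]
    exact habar
  obtain ⟨e, he⟩ := h1_mod_pow f g hf hg k a h0
  refine mem_triv_of_alt _ (fun l l' => Ideal.Quotient.mk (JJ f ^ k) (e l l')) abar fun l => ?_
  have := Ideal.Quotient.eq_zero_iff_mem.mpr (he l)
  rw [map_sub, sub_eq_zero, ha l, map_sum] at this
  rw [this]
  refine Finset.sum_congr rfl fun l' _ => ?_
  rw [map_mul, map_sub]

/-- quasi-regularity of `g` modulo `J ^ k`, lifted to `A`. -/
lemma qr_mod_pow (hf : CAlgX.IsQuasiRegular f)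
    (hg : CAlgX.IsH1Regular (fun j => Ideal.Quotient.mk (JJ f) (g j))) (k j : ℕ)
    (D : MvPolynomial (Fin m) A) (hD : D.IsHomogeneous j)
    (hev : eval g D ∈ JJ g ^ (j + 1) ⊔ JJ f ^ k) :
    ∀ β, coeff β D ∈ JJ g ⊔ JJ f ^ k := by
  have hqr := isQuasiRegular_of_isH1Regular _ (isH1Regular_mod_pow f g hf hg k)
  have hmap : Ideal.map (Ideal.Quotient.mk (JJ f ^ k)) (JJ g) =
      Ideal.span (Set.range fun j => Ideal.Quotient.mk (JJ f ^ k) (g j)) := by
    rw [Ideal.map_span, ← Set.range_comp]
    rfl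
  have h1 : eval (fun j => Ideal.Quotient.mk (JJ f ^ k) (g j))
      (map (Ideal.Quotient.mk (JJ f ^ k)) D) ∈
      Ideal.span (Set.range fun j => Ideal.Quotient.mk (JJ f ^ k) (g j)) ^ (j + 1) := by
    rw [eval_map, ← hmap, ← Ideal.map_pow]
    have h2 : eval₂ (Ideal.Quotient.mk (JJ f ^ k)) (fun j => Ideal.Quotient.mk (JJ f ^ k) (g j)) D =
        Ideal.Quotient.mk (JJ f ^ k) (eval g D) := by
      rw [← eval₂_id, eval₂_comp_left (Ideal.Quotient.mk (JJ f ^ k)) (RingHom.id A) g D]
      rfl
    rw [h2]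
    obtain ⟨x, hx, y, hy, hxy⟩ := Submodule.mem_sup.mp hev
    rw [← hxy, map_add, Ideal.Quotient.eq_zero_iff_mem.mpr hy, add_zero]
    exact Ideal.mem_map_of_mem _ hx
  intro β
  have h3 := hqr j _ (hD.map _) h1 β
  rw [coeff_map, ← hmap] at h3
  obtain ⟨x, hx, hx'⟩ := (Ideal.mem_map_iff_of_surjective _ Ideal.Quotient.mk_surjective).mp h3
  have h4 : coeff β D - x ∈ JJ f ^ k := by
    rw [← Ideal.Quotient.eq_zero_iff_mem, map_sub, hx', sub_self]
  have : coeff β D = x + (coeff β D - x) := by ring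
  rw [this]
  exact Submodule.add_mem_sup hx h4

lemma sup_pow_le (I J : Ideal A) (a b : ℕ) :
    (I ⊔ J) ^ (a + b + 1) ≤ I ^ (a + 1) ⊔ J ^ (b + 1) := by
  rw [← Ideal.add_eq_sup, ← Ideal.add_eq_sup, add_pow, Ideal.sum_eq_sup]
  apply Finset.sup_le
  intro i hi
  by_cases hn : a + 1 ≤ i
  · exact (Ideal.mul_le_left.trans (Ideal.mul_le_left.trans
      ((Ideal.pow_le_pow_right hn).trans le_sup_left)))
  · refine (Ideal.mul_le_left.trans (Ideal.mul_le_right.trans
      ((Ideal.pow_le_pow_right ?_).trans le_sup_right)))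
    omega

/-- first `n` exponents. -/
noncomputable def dα (d : Fin (n + m) →₀ ℕ) : Fin n →₀ ℕ :=
  Finsupp.equivFunOnFinite.symm (fun i => d (Fin.castAdd m i))

/-- last `m` exponents. -/
noncomputable def dβ (d : Fin (n + m) →₀ ℕ) : Fin m →₀ ℕ :=
  Finsupp.equivFunOnFinite.symm (fun l => d (Fin.natAdd n l))

@[simp] lemma dα_apply (d : Fin (n + m) →₀ ℕ) (i : Fin n) : dα d i = d (Fin.castAdd m i) := rfl

@[simp] lemma dβ_apply (d : Fin (n + m) →₀ ℕ) (l : Fin m) : dβ d l = d (Fin.natAdd n l) := rfl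

lemma degree_split (d : Fin (n + m) →₀ ℕ) : d.degree = (dα d).degree + (dβ d).degree := by
  rw [Finsupp.degree_eq_sum, Finsupp.degree_eq_sum, Finsupp.degree_eq_sum, Fin.sum_univ_add]
  rfl

lemma prod_split (d : Fin (n + m) →₀ ℕ) :
    ∏ i, (Fin.append f g i) ^ (d i) = (∏ i, f i ^ (dα d i)) * ∏ l, g l ^ (dβ d l) := by
  rw [Fin.prod_univ_add]
  simp only [Fin.append_left, Fin.append_right, dα_apply, dβ_apply]

lemma split_inj {d d' : Fin (n + m) →₀ ℕ} (h1 : dα d = dα d') (h2 : dβ d = dβ d') : d = d' := by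
  ext i
  refine Fin.addCases (fun i => ?_) (fun l => ?_) i
  · have := DFunLike.congr_fun h1 i
    simpa using this
  · have := DFunLike.congr_fun h2 l
    simpa using this

lemma prod_pow_mem {r : ℕ} (x : Fin r → A) (α : Fin r →₀ ℕ) :
    ∏ i, x i ^ α i ∈ JJ x ^ α.degree := by
  rw [Finsupp.degree_eq_sum, ← Finset.prod_pow_eq_pow_sum]
  refine Ideal.prod_mem_prod fun i _ => Ideal.pow_mem_pow ?_ _
  exact Ideal.subset_span (Set.mem_range_self i)

lemma JJ_append : JJ (Fin.append f g) = JJ f ⊔ JJ g := by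
  have : Set.range (Fin.append f g) = Set.range f ∪ Set.range g := by
    ext x
    constructor
    · rintro ⟨i, rfl⟩
      refine Fin.addCases (fun i => ?_) (fun l => ?_) i
      · rw [Fin.append_left]
        exact Or.inl ⟨i, rfl⟩
      · rw [Fin.append_right]
        exact Or.inr ⟨l, rfl⟩
    · rintro (⟨i, rfl⟩ | ⟨l, rfl⟩)
      · exact ⟨Fin.castAdd m i, Fin.append_left _ _ _⟩
      · exact ⟨Fin.natAdd n l, Fin.append_right _ _ _⟩
  rw [JJ, this, Ideal.span_union]

lemma eval_monomial' {r : ℕ} (x : Fin r → A) (α : Fin r →₀ ℕ) (c : A) :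
    eval x (monomial α c) = c * ∏ i, x i ^ α i := by
  rw [eval_monomial, Finsupp.prod_fintype]
  intro i
  exact pow_zero _

theorem isQuasiRegular_append (hf : CAlgX.IsQuasiRegular f)
    (hg : CAlgX.IsH1Regular (fun j => Ideal.Quotient.mk (Ideal.span (Set.range f)) (g j))) :
    CAlgX.IsQuasiRegular (Fin.append f g) := by
  classical
  intro N F hF hev d0
  change coeff d0 F ∈ JJ (Fin.append f g)
  change eval (Fin.append f g) F ∈ JJ (Fin.append f g) ^ (N + 1) at hev
  rw [JJ_append] at hev ⊢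
  by_cases hd0 : d0 ∈ F.support
  swap
  · rw [notMem_support_iff.mp hd0]
    exact Ideal.zero_mem _
  have hdegS : ∀ d ∈ F.support, (dα d).degree + (dβ d).degree = N := by
    intro d hd
    rw [← degree_split]
    exact degree_eq_of_mem_support hF hd
  set k := (dα d0).degree with hk
  set j := (dβ d0).degree with hj
  have hkj : k + j = N := hdegS d0 hd0
  -- the middle part of the evaluation
  have hZ : ∑ d ∈ F.support with (dα d).degree = k,
      coeff d F * ((∏ i, f i ^ (dα d i)) * ∏ l, g l ^ (dβ d l)) ∈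
      JJ g ^ (j + 1) ⊔ JJ f ^ (k + 1) := by
    have h1 : eval (Fin.append f g) F = ∑ d ∈ F.support,
        coeff d F * ((∏ i, f i ^ (dα d i)) * ∏ l, g l ^ (dβ d l)) := by
      rw [eval_eq']
      exact Finset.sum_congr rfl fun d _ => by rw [prod_split]
    rw [h1, ← Finset.sum_filter_add_sum_filter_not F.support (fun d => (dα d).degree = k)] at hev
    have h2 : ∑ d ∈ F.support with ¬ (dα d).degree = k,
        coeff d F * ((∏ i, f i ^ (dα d i)) * ∏ l, g l ^ (dβ d l)) ∈
        JJ g ^ (j + 1) ⊔ JJ f ^ (k + 1) := by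
      refine Ideal.sum_mem _ fun d hd => ?_
      rw [Finset.mem_filter] at hd
      refine Ideal.mul_mem_left _ _ ?_
      rcases lt_or_gt_of_ne hd.2 with hlt | hgt
      · have h3 : j + 1 ≤ (dβ d).degree := by
          have := hdegS d hd.1
          omega
        exact Ideal.mul_mem_left _ _ (Ideal.mem_sup_left
          (Ideal.pow_le_pow_right h3 (prod_pow_mem g (dβ d))))
      · exact Ideal.mul_mem_right _ _ (Ideal.mem_sup_right
          (Ideal.pow_le_pow_right hgt (prod_pow_mem f (dα d))))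
    have h4 : (JJ f ⊔ JJ g) ^ (N + 1) ≤ JJ g ^ (j + 1) ⊔ JJ f ^ (k + 1) := by
      rw [← hkj, sup_comm (JJ g ^ (j + 1))]
      exact sup_pow_le _ _ k j
    have h5 := h4 hev
    have h6 := Ideal.sub_mem _ h5 h2
    rwa [add_sub_cancel_right] at h6
  -- the polynomial in `Y`
  have hDhom : (∑ d ∈ F.support with (dα d).degree = k,
      monomial (dβ d) (coeff d F * ∏ i, f i ^ (dα d i))).IsHomogeneous j := by
    refine IsHomogeneous.sum _ _ _ fun d hd => isHomogeneous_monomial _ ?_
    rw [Finset.mem_filter] at hd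
    have := hdegS d hd.1
    omega
  have hDev : eval g (∑ d ∈ F.support with (dα d).degree = k,
      monomial (dβ d) (coeff d F * ∏ i, f i ^ (dα d i))) =
      ∑ d ∈ F.support with (dα d).degree = k,
        coeff d F * ((∏ i, f i ^ (dα d i)) * ∏ l, g l ^ (dβ d l)) := by
    rw [map_sum]
    refine Finset.sum_congr rfl fun d _ => ?_
    rw [eval_monomial', mul_assoc]
  have hw := qr_mod_pow f g hf hg (k + 1) j _ hDhom (by rw [hDev]; exact hZ) (dβ d0)
  -- the polynomial in `X`
  have hPhom : (∑ d ∈ (F.support.filter fun d => (dα d).degree = k) with dβ d = dβ d0,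
      monomial (dα d) (coeff d F)).IsHomogeneous k := by
    refine IsHomogeneous.sum _ _ _ fun d hd => isHomogeneous_monomial _ ?_
    rw [Finset.mem_filter, Finset.mem_filter] at hd
    exact hd.1.2
  have hPev : eval f (∑ d ∈ (F.support.filter fun d => (dα d).degree = k) with dβ d = dβ d0,
      monomial (dα d) (coeff d F)) =
      coeff (dβ d0) (∑ d ∈ F.support with (dα d).degree = k,
        monomial (dβ d) (coeff d F * ∏ i, f i ^ (dα d i))) := by
    rw [map_sum, coeff_sum, Finset.sum_filter]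
    refine Finset.sum_congr rfl fun d _ => ?_
    rw [coeff_monomial, eval_monomial']
  rw [← hPev] at hw
  have hwk := eval_mem_pow_of_hom f hPhom
  obtain ⟨γ, hγ, y, hy, hγy⟩ := Submodule.mem_sup.mp hw
  have hγk : γ ∈ JJ f ^ k := by
    have : γ = eval f (∑ d ∈ (F.support.filter fun d => (dα d).degree = k) with dβ d = dβ d0,
        monomial (dα d) (coeff d F)) - y := by
      rw [← hγy]
      ring
    rw [this]
    exact Ideal.sub_mem _ hwk (Ideal.pow_le_pow_right (Nat.le_succ k) hy)
  obtain ⟨a, ha⟩ := Ideal.mem_span_range_iff_exists_fun.mp hγ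
  obtain ⟨e, he⟩ := h1_mod_pow f g hf hg k a (by rw [ha]; exact hγk)
  have hγ' : γ = ∑ l, (a l - ∑ l', (e l l' - e l' l) * g l') * g l := by
    rw [show ∑ l, (a l - ∑ l', (e l l' - e l' l) * g l') * g l =
      ∑ l, a l * g l - ∑ l, (∑ l', (e l l' - e l' l) * g l') * g l from by
        rw [← Finset.sum_sub_distrib]
        exact Finset.sum_congr rfl fun l _ => sub_mul _ _ _]
    rw [sum_alt_mul_eq_zero, sub_zero, ha]
  choose H hH1 hH2 using fun l => exists_hom_of_mem_pow f k _ (he l)
  have hQhom : ((∑ d ∈ (F.support.filter fun d => (dα d).degree = k) with dβ d = dβ d0,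
      monomial (dα d) (coeff d F)) - ∑ l, C (g l) * H l).IsHomogeneous k := by
    refine hPhom.sub (IsHomogeneous.sum _ _ _ fun l _ => ?_)
    have := (isHomogeneous_C (Fin n) (g l)).mul (hH1 l)
    rwa [zero_add] at this
  have hQev : eval f ((∑ d ∈ (F.support.filter fun d => (dα d).degree = k) with dβ d = dβ d0,
      monomial (dα d) (coeff d F)) - ∑ l, C (g l) * H l) ∈ JJ f ^ (k + 1) := by
    rw [map_sub, ← hγy]
    have : eval f (∑ l, C (g l) * H l) = γ := by
      rw [map_sum, hγ']
      refine Finset.sum_congr rfl fun l _ => ?_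
      rw [map_mul, eval_C, hH2 l, mul_comm]
    rw [this, add_sub_cancel_left]
    exact hy
  have hfin := hf k _ hQhom hQev (dα d0)
  rw [coeff_sub, coeff_sum, coeff_sum] at hfin
  simp only [coeff_C_mul, coeff_monomial] at hfin
  have hsingle : ∑ d ∈ (F.support.filter fun d => (dα d).degree = k) with dβ d = dβ d0,
      (if dα d = dα d0 then coeff d F else 0) = coeff d0 F := by
    rw [Finset.sum_eq_single d0]
    · rw [if_pos rfl]
    · intro d hd hne
      rw [Finset.mem_filter, Finset.mem_filter] at hd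
      rw [if_neg]
      intro hα
      exact hne (split_inj hα hd.2)
    · intro hnot
      exfalso
      apply hnot
      rw [Finset.mem_filter, Finset.mem_filter]
      exact ⟨⟨hd0, rfl⟩, rfl⟩
  rw [hsingle] at hfin
  have : coeff d0 F = (coeff d0 F - ∑ l, g l * coeff (dα d0) (H l)) +
      ∑ l, g l * coeff (dα d0) (H l) := by ring
  rw [this]
  refine Submodule.add_mem_sup hfin (Ideal.sum_mem _ fun l _ => Ideal.mul_mem_right _ _ ?_)
  exact Ideal.subset_span (Set.mem_range_self l)

end Groth.Agent.H6.QR
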