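import Mathlib
import Groth.Agent.Lib.helper4.RedFree4
import Groth.Agent.Lib.helper6.FFRnzd

/-!
# The fibrewise rank of the image of a map between finite flat modules
-/

set_option autoImplicit false
set_option linter.style.haveILetI false

namespace Groth.Agent.Lib.helper6.RankImg

open TensorProduct Groth.Agent.H4FibreDim Groth.Agent.H4RedFree

universe u

variable {B : Type u} [CommRing B] {K K' : Type u} [AddCommGroup K] [Module B K]
  [AddCommGroup K'] [Module B K'] [Module.Finite B K'] (φ : K →ₗ[B] K')

/-- `dim Im(φ_y) + dim κ(y) ⊗ coker φ = dim κ(y) ⊗ K'`. -/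
theorem finrank_range_add (y : PrimeSpectrum B) :
    Module.finrank y.asIdeal.ResidueField
        ↥(LinearMap.range (φ.baseChange y.asIdeal.ResidueField)) +
      fdim (K' ⧸ LinearMap.range φ) y = fdim K' y := by
  set κ := y.asIdeal.ResidueField
  let π : (κ ⊗[B] K') →ₗ[κ] (κ ⊗[B] (K' ⧸ LinearMap.range φ)) :=
    (LinearMap.range φ).mkQ.baseChange κ
  have hex : Function.Exact (φ.baseChange κ) π := by
    have h := lTensor_exact κ (LinearMap.exact_map_mkQ_range φ) (Submodule.mkQ_surjective _)
    intro z
    exact h z
  have hsurj : Function.Surjective π := by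
    have := LinearMap.lTensor_surjective κ (Submodule.mkQ_surjective (LinearMap.range φ))
    exact this
  have h1 := LinearMap.finrank_range_add_finrank_ker π
  have h2 : LinearMap.range π = ⊤ := LinearMap.range_eq_top.mpr hsurj
  have h3 : LinearMap.ker π = LinearMap.range (φ.baseChange κ) := (LinearMap.exact_iff.mp hex)
  rw [h2, h3, finrank_top] at h1
  unfold fdim
  rw [← h1]
  ring

variable [IsNoetherianRing B] [Module.Flat B K']

theorem eventually_fdim_eq (y : PrimeSpectrum B) : ∀ᶠ x' in nhds y, fdim K' x' = fdim K' y := by
  haveI : Module.FinitePresentation B K' := Module.finitePresentation_of_finite B K'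
  have hlc : IsLocallyConstant (Module.rankAtStalk (R := B) K') :=
    Module.isLocallyConstant_rankAtStalk
  filter_upwards [hlc.eventually_eq y] with x' hx'
  have e1 : fdim K' x' = Module.rankAtStalk K' x' := (Module.rankAtStalk_eq x').symm
  have e2 : fdim K' y = Module.rankAtStalk K' y := (Module.rankAtStalk_eq y).symm
  rw [e1, e2, hx']

/-- lower semicontinuity of the rank of the image -/
theorem lowerSemicontinuous_finrank_range :
    LowerSemicontinuous (fun y : PrimeSpectrum B => Module.finrank y.asIdeal.ResidueField
      ↥(LinearMap.range (φ.baseChange y.asIdeal.ResidueField))) := by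
  intro y c hc
  filter_upwards [eventually_fdim_eq (K' := K') y,
    eventually_fdim_le (K' ⧸ LinearMap.range φ) y] with x' h1 h2
  have e1 := finrank_range_add φ y
  have e2 := finrank_range_add φ x'
  have : Module.finrank y.asIdeal.ResidueField
      ↥(LinearMap.range (φ.baseChange y.asIdeal.ResidueField)) ≤
      Module.finrank x'.asIdeal.ResidueField
        ↥(LinearMap.range (φ.baseChange x'.asIdeal.ResidueField)) := by omega
  exact lt_of_lt_of_le hc this

/-- constant rank of the image over a reduced ring: cokernel and image are projective -/
theorem projective_of_const [IsReduced B] [Module.Finite B K]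
    (hconst : ∃ c : ℕ, ∀ y : PrimeSpectrum B, Module.finrank y.asIdeal.ResidueField
      ↥(LinearMap.range (φ.baseChange y.asIdeal.ResidueField)) = c) :
    Module.Projective B (K' ⧸ LinearMap.range φ) ∧ Module.Projective B ↥(LinearMap.range φ) := by
  obtain ⟨c, hc⟩ := hconst
  have hQ : Module.Projective B (K' ⧸ LinearMap.range φ) := by
    haveI : Module.FinitePresentation B (K' ⧸ LinearMap.range φ) :=
      Module.finitePresentation_of_finite B _
    apply projective_of_fdim_eventually_eq
    intro y
    filter_upwards [eventually_fdim_eq (K' := K') y] with x' h1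
    have e1 := finrank_range_add φ y
    have e2 := finrank_range_add φ x'
    rw [hc] at e1 e2
    omega
  refine ⟨hQ, ?_⟩
  haveI := hQ
  haveI : Module.FinitePresentation B K' := Module.finitePresentation_of_finite B K'
  haveI : Module.Projective B K' := Module.Flat.projective_of_finitePresentation
  have h := FFRnzd.projective_ker (LinearMap.range φ).mkQ (Submodule.mkQ_surjective _)
  rw [Submodule.ker_mkQ] at h
  exact h

end Groth.Agent.Lib.helper6.RankImg
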