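import Mathlib
import Groth.Agent.Lib.helper6.RegEtale

/-!
# Reducedness of local rings along étale morphisms
-/

set_option autoImplicit false
set_option linter.style.haveILetI false

namespace Groth.Agent.Lib.helper6.RedEtale

open IsLocalRing AlgebraicGeometry CategoryTheory TensorProduct
open Groth.Agent.Lib.helper6

universe u

section Alg

variable (R S : Type u) [CommRing R] [CommRing S] [Algebra R S]

/-- A nilpotent element of a flat unramified algebra is killed by an element outside
any given minimal prime (of a reduced ring). -/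
lemma exists_smul_eq_zero [IsReduced R] [Algebra.EssFiniteType R S]
    [Algebra.FormallyUnramified R S] (p : Ideal R) (hp : p ∈ minimalPrimes R) (b : S)
    (hb : IsNilpotent b) : ∃ s : R, s ∉ p ∧ s • b = 0 := by
  haveI : p.IsPrime := hp.1.1
  have hK : IsField (Localization.AtPrime p) := by
    haveI : Ring.KrullDimLE 0 (Localization.AtPrime p) := by
      rw [Ring.krullDimLE_iff, IsLocalization.AtPrime.ringKrullDim_eq_height p,
        Ideal.height_eq_zero_iff.mpr hp]
      rfl
    exact Ring.KrullDimLE.isField_of_isReduced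
  letI := hK.toField
  haveI : IsReduced (Localization.AtPrime p ⊗[R] S) :=
    Algebra.FormallyUnramified.isReduced_of_field (Localization.AtPrime p) _
  have h1 : IsNilpotent ((1 : Localization.AtPrime p) ⊗ₜ[R] b) :=
    hb.map (Algebra.TensorProduct.includeRight : S →ₐ[R] Localization.AtPrime p ⊗[R] S)
  have h2 : (TensorProduct.mk R (Localization.AtPrime p) S 1) b = 0 := h1.eq_zero
  obtain ⟨s, hs⟩ := (IsLocalizedModule.eq_zero_iff p.primeCompl
    (TensorProduct.mk R (Localization.AtPrime p) S 1)).mp h2
  exact ⟨s.1, s.2, hs⟩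

/-- In a reduced ring an element outside all minimal primes is a non-zero-divisor. -/
lemma isSMulRegular_of_notMem_minimalPrimes [IsReduced R] (a : R)
    (ha : ∀ p ∈ minimalPrimes R, a ∉ p) : IsSMulRegular R a := by
  rw [isSMulRegular_iff_right_eq_zero_of_smul]
  intro x hx
  have hx' : x ∈ sInf (minimalPrimes R) := by
    rw [Ideal.mem_sInf]
    intro p hp
    have hp' : p.IsPrime := hp.1.1
    have h1 : a * x ∈ p := by
      rw [← smul_eq_mul, hx]; exact p.zero_mem
    exact (hp'.mem_or_mem h1).resolve_left (ha p hp)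
  have h2 : sInf (minimalPrimes R) = (⊥ : Ideal R).radical := Ideal.sInf_minimalPrimes
  rw [h2] at hx'
  have h3 : IsNilpotent x := by
    obtain ⟨n, hn⟩ := hx'
    exact ⟨n, by simpa using hn⟩
  exact h3.eq_zero

/-- A flat, essentially finite type, formally unramified algebra over a reduced Noetherian ring
is reduced. -/
theorem isReduced_of_flat_of_unramified [IsNoetherianRing R] [IsReduced R] [Module.Flat R S]
    [Algebra.EssFiniteType R S] [Algebra.FormallyUnramified R S] : IsReduced S := by
  classical
  constructor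
  intro b hb
  -- the annihilator of `b` in `R`
  let I : Ideal R := (Submodule.span R {b}).annihilator
  have hI : ∀ r : R, r ∈ I ↔ r • b = 0 := fun r => Submodule.mem_annihilator_span_singleton b r
  have hfin : (minimalPrimes R).Finite := minimalPrimes.finite_of_isNoetherianRing R
  have hnot : ¬ ((I : Set R) ⊆ ⋃ p ∈ (hfin.toFinset : Set (Ideal R)), (p : Set R)) := by
    intro hsub
    rw [Ideal.subset_union_prime (f := fun p : Ideal R => p) ⊥ ⊥
      (fun p hp _ _ => ((Set.Finite.mem_toFinset hfin).mp hp).1.1)] at hsub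
    obtain ⟨p, hp, hIp⟩ := hsub
    have hp' : p ∈ minimalPrimes R := (Set.Finite.mem_toFinset hfin).mp hp
    obtain ⟨s, hs, hsb⟩ := exists_smul_eq_zero R S p hp' b hb
    exact hs (hIp ((hI s).mpr hsb))
  rw [Set.not_subset] at hnot
  obtain ⟨a, haI, ha⟩ := hnot
  have ha' : ∀ p ∈ minimalPrimes R, a ∉ p := by
    intro p hp hap
    apply ha
    simp only [Set.mem_iUnion]
    exact ⟨p, (Set.Finite.mem_toFinset hfin).mpr hp, hap⟩
  have hreg : IsSMulRegular R a := isSMulRegular_of_notMem_minimalPrimes R a ha'
  have hreg' : IsSMulRegular S (algebraMap R S a) := hreg.of_flat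
  have h0 : a • b = 0 := (hI a).mp haI
  rw [Algebra.smul_def] at h0
  exact hreg'.right_eq_zero_of_smul (by rwa [smul_eq_mul])

end Alg

/-- Reducedness of local rings along étale ring maps. -/
theorem isReduced_iff_of_etale (A B : Type u) [CommRing A] [CommRing B]
    [Algebra A B] [Algebra.Etale A B] (q : Ideal B) [q.IsPrime]
    [IsNoetherianRing (Localization.AtPrime (Ideal.comap (algebraMap A B) q))] :
    IsReduced (Localization.AtPrime q) ↔
      IsReduced (Localization.AtPrime (Ideal.comap (algebraMap A B) q)) := by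
  haveI : q.LiesOver (Ideal.comap (algebraMap A B) q) := ⟨rfl⟩
  letI := Localization.AtPrime.algebraOfLiesOver (Ideal.comap (algebraMap A B) q) q
  haveI : Module.Flat (Localization.AtPrime (Ideal.comap (algebraMap A B) q))
      (Localization.AtPrime q) :=
    RingHom.Flat.localRingHom (f := algebraMap A B)
      (by rw [RingHom.flat_algebraMap_iff]; infer_instance) q _ Ideal.LiesOver.over
  haveI : IsLocalHom (algebraMap (Localization.AtPrime (Ideal.comap (algebraMap A B) q))
      (Localization.AtPrime q)) :=
    Localization.isLocalHom_localRingHom _ q _ Ideal.LiesOver.over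
  haveI : Algebra.EssFiniteType (Localization.AtPrime (Ideal.comap (algebraMap A B) q))
      (Localization.AtPrime q) := .of_comp A _ _
  haveI : Algebra.FormallyUnramified (Localization.AtPrime (Ideal.comap (algebraMap A B) q))
      (Localization.AtPrime q) := .of_restrictScalars A _ _
  constructor
  · intro h
    haveI : Module.FaithfullyFlat (Localization.AtPrime (Ideal.comap (algebraMap A B) q))
        (Localization.AtPrime q) := Module.FaithfullyFlat.of_flat_of_isLocalHom
    exact isReduced_of_injective (algebraMap (Localization.AtPrime (Ideal.comap (algebraMap A B) q))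
      (Localization.AtPrime q)) (FaithfulSMul.algebraMap_injective _ _)
  · intro h
    exact isReduced_of_flat_of_unramified
      (Localization.AtPrime (Ideal.comap (algebraMap A B) q)) (Localization.AtPrime q)

theorem isReduced_iff_of_etale' (A B : Type u) [CommRing A] [CommRing B]
    [Algebra A B] [Algebra.Etale A B] (p : Ideal A) [p.IsPrime] (q : Ideal B) [q.IsPrime]
    (hpq : p = Ideal.comap (algebraMap A B) q) [IsNoetherianRing (Localization.AtPrime p)] :
    IsReduced (Localization.AtPrime q) ↔ IsReduced (Localization.AtPrime p) := by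
  subst hpq
  exact isReduced_iff_of_etale A B q

theorem stalk_isReduced_iff {X Y : Scheme.{u}} (f : X ⟶ Y) [Etale f] [IsLocallyNoetherian Y]
    (x : X) :
    IsReduced (X.presheaf.stalk x) ↔ IsReduced (Y.presheaf.stalk (f x)) := by
  obtain ⟨_, ⟨U, hU, rfl⟩, hxU, -⟩ :=
    Y.isBasis_affineOpens.exists_subset_of_mem_open (Set.mem_univ (f x)) isOpen_univ
  obtain ⟨_, ⟨V, hV, rfl⟩, hxV, hVU⟩ :=
    X.isBasis_affineOpens.exists_subset_of_mem_open hxU (U.2.preimage f.continuous)
  have het : (f.appLE U V hVU).hom.Etale :=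
    HasRingHomProperty.appLE (P := @Etale) (f := f) ‹Etale f› ⟨U, hU⟩ ⟨V, hV⟩ hVU
  letI := (f.appLE U V hVU).hom.toAlgebra
  haveI : Algebra.Etale Γ(Y, U) Γ(X, V) := het
  have hpq : (hU.primeIdealOf ⟨f x, hVU hxV⟩).asIdeal =
      Ideal.comap (algebraMap Γ(Y, U) Γ(X, V)) (hV.primeIdealOf ⟨x, hxV⟩).asIdeal :=
    congr($(IsAffineOpen.comap_primeIdealOf_appLE U hU V hV hVU hxV).1).symm
  letI := Y.presheaf.algebra_section_stalk ⟨f x, hVU hxV⟩
  haveI := hU.isLocalization_stalk ⟨f x, hVU hxV⟩
  letI := X.presheaf.algebra_section_stalk ⟨x, hxV⟩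
  haveI := hV.isLocalization_stalk ⟨x, hxV⟩
  let eY : Y.presheaf.stalk (f x) ≃+*
      Localization.AtPrime (hU.primeIdealOf ⟨f x, hVU hxV⟩).asIdeal :=
    (IsLocalization.algEquiv (hU.primeIdealOf ⟨f x, hVU hxV⟩).asIdeal.primeCompl
      (Y.presheaf.stalk (f x))
      (Localization.AtPrime (hU.primeIdealOf ⟨f x, hVU hxV⟩).asIdeal)).toRingEquiv
  let eX : X.presheaf.stalk x ≃+* Localization.AtPrime (hV.primeIdealOf ⟨x, hxV⟩).asIdeal :=
    (IsLocalization.algEquiv (hV.primeIdealOf ⟨x, hxV⟩).asIdeal.primeCompl
      (X.presheaf.stalk x)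
      (Localization.AtPrime (hV.primeIdealOf ⟨x, hxV⟩).asIdeal)).toRingEquiv
  haveI : IsNoetherianRing (Localization.AtPrime (hU.primeIdealOf ⟨f x, hVU hxV⟩).asIdeal) :=
    isNoetherianRing_of_ringEquiv _ eY
  have h1 : IsReduced (X.presheaf.stalk x) ↔
      IsReduced (Localization.AtPrime (hV.primeIdealOf ⟨x, hxV⟩).asIdeal) :=
    ⟨fun _ => isReduced_of_injective eX.symm.toRingHom eX.symm.injective,
      fun _ => isReduced_of_injective eX.toRingHom eX.injective⟩
  have h2 : IsReduced (Y.presheaf.stalk (f x)) ↔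
      IsReduced (Localization.AtPrime (hU.primeIdealOf ⟨f x, hVU hxV⟩).asIdeal) :=
    ⟨fun _ => isReduced_of_injective eY.symm.toRingHom eY.symm.injective,
      fun _ => isReduced_of_injective eY.toRingHom eY.injective⟩
  rw [h1, h2]
  exact isReduced_iff_of_etale' Γ(Y, U) Γ(X, V) _ _ hpq

end Groth.Agent.Lib.helper6.RedEtale
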