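import Mathlib
import Groth.Agent.Lib.helper28.ReflDepth2
import Groth.Agent.Lib.helper28.Refl
import Groth.Agent.Lib.helper17.OnePlusJ
import Groth.Agent.Lib.helper9.Depth20
import Groth.Agent.Lib.helper9.Depth8
import Groth.Agent.Lib.helper9.FlatDepth
import Groth.Agent.Lib.helper9.Serre1

/-!
# Over a Noetherian normal domain: reflexive ⟺ torsion-free and `(S_2)`
-/

set_option autoImplicit false
set_option linter.style.haveILetI false
set_option linter.unusedSectionVars false
set_option maxHeartbeats 400000

universe u

namespace Groth.Agent.Lib.helper6.ReflNormal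

open LocCoh Groth.Agent.Lib.helper9 Groth.Agent.Lib.helper9.Depth
  Groth.Agent.Lib.helper28.ReflDepth RingTheory.Sequence

section Local

variable (A : Type u) [CommRing A] [IsNoetherianRing A] [IsLocalRing A] [IsDomain A]

theorem isPrincipalIdealRing_of_normal_of_dim_le_one [IsIntegrallyClosed A]
    (hdim : ringKrullDim A ≤ 1) : IsPrincipalIdealRing A := by
  have h4 : IsIntegrallyClosed A ∧ ∀ P : Ideal A, P ≠ ⊥ → P.IsPrime →
      P = IsLocalRing.maximalIdeal A := by
    refine ⟨inferInstance, fun P hP hPp => ?_⟩
    by_contra hne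
    have hlt : P < IsLocalRing.maximalIdeal A :=
      lt_of_le_of_ne (IsLocalRing.le_maximalIdeal hPp.ne_top) hne
    have h1 := Ideal.height_add_one_le_of_lt_of_isPrime hlt
    have h2 : ((IsLocalRing.maximalIdeal A).height : WithBot ℕ∞) ≤ 1 := by
      rw [IsLocalRing.maximalIdeal_height_eq_ringKrullDim]
      exact hdim
    have h3 : (IsLocalRing.maximalIdeal A).height ≤ 1 := by exact_mod_cast h2
    have h5 : P.height + 1 ≤ 1 := h1.trans h3
    have h6 : P.height = 0 := by
      have h7 : P.height + 1 ≤ 0 + 1 := by simpa using h5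
      have := (ENat.add_le_add_iff_right (by decide : (1 : ℕ∞) ≠ ⊤)).1 h7
      exact le_antisymm this zero_le
    exact hP (Ideal.height_eq_zero_iff_eq_bot.1 h6)
  exact ((tfae_of_isNoetherianRing_of_isLocalRing_of_isDomain A).out 3 0).1 h4

end Local

variable {R : Type u} [CommRing R] [IsDomain R] [IsNoetherianRing R]
  {M : Type u} [AddCommGroup M] [Module R M] [Module.Finite R M]

theorem noZeroSMulDivisors_of_isReflexive [Module.IsReflexive R M] : NoZeroSMulDivisors R M := by
  refine ⟨fun {c x} h => ?_⟩
  by_cases hc : c = 0
  · exact Or.inl hc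
  right
  apply (Module.bijective_dual_eval R M).1
  rw [map_zero]
  ext φ
  have h1 : c • φ x = 0 := by rw [← map_smul, h, map_zero]
  rw [smul_eq_mul] at h1
  rcases mul_eq_zero.mp h1 with h2 | h2
  · exact absurd h2 hc
  · exact h2

theorem eval_injective [NoZeroSMulDivisors R M] : Function.Injective (Module.Dual.eval R M) := by
  obtain ⟨k, g, hg⟩ := Groth.Agent.Lib.helper28.Refl.exists_injective_of_isTorsionFree R M
  rw [injective_iff_map_eq_zero]
  intro x hx
  apply hg
  rw [map_zero]
  funext i
  have := DFunLike.congr_fun hx ((LinearMap.proj i).comp g)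
  simpa using this

theorem annihilator_eq_bot [NoZeroSMulDivisors R M] [Nontrivial M] :
    Module.annihilator R M = ⊥ := by
  rw [eq_bot_iff]
  intro a ha
  obtain ⟨x, hx⟩ := exists_ne (0 : M)
  have h1 : a • x = 0 := Module.mem_annihilator.mp ha x
  rcases eq_zero_or_eq_zero_of_smul_eq_zero h1 with h2 | h2
  · exact h2
  · exact absurd h2 hx

theorem nontrivial_localization [NoZeroSMulDivisors R M] [Nontrivial M] (q : Ideal R)
    [q.IsPrime] : Nontrivial (LocalizedModule q.primeCompl M) := by
  rw [← Module.mem_support_iff (p := ⟨q, inferInstance⟩), Module.mem_support_iff_of_finite,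
    annihilator_eq_bot]
  exact bot_le

theorem supportDim_localization [NoZeroSMulDivisors R M] [Nontrivial M] (q : Ideal R)
    [q.IsPrime] :
    Module.supportDim (Localization.AtPrime q) (LocalizedModule q.primeCompl M) =
      (q.height : WithBot ℕ∞) := by
  haveI : IsDomain (Localization.AtPrime q) :=
    IsLocalization.isDomain_localization q.primeCompl_le_nonZeroDivisors
  haveI := nontrivial_localization (M := M) q
  have hann : Module.annihilator (Localization.AtPrime q)
      (LocalizedModule q.primeCompl M) = ⊥ := by
    rw [eq_bot_iff]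
    intro a ha
    obtain ⟨x, hx⟩ := exists_ne (0 : LocalizedModule q.primeCompl M)
    have h1 : a • x = 0 := Module.mem_annihilator.mp ha x
    rcases (Module.isTorsionFree_iff_smul_eq_zero.1 inferInstance) a x h1 with h2 | h2
    · exact h2
    · exact absurd h2 hx
  rw [Module.supportDim_eq_ringKrullDim_quotient_annihilator,
    ← IsLocalization.AtPrime.ringKrullDim_eq_height q (Localization.AtPrime q)]
  exact ringKrullDim_eq_of_ringEquiv
    ((Ideal.quotEquivOfEq hann).trans (RingEquiv.quotientBot _))

variable [IsIntegrallyClosed R]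

theorem isReflexive_localization_of_height_le_one [NoZeroSMulDivisors R M] (p : Ideal R)
    [p.IsPrime] (hht : p.height ≤ 1) :
    Module.IsReflexive (Localization.AtPrime p) (LocalizedModule p.primeCompl M) := by
  haveI : IsDomain (Localization.AtPrime p) :=
    IsLocalization.isDomain_localization p.primeCompl_le_nonZeroDivisors
  haveI : IsIntegrallyClosed (Localization.AtPrime p) :=
    isIntegrallyClosed_of_isLocalization (Localization.AtPrime p)
      p.primeCompl p.primeCompl_le_nonZeroDivisors
  haveI : IsNoetherianRing (Localization.AtPrime p) :=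
    IsLocalization.isNoetherianRing p.primeCompl _ inferInstance
  haveI : IsPrincipalIdealRing (Localization.AtPrime p) := by
    apply isPrincipalIdealRing_of_normal_of_dim_le_one
    rw [IsLocalization.AtPrime.ringKrullDim_eq_height p]
    exact_mod_cast hht
  haveI : Module.Free (Localization.AtPrime p) (LocalizedModule p.primeCompl M) :=
    Module.free_of_finite_type_torsion_free'
  infer_instance

theorem isReflexive_of_torsionFree_S2 [NoZeroSMulDivisors R M] (hS : HasSk 2 R M) :
    Module.IsReflexive R M := by
  have hinj := eval_injective (R := R) (M := M)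
  by_contra hnot
  have hQ : Nontrivial (Module.Dual R (Module.Dual R M) ⧸
      LinearMap.range (Module.Dual.eval R M)) := by
    by_contra hsub
    rw [not_nontrivial_iff_subsingleton] at hsub
    apply hnot
    have hsurj : Function.Surjective (Module.Dual.eval R M) := by
      rw [← LinearMap.range_eq_top]
      exact Submodule.Quotient.subsingleton_iff.mp hsub
    exact ⟨⟨hinj, hsurj⟩⟩
  haveI : Nontrivial M := by
    by_contra h
    rw [not_nontrivial_iff_subsingleton] at h
    haveI := h
    exact not_subsingleton _ (inferInstance : Subsingleton (Module.Dual R (Module.Dual R M) ⧸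
      LinearMap.range (Module.Dual.eval R M)))
  obtain ⟨p, hp⟩ := associatedPrimes.nonempty R (Module.Dual R (Module.Dual R M) ⧸
      LinearMap.range (Module.Dual.eval R M))
  have hp' : IsAssociatedPrime p (Module.Dual R (Module.Dual R M) ⧸
      LinearMap.range (Module.Dual.eval R M)) := hp
  haveI hprime := hp'.isPrime
  rw [isAssociatedPrime_iff] at hp'
  obtain ⟨-, ybar, hy⟩ := hp'
  obtain ⟨y, rfl⟩ := Submodule.Quotient.mk_surjective _ ybar
  have hmemp : ∀ a : R, a ∈ p ↔ a • y ∈ LinearMap.range (Module.Dual.eval R M) := by
    intro a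
    rw [hy, Submodule.mem_colon_singleton, ← Submodule.Quotient.mk_smul, Submodule.mem_bot,
      Submodule.Quotient.mk_eq_zero]
  by_cases hht : p.height ≤ 1
  · have hrefl := isReflexive_localization_of_height_le_one (M := M) p hht
    obtain ⟨s, g, hsg⟩ := coker_eval_torsion p M hrefl y
    have : (s : R) ∈ p := by
      rw [hmemp]
      exact ⟨g, hsg.symm⟩
    exact s.2 this
  · rw [not_le] at hht
    have h2 : (2 : ℕ∞) ≤ p.height := by
      have := Order.add_one_le_of_lt hht
      simpa [one_add_one_eq_two] using this
    have hpne : p ≠ ⊥ := by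
      rintro rfl
      rw [Ideal.height_bot] at hht
      exact absurd hht (by simp)
    obtain ⟨x, hxp, hx0⟩ := Submodule.exists_mem_ne_zero_of_ne_bot hpne
    have hdR : 1 ≤ idealDepth p R := by
      have hreg : IsWeaklyRegular R [x] := by
        rw [isWeaklyRegular_singleton_iff]
        intro a b hab
        simp only [smul_eq_mul] at hab
        exact mul_left_cancel₀ hx0 hab
      have := Groth.Agent.Lib.helper9.Depth.length_le_idealDepth (I := p) hreg
        (by intro r hr; rw [List.mem_singleton] at hr; rw [hr]; exact hxp)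
      simpa using this
    have hdM : 2 ≤ idealDepth p M := by
      rw [idealDepth_eq_iInf_depth_localization]
      refine le_iInf₂ fun q hq => ?_
      have h3 := hS q.asIdeal
      rw [supportDim_localization (M := M) q.asIdeal] at h3
      have h4 : (2 : ℕ∞) ≤ q.asIdeal.height := h2.trans (Ideal.height_mono hq)
      have h5 : (((2 : ℕ∞) : WithBot ℕ∞)) ≤ ((q.asIdeal.height : ℕ∞) : WithBot ℕ∞) :=
        WithBot.coe_le_coe.mpr h4
      have h6 : ((2 : ℕ) : WithBot ℕ∞) = ((2 : ℕ∞) : WithBot ℕ∞) := rfl
      rw [h6, min_eq_left h5] at h3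
      exact WithBot.coe_le_coe.mp h3
    have hDD : 1 ≤ idealDepth p (Module.Dual R (Module.Dual R M)) :=
      DepthHom.one_le_idealDepth_hom hdR
    have hdep := Depth.idealDepth_shortExact p (Module.Dual.eval R M)
      (LinearMap.range (Module.Dual.eval R M)).mkQ hinj
      (Submodule.mkQ_surjective _) (LinearMap.exact_map_mkQ_range (Module.Dual.eval R M))
    obtain ⟨-, hC, -⟩ := hdep
    have hG' : 1 ≤ idealDepth p M - 1 := by
      generalize idealDepth p M = a at hdM
      induction a with
      | top => simp
      | coe m =>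
        have h2 : 2 ≤ m := by exact_mod_cast hdM
        have h3 : ((m : ℕ∞) - 1) = ((m - 1 : ℕ) : ℕ∞) := by
          rw [ENat.natCast_sub]; rfl
        rw [h3]
        have : 1 ≤ m - 1 := by omega
        exact_mod_cast this
    have hQd : 1 ≤ idealDepth p (Module.Dual R (Module.Dual R M) ⧸
        LinearMap.range (Module.Dual.eval R M)) := le_trans (le_min hDD hG') hC
    have hne : (Submodule.Quotient.mk y : Module.Dual R (Module.Dual R M) ⧸
        LinearMap.range (Module.Dual.eval R M)) ≠ 0 := by
      intro h0
      have : (1 : R) ∈ p := by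
        rw [hmemp, one_smul]
        exact (Submodule.Quotient.mk_eq_zero _).mp h0
      exact hprime.ne_top ((Ideal.eq_top_iff_one _).mpr this)
    have h0 := Groth.Agent.Lib.helper9.FlatDepth.idealDepth_eq_zero_of_killed p _
      (Submodule.Quotient.mk y) hne (by
        intro j hj
        rw [← Submodule.Quotient.mk_smul, Submodule.Quotient.mk_eq_zero]
        exact (hmemp j).mp hj)
    rw [h0] at hQd
    exact absurd hQd (by simp)

theorem main : Module.IsReflexive R M ↔ NoZeroSMulDivisors R M ∧ HasSk 2 R M := by
  constructor
  · intro h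
    haveI := h
    refine ⟨noZeroSMulDivisors_of_isReflexive, ?_⟩
    apply hasSk_two_of_isReflexive
    exact Groth.Agent.Lib.helper17.OnePlusJ.hasSk_two_of_isNormalRing R
      (Groth.Agent.Lib.helper17.OnePlusJ.isNormalRing_of_isIntegrallyClosed R)
  · rintro ⟨h1, h2⟩
    haveI := h1
    exact isReflexive_of_torsionFree_S2 h2

end Groth.Agent.Lib.helper6.ReflNormal
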