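import Mathlib
import Groth.Agent.S0563
import Groth.Agent.Lib.helper6.AusBuchE
import Groth.Agent.Lib.helper9.LocalAlg

/-!
# Radical ideals in two-dimensional regular local rings
-/

set_option autoImplicit false
set_option linter.style.haveILetI false

namespace Groth.Agent.Lib.helper6.RegDim2

open CategoryTheory IsLocalRing LocCoh
open Groth.Agent.Lib.helper6
open Groth.Agent.Lib.helper9

universe u

/-- A free ideal of a nontrivial commutative ring is zero or generated by a nonzero element. -/
theorem eq_bot_or_principal_of_free {A : Type u} [CommRing A] [Nontrivial A] (I : Ideal A)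
    [Module.Free A I] : I = ⊥ ∨ ∃ f ∈ I, f ≠ 0 ∧ I = Ideal.span {f} := by
  classical
  let b := Module.Free.chooseBasis A I
  have hsub : ∀ i j : Module.Free.ChooseBasisIndex A I, i = j := by
    intro i j
    by_contra hij
    have h1 : ((b j : I) : A) • b i = ((b i : I) : A) • b j := by
      apply Subtype.ext
      simp only [Submodule.coe_smul, smul_eq_mul]
      ring
    have h2 := congrArg (fun x => b.repr x i) h1
    simp only [map_smul, Module.Basis.repr_self, Finsupp.smul_apply, Finsupp.single_eq_same,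
      smul_eq_mul, mul_one] at h2
    rw [Finsupp.single_eq_of_ne (by exact fun h => hij h), mul_zero] at h2
    have h3 : b j = 0 := Subtype.ext h2
    exact b.ne_zero j h3
  rcases isEmpty_or_nonempty (Module.Free.ChooseBasisIndex A I) with hE | ⟨⟨i⟩⟩
  · left
    have : Subsingleton I := b.repr.toEquiv.subsingleton
    rw [← Submodule.subsingleton_iff_eq_bot]
    exact this
  · right
    refine ⟨b i, (b i).2, fun h0 => b.ne_zero i (Subtype.ext h0), ?_⟩
    apply le_antisymm
    · intro x hx
      have h4 : (⟨x, hx⟩ : I) ∈ Submodule.span A (Set.range b) := by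
        rw [b.span_eq]; trivial
      have h5 : Set.range b = {b i} := by
        ext y
        constructor
        · rintro ⟨j, rfl⟩
          rw [hsub j i]; rfl
        · rintro rfl
          exact ⟨i, rfl⟩
      rw [h5, Submodule.mem_span_singleton] at h4
      obtain ⟨a, ha⟩ := h4
      rw [Ideal.mem_span_singleton']
      refine ⟨a, ?_⟩
      have := congrArg Subtype.val ha
      simpa using this
    · rw [Ideal.span_singleton_le_iff_mem]
      exact (b i).2

theorem radical_ideal (A : Type u) [CommRing A] [IsRegularLocalRing A] (hdim : ringKrullDim A = 2)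
    (I : Ideal A) (hI : I ≤ maximalIdeal A) [IsReduced (A ⧸ I)] :
    I = ⊥ ∨ I = maximalIdeal A ∨ ∃ f ∈ maximalIdeal A, f ≠ 0 ∧ I = Ideal.span {f} := by
  by_cases h1 : I = ⊥
  · exact Or.inl h1
  by_cases h2 : I = maximalIdeal A
  · exact Or.inr (Or.inl h2)
  right; right
  have hItop : I ≠ ⊤ := fun h => (maximalIdeal.isMaximal A).ne_top (top_le_iff.mp (h ▸ hI))
  haveI : Nontrivial (A ⧸ I) := Ideal.Quotient.nontrivial_iff.mpr hItop
  -- the maximal ideal is not associated to `A ⧸ I`
  have hnot : maximalIdeal A ∉ associatedPrimes A (A ⧸ I) := by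
    intro hass
    obtain ⟨n, hn0, hn⟩ := LocalAlg.exists_ne_zero_killed_of_mem_ass A (A ⧸ I) hass
    obtain ⟨x, rfl⟩ := Ideal.Quotient.mk_surjective n
    have hxm : x ∈ maximalIdeal A := by
      by_contra hx
      have hu : IsUnit x := by
        by_contra hnu
        exact hx ((mem_maximalIdeal x).mpr hnu)
      apply h2
      apply le_antisymm hI
      intro y hy
      have h3 := hn y hy
      rw [Algebra.smul_def, Ideal.Quotient.algebraMap_eq, ← map_mul,
        Ideal.Quotient.eq_zero_iff_mem] at h3
      have h4 : y = (y * x) * hu.unit⁻¹.1 := by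
        rw [mul_assoc, IsUnit.mul_val_inv, mul_one]
      rw [h4]
      exact I.mul_mem_right _ h3
    have h5 := hn x hxm
    rw [Algebra.smul_def, Ideal.Quotient.algebraMap_eq] at h5
    have h6 : IsNilpotent (Ideal.Quotient.mk I x) := ⟨2, by rw [pow_two]; exact h5⟩
    exact hn0 h6.eq_zero
  have hdepth : depth A (A ⧸ I) ≠ 0 := fun h => hnot ((LocalAlg.depth_eq_zero_iff A _).mp h)
  have hpd3 : HasProjectiveDimensionLT (ModuleCat.of A (A ⧸ I)) (2 + 1) :=
    Groth.Agent.S0563.result A 2 hdim (A ⧸ I)
  have hnz : ¬ Limits.IsZero (ModuleCat.of A (A ⧸ I)) := by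
    rw [ModuleCat.isZero_iff_subsingleton]
    exact not_subsingleton _
  obtain ⟨e, he⟩ := AusBuchE.exists_nat_pd _ hnz _ hpd3
  have hab := AusBuchD.auslander_buchsbaum e (A ⧸ I) he
  rw [AusBuchE.depth_eq_dim A 2 hdim] at hab
  have he1 : e ≤ 1 := by
    by_contra hcon
    have h2e : 2 ≤ e := by omega
    have h3 : ((2 : ℕ) : ℕ∞) ≤ (e : ℕ∞) := by exact_mod_cast h2e
    have h4 : (e : ℕ∞) + depth A (A ⧸ I) ≤ (e : ℕ∞) := by
      calc (e : ℕ∞) + depth A (A ⧸ I) = ((2 : ℕ) : ℕ∞) := hab.symm
        _ ≤ e := h3
    have h5 : depth A (A ⧸ I) = 0 := by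
      have h6 : (e : ℕ∞) + depth A (A ⧸ I) ≤ (e : ℕ∞) + 0 := by simpa using h4
      have h7 := (ENat.add_le_add_iff_left (ENat.natCast_ne_top e)).mp h6
      exact nonpos_iff_eq_zero.mp h7
    exact hdepth h5
  have hpd2 : HasProjectiveDimensionLT (ModuleCat.of A (A ⧸ I)) 2 := by
    rw [← projectiveDimension_lt_iff, he]
    exact_mod_cast Nat.lt_succ_of_le he1
  -- `I` is projective
  have hS := LinearMap.shortExact_shortComplexKer (f := I.mkQ) (Submodule.mkQ_surjective _)
  have hA1 : HasProjectiveDimensionLT (ModuleCat.of A A) 1 := by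
    have : Projective (ModuleCat.of A A) := by
      rw [← IsProjective.iff_projective]
      infer_instance
    exact projective_iff_hasProjectiveDimensionLT_one.mp this
  have hK : HasProjectiveDimensionLT (ModuleCat.of A (LinearMap.ker I.mkQ)) 1 :=
    hS.hasProjectiveDimensionLT_X₁ 1 hA1 hpd2
  have hI1 : HasProjectiveDimensionLT (ModuleCat.of A I) 1 :=
    hasProjectiveDimensionLT_of_iso
      (LinearEquiv.ofEq _ _ (Submodule.ker_mkQ I)).toModuleIso _
  have hproj : Projective (ModuleCat.of A I) := projective_iff_hasProjectiveDimensionLT_one.mpr hI1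
  rw [← IsProjective.iff_projective] at hproj
  haveI : Module.Free A I := Module.free_of_flat_of_isLocalRing
  rcases eq_bot_or_principal_of_free I with h | ⟨f, hfI, hf0, hf⟩
  · exact absurd h h1
  · exact ⟨f, hI hfI, hf0, hf⟩

end Groth.Agent.Lib.helper6.RegDim2
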