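import Mathlib
import Groth.Agent.Lib.helper6.RegEtale

/-!
# Regularity of stalks along étale morphisms of schemes.
-/

set_option autoImplicit false
set_option linter.style.haveILetI false

namespace Groth.Agent.Lib.helper6.RegEtaleSch

open AlgebraicGeometry CategoryTheory

universe u

theorem regular_iff_of_etale' (A B : Type u) [CommRing A] [CommRing B]
    [Algebra A B] [Algebra.Etale A B] (p : Ideal A) [p.IsPrime] (q : Ideal B) [q.IsPrime]
    (hpq : p = Ideal.comap (algebraMap A B) q) :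
    IsRegularLocalRing (Localization.AtPrime p) ↔ IsRegularLocalRing (Localization.AtPrime q) := by
  subst hpq
  exact RegEtale.regular_iff_of_etale A B q

theorem stalk_regular_iff {X Y : Scheme.{u}} (f : X ⟶ Y) [Etale f] (x : X) :
    IsRegularLocalRing (X.presheaf.stalk x) ↔ IsRegularLocalRing (Y.presheaf.stalk (f x)) := by
  obtain ⟨_, ⟨U, hU, rfl⟩, hxU, -⟩ :=
    Y.isBasis_affineOpens.exists_subset_of_mem_open (Set.mem_univ (f x)) isOpen_univ
  obtain ⟨_, ⟨V, hV, rfl⟩, hxV, hVU⟩ :=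
    X.isBasis_affineOpens.exists_subset_of_mem_open hxU (U.2.preimage f.continuous)
  have het : (f.appLE U V hVU).hom.Etale :=
    HasRingHomProperty.appLE (P := @Etale) (f := f) ‹Etale f› ⟨U, hU⟩ ⟨V, hV⟩ hVU
  letI := (f.appLE U V hVU).hom.toAlgebra
  haveI : Algebra.Etale Γ(Y, U) Γ(X, V) := het
  have hpq : (hU.primeIdealOf ⟨f x, hVU hxV⟩).asIdeal =
      Ideal.comap (algebraMap Γ(Y, U) Γ(X, V)) (hV.primeIdealOf ⟨x, hxV⟩).asIdeal :=
    congr($(IsAffineOpen.comap_primeIdealOf_appLE U hU V hV hVU hxV).1).symm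
  letI := Y.presheaf.algebra_section_stalk ⟨f x, hVU hxV⟩
  haveI := hU.isLocalization_stalk ⟨f x, hVU hxV⟩
  letI := X.presheaf.algebra_section_stalk ⟨x, hxV⟩
  haveI := hV.isLocalization_stalk ⟨x, hxV⟩
  let eY : Y.presheaf.stalk (f x) ≃+*
      Localization.AtPrime (hU.primeIdealOf ⟨f x, hVU hxV⟩).asIdeal :=
    (IsLocalization.algEquiv (hU.primeIdealOf ⟨f x, hVU hxV⟩).asIdeal.primeCompl
      (Y.presheaf.stalk (f x))
      (Localization.AtPrime (hU.primeIdealOf ⟨f x, hVU hxV⟩).asIdeal)).toRingEquiv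
  let eX : X.presheaf.stalk x ≃+* Localization.AtPrime (hV.primeIdealOf ⟨x, hxV⟩).asIdeal :=
    (IsLocalization.algEquiv (hV.primeIdealOf ⟨x, hxV⟩).asIdeal.primeCompl
      (X.presheaf.stalk x)
      (Localization.AtPrime (hV.primeIdealOf ⟨x, hxV⟩).asIdeal)).toRingEquiv
  have key := regular_iff_of_etale' Γ(Y, U) Γ(X, V) _ _ hpq
  constructor
  · intro h
    haveI : IsRegularLocalRing (Localization.AtPrime (hV.primeIdealOf ⟨x, hxV⟩).asIdeal) :=
      IsRegularLocalRing.of_ringEquiv eX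
    haveI := key.mpr inferInstance
    exact IsRegularLocalRing.of_ringEquiv eY.symm
  · intro h
    haveI : IsRegularLocalRing (Localization.AtPrime (hU.primeIdealOf ⟨f x, hVU hxV⟩).asIdeal) :=
      IsRegularLocalRing.of_ringEquiv eY
    haveI := key.mp inferInstance
    exact IsRegularLocalRing.of_ringEquiv eX.symm

end Groth.Agent.Lib.helper6.RegEtaleSch
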