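import Mathlib
import Groth.Agent.S0389
import Groth.Agent.Lib.helper6.SerreConvE
import Groth.Prelude.Def_EGA4b

/-!
# Generic descent of the regular locus along injective finite type maps of domains
-/

set_option autoImplicit false
set_option linter.style.haveILetI false
set_option linter.unusedSectionVars false
set_option maxHeartbeats 400000

universe u

namespace Groth.Agent.Lib.helper6.RegGenDesc

open TensorProduct

attribute [local instance] Algebra.TensorProduct.rightAlgebra

/-- regularity passes from `T_Q` to `R_p` for a flat `R`-algebra `T`. -/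
theorem regular_under_of_flat (R T : Type u) [CommRing R] [CommRing T] [IsNoetherianRing R]
    [Algebra R T] [Module.Flat R T] (Q : Ideal T) [Q.IsPrime]
    (h : IsRegularLocalRing (Localization.AtPrime Q)) :
    IsRegularLocalRing (Localization.AtPrime (Q.under R)) := by
  haveI : Q.LiesOver (Q.under R) := ⟨rfl⟩
  letI := Localization.AtPrime.algebraOfLiesOver (Q.under R) Q
  haveI : IsNoetherianRing (Localization.AtPrime (Q.under R)) :=
    IsLocalization.isNoetherianRing (Q.under R).primeCompl _ inferInstance
  exact SerreConvE.regular_of_flat_local (Localization.AtPrime (Q.under R))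
    (Localization.AtPrime Q)

/-- regularity at `Q` in a localization `T` of `S` is regularity at `Q ∩ S`. -/
theorem regular_comap_of_isLocalization (S T : Type u) [CommRing S] [CommRing T] [Algebra S T]
    (M : Submonoid S) [IsLocalization M T] (Q : Ideal T) [Q.IsPrime]
    (h : IsRegularLocalRing (Localization.AtPrime (Q.comap (algebraMap S T)))) :
    IsRegularLocalRing (Localization.AtPrime Q) := by
  haveI : IsLocalization.AtPrime (Localization.AtPrime Q) (Q.comap (algebraMap S T)) :=
    IsLocalization.isLocalization_isLocalization_atPrime_isLocalization M _ Q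
  exact IsRegularLocalRing.of_ringEquiv
    (IsLocalization.algEquiv (Q.comap (algebraMap S T)).primeCompl
      (Localization.AtPrime (Q.comap (algebraMap S T))) (Localization.AtPrime Q)).toRingEquiv

/-- = S9255 -/
theorem main (R S : Type u) [CommRing R] [IsDomain R] [IsNoetherianRing R] [CommRing S]
    [IsDomain S] [Algebra R S] [Algebra.FiniteType R S]
    (hinj : Function.Injective (algebraMap R S))
    (hS : ∃ U : Set (PrimeSpectrum S), IsOpen U ∧ U.Nonempty ∧ U ⊆ EGA4.regLocus S) :
    ∃ U : Set (PrimeSpectrum R), IsOpen U ∧ U.Nonempty ∧ U ⊆ EGA4.regLocus R := by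
  obtain ⟨U, hUo, hUne, hUreg⟩ := hS
  obtain ⟨f, hf0, -, hfree, hfp, -⟩ := Groth.Agent.S0389.result (R := R) (S := S) (M := S)
  haveI : Module.Flat (Localization.Away f) (Localization.Away f ⊗[R] S) := Module.Flat.of_free
  haveI : Module.Flat R (Localization.Away f) := IsLocalization.flat _ (Submonoid.powers f)
  haveI : Module.Flat R (Localization.Away f ⊗[R] S) :=
    Module.Flat.trans R (Localization.Away f) (Localization.Away f ⊗[R] S)
  haveI : Algebra.FinitePresentation R (Localization.Away f) :=
    IsLocalization.Away.finitePresentation f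
  haveI : Algebra.FinitePresentation R (Localization.Away f ⊗[R] S) :=
    Algebra.FinitePresentation.trans R (Localization.Away f) (Localization.Away f ⊗[R] S)
  have hopen := PrimeSpectrum.isOpenMap_comap_of_hasGoingDown_of_finitePresentation
    (R := R) (S := Localization.Away f ⊗[R] S)
  haveI hloc : IsLocalization.Away (algebraMap R S f) (Localization.Away f ⊗[R] S) := by
    have h := IsLocalization.tensorRight (S := S) (A := Localization.Away f) (Submonoid.powers f)
    rwa [Algebra.algebraMapSubmonoid, Submonoid.map_powers] at h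
  have hWo : IsOpen ((PrimeSpectrum.comap (algebraMap S (Localization.Away f ⊗[R] S))) ⁻¹' U) :=
    hUo.preimage (PrimeSpectrum.continuous_comap _)
  have hWne : ((PrimeSpectrum.comap (algebraMap S (Localization.Away f ⊗[R] S))) ⁻¹' U).Nonempty := by
    have hf1 : algebraMap R S f ≠ 0 := fun h => hf0 (hinj (by rw [h, map_zero]))
    have h1 : (PrimeSpectrum.basicOpen (algebraMap R S f) : Set (PrimeSpectrum S)).Nonempty :=
      ⟨⟨⊥, Ideal.isPrime_bot⟩, by simpa using hf1⟩
    obtain ⟨q, hqU, hqf⟩ := nonempty_preirreducible_inter hUo
      (PrimeSpectrum.basicOpen (algebraMap R S f)).isOpen hUne h1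
    rw [← PrimeSpectrum.localization_away_comap_range (Localization.Away f ⊗[R] S)
      (algebraMap R S f)] at hqf
    obtain ⟨Q, rfl⟩ := hqf
    exact ⟨Q, hqU⟩
  refine ⟨PrimeSpectrum.comap (algebraMap R (Localization.Away f ⊗[R] S)) ''
    ((PrimeSpectrum.comap (algebraMap S (Localization.Away f ⊗[R] S))) ⁻¹' U),
    hopen _ hWo, hWne.image _, ?_⟩
  rintro _ ⟨Q, hQ, rfl⟩
  have h1 : IsRegularLocalRing (Localization.AtPrime
      (Q.asIdeal.comap (algebraMap S (Localization.Away f ⊗[R] S)))) := hUreg hQ
  have h2 := regular_comap_of_isLocalization S (Localization.Away f ⊗[R] S)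
    (Submonoid.powers (algebraMap R S f)) Q.asIdeal h1
  exact regular_under_of_flat R (Localization.Away f ⊗[R] S) Q.asIdeal h2

end Groth.Agent.Lib.helper6.RegGenDesc
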