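import Mathlib
import Groth.Agent.Lib.helper6.FFRnzd

/-!
# Steinitz: `I ⊕ J ≅ R ⊕ IJ` for nonzero ideals of a Dedekind domain
-/

set_option linter.style.haveILetI false

namespace Groth.Agent.Lib.helper6.Steinitz

universe u v

open Ideal

variable {R : Type u} [CommRing R]

/-- multiplication by a nonzero element: `J ≃ (a) * J`. -/
noncomputable def mulEquiv [IsDomain R] (a : R) (ha : a ≠ 0) (J : Ideal R) :
    J ≃ₗ[R] ↥(Ideal.span {a} * J) := by
  refine LinearEquiv.ofBijective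
    ((LinearMap.mulLeft R a).restrict (p := J) (q := Ideal.span {a} * J) ?_) ⟨?_, ?_⟩
  · intro x hx
    exact Ideal.mul_mem_mul (Ideal.mem_span_singleton_self a) hx
  · intro x y hxy
    have h := congrArg Subtype.val hxy
    simp only [LinearMap.coe_restrict_apply, LinearMap.mulLeft_apply] at h
    exact Subtype.ext (mul_left_cancel₀ ha h)
  · rintro ⟨y, hy⟩
    obtain ⟨z, hz, rfl⟩ := Ideal.mem_span_singleton_mul.mp hy
    exact ⟨⟨z, hz⟩, Subtype.ext rfl⟩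

theorem equiv_of_mul_eq [IsDomain R] (a b : R) (ha : a ≠ 0) (hb : b ≠ 0) (J J' : Ideal R)
    (h : Ideal.span {a} * J = Ideal.span {b} * J') : Nonempty (J ≃ₗ[R] J') :=
  ⟨mulEquiv a ha J ≪≫ₗ LinearEquiv.ofEq _ _ h ≪≫ₗ (mulEquiv b hb J').symm⟩

/-- coprime ideals: `I × J ≃ R × (I * J)`. -/
theorem steinitz_coprime (I J : Ideal R) (h : I ⊔ J = ⊤) :
    Nonempty ((I × J) ≃ₗ[R] (R × ↥(I * J))) := by
  let s : (I × J) →ₗ[R] R := I.subtype.coprod J.subtype
  have hs : Function.Surjective s := by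
    intro r
    have hr : r ∈ I ⊔ J := h ▸ Submodule.mem_top
    obtain ⟨x, hx, y, hy, rfl⟩ := Submodule.mem_sup.mp hr
    exact ⟨(⟨x, hx⟩, ⟨y, hy⟩), by simp [s]⟩
  obtain ⟨e⟩ := FFRnzd.nonempty_split s hs
  have hIJ : I * J = I ⊓ J := Ideal.mul_eq_inf_of_coprime h
  -- ker s ≃ I ⊓ J
  have eK : LinearMap.ker s ≃ₗ[R] ↥(I * J) := by
    refine LinearEquiv.ofBijective
      (LinearMap.codRestrict (I * J) ((I.subtype ∘ₗ LinearMap.fst R I J) ∘ₗ (LinearMap.ker s).subtype) ?_)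
      ⟨?_, ?_⟩
    · rintro ⟨⟨x, y⟩, hxy⟩
      have h0 : (x : R) + y = 0 := by simpa [s] using hxy
      rw [hIJ]
      refine ⟨x.2, ?_⟩
      have : (x : R) = -y := eq_neg_of_add_eq_zero_left h0
      simp only [LinearMap.coe_comp, Function.comp_apply, Submodule.subtype_apply,
        LinearMap.fst_apply]
      rw [this]
      exact J.neg_mem y.2
    · rintro ⟨⟨x, y⟩, hxy⟩ ⟨⟨x', y'⟩, hxy'⟩ hh
      have h0 : (x : R) + y = 0 := by simpa [s] using hxy
      have h0' : (x' : R) + y' = 0 := by simpa [s] using hxy'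
      have h1 : (x : R) = x' := by
        have := congrArg Subtype.val hh
        simpa using this
      have h2 : (y : R) = y' := by
        have e1 : (y : R) = -x := eq_neg_of_add_eq_zero_right h0
        have e2 : (y' : R) = -x' := eq_neg_of_add_eq_zero_right h0'
        rw [e1, e2, h1]
      exact Subtype.ext (Prod.ext (Subtype.ext h1) (Subtype.ext h2))
    · rintro ⟨z, hz⟩
      have hz' : z ∈ I ⊓ J := hIJ ▸ hz
      refine ⟨⟨(⟨z, hz'.1⟩, ⟨-z, J.neg_mem hz'.2⟩), ?_⟩, Subtype.ext rfl⟩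
      simp [s]
  exact ⟨e.symm ≪≫ₗ LinearEquiv.prodCongr eK (LinearEquiv.refl R R) ≪≫ₗ
    LinearEquiv.prodComm R _ _⟩

/-- **Steinitz**: for nonzero ideals of a Dedekind domain, `I × J ≃ R × (I * J)`. -/
theorem steinitz [IsDedekindDomain R] (I J : Ideal R) (hI : I ≠ ⊥) (hJ : J ≠ ⊥) :
    Nonempty ((I × J) ≃ₗ[R] (R × ↥(I * J))) := by
  by_cases hItop : I = ⊤
  · subst hItop
    refine ⟨LinearEquiv.prodCongr Submodule.topEquiv (LinearEquiv.ofEq _ _ ?_)⟩
    rw [Ideal.top_mul]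
  -- pick b ∈ J nonzero
  obtain ⟨b, hbJ, hb⟩ := Submodule.exists_mem_ne_zero_of_ne_bot hJ
  have h1 : Ideal.span {b} ≤ J := (Ideal.span_singleton_le_iff_mem J).mpr hbJ
  obtain ⟨K, hK⟩ := Ideal.dvd_iff_le.mpr h1
  have hK0 : K ≠ ⊥ := by
    rintro rfl
    rw [Ideal.mul_bot, Ideal.span_singleton_eq_bot] at hK
    exact hb hK
  have hKI : K * I ≠ 0 := mul_ne_zero hK0 hI
  obtain ⟨a, ha⟩ := IsDedekindDomain.exists_sup_span_eq (I := K * I) (J := K) Ideal.mul_le_left hKI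
  have h2 : Ideal.span {a} ≤ K := ha ▸ le_sup_right
  obtain ⟨K', hK'⟩ := Ideal.dvd_iff_le.mpr h2
  have hcop : I ⊔ K' = ⊤ := by
    have : K * (I ⊔ K') = K * ⊤ := by
      rw [Ideal.mul_sup, ← hK', Ideal.mul_top, ha]
    exact mul_left_cancel₀ hK0 this
  have ha0 : a ≠ 0 := by
    rintro rfl
    have : K * K' = ⊥ := by rw [← hK']; simp
    have hK'0 : K' = ⊥ := by
      rcases Ideal.mul_eq_bot.mp this with h | h
      · exact absurd h hK0
      · exact h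
    rw [hK'0, sup_bot_eq] at hcop
    exact hItop hcop
  have hmul : Ideal.span {a} * J = Ideal.span {b} * K' := by
    rw [hK', hK]; ring
  obtain ⟨e1⟩ := equiv_of_mul_eq a b ha0 hb J K' hmul
  have hmul2 : Ideal.span {a} * (I * J) = Ideal.span {b} * (I * K') := by
    rw [hK', hK]; ring
  obtain ⟨e2⟩ := equiv_of_mul_eq a b ha0 hb (I * J) (I * K') hmul2
  obtain ⟨e3⟩ := steinitz_coprime I K' hcop
  exact ⟨LinearEquiv.prodCongr (LinearEquiv.refl R I) e1 ≪≫ₗ e3 ≪≫ₗ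
    LinearEquiv.prodCongr (LinearEquiv.refl R R) e2.symm⟩

/-- `I^{⊕(k+1)} ≃ R^k ⊕ I^(k+1)`. -/
theorem pow_sum [IsDedekindDomain R] (I : Ideal R) (hI : I ≠ ⊥) (k : ℕ) :
    Nonempty ((Fin (k + 1) → I) ≃ₗ[R] ((Fin k → R) × ↥(I ^ (k + 1)))) := by
  induction k with
  | zero =>
    exact ⟨LinearEquiv.funUnique (Fin 1) R I ≪≫ₗ LinearEquiv.ofEq _ _ (pow_one I).symm ≪≫ₗ
      (LinearEquiv.uniqueProd (R := R) (M := ↥(I ^ (0 + 1))) (M₂ := Fin 0 → R)).symm⟩
  | succ k ih =>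
    obtain ⟨e⟩ := ih
    obtain ⟨s⟩ := steinitz I (I ^ (k + 1)) hI (pow_ne_zero _ hI)
    have hp : I * I ^ (k + 1) = I ^ (k + 1 + 1) := (pow_succ' I (k + 1)).symm
    refine ⟨(Fin.consLinearEquiv R (fun _ : Fin (k + 2) => ↥I)).symm ≪≫ₗ
      LinearEquiv.prodCongr (LinearEquiv.refl R I) e ≪≫ₗ ?_⟩
    -- I × (A × P) ≃ (I × A) × P ≃ (A × I) × P ≃ A × (I × P)
    refine (LinearEquiv.prodAssoc R I (Fin k → R) ↥(I ^ (k + 1))).symm ≪≫ₗ
      LinearEquiv.prodCongr (LinearEquiv.prodComm R I (Fin k → R)) (LinearEquiv.refl R _) ≪≫ₗ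
      LinearEquiv.prodAssoc R (Fin k → R) I ↥(I ^ (k + 1)) ≪≫ₗ
      LinearEquiv.prodCongr (LinearEquiv.refl R _) s ≪≫ₗ ?_
    -- A × (R × Q) ≃ (A × R) × Q ≃ (R × A) × Q
    refine (LinearEquiv.prodAssoc R (Fin k → R) R ↥(I * I ^ (k + 1))).symm ≪≫ₗ
      LinearEquiv.prodCongr
        (LinearEquiv.prodComm R (Fin k → R) R ≪≫ₗ Fin.consLinearEquiv R (fun _ : Fin (k + 1) => R))
        (LinearEquiv.ofEq _ _ hp)

open CommRing in
/-- powers of an invertible ideal are invertible with the expected class. -/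
theorem invertible_pow [IsDomain R] (I : Ideal R) [Module.Invertible R I] (k : ℕ) :
    ∃ _ : Module.Invertible R ↥(I ^ k), Pic.mk R ↥(I ^ k) = Pic.mk R I ^ k := by
  induction k with
  | zero =>
    have e : R ≃ₗ[R] ↥(I ^ 0) :=
      (Submodule.topEquiv (R := R) (M := R)).symm ≪≫ₗ LinearEquiv.ofEq _ _ (by simp)
    haveI : Module.Invertible R ↥(I ^ 0) := Module.Invertible.congr e
    refine ⟨this, ?_⟩
    conv_rhs => rw [pow_zero]
    exact Pic.mk_eq_one_iff.mpr ⟨e.symm⟩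
  | succ k ih =>
    obtain ⟨hinv, hk⟩ := ih
    have hd : Submodule.LinearDisjoint (I ^ k : Submodule R R) (I : Submodule R R) :=
      Submodule.LinearDisjoint.of_left_le_one_of_flat _ _ (le_top.trans Ideal.one_eq_top.ge)
    have e : TensorProduct R ↥(I ^ k) ↥I ≃ₗ[R] ↥(I ^ (k + 1)) :=
      hd.mulMap ≪≫ₗ LinearEquiv.ofEq _ _ (pow_succ I k).symm
    haveI : Module.Invertible R ↥(I ^ (k + 1)) := Module.Invertible.congr e
    refine ⟨this, ?_⟩
    conv_rhs => rw [pow_succ, ← hk, ← Pic.mk_tensor]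
    exact Pic.mk_eq_mk_iff.mpr ⟨e.symm⟩

open CommRing in
/-- Over a Dedekind domain, an `n`-torsion class `[N]` has `N^n ≅ R^n`. -/
theorem torsion_sum [IsDedekindDomain R] (N : Type v) [AddCommGroup N] [Module R N]
    [Module.Invertible R N] (n : ℕ) (h : Pic.mk R N ^ n = 1) :
    Nonempty ((Fin n → N) ≃ₗ[R] (Fin n → R)) := by
  cases n with
  | zero => exact ⟨LinearEquiv.ofSubsingleton _ _⟩
  | succ k =>
    obtain ⟨I, ⟨e⟩⟩ := Module.Invertible.exists_linearEquiv_ideal R N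
    haveI : Module.Invertible R I := Module.Invertible.congr e
    have hI : I ≠ ⊥ := by
      rintro rfl
      have : (1 : R) = 0 := FaithfulSMul.eq_of_smul_eq_smul (α := ↥(⊥ : Ideal R))
        (fun x => Subsingleton.elim _ _)
      exact one_ne_zero this
    obtain ⟨hinv, hk⟩ := invertible_pow I (k + 1)
    have hmk : Pic.mk R N = Pic.mk R I := Pic.mk_eq_mk_iff.mpr ⟨e⟩
    rw [← hmk, h] at hk
    obtain ⟨eP⟩ := Pic.mk_eq_one_iff.mp hk
    obtain ⟨es⟩ := pow_sum I hI k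
    exact ⟨LinearEquiv.piCongrRight (fun _ => e) ≪≫ₗ es ≪≫ₗ
      LinearEquiv.prodCongr (LinearEquiv.refl R _) eP ≪≫ₗ
      LinearEquiv.prodComm R (Fin k → R) R ≪≫ₗ Fin.consLinearEquiv R (fun _ : Fin (k + 1) => R)⟩

end Groth.Agent.Lib.helper6.Steinitz
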