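import Mathlib
import Groth.Agent.S0563
import Groth.Agent.Lib.helper6.SerreConvE

/-!
# Higher syzygies over regular local rings are free in low codimension
-/

set_option autoImplicit false
set_option linter.style.haveILetI false

namespace Groth.Agent.Lib.helper6.SyzFree

open CategoryTheory IsLocalRing

universe u

variable {A : Type u} [CommRing A]

/-- Dimension shifting for the localization of a short exact sequence with free middle term. -/
lemma pd_localized_of_exact (p : Ideal A) [p.IsPrime] {M N Q : Type u}
    [AddCommGroup M] [Module A M] [AddCommGroup N] [Module A N] [AddCommGroup Q] [Module A Q]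
    (f : M →ₗ[A] N) (g : N →ₗ[A] Q) (hf : Function.Injective f) (hg : Function.Surjective g)
    (hex : Function.Exact f g) [Module.Free A N] (n : ℕ) (hn : 1 ≤ n)
    (hQ : HasProjectiveDimensionLT
      (ModuleCat.of (Localization.AtPrime p) (LocalizedModule p.primeCompl Q)) (n + 1)) :
    HasProjectiveDimensionLT
      (ModuleCat.of (Localization.AtPrime p) (LocalizedModule p.primeCompl M)) n := by
  have hex' : Function.Exact (LocalizedModule.map p.primeCompl f)
      (LocalizedModule.map p.primeCompl g) :=
    LocalizedModule.map_exact p.primeCompl f g hex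
  let S : ShortComplex (ModuleCat.{u} (Localization.AtPrime p)) :=
    ModuleCat.shortComplexOfCompEqZero (LocalizedModule.map p.primeCompl f)
      (LocalizedModule.map p.primeCompl g) hex'.linearMap_comp_eq_zero
  have hS : S.ShortExact := ModuleCat.shortComplex_shortExact S hex'
    (LocalizedModule.map_injective _ f hf) (LocalizedModule.map_surjective _ g hg)
  have hP : Projective (ModuleCat.of (Localization.AtPrime p) (LocalizedModule p.primeCompl N)) := by
    rw [← IsProjective.iff_projective]
    infer_instance
  have hP1 : HasProjectiveDimensionLT S.X₂ 1 :=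
    projective_iff_hasProjectiveDimensionLT_one.mp hP
  exact hS.hasProjectiveDimensionLT_X₁ n (hasProjectiveDimensionLT_of_ge _ 1 n hn) hQ

/-- The main dimension-shifting statement. -/
theorem pd_syzygy [IsRegularLocalRing A] (p : Ideal A) [p.IsPrime] (D : ℕ)
    (hD : ringKrullDim (Localization.AtPrime p) = D) :
    ∀ (k : ℕ) (M : Type u) [AddCommGroup M] [Module A M] (N : ℕ → Type u)
      [∀ i, AddCommGroup (N i)] [∀ i, Module A (N i)]
      (_ : ∀ i, i < k → Module.Free A (N i))
      (d0 : M →ₗ[A] N 0) (d : ∀ i, N i →ₗ[A] N (i + 1))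
      (_ : 1 ≤ k → Function.Injective d0)
      (_ : 2 ≤ k → LinearMap.range d0 = LinearMap.ker (d 0))
      (_ : ∀ i, i + 2 < k → LinearMap.range (d i) = LinearMap.ker (d (i + 1))),
      HasProjectiveDimensionLT
        (ModuleCat.of (Localization.AtPrime p) (LocalizedModule p.primeCompl M)) (D - k + 1) := by
  haveI : IsRegularLocalRing (Localization.AtPrime p) := SerreConvE.regular_localization A p
  intro k
  induction k with
  | zero =>
    intro M _ _ N _ _ _ d0 d _ _ _
    exact Groth.Agent.S0563.result (Localization.AtPrime p) D hD _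
  | succ k ih =>
    intro M _ _ N _ _ hfree d0 d hinj hex0 hex
    classical
    haveI : Module.Free A (N 0) := hfree 0 (by omega)
    -- the shifted data
    let d0' : (N 0 ⧸ LinearMap.range d0) →ₗ[A] N 1 :=
      if h : LinearMap.range d0 ≤ LinearMap.ker (d 0) then (LinearMap.range d0).liftQ (d 0) h
      else 0
    have hd0' : ∀ h : LinearMap.range d0 ≤ LinearMap.ker (d 0),
        d0' = (LinearMap.range d0).liftQ (d 0) h := fun h => dif_pos h
    have key := ih (N 0 ⧸ LinearMap.range d0) (fun i => N (i + 1))
      (fun i hi => hfree (i + 1) (by omega)) d0' (fun i => d (i + 1))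
      (fun hk => by
        have h := hex0 (by omega)
        rw [hd0' h.le, ← LinearMap.ker_eq_bot, Submodule.ker_liftQ, ← h, Submodule.mkQ_map_self])
      (fun hk => by
        have h := hex0 (by omega)
        rw [hd0' h.le, Submodule.range_liftQ]
        exact hex 0 (by omega))
      (fun i hi => hex (i + 1) (by omega))
    have hex1 : Function.Exact d0 (LinearMap.range d0).mkQ := by
      rw [LinearMap.exact_iff, Submodule.ker_mkQ]
    refine pd_localized_of_exact p d0 (LinearMap.range d0).mkQ (hinj (by omega))
      (Submodule.mkQ_surjective _) hex1 _ (by omega) ?_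
    exact hasProjectiveDimensionLT_of_ge _ (D - k + 1) (D - (k + 1) + 1 + 1) (by omega)

/-- Over a regular local ring, a `k`-th syzygy is free at primes of height `≤ k`. -/
theorem free_localization_of_syzygy (A : Type u) [CommRing A] [IsRegularLocalRing A]
    (k : ℕ) (N : ℕ → Type u) [∀ i, AddCommGroup (N i)] [∀ i, Module A (N i)] [Module.Finite A (N 0)]
    (hfree : ∀ i, 1 ≤ i → i ≤ k → Module.Free A (N i) ∧ Module.Finite A (N i))
    (d : ∀ i, N i →ₗ[A] N (i + 1)) (hinj : Function.Injective (d 0))
    (hex : ∀ i, i + 1 < k → LinearMap.range (d i) = LinearMap.ker (d (i + 1)))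
    (p : Ideal A) [p.IsPrime] (hp : p.height ≤ k) :
    Module.Free (Localization.AtPrime p) (LocalizedModule p.primeCompl (N 0)) := by
  haveI : IsRegularLocalRing (Localization.AtPrime p) := SerreConvE.regular_localization A p
  obtain ⟨D, hD⟩ := Groth.Agent.H5.RegLoc.exists_nat_dim (Localization.AtPrime p)
  have hDk : D ≤ k := by
    have h1 : ringKrullDim (Localization.AtPrime p) = p.height :=
      IsLocalization.AtPrime.ringKrullDim_eq_height p (Localization.AtPrime p)
    rw [hD] at h1
    have h2 : ((D : ℕ∞) : WithBot ℕ∞) = (p.height : WithBot ℕ∞) := by exact_mod_cast h1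
    have h3 : (D : ℕ∞) = p.height := WithBot.coe_injective h2
    have h4 : (D : ℕ∞) ≤ (k : ℕ∞) := h3 ▸ hp
    exact_mod_cast h4
  have key := pd_syzygy p D hD k (N 0) (fun i => N (i + 1))
    (fun i hi => (hfree (i + 1) (by omega) (by omega)).1) (d 0) (fun i => d (i + 1))
    (fun _ => hinj) (fun hk => hex 0 (by omega)) (fun i hi => hex (i + 1) (by omega))
  have h0 : D - k + 1 = 1 := by omega
  rw [h0] at key
  have hproj : Projective
      (ModuleCat.of (Localization.AtPrime p) (LocalizedModule p.primeCompl (N 0))) :=
    projective_iff_hasProjectiveDimensionLT_one.mpr key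
  rw [← IsProjective.iff_projective] at hproj
  haveI : Module.Finite (Localization.AtPrime p) (LocalizedModule p.primeCompl (N 0)) :=
    Module.Finite.of_isLocalizedModule p.primeCompl
      (LocalizedModule.mkLinearMap p.primeCompl (N 0))
  exact Module.free_of_flat_of_isLocalRing

end Groth.Agent.Lib.helper6.SyzFree
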