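import Mathlib
import Groth.Agent.Lib.helper6.TorFactor

/-!
# Maps inducing zero on `Ext^{e+1}` / `Tor_{e+1}`: dimension shifting
-/

set_option linter.style.haveILetI false

namespace Groth.Agent.Lib.helper6.TorExtShift

open CategoryTheory CategoryTheory.Limits MonoidalCategory Abelian

universe u
variable {A : Type u} [CommRing A]

/-- `α` kills `Ext^m(X', -)` -/
def PE {X X' : ModuleCat.{u} A} (α : X ⟶ X') (m : ℕ) : Prop :=
  ∀ (Y : ModuleCat.{u} A) (x : Ext X' Y m), (Ext.mk₀ α).comp x (zero_add m) = 0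

/-- `α` kills `Tor_m(-, N)` -/
def PT {X X' : ModuleCat.{u} A} (α : X ⟶ X') (m : ℕ) : Prop :=
  ∀ N : ModuleCat.{u} A, ((Tor (ModuleCat.{u} A) m).map α).app N = 0

section transl

open DerivedCategory in
attribute [local instance] HasDerivedCategory.standard in
/-- translation between maps in the derived category and `Ext` classes -/
lemma transl {X X' Y : ModuleCat.{u} A} (α : X ⟶ X') (n : ℤ) (m : ℕ) (hnm : n = (m : ℤ)) :
    (∀ φ : (singleFunctor (ModuleCat.{u} A) 0).obj X' ⟶
        ((singleFunctor (ModuleCat.{u} A) 0).obj Y)⟦n⟧,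
      (singleFunctor (ModuleCat.{u} A) 0).map α ≫ φ = 0) ↔
    (∀ x : Abelian.Ext X' Y m, (Abelian.Ext.mk₀ α).comp x (zero_add m) = 0) := by
  subst hnm
  constructor
  · intro h x
    apply Abelian.Ext.ext
    rw [Abelian.Ext.comp_hom, Abelian.Ext.mk₀_hom, ShiftedHom.mk₀_comp, Abelian.Ext.zero_hom]
    exact h x.hom
  · intro h φ
    obtain ⟨x, rfl⟩ := (Abelian.Ext.homAddEquiv (X := X') (Y := Y) (n := m)).surjective φ
    have := congrArg Abelian.Ext.hom (h x)
    rw [Abelian.Ext.comp_hom, Abelian.Ext.mk₀_hom, ShiftedHom.mk₀_comp,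
      Abelian.Ext.zero_hom] at this
    exact this

end transl

section shift

variable {S S' : ShortComplex (ModuleCat.{u} A)} (hS : S.ShortExact) (hS' : S'.ShortExact)
  (Φ : S ⟶ S')

include hS hS' in
lemma PE_shift [Projective S.X₂] [Projective S'.X₂] (m : ℕ) :
    PE Φ.τ₃ (m + 2) ↔ PE Φ.τ₁ (m + 1) := by
  have hnat := ShortComplex.ShortExact.extClass_naturality hS hS' Φ
  have key : ∀ (Y : ModuleCat.{u} A) (y : Ext S'.X₁ Y (m + 1)),
      (Ext.mk₀ Φ.τ₃).comp (hS'.extClass.comp y (add_comm 1 (m + 1))) (zero_add (m + 2)) =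
        hS.extClass.comp ((Ext.mk₀ Φ.τ₁).comp y (zero_add (m + 1))) (add_comm 1 (m + 1)) := by
    intro Y y
    rw [← Ext.comp_assoc (Ext.mk₀ Φ.τ₃) hS'.extClass y (zero_add 1) (add_comm 1 (m + 1))
      (by omega), ← hnat,
      Ext.comp_assoc hS.extClass (Ext.mk₀ Φ.τ₁) y (add_zero 1) (zero_add (m + 1)) (by omega)]
  constructor
  · intro h Y y
    have h1 := h Y (hS'.extClass.comp y (add_comm 1 (m + 1)))
    rw [key] at h1
    obtain ⟨x₂, hx₂⟩ := Ext.contravariant_sequence_exact₁ hS Y _ (add_comm 1 (m + 1)) h1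
    rw [← hx₂, Ext.eq_zero_of_projective x₂, Ext.comp_zero]
  · intro h Y x
    obtain ⟨y, rfl⟩ := Ext.contravariant_sequence_exact₃ hS' Y x
      (by rw [Ext.eq_zero_of_projective ((Ext.mk₀ S'.g).comp x (zero_add (m + 2)))])
      (add_comm 1 (m + 1))
    rw [key, h Y y, Ext.comp_zero]

include hS hS' in
lemma PT_shift [Module.Flat A S.X₂] [Module.Flat A S'.X₂] (m : ℕ) :
    PT Φ.τ₃ (m + 2) ↔ PT Φ.τ₁ (m + 1) := by
  have hepi : ∀ N : ModuleCat.{u} A,
      Epi (TorRes.δ₁ (ProjectiveResolution.of N) S hS (m + 1)) := by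
    intro N
    have hex := TorRes.exact₁ (ProjectiveResolution.of N) S hS (m + 1)
    exact hex.epi_f ((TorBal.isZero_tor_succ_of_flat_left S.X₂ N m).eq_of_tgt _ _)
  have hmono : ∀ N : ModuleCat.{u} A,
      Mono (TorRes.δ₁ (ProjectiveResolution.of N) S' hS' (m + 1)) := by
    intro N
    have hex := TorRes.exact₃ (ProjectiveResolution.of N) S' hS' (m + 1)
    exact hex.mono_g ((TorBal.isZero_tor_succ_of_flat_left S'.X₂ N (m + 1)).eq_of_src _ _)
  constructor
  · intro h N
    have hnat := TorFactor.δ₁_naturality (ProjectiveResolution.of N) hS hS' Φ (m + 1)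
    rw [h N, zero_comp] at hnat
    haveI := hepi N
    rw [← cancel_epi (TorRes.δ₁ (ProjectiveResolution.of N) S hS (m + 1)), hnat, comp_zero]
  · intro h N
    have hnat := TorFactor.δ₁_naturality (ProjectiveResolution.of N) hS hS' Φ (m + 1)
    rw [h N, comp_zero] at hnat
    haveI := hmono N
    rw [← cancel_mono (TorRes.δ₁ (ProjectiveResolution.of N) S' hS' (m + 1)), ← hnat, zero_comp]

end shift

section base

variable {M M' : Type u} [AddCommGroup M] [Module A M] [AddCommGroup M'] [Module A M']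
  (α : M →ₗ[A] M')

lemma PE_one_iff :
    PE (ModuleCat.ofHom α) 1 ↔
      ∃ g : M →ₗ[A] (M' →₀ A), (Finsupp.linearCombination A id) ∘ₗ g = α := by
  let p' : (M' →₀ A) →ₗ[A] M' := Finsupp.linearCombination A id
  have hp' : Function.Surjective p' := Finsupp.linearCombination_id_surjective A M'
  have hS' := TorFactor.kerSC_shortExact p' hp'
  constructor
  · intro h
    have h1 := h _ hS'.extClass
    obtain ⟨x₂, hx₂⟩ := Ext.covariant_sequence_exact₃ (ModuleCat.of A M) hS'
      (Ext.mk₀ (ModuleCat.ofHom α)) (zero_add 1) h1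
    obtain ⟨g, rfl⟩ := (Ext.mk₀_bijective _ _).2 x₂
    rw [Ext.mk₀_comp_mk₀] at hx₂
    have h2 : g ≫ ModuleCat.ofHom p' = ModuleCat.ofHom α := (Ext.mk₀_bijective _ _).1 hx₂
    refine ⟨g.hom, ?_⟩
    have := congrArg ModuleCat.Hom.hom h2
    exact this
  · rintro ⟨g, rfl⟩ Y x
    have e1 : ModuleCat.ofHom (p' ∘ₗ g) = ModuleCat.ofHom g ≫ ModuleCat.ofHom p' := rfl
    haveI : Projective (ModuleCat.of A (M' →₀ A)) :=
      (ModuleCat.of A (M' →₀ A)).projective_of_categoryTheory_projective
    rw [e1, ← Ext.mk₀_comp_mk₀_assoc,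
      Ext.eq_zero_of_projective ((Ext.mk₀ (ModuleCat.ofHom p')).comp x (zero_add 1)),
      Ext.comp_zero]

lemma PT_one_iff [Module.FinitePresentation A M] :
    PT (ModuleCat.ofHom α) 1 ↔
      ∃ g : M →ₗ[A] (M' →₀ A), (Finsupp.linearCombination A id) ∘ₗ g = α := by
  let p' : (M' →₀ A) →ₗ[A] M' := Finsupp.linearCombination A id
  have hp' : Function.Surjective p' := Finsupp.linearCombination_id_surjective A M'
  constructor
  · intro h
    obtain ⟨ι, g, h', rfl⟩ := TorFactor.factor_through_free M M' α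
      (fun N _ _ => h (ModuleCat.of A N))
    obtain ⟨h'', hh⟩ := Module.projective_lifting_property p' h' hp'
    exact ⟨h'' ∘ₗ g, by rw [← LinearMap.comp_assoc, hh]⟩
  · rintro ⟨g, rfl⟩ N
    have e1 : ModuleCat.ofHom (p' ∘ₗ g) = ModuleCat.ofHom g ≫ ModuleCat.ofHom p' := rfl
    rw [e1, Functor.map_comp, NatTrans.comp_app]
    have hz : IsZero (((Tor (ModuleCat.{u} A) 1).obj (ModuleCat.of A (M' →₀ A))).obj N) :=
      TorBal.isZero_tor_succ_of_flat_left (ModuleCat.of A (M' →₀ A)) N 0
    rw [hz.eq_of_tgt (((Tor (ModuleCat.{u} A) 1).map (ModuleCat.ofHom g)).app N) 0, zero_comp]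

end base

/-- **Ext/Tor comparison** for maps out of a finite module over a Noetherian ring. -/
theorem PE_iff_PT [IsNoetherianRing A] (e : ℕ) :
    ∀ (M M' : Type u) [AddCommGroup M] [Module A M] [Module.Finite A M] [AddCommGroup M']
      [Module A M'] (α : M →ₗ[A] M'),
      PE (ModuleCat.ofHom α) (e + 1) ↔ PT (ModuleCat.ofHom α) (e + 1) := by
  induction e with
  | zero =>
    intro M M' _ _ _ _ _ α
    haveI : Module.FinitePresentation A M := Module.finitePresentation_of_finite A M
    rw [PE_one_iff, PT_one_iff]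
  | succ e ih =>
    intro M M' _ _ _ _ _ α
    obtain ⟨n, p, hp⟩ := Module.Finite.exists_fin' A M
    let p' : (M' →₀ A) →ₗ[A] M' := Finsupp.linearCombination A id
    have hp' : Function.Surjective p' := Finsupp.linearCombination_id_surjective A M'
    obtain ⟨φ, hφ⟩ := Module.projective_lifting_property p' (α ∘ₗ p) hp'
    have hφ' : ∀ x, p' (φ x) = α (p x) := fun x => congr($hφ x)
    have hφK : ∀ x ∈ LinearMap.ker p, φ x ∈ LinearMap.ker p' := by
      intro x hx
      rw [LinearMap.mem_ker] at hx ⊢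
      rw [hφ', hx, map_zero]
    let β : LinearMap.ker p →ₗ[A] LinearMap.ker p' := φ.restrict hφK
    let Φ : TorFactor.kerSC p ⟶ TorFactor.kerSC p' :=
      { τ₁ := ModuleCat.ofHom β
        τ₂ := ModuleCat.ofHom φ
        τ₃ := ModuleCat.ofHom α
        comm₁₂ := by
          ext x
          rfl
        comm₂₃ := by
          ext x
          exact hφ' x }
    have hS := TorFactor.kerSC_shortExact p hp
    have hS' := TorFactor.kerSC_shortExact p' hp'
    haveI : Projective (TorFactor.kerSC p).X₂ :=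
      (ModuleCat.of A (Fin n → A)).projective_of_categoryTheory_projective
    haveI : Projective (TorFactor.kerSC p').X₂ :=
      (ModuleCat.of A (M' →₀ A)).projective_of_categoryTheory_projective
    haveI : Module.Flat A (TorFactor.kerSC p).X₂ :=
      inferInstanceAs (Module.Flat A (Fin n → A))
    haveI : Module.Flat A (TorFactor.kerSC p').X₂ :=
      inferInstanceAs (Module.Flat A (M' →₀ A))
    have hE := PE_shift hS hS' Φ e
    have hT := PT_shift hS hS' Φ e
    have hI := ih (LinearMap.ker p) (LinearMap.ker p') β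
    exact hE.trans (hI.trans hT.symm)

end Groth.Agent.Lib.helper6.TorExtShift
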