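import Mathlib
import Groth.Agent.Lib.helper6.TorDim

/-!
# `Tor` of finite modules over a Noetherian ring is finite
-/

set_option autoImplicit false

namespace Groth.Agent.Lib.helper6.TorFinite

open CategoryTheory CategoryTheory.Limits MonoidalCategory
open Groth.Agent.Lib.helper6

universe u

variable {R : Type u} [CommRing R]

lemma finite_of_iso {X Y : ModuleCat.{u} R} (e : X ≅ Y) [Module.Finite R X] : Module.Finite R Y :=
  Module.Finite.equiv e.toLinearEquiv

lemma finite_of_mono [IsNoetherianRing R] {X Y : ModuleCat.{u} R} (f : X ⟶ Y) [Mono f]
    [Module.Finite R Y] : Module.Finite R X :=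
  Module.Finite.of_injective f.hom ((ModuleCat.mono_iff_injective f).1 inferInstance)

theorem finite_tor [IsNoetherianRing R] (M : ModuleCat.{u} R) [Module.Finite R M] :
    ∀ (p : ℕ) (N : ModuleCat.{u} R) [Module.Finite R N],
      Module.Finite R (((Tor (ModuleCat.{u} R) p).obj M).obj N) := by
  intro p
  induction p with
  | zero =>
    intro N _
    have : Module.Finite R ((tensorLeft M).obj N) := by
      change Module.Finite R (TensorProduct R M N)
      infer_instance
    exact finite_of_iso ((TorBal.torZeroIso M).app N).symm
  | succ p ih =>
    intro N _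
    obtain ⟨P, _, _, _, _, f, surjf⟩ := Module.exists_finite_presentation R N
    have hS := LinearMap.shortExact_shortComplexKer surjf
    obtain ⟨-, -, δ, w₁, w₂, e₁, e₂⟩ := TorDim.tor_les₂ M _ hS p
    have hz : IsZero (((Tor (ModuleCat.{u} R) (p + 1)).obj M).obj (ModuleCat.of R P)) := by
      have : Projective (ModuleCat.of R P) := by
        rw [← IsProjective.iff_projective]
        infer_instance
      exact isZero_Tor_succ_of_projective _ M _ p
    have : Mono δ := e₁.mono_g (hz.eq_of_src _ _)
    have : Module.Finite R (LinearMap.ker f) := inferInstance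
    have : Module.Finite R (((Tor (ModuleCat.{u} R) p).obj M).obj (ModuleCat.of R (LinearMap.ker f))) :=
      ih _
    exact finite_of_mono δ

end Groth.Agent.Lib.helper6.TorFinite
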