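import Mathlib
import Groth.Agent.Lib.helper6.TorFinite
import Groth.Agent.Lib.helper6.TorLength

/-!
# Linearity of `Tor` in the first variable; regular sequences and `Tor` vanishing
-/

set_option autoImplicit false

namespace Groth.Agent.Lib.helper6.TorRegSeq

open CategoryTheory CategoryTheory.Limits MonoidalCategory
open Groth.Agent.Lib.helper6

universe u

variable {A : Type u} [CommRing A]

lemma homologyMap_smul {K L : ChainComplex (ModuleCat.{u} A) ℕ} (r : A) (φ : K ⟶ L) (n : ℕ) :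
    HomologicalComplex.homologyMap (r • φ) n = r • HomologicalComplex.homologyMap φ n := by
  have h : (HomologicalComplex.shortComplexFunctor (ModuleCat.{u} A) (ComplexShape.down ℕ) n).map
      (r • φ) = r • (HomologicalComplex.shortComplexFunctor (ModuleCat.{u} A)
        (ComplexShape.down ℕ) n).map φ := by
    ext <;> rfl
  change ShortComplex.homologyMap _ = r • ShortComplex.homologyMap _
  rw [h]
  exact ShortComplex.homologyMap_smul _ _

lemma tcMap_smul {M M' : ModuleCat.{u} A} (r : A) (f : M ⟶ M')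
    (Q : ChainComplex (ModuleCat.{u} A) ℕ) :
    TorRes.tcMap (r • f) Q = r • TorRes.tcMap f Q := by
  ext k : 1
  change (r • f) ▷ Q.X k = r • (f ▷ Q.X k)
  exact MonoidalLinear.smul_whiskerRight r f (Q.X k)

/-- `Tor_n(r • f, N) = r • Tor_n(f, N)`. -/
theorem tor_map_smul {M M' : ModuleCat.{u} A} (r : A) (f : M ⟶ M') (N : ModuleCat.{u} A) (n : ℕ) :
    ((Tor (ModuleCat.{u} A) n).map (r • f)).app N =
      r • ((Tor (ModuleCat.{u} A) n).map f).app N := by
  let Q := ProjectiveResolution.of N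
  have h1 := TorRes.torIso_naturality Q (r • f) n
  have h2 := TorRes.torIso_naturality Q f n
  rw [← cancel_mono (TorRes.torIso Q M' n).hom, h1, tcMap_smul, homologyMap_smul,
    Linear.comp_smul, Linear.smul_comp, h2]

/-- `Tor_n(r • 𝟙, N) = r • 𝟙`. -/
theorem tor_map_smul_id (M : ModuleCat.{u} A) (r : A) (N : ModuleCat.{u} A) (n : ℕ) :
    ((Tor (ModuleCat.{u} A) n).map (r • 𝟙 M)).app N = r • 𝟙 _ := by
  rw [tor_map_smul, CategoryTheory.Functor.map_id, NatTrans.id_app]

lemma ofHom_smul_id (M : Type u) [AddCommGroup M] [Module A M] (r : A) :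
    ModuleCat.ofHom (r • (LinearMap.id : M →ₗ[A] M)) = r • 𝟙 (ModuleCat.of A M) := by
  apply ModuleCat.hom_ext
  rfl

theorem tor_map_ofHom_smul_id (M : Type u) [AddCommGroup M] [Module A M] (r : A)
    (N : ModuleCat.{u} A) (n : ℕ) :
    ((Tor (ModuleCat.{u} A) n).map
      (ModuleCat.ofHom (r • (LinearMap.id : M →ₗ[A] M)))).app N = r • 𝟙 _ := by
  rw [ofHom_smul_id]
  exact tor_map_smul_id _ r N n

lemma smul_id_hom_apply (X : ModuleCat.{u} A) (r : A) (t : X) :
    (r • 𝟙 X : X ⟶ X).hom t = r • t := rfl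

section Step

variable (I : Ideal A) (r : A)

/-- The short complex `A/I --r--> A/I --> A/(I + (r))`. -/
noncomputable def stepSC : ShortComplex (ModuleCat.{u} A) :=
  ShortComplex.mk (ModuleCat.ofHom (r • (LinearMap.id : (A ⧸ I) →ₗ[A] (A ⧸ I))))
    (ModuleCat.ofHom (Submodule.factor (le_sup_left : I ≤ I ⊔ Ideal.span {r})))
    (by
      apply ModuleCat.hom_ext
      apply LinearMap.ext
      intro x
      obtain ⟨a, rfl⟩ := Ideal.Quotient.mk_surjective x
      change Submodule.factor (le_sup_left : I ≤ I ⊔ Ideal.span {r})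
        (r • Ideal.Quotient.mk I a) = 0
      change Submodule.Quotient.mk (r • a) = (0 : A ⧸ (I ⊔ Ideal.span {r}))
      rw [Submodule.Quotient.mk_eq_zero]
      apply Ideal.mem_sup_right
      rw [smul_eq_mul, Ideal.mem_span_singleton']
      exact ⟨a, mul_comm _ _⟩)

lemma stepSC_shortExact (hr : IsSMulRegular (A ⧸ I) r) : (stepSC I r).ShortExact := by
  refine ModuleCat.shortComplex_shortExact _ ?_ hr ?_
  · intro x
    obtain ⟨a, rfl⟩ := Ideal.Quotient.mk_surjective x
    change Submodule.Quotient.mk a = (0 : A ⧸ (I ⊔ Ideal.span {r})) ↔ _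
    rw [Submodule.Quotient.mk_eq_zero]
    constructor
    · intro ha
      obtain ⟨b, hb, c, hc, rfl⟩ := Submodule.mem_sup.mp ha
      obtain ⟨d, rfl⟩ := Ideal.mem_span_singleton'.mp hc
      refine ⟨Ideal.Quotient.mk I d, ?_⟩
      change r • Ideal.Quotient.mk I d = Ideal.Quotient.mk I (b + d * r)
      rw [map_add, Ideal.Quotient.eq_zero_iff_mem.mpr hb, zero_add, mul_comm, map_mul]
      rfl
    · rintro ⟨y, hy⟩
      obtain ⟨d, rfl⟩ := Ideal.Quotient.mk_surjective y
      have hy' : Ideal.Quotient.mk I (r * d) = Ideal.Quotient.mk I a := by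
        rw [← hy, map_mul]
        rfl
      have : a - r * d ∈ I := by
        rw [← Ideal.Quotient.eq_zero_iff_mem, map_sub, hy', sub_self]
      have h2 : a = (a - r * d) + d * r := by ring
      rw [h2]
      exact Submodule.add_mem _ (Ideal.mem_sup_left this)
        (Ideal.mem_sup_right (Ideal.mem_span_singleton'.mpr ⟨d, rfl⟩))
  · intro y
    obtain ⟨a, rfl⟩ := Submodule.Quotient.mk_surjective _ y
    exact ⟨Submodule.Quotient.mk a, rfl⟩

variable (N : Type u) [AddCommGroup N] [Module A N]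

/-- `Tor_0(A/I, N) ≃ N/IN`. -/
noncomputable def torZeroEquiv :
    (((Tor (ModuleCat.{u} A) 0).obj (ModuleCat.of A (A ⧸ I))).obj (ModuleCat.of A N)) ≃ₗ[A]
      N ⧸ (I • ⊤ : Submodule A N) :=
  (((TorBal.torZeroIso (ModuleCat.of A (A ⧸ I))).app (ModuleCat.of A N)).toLinearEquiv :
    _ ≃ₗ[A] TensorProduct A (A ⧸ I) N).trans (TensorProduct.quotTensorEquivQuotSMul N I)

lemma mono_tor_zero_iff :
    Mono (((Tor (ModuleCat.{u} A) 0).map (stepSC I r).f).app (ModuleCat.of A N)) ↔
      IsSMulRegular (N ⧸ (I • ⊤ : Submodule A N)) r := by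
  have h1 : ((Tor (ModuleCat.{u} A) 0).map (stepSC I r).f).app (ModuleCat.of A N) = r • 𝟙 _ :=
    tor_map_ofHom_smul_id (A ⧸ I) r _ 0
  rw [h1, ModuleCat.mono_iff_injective, ← (torZeroEquiv I N).isSMulRegular_congr r]
  rfl

variable [IsNoetherianRing A] [IsLocalRing A] [Module.Finite A N]

include N in
lemma step_forward (hr : IsSMulRegular (A ⧸ I) r)
    (H1 : ∀ i, 1 ≤ i → IsZero (((Tor (ModuleCat.{u} A) i).obj
      (ModuleCat.of A (A ⧸ I))).obj (ModuleCat.of A N)))
    (H2 : IsSMulRegular (N ⧸ (I • ⊤ : Submodule A N)) r) :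
    ∀ i, 1 ≤ i → IsZero (((Tor (ModuleCat.{u} A) i).obj
      (ModuleCat.of A (A ⧸ (I ⊔ Ideal.span {r})))).obj (ModuleCat.of A N)) := by
  intro i hi
  obtain ⟨j, rfl⟩ : ∃ j, i = j + 1 := ⟨i - 1, by omega⟩
  have hS := stepSC_shortExact I r hr
  obtain ⟨-, -, δ, w₁, w₂, e₁, e₂⟩ := TorRes.tor_les₁ _ hS (ModuleCat.of A N) j
  have hδ : δ = 0 := by
    rcases Nat.eq_zero_or_pos j with rfl | hj
    · have hm := (mono_tor_zero_iff I r N).mpr H2
      rw [← cancel_mono (((Tor (ModuleCat.{u} A) 0).map (stepSC I r).f).app (ModuleCat.of A N)),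
        w₂, zero_comp]
    · exact IsZero.eq_of_tgt (H1 j hj) _ _
  exact e₁.isZero_X₂ (IsZero.eq_of_src (H1 (j + 1) (by omega)) _ _) hδ

include N in
lemma step_backward (hr : IsSMulRegular (A ⧸ I) r) (hrm : r ∈ IsLocalRing.maximalIdeal A)
    (H : ∀ i, 1 ≤ i → IsZero (((Tor (ModuleCat.{u} A) i).obj
      (ModuleCat.of A (A ⧸ (I ⊔ Ideal.span {r})))).obj (ModuleCat.of A N))) :
    (∀ i, 1 ≤ i → IsZero (((Tor (ModuleCat.{u} A) i).obj
      (ModuleCat.of A (A ⧸ I))).obj (ModuleCat.of A N))) ∧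
    IsSMulRegular (N ⧸ (I • ⊤ : Submodule A N)) r := by
  have hS := stepSC_shortExact I r hr
  constructor
  · intro i hi
    obtain ⟨⟨w₀, e₀⟩, -, -⟩ := TorRes.tor_les₁ _ hS (ModuleCat.of A N) i
    have hepi : Epi (((Tor (ModuleCat.{u} A) i).map (stepSC I r).f).app (ModuleCat.of A N)) :=
      e₀.epi_f (IsZero.eq_of_tgt (H i hi) _ _)
    have h1 : ((Tor (ModuleCat.{u} A) i).map (stepSC I r).f).app (ModuleCat.of A N) = r • 𝟙 _ :=
      tor_map_ofHom_smul_id (A ⧸ I) r _ i
    rw [h1, ModuleCat.epi_iff_surjective] at hepi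
    have hfinQ : Module.Finite A (ModuleCat.of A (A ⧸ I)) :=
      inferInstanceAs (Module.Finite A (A ⧸ I))
    have hfinN : Module.Finite A (ModuleCat.of A N) := inferInstanceAs (Module.Finite A N)
    have hfin := TorFinite.finite_tor (ModuleCat.of A (A ⧸ I)) i (ModuleCat.of A N)
    have hN : (⊤ : Submodule A (((Tor (ModuleCat.{u} A) i).obj
        (ModuleCat.of A (A ⧸ I))).obj (ModuleCat.of A N))) = ⊥ := by
      apply Submodule.eq_bot_of_le_smul_of_le_jacobson_bot (IsLocalRing.maximalIdeal A) ⊤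
        Module.Finite.fg_top
      · intro x _
        obtain ⟨y, hy⟩ := hepi x
        have hy' : r • y = x := hy
        rw [← hy']
        exact Submodule.smul_mem_smul hrm trivial
      · exact IsLocalRing.maximalIdeal_le_jacobson _
    rw [ModuleCat.isZero_iff_subsingleton]
    exact subsingleton_of_forall_eq 0 (fun x => by
      have hx : x ∈ (⊤ : Submodule A _) := trivial
      rw [hN] at hx
      exact (Submodule.mem_bot A).mp hx)
  · obtain ⟨-, -, δ, w₁, w₂, e₁, e₂⟩ := TorRes.tor_les₁ _ hS (ModuleCat.of A N) 0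
    have hm : Mono (((Tor (ModuleCat.{u} A) 0).map (stepSC I r).f).app (ModuleCat.of A N)) :=
      e₂.mono_g (IsZero.eq_of_src (H 1 le_rfl) _ _)
    exact (mono_tor_zero_iff I r N).mp hm

end Step

open RingTheory.Sequence in
/-- **Regular sequences and Tor vanishing.** -/
theorem isWeaklyRegular_iff_tor [IsNoetherianRing A] [IsLocalRing A]
    (N : Type u) [AddCommGroup N] [Module A N] [Module.Finite A N] :
    ∀ rs : List A, (∀ r ∈ rs, r ∈ IsLocalRing.maximalIdeal A) → IsWeaklyRegular A rs →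
      (IsWeaklyRegular N rs ↔ ∀ i, 1 ≤ i → IsZero (((Tor (ModuleCat.{u} A) i).obj
        (ModuleCat.of A (A ⧸ Ideal.ofList rs))).obj (ModuleCat.of A N))) := by
  intro rs
  induction rs using List.reverseRecOn with
  | nil =>
    intro _ _
    refine iff_of_true (IsWeaklyRegular.nil A N) ?_
    intro i hi
    obtain ⟨j, rfl⟩ : ∃ j, i = j + 1 := ⟨i - 1, by omega⟩
    have : Module.Flat A (ModuleCat.of A (A ⧸ Ideal.ofList ([] : List A))) := by
      rw [Ideal.ofList_nil]
      exact Module.Flat.of_linearEquiv (Submodule.quotEquivOfEqBot ⊥ rfl)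
    exact TorBal.isZero_tor_succ_of_flat_left _ _ j
  | append_singleton rs r ih =>
    intro hm hA
    have hm' : ∀ r' ∈ rs, r' ∈ IsLocalRing.maximalIdeal A := fun r' hr' =>
      hm r' (List.mem_append_left _ hr')
    have hrm : r ∈ IsLocalRing.maximalIdeal A := hm r (by simp)
    rw [isWeaklyRegular_append_iff, isWeaklyRegular_singleton_iff] at hA
    obtain ⟨hA1, hA2⟩ := hA
    have hI : (Ideal.ofList rs • ⊤ : Submodule A A) = Ideal.ofList rs := by
      rw [smul_eq_mul, Ideal.mul_top]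
    have hr : IsSMulRegular (A ⧸ Ideal.ofList rs) r :=
      ((Submodule.quotEquivOfEq _ _ hI).isSMulRegular_congr r).mp hA2
    rw [isWeaklyRegular_append_iff, isWeaklyRegular_singleton_iff, ih hm' hA1,
      Ideal.ofList_append, Ideal.ofList_singleton]
    constructor
    · rintro ⟨H1, H2⟩
      exact step_forward (Ideal.ofList rs) r N hr H1 H2
    · intro H
      exact step_backward (Ideal.ofList rs) r N hr hrm H

end Groth.Agent.Lib.helper6.TorRegSeq
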