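import Mathlib

/-!
# Cokernels of matrices: localization, generalized inverses, transposes
-/

set_option autoImplicit false
set_option linter.style.haveILetI false
set_option linter.unusedSectionVars false
set_option maxHeartbeats 400000

universe u

namespace Groth.Agent.Lib.helper6.TrA

open Matrix

section BC

variable {B : Type u} [CommRing B] (S : Submonoid B) (R' : Type u) [CommRing R'] [Algebra B R']
  [IsLocalization S R'] {a b : ℕ} (Φ : Matrix (Fin a) (Fin b) B)

/-- componentwise `algebraMap` -/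
noncomputable def mapVec (a : ℕ) : (Fin a → B) →ₗ[B] (Fin a → R') :=
  (Algebra.linearMap B R').compLeft (Fin a)

theorem mapVec_apply (a : ℕ) (c : Fin a → B) (i : Fin a) :
    mapVec R' a c i = algebraMap B R' (c i) := rfl

theorem mapVec_mulVec (w : Fin b → B) :
    mapVec R' a (Φ *ᵥ w) = (Φ.map (algebraMap B R')) *ᵥ (mapVec R' b w) := by
  funext i
  rw [mapVec_apply, RingHom.map_mulVec]
  rfl

/-- the cokernel of a matrix -/
abbrev cokerQ {A : Type u} [CommRing A] {a b : ℕ} (Φ : Matrix (Fin a) (Fin b) A) : Type u :=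
  (Fin a → A) ⧸ LinearMap.range (Matrix.toLin' Φ)

noncomputable def kap : (Fin a → B) →ₗ[B] cokerQ (Φ.map (algebraMap B R')) :=
  ((LinearMap.range (Matrix.toLin' (Φ.map (algebraMap B R')))).mkQ.restrictScalars B).comp
    (mapVec R' a)

theorem kap_apply (c : Fin a → B) :
    kap R' Φ c = Submodule.Quotient.mk (mapVec R' a c) := rfl

theorem range_le_ker_kap : LinearMap.range (Matrix.toLin' Φ) ≤ LinearMap.ker (kap R' Φ) := by
  rintro _ ⟨w, rfl⟩
  rw [LinearMap.mem_ker, kap_apply, Matrix.toLin'_apply, mapVec_mulVec,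
    Submodule.Quotient.mk_eq_zero]
  exact ⟨mapVec R' b w, Matrix.toLin'_apply _ _⟩

/-- the comparison map `coker Φ → coker (Φ ⊗ R')`. -/
noncomputable def cokerMap : cokerQ Φ →ₗ[B] cokerQ (Φ.map (algebraMap B R')) :=
  (LinearMap.range (Matrix.toLin' Φ)).liftQ (kap R' Φ) (range_le_ker_kap R' Φ)

theorem cokerMap_mk (c : Fin a → B) :
    cokerMap R' Φ (Submodule.Quotient.mk c) = Submodule.Quotient.mk (mapVec R' a c) := rfl

include S in
theorem exists_clear (z : Fin a → R') : ∃ (s : S) (c : Fin a → B), mapVec R' a c = (s : B) • z := by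
  obtain ⟨s, hs⟩ := IsLocalization.exist_integer_multiples_of_finite S z
  choose c hc using hs
  refine ⟨s, c, ?_⟩
  funext i
  rw [mapVec_apply, hc i]
  rfl

include S in
theorem exists_kill (d : Fin a → B) (hd : mapVec R' a d = 0) : ∃ u : S, (u : B) • d = 0 := by
  have h1 : ∀ i, ∃ u : S, (u : B) * d i = 0 := by
    intro i
    have : algebraMap B R' (d i) = 0 := congrFun hd i
    exact (IsLocalization.map_eq_zero_iff S R' (d i)).mp this
  choose u hu using h1
  refine ⟨∏ i, u i, ?_⟩
  funext i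
  rw [Pi.smul_apply, smul_eq_mul, Submonoid.coe_finsetProd, Pi.zero_apply]
  obtain ⟨k, hk⟩ := Finset.dvd_prod_of_mem (fun j => ((u j : S) : B)) (Finset.mem_univ i)
  rw [hk, mul_comm ((u i : S) : B) k, mul_assoc, hu i, mul_zero]

theorem isLocalizedModule_cokerMap : IsLocalizedModule S (cokerMap R' Φ) := by
  have hid := isLocalizedModule_id S (cokerQ (Φ.map (algebraMap B R'))) R'
  refine ⟨fun s => IsLocalizedModule.map_units (S := S) (f := LinearMap.id) s, ?_, ?_⟩
  · intro y
    obtain ⟨z, rfl⟩ := Submodule.Quotient.mk_surjective _ y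
    obtain ⟨s, c, hc⟩ := exists_clear S R' z
    refine ⟨(Submodule.Quotient.mk c, s), ?_⟩
    change (s : B) • (Submodule.Quotient.mk z : cokerQ (Φ.map (algebraMap B R'))) = _
    rw [cokerMap_mk, hc]
    rfl
  · intro x₁ x₂ h
    obtain ⟨c₁, rfl⟩ := Submodule.Quotient.mk_surjective _ x₁
    obtain ⟨c₂, rfl⟩ := Submodule.Quotient.mk_surjective _ x₂
    rw [cokerMap_mk, cokerMap_mk, Submodule.Quotient.eq] at h
    obtain ⟨w, hw⟩ := h
    rw [Matrix.toLin'_apply] at hw
    obtain ⟨t, w0, hw0⟩ := exists_clear S R' w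
    -- mapVec (t • (c₁ - c₂) - Φ w0) = 0
    have h1 : mapVec R' a ((t : B) • (c₁ - c₂) - Φ *ᵥ w0) = 0 := by
      rw [map_sub, map_smul, map_sub, mapVec_mulVec, hw0, ← hw, Matrix.mulVec_smul]
      exact sub_self _
    obtain ⟨u, hu⟩ := exists_kill S R' _ h1
    refine ⟨u * t, ?_⟩
    change ((u * t : S) : B) • (Submodule.Quotient.mk c₁ : cokerQ Φ) =
      ((u * t : S) : B) • (Submodule.Quotient.mk c₂ : cokerQ Φ)
    rw [← Submodule.Quotient.mk_smul, ← Submodule.Quotient.mk_smul, Submodule.Quotient.eq]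
    refine ⟨(u : B) • w0, ?_⟩
    rw [smul_sub, sub_eq_zero] at hu
    rw [Matrix.toLin'_apply, Matrix.mulVec_smul, ← hu, Submonoid.coe_mul, mul_smul, mul_smul,
      smul_sub, smul_sub]

end BC

section GenInv

variable {R' : Type u} [CommRing R'] {a b : ℕ}

theorem exists_genInv_of_projective (Φ' : Matrix (Fin a) (Fin b) R')
    (hproj : Module.Projective R' (cokerQ Φ')) :
    ∃ Ψ : Matrix (Fin b) (Fin a) R', Φ' * Ψ * Φ' = Φ' := by
  set f := Matrix.toLin' Φ' with hf
  obtain ⟨s0, hs0⟩ := Module.projective_lifting_property (LinearMap.range f).mkQ LinearMap.id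
    (Submodule.mkQ_surjective _)
  -- r0 = id - s0 ∘ mkQ has image in range f
  have hr0 : ∀ z, z - s0 ((LinearMap.range f).mkQ z) ∈ LinearMap.range f := by
    intro z
    have h0 : (LinearMap.range f).mkQ (z - s0 ((LinearMap.range f).mkQ z)) = 0 := by
      rw [map_sub]
      have := LinearMap.congr_fun hs0 ((LinearMap.range f).mkQ z)
      simp only [LinearMap.comp_apply, LinearMap.id_apply] at this
      rw [this, sub_self]
    exact (Submodule.Quotient.mk_eq_zero _).mp h0
  let r : (Fin a → R') →ₗ[R'] LinearMap.range f :=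
    LinearMap.codRestrict (LinearMap.range f) (LinearMap.id - s0.comp (LinearMap.range f).mkQ)
      (fun z => hr0 z)
  obtain ⟨g, hg⟩ := Module.projective_lifting_property f.rangeRestrict r
    f.surjective_rangeRestrict
  have hfg : ∀ z, f (g z) = z - s0 ((LinearMap.range f).mkQ z) := by
    intro z
    have := congrArg Subtype.val (LinearMap.congr_fun hg z)
    exact this
  have hfgf : f.comp (g.comp f) = f := by
    refine LinearMap.ext fun x => ?_
    rw [LinearMap.comp_apply, LinearMap.comp_apply, hfg]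
    have : (LinearMap.range f).mkQ (f x) = 0 := by
      rw [Submodule.mkQ_apply, Submodule.Quotient.mk_eq_zero]
      exact LinearMap.mem_range_self f x
    rw [this, map_zero, sub_zero]
  refine ⟨LinearMap.toMatrix' g, ?_⟩
  have h1 : Matrix.toLin' (Φ' * LinearMap.toMatrix' g * Φ') = Matrix.toLin' Φ' := by
    rw [Matrix.toLin'_mul, Matrix.toLin'_mul, Matrix.toLin'_toMatrix', LinearMap.comp_assoc]
    exact hfgf
  exact Matrix.toLin'.injective h1

theorem projective_coker_of_genInv (Θ : Matrix (Fin b) (Fin a) R')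
    (Ψ' : Matrix (Fin a) (Fin b) R') (h : Θ * Ψ' * Θ = Θ) :
    Module.Projective R' (cokerQ Θ) := by
  set h' := Matrix.toLin' Θ with hh'
  set ψ' := Matrix.toLin' Ψ' with hψ'
  have hcomp : h'.comp (ψ'.comp h') = h' := by
    rw [hh', hψ', ← Matrix.toLin'_mul, ← Matrix.toLin'_mul, ← Matrix.mul_assoc, h]
  have hle : LinearMap.range h' ≤ LinearMap.ker (LinearMap.id - h'.comp ψ') := by
    intro y hy
    obtain ⟨w, rfl⟩ := hy
    rw [LinearMap.mem_ker, LinearMap.sub_apply, LinearMap.id_apply, LinearMap.comp_apply]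
    have := LinearMap.congr_fun hcomp w
    simp only [LinearMap.comp_apply] at this
    rw [this, sub_self]
  let i : cokerQ Θ →ₗ[R'] (Fin b → R') :=
    (LinearMap.range h').liftQ (LinearMap.id - h'.comp ψ') hle
  refine Module.Projective.of_split i (LinearMap.range h').mkQ ?_
  refine LinearMap.ext fun x => ?_
  obtain ⟨z, rfl⟩ := Submodule.Quotient.mk_surjective _ x
  change (LinearMap.range h').mkQ
    ((LinearMap.id - h'.comp ψ' : (Fin b → R') →ₗ[R'] (Fin b → R')) z) = _
  rw [LinearMap.sub_apply, map_sub, LinearMap.id_apply, LinearMap.comp_apply]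
  have : (LinearMap.range h').mkQ (h' (ψ' z)) = 0 := by
    rw [Submodule.mkQ_apply, Submodule.Quotient.mk_eq_zero]
    exact LinearMap.mem_range_self h' _
  rw [this, sub_zero]
  rfl

theorem projective_coker_transpose (Φ' : Matrix (Fin a) (Fin b) R')
    (hproj : Module.Projective R' (cokerQ Φ')) : Module.Projective R' (cokerQ Φ'ᵀ) := by
  obtain ⟨Ψ, hΨ⟩ := exists_genInv_of_projective Φ' hproj
  apply projective_coker_of_genInv Φ'ᵀ Ψᵀ
  rw [← Matrix.transpose_mul, ← Matrix.transpose_mul, ← Matrix.mul_assoc, hΨ]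

end GenInv

end Groth.Agent.Lib.helper6.TrA
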