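import Mathlib
import Groth.Agent.Lib.helper6.TrA
import Groth.Agent.Lib.helper28.ReflDepth
import Groth.Agent.Lib.helper9.Depth11

/-!
# A reflexive module as a second syzygy with locally free cokernel
-/

set_option autoImplicit false
set_option linter.style.haveILetI false
set_option linter.unusedSectionVars false
set_option maxHeartbeats 400000

universe u

namespace Groth.Agent.Lib.helper6.TrB

open Matrix Groth.Agent.Lib.helper6.TrA

variable {B : Type u} [CommRing B] {F : Type u} [AddCommGroup F] [Module B F]

section Construct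

variable {n m : ℕ} (π : (Fin n → B) →ₗ[B] Module.Dual B F) (hπ : Function.Surjective π)
  (Φ : Matrix (Fin n) (Fin m) B) (hex : Function.Exact (Matrix.toLin' Φ) π)

/-- the standard basis vector -/
def eV (n : ℕ) (i : Fin n) : Fin n → B := fun j => if i = j then 1 else 0

theorem dot_eV (c : Fin n → B) (i : Fin n) : c ⬝ᵥ eV n i = c i := by
  simp [dotProduct, eV]

/-- `g : F → Bⁿ` -/
noncomputable def gMap : F →ₗ[B] (Fin n → B) := LinearMap.pi (fun i => π (eV n i))

theorem gMap_apply (x : F) (i : Fin n) : gMap π x i = π (eV n i) x := rfl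

theorem pi_apply_eq (c : Fin n → B) (x : F) : π c x = c ⬝ᵥ gMap π x := by
  rw [LinearMap.pi_apply_eq_sum_univ π c, LinearMap.sum_apply, dotProduct]
  refine Finset.sum_congr rfl fun i _ => ?_
  rw [LinearMap.smul_apply, smul_eq_mul]
  rfl

/-- `h : Bⁿ → Bᵐ` -/
noncomputable def hMap : (Fin n → B) →ₗ[B] (Fin m → B) := Matrix.toLin' Φᵀ

/-- the dot-product functional -/
def dotL (c : Fin n → B) : (Fin n → B) →ₗ[B] B where
  toFun d := c ⬝ᵥ d
  map_add' := dotProduct_add c
  map_smul' r d := by simp [dotProduct_smul]

include hπ in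
theorem gMap_injective [Module.IsReflexive B F] : Function.Injective (gMap π) := by
  rw [injective_iff_map_eq_zero]
  intro x hx
  apply (Module.bijective_dual_eval B F).1
  rw [map_zero]
  ext φ
  obtain ⟨c, rfl⟩ := hπ φ
  rw [Module.Dual.eval_apply, pi_apply_eq, hx, dotProduct_zero]
  rfl

include hex in
theorem hMap_gMap (x : F) : hMap Φ (gMap π x) = 0 := by
  funext j
  have h1 : hMap Φ (gMap π x) j = (fun i => Φ i j) ⬝ᵥ gMap π x := by
    simp [hMap, Matrix.toLin'_apply, Matrix.mulVec, dotProduct, Matrix.transpose_apply]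
  rw [h1, ← pi_apply_eq]
  have h2 : (fun i => Φ i j) = Matrix.toLin' Φ (Pi.single j 1) := by
    funext i
    simp [Matrix.toLin'_apply]
  rw [h2, hex.apply_apply_eq_zero]
  rfl

include hπ hex in
theorem exact_gMap_hMap [Module.IsReflexive B F] : Function.Exact (gMap π) (hMap Φ) := by
  intro c
  constructor
  · intro hc
    have hc' : Φᵀ *ᵥ c = 0 := by
      have := hc
      rwa [hMap, Matrix.toLin'_apply] at this
    -- the functional on the dual
    have hle : LinearMap.ker π ≤ LinearMap.ker (dotL c) := by
      intro d hd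
      obtain ⟨b, rfl⟩ := (hex d).mp hd
      rw [LinearMap.mem_ker]
      change c ⬝ᵥ (Matrix.toLin' Φ b) = 0
      rw [Matrix.toLin'_apply, Matrix.dotProduct_mulVec, ← Matrix.mulVec_transpose, hc',
        zero_dotProduct]
    let ψ : Module.Dual B F →ₗ[B] B :=
      ((LinearMap.ker π).liftQ (dotL c) hle).comp
        (π.quotKerEquivOfSurjective hπ).symm.toLinearMap
    have hψ : ∀ d, ψ (π d) = c ⬝ᵥ d := by
      intro d
      have : (π.quotKerEquivOfSurjective hπ).symm (π d) = Submodule.Quotient.mk d := by
        rw [LinearEquiv.symm_apply_eq]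
        rfl
      change ((LinearMap.ker π).liftQ (dotL c) hle) ((π.quotKerEquivOfSurjective hπ).symm (π d)) = _
      rw [this]
      rfl
    refine ⟨(Module.evalEquiv B F).symm ψ, ?_⟩
    funext i
    rw [gMap_apply, Module.apply_evalEquiv_symm_apply, hψ, dot_eV]
  · rintro ⟨x, rfl⟩
    exact hMap_gMap π Φ hex x

end Construct

section Local

variable [IsNoetherianRing B] [Module.Finite B F]
  {n m : ℕ} (π : (Fin n → B) →ₗ[B] Module.Dual B F) (hπ : Function.Surjective π)
  (Φ : Matrix (Fin n) (Fin m) B) (hex : Function.Exact (Matrix.toLin' Φ) π)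
  (q : Ideal B) [q.IsPrime]

/-- `coker Φ ≅ F^∨`. -/
noncomputable def cokerEquivDual : cokerQ Φ ≃ₗ[B] Module.Dual B F :=
  (Submodule.quotEquivOfEq _ _ (LinearMap.exact_iff.mp hex).symm).trans
    (π.quotKerEquivOfSurjective hπ)

include hπ hex in
theorem free_localized_coker_transpose
    (hfree : Module.Free (Localization.AtPrime q) (LocalizedModule q.primeCompl F)) :
    Module.Free (Localization.AtPrime q)
      (LocalizedModule q.primeCompl ((Fin m → B) ⧸ LinearMap.range (hMap Φ))) := by
  haveI := hfree
  haveI : Module.Finite B (Module.Dual B F) := Module.IsNoetherian.finite B (Module.Dual B F)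
  -- the localized dual is free
  haveI : Module.Free (Localization.AtPrime q) (LocalizedModule q.primeCompl B) :=
    Module.Free.of_equiv (Groth.Agent.Lib.helper9.Depth.localizedModuleSelfEquiv q).symm
  have hDfree : Module.Free (Localization.AtPrime q)
      (LocalizedModule q.primeCompl (Module.Dual B F)) :=
    Module.Free.of_equiv (Groth.Agent.Lib.helper28.ReflDepth.locHomEquiv q F).symm
  -- the cokernel of the localized matrix is projective
  haveI h1 := isLocalizedModule_cokerMap q.primeCompl (Localization.AtPrime q) Φ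
  let e1 : cokerQ (Φ.map (algebraMap B (Localization.AtPrime q))) ≃ₗ[Localization.AtPrime q]
      LocalizedModule q.primeCompl (Module.Dual B F) :=
    IsLocalizedModule.mapEquiv q.primeCompl (cokerMap (Localization.AtPrime q) Φ)
      (LocalizedModule.mkLinearMap q.primeCompl (Module.Dual B F)) (Localization.AtPrime q)
      (cokerEquivDual π hπ Φ hex)
  have hproj : Module.Projective (Localization.AtPrime q)
      (cokerQ (Φ.map (algebraMap B (Localization.AtPrime q)))) := by
    haveI := hDfree
    exact Module.Projective.of_equiv e1.symm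
  have hprojT := projective_coker_transpose _ hproj
  -- the localized cokernel of the transpose
  haveI h2 := isLocalizedModule_cokerMap q.primeCompl (Localization.AtPrime q) Φᵀ
  let e2 : LocalizedModule q.primeCompl (cokerQ Φᵀ) ≃ₗ[Localization.AtPrime q]
      cokerQ (Φᵀ.map (algebraMap B (Localization.AtPrime q))) :=
    IsLocalizedModule.mapEquiv q.primeCompl
      (LocalizedModule.mkLinearMap q.primeCompl (cokerQ Φᵀ))
      (cokerMap (Localization.AtPrime q) Φᵀ) (Localization.AtPrime q)
      (LinearEquiv.refl B (cokerQ Φᵀ))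
  have hprojG : Module.Projective (Localization.AtPrime q)
      (LocalizedModule q.primeCompl (cokerQ Φᵀ)) := by
    rw [← Matrix.transpose_map] at hprojT
    haveI := hprojT
    exact Module.Projective.of_equiv e2.symm
  haveI := hprojG
  change Module.Free (Localization.AtPrime q) (LocalizedModule q.primeCompl (cokerQ Φᵀ))
  exact Module.free_of_flat_of_isLocalRing

end Local

theorem main (B : Type u) [CommRing B] [IsNoetherianRing B]
    (J : Ideal B) (F : Type u) [AddCommGroup F] [Module B F] [Module.Finite B F]
    [Module.IsReflexive B F]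
    (hU : ∀ q : PrimeSpectrum B, ¬ J ≤ q.asIdeal →
      Module.Free (Localization.AtPrime q.asIdeal) (LocalizedModule q.asIdeal.primeCompl F)) :
    ∃ (n m : ℕ) (g : F →ₗ[B] (Fin n → B)) (h : (Fin n → B) →ₗ[B] (Fin m → B)),
      Function.Injective g ∧ Function.Exact g h ∧
      ∀ q : PrimeSpectrum B, ¬ J ≤ q.asIdeal →
        Module.Free (Localization.AtPrime q.asIdeal)
          (LocalizedModule q.asIdeal.primeCompl ((Fin m → B) ⧸ LinearMap.range h)) := by
  haveI : Module.Finite B (Module.Dual B F) := Module.IsNoetherian.finite B (Module.Dual B F)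
  obtain ⟨n, π, hπ⟩ := Module.Finite.exists_fin' B (Module.Dual B F)
  obtain ⟨m, ρ, hρ⟩ := Module.Finite.exists_fin' B (LinearMap.ker π)
  let ρ' : (Fin m → B) →ₗ[B] (Fin n → B) := (LinearMap.ker π).subtype.comp ρ
  have hex' : Function.Exact ρ' π := by
    intro d
    constructor
    · intro hd
      obtain ⟨b, hb⟩ := hρ ⟨d, hd⟩
      exact ⟨b, by change ((LinearMap.ker π).subtype (ρ b)) = d; rw [hb]; rfl⟩
    · rintro ⟨b, rfl⟩
      exact (ρ b).2
  let Φ : Matrix (Fin n) (Fin m) B := LinearMap.toMatrix' ρ'
  have hex : Function.Exact (Matrix.toLin' Φ) π := by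
    rw [Matrix.toLin'_toMatrix']
    exact hex'
  refine ⟨n, m, gMap π, hMap Φ, gMap_injective π hπ, exact_gMap_hMap π hπ Φ hex, ?_⟩
  intro q hq
  exact free_localized_coker_transpose π hπ Φ hex q.asIdeal (hU q hq)

end Groth.Agent.Lib.helper6.TrB
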