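import Mathlib
import Groth.Agent.S5782

/-!
# Vasconcelos' theorem, part B: if `y ∈ I` is regular and there is a functional `φ₀ : I → R/I`
with `φ₀ y = 1`, then `I/(y)` is a retract of `I/yI` over `R/(y)`; consequently
`pd_{R/y} (I/(y)) ≤ pd_R I`.
-/

set_option autoImplicit false
set_option linter.style.haveILetI false

namespace Groth.Agent.Lib.helper6.VascB

open CategoryTheory IsLocalRing

universe u

variable {R : Type u} [CommRing R] (I : Ideal R) (y : R)

/-- The canonical map `I → I(R/y)`. -/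
def ρ : I →ₗ[R] (I.map (Ideal.Quotient.mk (Ideal.span {y})) : Ideal (R ⧸ Ideal.span {y})) where
  toFun i := ⟨Ideal.Quotient.mk _ i.1, Ideal.mem_map_of_mem _ i.2⟩
  map_add' a b := Subtype.ext (map_add _ _ _)
  map_smul' r a := Subtype.ext (by
    change Ideal.Quotient.mk (Ideal.span {y}) (r • (a : R)) = r • Ideal.Quotient.mk _ (a : R)
    rw [smul_eq_mul, map_mul, Algebra.smul_def]
    rfl)

lemma ρ_coe (i : I) : ((ρ I y i : I.map (Ideal.Quotient.mk (Ideal.span {y}))) : R ⧸ Ideal.span {y}) =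
    Ideal.Quotient.mk _ (i : R) := rfl

lemma ρ_surjective : Function.Surjective (ρ I y) := by
  rintro ⟨v, hv⟩
  obtain ⟨x, hx, rfl⟩ :=
    (Ideal.mem_map_iff_of_surjective _ Ideal.Quotient.mk_surjective).mp hv
  exact ⟨⟨x, hx⟩, rfl⟩

variable {I y} (hy : y ∈ I)

lemma mem_ker_ρ (i : I) (hi : i ∈ LinearMap.ker (ρ I y)) : ∃ b : R, i = b • (⟨y, hy⟩ : I) := by
  rw [LinearMap.mem_ker] at hi
  have h1 : Ideal.Quotient.mk (Ideal.span {y}) (i : R) = 0 := congrArg Subtype.val hi
  rw [Ideal.Quotient.eq_zero_iff_mem, Ideal.mem_span_singleton'] at h1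
  obtain ⟨b, hb⟩ := h1
  exact ⟨b, Subtype.ext (by simpa using hb.symm)⟩

lemma ker_ρ_le {N : Type*} [AddCommGroup N] [Module R N] (g : I →ₗ[R] N) (hg : g ⟨y, hy⟩ = 0) :
    LinearMap.ker (ρ I y) ≤ LinearMap.ker g := by
  intro i hi
  obtain ⟨b, rfl⟩ := mem_ker_ρ hy i hi
  rw [LinearMap.mem_ker, map_smul, hg, smul_zero]

/-- Descend an `R`-linear map on `I` killing `y` to an `R/y`-linear map on `I(R/y)`. -/
noncomputable def descend {N : Type*} [AddCommGroup N] [Module R N]
    [Module (R ⧸ Ideal.span {y}) N] [IsScalarTower R (R ⧸ Ideal.span {y}) N]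
    (g : I →ₗ[R] N) (hg : g ⟨y, hy⟩ = 0) :
    (I.map (Ideal.Quotient.mk (Ideal.span {y})) : Ideal (R ⧸ Ideal.span {y}))
      →ₗ[R ⧸ Ideal.span {y}] N :=
  LinearMap.extendScalarsOfSurjective (Ideal.Quotient.mk_surjective (I := Ideal.span {y}))
    (((LinearMap.ker (ρ I y)).liftQ g (ker_ρ_le hy g hg)) ∘ₗ
      ((ρ I y).quotKerEquivOfSurjective (ρ_surjective I y)).symm.toLinearMap)

lemma descend_apply {N : Type*} [AddCommGroup N] [Module R N]
    [Module (R ⧸ Ideal.span {y}) N] [IsScalarTower R (R ⧸ Ideal.span {y}) N]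
    (g : I →ₗ[R] N) (hg : g ⟨y, hy⟩ = 0) (i : I) : descend hy g hg (ρ I y i) = g i := by
  have h1 : ((ρ I y).quotKerEquivOfSurjective (ρ_surjective I y)).symm (ρ I y i) =
      Submodule.Quotient.mk i := by
    rw [LinearEquiv.symm_apply_eq]
    rfl
  change ((LinearMap.ker (ρ I y)).liftQ g (ker_ρ_le hy g hg))
    (((ρ I y).quotKerEquivOfSurjective (ρ_surjective I y)).symm (ρ I y i)) = g i
  rw [h1, Submodule.liftQ_apply]

/-- The quotient `I / yI`. -/
abbrev Nq (I : Ideal R) (y : R) : Type u := I ⧸ (Ideal.span {y} • (⊤ : Submodule R I))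

/-- The projection `I/yI → I(R/y)`. -/
noncomputable def proj (I : Ideal R) (y : R) :
    Nq I y →ₗ[R ⧸ Ideal.span {y}]
      (I.map (Ideal.Quotient.mk (Ideal.span {y})) : Ideal (R ⧸ Ideal.span {y})) :=
  LinearMap.extendScalarsOfSurjective (Ideal.Quotient.mk_surjective (I := Ideal.span {y}))
    (Submodule.liftQ _ (ρ I y) (by
      rw [Submodule.smul_le]
      intro a ha e _
      rw [LinearMap.mem_ker, map_smul]
      apply Subtype.ext
      change a • Ideal.Quotient.mk (Ideal.span {y}) (e : R) = 0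
      rw [Algebra.smul_def]
      have : algebraMap R (R ⧸ Ideal.span {y}) a = 0 := Ideal.Quotient.eq_zero_iff_mem.mpr ha
      rw [this, zero_mul]))

lemma proj_mk (i : I) : proj I y (Submodule.Quotient.mk i) = ρ I y i := rfl

/-- `R/I → I/yI`, `1 ↦ [y]`. -/
noncomputable def μ : (R ⧸ I) →ₗ[R] Nq I y :=
  Submodule.liftQ I (LinearMap.toSpanSingleton R (Nq I y) (Submodule.Quotient.mk ⟨y, hy⟩)) (by
    intro a ha
    rw [LinearMap.mem_ker, LinearMap.toSpanSingleton_apply, ← Submodule.Quotient.mk_smul,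
      Submodule.Quotient.mk_eq_zero]
    have h1 : a • (⟨y, hy⟩ : I) = y • (⟨a, ha⟩ : I) := by
      ext
      simp [mul_comm]
    rw [h1]
    exact Submodule.smul_mem_smul (Ideal.mem_span_singleton_self y) Submodule.mem_top)

lemma μ_mk (a : R) : μ hy (Ideal.Quotient.mk I a) = a • (Submodule.Quotient.mk ⟨y, hy⟩ : Nq I y) := by
  change Submodule.liftQ I _ _ (Submodule.Quotient.mk a) = _
  rw [Submodule.liftQ_apply, LinearMap.toSpanSingleton_apply]

lemma proj_μ (c : R ⧸ I) : proj I y (μ hy c) = 0 := by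
  obtain ⟨a, rfl⟩ := Ideal.Quotient.mk_surjective c
  rw [μ_mk, ← Submodule.Quotient.mk_smul, proj_mk, map_smul]
  have : ρ I y ⟨y, hy⟩ = 0 := by
    apply Subtype.ext
    change Ideal.Quotient.mk (Ideal.span {y}) y = 0
    exact Ideal.Quotient.eq_zero_iff_mem.mpr (Ideal.mem_span_singleton_self y)
  rw [this, smul_zero]

variable (φ₀ : I →ₗ[R] R ⧸ I) (hφ₀ : φ₀ ⟨y, hy⟩ = 1)

/-- The section `I(R/y) → I/yI`. -/
noncomputable def sec :
    (I.map (Ideal.Quotient.mk (Ideal.span {y})) : Ideal (R ⧸ Ideal.span {y}))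
      →ₗ[R ⧸ Ideal.span {y}] Nq I y :=
  descend hy ((Submodule.mkQ _) - (μ hy) ∘ₗ φ₀) (by
    rw [LinearMap.sub_apply, LinearMap.comp_apply, hφ₀, Submodule.mkQ_apply]
    have : (1 : R ⧸ I) = Ideal.Quotient.mk I 1 := rfl
    rw [this, μ_mk, one_smul, sub_self])

/-- `I(R/y)` is a retract of `I/yI`. -/
noncomputable def retract :
    Retract (ModuleCat.of (R ⧸ Ideal.span {y})
        (I.map (Ideal.Quotient.mk (Ideal.span {y})) : Ideal (R ⧸ Ideal.span {y})))
      (ModuleCat.of (R ⧸ Ideal.span {y}) (Nq I y)) where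
  i := ModuleCat.ofHom (sec hy φ₀ hφ₀)
  r := ModuleCat.ofHom (proj I y)
  retract := by
    apply ModuleCat.hom_ext
    apply LinearMap.ext
    intro v
    obtain ⟨i, rfl⟩ := ρ_surjective I y v
    change proj I y (sec hy φ₀ hφ₀ (ρ I y i)) = ρ I y i
    unfold sec
    rw [descend_apply, LinearMap.sub_apply, map_sub, LinearMap.comp_apply, proj_μ, sub_zero,
      Submodule.mkQ_apply, proj_mk]

include hy hφ₀ in
/-- `pd_{R/y} (I(R/y)) ≤ pd_R I`. -/
theorem pd_map_quotient [IsLocalRing R] [IsNoetherianRing R] (hym : y ∈ maximalIdeal R)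
    (hreg : IsSMulRegular R y) (n : ℕ)
    (hpd : HasProjectiveDimensionLT (ModuleCat.of R I) n) :
    HasProjectiveDimensionLT (ModuleCat.of (R ⧸ Ideal.span {y})
      (I.map (Ideal.Quotient.mk (Ideal.span {y})) : Ideal (R ⧸ Ideal.span {y}))) n := by
  have hlt := projectiveDimension_lt_iff.mpr hpd
  have hfin : projectiveDimension (ModuleCat.of R I) ≠ ⊤ := ne_top_of_lt hlt
  have hE : IsSMulRegular I y := by
    intro a b hab
    apply Subtype.ext
    apply hreg
    simpa using congrArg Subtype.val hab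
  have hle := Groth.Agent.S5782.result R I hfin y hym hreg hE
  have h2 := (retract hy φ₀ hφ₀).projectiveDimension_le
  rw [← projectiveDimension_lt_iff]
  exact lt_of_le_of_lt (h2.trans hle) hlt

end Groth.Agent.Lib.helper6.VascB
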