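import Mathlib
import Groth.Agent.Lib.helper6.VascA
import Groth.Agent.Lib.helper6.VascB
import Groth.Agent.Lib.helper5.RegLoc2

/-!
# Vasconcelos' theorem, part C: the main induction.
-/

set_option autoImplicit false
set_option linter.style.haveILetI false

namespace Groth.Agent.Lib.helper6.VascC

open CategoryTheory IsLocalRing RingTheory.Sequence
open Groth.Agent.Lib.helper6

universe u

lemma isSMulRegular_of_notMem_associatedPrimes {R : Type u} [CommRing R] [IsNoetherianRing R]
    (y : R) (h : ∀ q ∈ associatedPrimes R R, y ∉ q) : IsSMulRegular R y := by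
  by_contra hreg
  have h1 : y ∈ ⋃ p ∈ associatedPrimes R R, (p : Set R) := by
    rw [biUnion_associatedPrimes_eq_compl_regular]
    exact hreg
  simp only [Set.mem_iUnion] at h1
  obtain ⟨q, hq, hyq⟩ := h1
  exact h q hq hyq

/-- elements of `𝔪 I` are sent to non-units by any functional `I → R/I`. -/
lemma exists_lift_mem {R : Type u} [CommRing R] [IsLocalRing R] (I : Ideal R)
    [IsLocalRing (R ⧸ I)]
    (φ₀ : I →ₗ[R] R ⧸ I) (z : R) (hz : z ∈ maximalIdeal R * I) :
    ∃ z' : I, (z' : R) = z ∧ φ₀ z' ∈ maximalIdeal (R ⧸ I) := by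
  let T : Submodule R (R ⧸ I) := (maximalIdeal (R ⧸ I)).restrictScalars R
  let K : Ideal R := Submodule.map I.subtype (Submodule.comap φ₀ T)
  have hK : maximalIdeal R * I ≤ K := by
    rw [Ideal.mul_le]
    intro a ha b hb
    refine ⟨a • ⟨b, hb⟩, ?_, by simp⟩
    change φ₀ (a • ⟨b, hb⟩) ∈ maximalIdeal (R ⧸ I)
    rw [map_smul, Algebra.smul_def]
    apply Ideal.mul_mem_right
    rw [mem_maximalIdeal, mem_nonunits_iff]
    intro hu
    haveI : IsLocalHom (Ideal.Quotient.mk I) :=
      IsLocalHom.of_surjective _ Ideal.Quotient.mk_surjective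
    exact ha (isUnit_of_map_unit (Ideal.Quotient.mk I) a hu)
  obtain ⟨z', hz'T, hz'⟩ := hK hz
  exact ⟨z', hz', hz'T⟩

/-- The natural `R`-linear map `R/I → (R/y)/(I(R/y))`. -/
noncomputable def τ {R : Type u} [CommRing R] (I : Ideal R) (y : R) :
    (R ⧸ I) →ₗ[R] ((R ⧸ Ideal.span {y}) ⧸ I.map (Ideal.Quotient.mk (Ideal.span {y}))) :=
  Submodule.liftQ I (Algebra.linearMap R _) (by
    intro a ha
    rw [LinearMap.mem_ker, Algebra.linearMap_apply,
      IsScalarTower.algebraMap_apply R (R ⧸ Ideal.span {y})]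
    exact Ideal.Quotient.eq_zero_iff_mem.mpr (Ideal.mem_map_of_mem _ ha))

lemma τ_one {R : Type u} [CommRing R] (I : Ideal R) (y : R) : τ I y 1 = 1 := by
  change Submodule.liftQ I _ _ (Submodule.Quotient.mk (1 : R)) = 1
  rw [Submodule.liftQ_apply, Algebra.linearMap_apply, map_one]

theorem main : ∀ (r : ℕ) (R : Type u) [CommRing R] [IsNoetherianRing R] [IsLocalRing R]
    (I : Ideal R) (_ : I ≠ ⊤) (n : ℕ) (_ : HasProjectiveDimensionLT (ModuleCat.of R I) n)
    (x : Fin r → R) (hx : ∀ i, x i ∈ I) (φ : Fin r → (I →ₗ[R] R ⧸ I))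
    (_ : ∀ i j, φ i ⟨x j, hx j⟩ = if i = j then 1 else 0),
    ∃ y : Fin r → R, (∀ i, y i ∈ I) ∧ IsRegular R (List.ofFn y) ∧
      Ideal.span (Set.range y) ⊔ I ^ 2 = Ideal.span (Set.range x) ⊔ I ^ 2 := by
  intro r
  induction r with
  | zero =>
    intro R _ _ _ I hI n hpd x hx φ hφ
    refine ⟨x, hx, ?_, rfl⟩
    rw [List.ofFn_zero]
    exact IsRegular.nil R R
  | succ r ih =>
    intro R _ _ _ I hI n hpd x hx φ hφ
    classical
    have hIm : I ≤ maximalIdeal R := IsLocalRing.le_maximalIdeal hI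
    haveI : Nontrivial (R ⧸ I) := Ideal.Quotient.nontrivial_iff.mpr hI
    haveI : IsLocalRing (R ⧸ I) :=
      IsLocalRing.of_surjective' (Ideal.Quotient.mk I) Ideal.Quotient.mk_surjective
    -- the ideal `N`
    set N : Ideal R := Ideal.span (Set.range x) ⊔ I ^ 2 with hN
    have hxN : ∀ i, x i ∈ N := fun i => Submodule.mem_sup_left (Ideal.subset_span ⟨i, rfl⟩)
    have hNI : N ≤ I := by
      refine sup_le ?_ (Ideal.pow_le_self (by norm_num))
      rw [Ideal.span_le]
      rintro _ ⟨i, rfl⟩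
      exact hx i
    -- avoid associated primes
    have hfin : (associatedPrimes R R).Finite := associatedPrimes.finite R R
    have hnot : ∀ q ∈ associatedPrimes R R, ¬ I ≤ q := fun q hq =>
      VascA.not_le_of_mem_associatedPrimes R I n hpd ⟨x 0, hx 0⟩ (φ 0) (by rw [hφ]; simp) q hq
    have hJ : ∀ q ∈ hfin.toFinset, ¬ (maximalIdeal R * N) ≤ q := by
      intro q hq hle
      rw [Set.Finite.mem_toFinset] at hq
      haveI hqp : q.IsPrime := hq.isPrime
      have h12 : maximalIdeal R ≤ q ∨ N ≤ q := (Ideal.IsPrime.mul_le hqp).mp hle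
      rcases h12 with h | h
      · exact hnot q hq (hIm.trans h)
      · have h2 : I ^ 2 ≤ q := le_sup_right.trans h
        exact hnot q hq (Ideal.IsPrime.le_of_pow_le h2)
    obtain ⟨z, hz, hzq⟩ := VascA.exists_add_notMem (x 0) (maximalIdeal R * N) hfin.toFinset
      (fun q hq => ((Set.Finite.mem_toFinset hfin).mp hq).isPrime) hJ
    set y₀ : R := x 0 + z with hy₀def
    have hmulN : maximalIdeal R * N ≤ N := Ideal.mul_le_right
    have hzN : z ∈ N := hmulN hz
    have hy₀N : y₀ ∈ N := N.add_mem (hxN 0) hzN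
    have hy₀ : y₀ ∈ I := hNI hy₀N
    have hy₀m : y₀ ∈ maximalIdeal R := hIm hy₀
    have hreg : IsSMulRegular R y₀ := isSMulRegular_of_notMem_associatedPrimes y₀
      (fun q hq => hzq q ((Set.Finite.mem_toFinset hfin).mpr hq))
    -- the value `φ 0 y₀` is a unit
    have hzmI : z ∈ maximalIdeal R * I := Ideal.mul_mono_right hNI hz
    obtain ⟨z', hz'z, hz'm⟩ := exists_lift_mem I (φ 0) z hzmI
    have hy₀eq : (⟨y₀, hy₀⟩ : I) = ⟨x 0, hx 0⟩ + z' := Subtype.ext (by simp [hy₀def, hz'z])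
    have hu : IsUnit (φ 0 ⟨y₀, hy₀⟩) := by
      rw [hy₀eq, map_add, hφ, if_pos rfl]
      rw [← IsLocalRing.notMem_maximalIdeal]
      intro h
      have h1 : (1 : R ⧸ I) ∈ maximalIdeal (R ⧸ I) := by
        have h2 := Ideal.sub_mem _ h hz'm
        simp only [add_sub_cancel_right] at h2
        exact h2
      exact (maximalIdeal.isMaximal (R ⧸ I)).ne_top ((Ideal.eq_top_iff_one _).mpr h1)
    obtain ⟨v, hv⟩ := hu.exists_left_inv
    obtain ⟨v', rfl⟩ := Ideal.Quotient.mk_surjective v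
    -- new functionals
    let ψ₀ : I →ₗ[R] R ⧸ I := v' • φ 0
    have hψ₀ : ψ₀ ⟨y₀, hy₀⟩ = 1 := by
      change v' • φ 0 ⟨y₀, hy₀⟩ = 1
      rw [Algebra.smul_def]
      exact hv
    have hψ₀x : ∀ k : Fin r, ψ₀ ⟨x k.succ, hx k.succ⟩ = 0 := by
      intro k
      change v' • φ 0 ⟨x k.succ, hx k.succ⟩ = 0
      rw [hφ, if_neg (Fin.succ_ne_zero k).symm, smul_zero]
    choose c hc using fun j : Fin r => Ideal.Quotient.mk_surjective (φ j.succ ⟨y₀, hy₀⟩)
    let ψ : Fin r → (I →ₗ[R] R ⧸ I) := fun j => φ j.succ - c j • ψ₀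
    have hψy : ∀ j, ψ j ⟨y₀, hy₀⟩ = 0 := by
      intro j
      change φ j.succ ⟨y₀, hy₀⟩ - c j • ψ₀ ⟨y₀, hy₀⟩ = 0
      rw [hψ₀, Algebra.smul_def, mul_one, ← hc j]
      exact sub_self _
    have hψx : ∀ j k : Fin r, ψ j ⟨x k.succ, hx k.succ⟩ = if j = k then 1 else 0 := by
      intro j k
      change φ j.succ ⟨x k.succ, hx k.succ⟩ - c j • ψ₀ ⟨x k.succ, hx k.succ⟩ = _
      rw [hψ₀x, smul_zero, sub_zero, hφ]
      simp only [Fin.succ_inj]
    -- the quotient ring
    haveI : Nontrivial (R ⧸ Ideal.span {y₀}) :=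
      Ideal.Quotient.nontrivial_iff.mpr (Groth.Agent.H5.RegLoc.span_singleton_ne_top hy₀m)
    haveI : IsLocalRing (R ⧸ Ideal.span {y₀}) :=
      IsLocalRing.of_surjective' (Ideal.Quotient.mk (Ideal.span {y₀}))
        Ideal.Quotient.mk_surjective
    have hker : RingHom.ker (Ideal.Quotient.mk (Ideal.span {y₀})) ≤ I := by
      rw [Ideal.mk_ker, Ideal.span_singleton_le_iff_mem]
      exact hy₀
    have hcomap : ∀ K : Ideal R, Ideal.span {y₀} ≤ K →
        Ideal.comap (Ideal.Quotient.mk (Ideal.span {y₀}))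
          (Ideal.map (Ideal.Quotient.mk (Ideal.span {y₀})) K) = K := by
      intro K hK
      rw [Ideal.comap_map_of_surjective _ Ideal.Quotient.mk_surjective, ← RingHom.ker_eq_comap_bot,
        Ideal.mk_ker]
      exact sup_eq_left.mpr hK
    have hspanI : Ideal.span {y₀} ≤ I := (Ideal.span_singleton_le_iff_mem _).mpr hy₀
    have hI' : I.map (Ideal.Quotient.mk (Ideal.span {y₀})) ≠ ⊤ := by
      intro h
      apply hI
      rw [← hcomap I hspanI, h, Ideal.comap_top]
    have hpd' := VascB.pd_map_quotient hy₀ ψ₀ hψ₀ hy₀m hreg n hpd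
    let x' : Fin r → R ⧸ Ideal.span {y₀} := fun k => Ideal.Quotient.mk _ (x k.succ)
    have hx' : ∀ k, x' k ∈ I.map (Ideal.Quotient.mk (Ideal.span {y₀})) :=
      fun k => Ideal.mem_map_of_mem _ (hx k.succ)
    let φ' : Fin r → ((I.map (Ideal.Quotient.mk (Ideal.span {y₀})) : Ideal (R ⧸ Ideal.span {y₀}))
        →ₗ[R ⧸ Ideal.span {y₀}]
          ((R ⧸ Ideal.span {y₀}) ⧸ I.map (Ideal.Quotient.mk (Ideal.span {y₀})))) :=
      fun j => VascB.descend hy₀ ((τ I y₀) ∘ₗ ψ j) (by
        rw [LinearMap.comp_apply, hψy, map_zero])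
    have hφ' : ∀ j k, φ' j ⟨x' k, hx' k⟩ = if j = k then 1 else 0 := by
      intro j k
      have h1 : (⟨x' k, hx' k⟩ : I.map (Ideal.Quotient.mk (Ideal.span {y₀}))) =
          VascB.ρ I y₀ ⟨x k.succ, hx k.succ⟩ := rfl
      rw [h1]
      change VascB.descend hy₀ ((τ I y₀) ∘ₗ ψ j) _ _ = _
      rw [VascB.descend_apply, LinearMap.comp_apply, hψx]
      split_ifs
      · exact τ_one I y₀
      · exact map_zero _
    obtain ⟨y', hy'I, hy'reg, hy'span⟩ :=
      ih (R ⧸ Ideal.span {y₀}) (I.map (Ideal.Quotient.mk (Ideal.span {y₀}))) hI' n hpd' x' hx' φ' hφ'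
    choose l hl using fun k : Fin r => Ideal.Quotient.mk_surjective (y' k)
    have hlI : ∀ k, l k ∈ I := by
      intro k
      rw [← hcomap I hspanI, Ideal.mem_comap, hl k]
      exact hy'I k
    refine ⟨Fin.cons y₀ l, ?_, ?_, ?_⟩
    · intro i
      refine Fin.cases ?_ (fun k => ?_) i
      · simpa using hy₀
      · simpa using hlI k
    · rw [List.ofFn_succ]
      simp only [Fin.cons_zero, Fin.cons_succ]
      rw [isRegular_cons_iff']
      refine ⟨hreg, ?_⟩
      rw [Groth.Agent.H5.RegLoc.isRegular_quotSMulTop_iff, List.map_ofFn]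
      have : (Ideal.Quotient.mk (Ideal.span {y₀})) ∘ l = y' := funext hl
      rw [this]
      exact hy'reg
    · -- the span condition
      have hA : (Ideal.span (Set.range l) ⊔ I ^ 2).map (Ideal.Quotient.mk (Ideal.span {y₀})) =
          Ideal.span (Set.range y') ⊔ (I.map (Ideal.Quotient.mk (Ideal.span {y₀}))) ^ 2 := by
        rw [Ideal.map_sup, Ideal.map_pow, Ideal.map_span, ← Set.range_comp]
        congr 3
        exact funext hl
      have hB : (Ideal.span (Set.range fun k : Fin r => x k.succ) ⊔ I ^ 2).map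
          (Ideal.Quotient.mk (Ideal.span {y₀})) =
          Ideal.span (Set.range x') ⊔ (I.map (Ideal.Quotient.mk (Ideal.span {y₀}))) ^ 2 := by
        rw [Ideal.map_sup, Ideal.map_pow, Ideal.map_span, ← Set.range_comp]
        rfl
      have hAB : Ideal.span (Set.range l) ⊔ I ^ 2 ⊔ Ideal.span {y₀} =
          Ideal.span (Set.range fun k : Fin r => x k.succ) ⊔ I ^ 2 ⊔ Ideal.span {y₀} := by
        have h1 := congrArg (Ideal.comap (Ideal.Quotient.mk (Ideal.span {y₀}))) (hA.trans
          (hy'span.trans hB.symm))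
        rw [Ideal.comap_map_of_surjective _ Ideal.Quotient.mk_surjective,
          Ideal.comap_map_of_surjective _ Ideal.Quotient.mk_surjective,
          ← RingHom.ker_eq_comap_bot, Ideal.mk_ker] at h1
        exact h1
      have hLHS : Ideal.span (Set.range (Fin.cons y₀ l : Fin (r + 1) → R)) ⊔ I ^ 2 =
          Ideal.span (Set.range l) ⊔ I ^ 2 ⊔ Ideal.span {y₀} := by
        rw [Fin.range_cons, Ideal.span_insert]
        ac_rfl
      rw [hLHS, hAB]
      -- now `N' = N`
      set N' : Ideal R :=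
        Ideal.span (Set.range fun k : Fin r => x k.succ) ⊔ I ^ 2 ⊔ Ideal.span {y₀} with hN'
      apply le_antisymm
      · refine sup_le (sup_le ?_ le_sup_right) ?_
        · rw [Ideal.span_le]
          rintro _ ⟨k, rfl⟩
          exact hxN k.succ
        · rw [Ideal.span_singleton_le_iff_mem]
          exact hy₀N
      · apply Submodule.le_of_le_smul_of_le_jacobson_bot (I := maximalIdeal R) N.fg_of_isNoetherianRing
          (IsLocalRing.jacobson_eq_maximalIdeal _ bot_ne_top).ge
        rw [smul_eq_mul]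
        refine sup_le ?_ (le_sup_of_le_left (le_sup_of_le_left le_sup_right))
        rw [Ideal.span_le]
        rintro _ ⟨i, rfl⟩
        refine Fin.cases ?_ (fun k => ?_) i
        · have h1 : x 0 = y₀ - z := by rw [hy₀def]; ring
          rw [h1]
          refine Submodule.sub_mem _ (Submodule.mem_sup_left ?_) (Submodule.mem_sup_right hz)
          exact Submodule.mem_sup_right (Ideal.mem_span_singleton_self y₀)
        · exact Submodule.mem_sup_left (Submodule.mem_sup_left (Submodule.mem_sup_left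
            (Ideal.subset_span ⟨k, rfl⟩)))

end Groth.Agent.Lib.helper6.VascC
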