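import Mathlib
import Groth.Agent.Lib.helper6.VascC

/-!
# Vasconcelos' theorem, part D: the statement with direct summands of the conormal module.
-/

set_option autoImplicit false
set_option linter.style.haveILetI false

namespace Groth.Agent.Lib.helper6.VascD

open CategoryTheory IsLocalRing RingTheory.Sequence
open Groth.Agent.Lib.helper6

universe u

variable {R : Type u} [CommRing R] (I : Ideal R)

/-- membership in the span of classes in the conormal module. -/
lemma toCotangent_mem_span_iff {r : ℕ} (w : Fin r → R) (hw : ∀ i, w i ∈ I) (c : I) :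
    I.toCotangent c ∈ Submodule.span (R ⧸ I) (Set.range fun i => I.toCotangent ⟨w i, hw i⟩) ↔
      (c : R) ∈ Ideal.span (Set.range w) ⊔ I ^ 2 := by
  constructor
  · intro h
    rw [Submodule.mem_span_range_iff_exists_fun] at h
    obtain ⟨a, ha⟩ := h
    choose a' ha' using fun i => Ideal.Quotient.mk_surjective (a i)
    have h1 : I.toCotangent c = I.toCotangent (∑ i, a' i • (⟨w i, hw i⟩ : I)) := by
      rw [← ha, map_sum]
      refine Finset.sum_congr rfl (fun i _ => ?_)
      rw [map_smul, ← ha' i]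
      rfl
    rw [Ideal.toCotangent_eq] at h1
    have h2 : (c : R) = (∑ i, a' i * w i) + ((c : R) - ∑ i, a' i * w i) := by ring
    rw [h2]
    refine Submodule.add_mem _ (Submodule.mem_sup_left ?_) (Submodule.mem_sup_right ?_)
    · exact Ideal.sum_mem _ (fun i _ => Ideal.mul_mem_left _ _ (Ideal.subset_span ⟨i, rfl⟩))
    · convert h1 using 2
      simp
  · intro h
    rw [Submodule.mem_sup] at h
    obtain ⟨s, hs, d, hd, hsd⟩ := h
    rw [Ideal.mem_span_range_iff_exists_fun] at hs
    obtain ⟨a, rfl⟩ := hs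
    have hdI : d ∈ I := Ideal.pow_le_self (by norm_num) hd
    have h1 : c = (∑ i, a i • (⟨w i, hw i⟩ : I)) + ⟨d, hdI⟩ := by
      apply Subtype.ext
      rw [← hsd]
      simp
    rw [h1, map_add, (Ideal.toCotangent_eq_zero I ⟨d, hdI⟩).mpr hd, add_zero, map_sum]
    refine Submodule.sum_mem _ (fun i _ => ?_)
    rw [map_smul]
    have h2 : a i • I.toCotangent ⟨w i, hw i⟩ =
        (Ideal.Quotient.mk I (a i)) • I.toCotangent ⟨w i, hw i⟩ := rfl
    rw [h2]
    exact Submodule.smul_mem _ _ (Submodule.subset_span ⟨i, rfl⟩)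

lemma span_toCotangent_eq {r : ℕ} (w v : Fin r → R) (hw : ∀ i, w i ∈ I) (hv : ∀ i, v i ∈ I)
    (h : Ideal.span (Set.range w) ⊔ I ^ 2 = Ideal.span (Set.range v) ⊔ I ^ 2) :
    Submodule.span (R ⧸ I) (Set.range fun i => I.toCotangent ⟨w i, hw i⟩) =
      Submodule.span (R ⧸ I) (Set.range fun i => I.toCotangent ⟨v i, hv i⟩) := by
  apply le_antisymm
  · rw [Submodule.span_le]
    rintro _ ⟨i, rfl⟩
    rw [SetLike.mem_coe, toCotangent_mem_span_iff, ← h]
    exact Submodule.mem_sup_left (Ideal.subset_span ⟨i, rfl⟩)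
  · rw [Submodule.span_le]
    rintro _ ⟨i, rfl⟩
    rw [SetLike.mem_coe, toCotangent_mem_span_iff, h]
    exact Submodule.mem_sup_left (Ideal.subset_span ⟨i, rfl⟩)

/-- **Vasconcelos.** -/
theorem vasconcelos [IsNoetherianRing R] [IsLocalRing R] (hI : I ≠ ⊤) (n : ℕ)
    (hpd : HasProjectiveDimensionLT (ModuleCat.of R I) n)
    (F G : Submodule (R ⧸ I) I.Cotangent) (hFG : IsCompl F G) (r : ℕ)
    (e : F ≃ₗ[R ⧸ I] (Fin r → R ⧸ I)) :
    ∃ (x : Fin r → R) (hx : ∀ i, x i ∈ I), RingTheory.Sequence.IsRegular R (List.ofFn x) ∧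
      Submodule.span (R ⧸ I) (Set.range fun i => I.toCotangent ⟨x i, hx i⟩) = F := by
  classical
  let b : Fin r → F := fun i => e.symm (Pi.single i 1)
  choose x₀ hx₀ using fun i => Ideal.toCotangent_surjective I (b i : I.Cotangent)
  let x : Fin r → R := fun i => (x₀ i : R)
  have hx : ∀ i, x i ∈ I := fun i => (x₀ i).2
  let φ : Fin r → (I →ₗ[R] R ⧸ I) := fun i =>
    (((LinearMap.proj i : (Fin r → R ⧸ I) →ₗ[R ⧸ I] R ⧸ I) ∘ₗ e.toLinearMap ∘ₗ
      Submodule.projectionOnto F G hFG).restrictScalars R) ∘ₗ I.toCotangent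
  have hφ : ∀ i j, φ i ⟨x j, hx j⟩ = if i = j then 1 else 0 := by
    intro i j
    change (e (Submodule.projectionOnto F G hFG (I.toCotangent (x₀ j)))) i = _
    rw [hx₀ j, Submodule.projectionOnto_apply_left]
    change (e (e.symm (Pi.single j 1))) i = _
    rw [LinearEquiv.apply_symm_apply, Pi.single_apply]
  obtain ⟨y, hyI, hyreg, hyspan⟩ := VascC.main r R I hI n hpd x hx φ hφ
  refine ⟨y, hyI, hyreg, ?_⟩
  rw [span_toCotangent_eq I y x hyI hx hyspan]
  have h1 : (fun i => I.toCotangent ⟨x i, hx i⟩) =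
      (F.subtype ∘ₗ e.symm.toLinearMap) ∘ (Pi.basisFun (R ⧸ I) (Fin r)) := by
    funext i
    change I.toCotangent (x₀ i) = _
    rw [hx₀ i]
    simp [b]
  rw [h1, Set.range_comp, ← Submodule.map_span, (Pi.basisFun (R ⧸ I) (Fin r)).span_eq,
    Submodule.map_top, LinearMap.range_comp_of_range_eq_top _ (LinearEquiv.range _),
    Submodule.range_subtype]

end Groth.Agent.Lib.helper6.VascD
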