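import Mathlib
import Groth.Agent.Lib.helper6.PdLoc

/-!
# Vasconcelos' theorem, part E: localization of an ideal: projective dimension and projectivity of
the conormal module.
-/

set_option autoImplicit false
set_option linter.style.haveILetI false

namespace Groth.Agent.Lib.helper6.VascE

open CategoryTheory
open Groth.Agent.Lib.helper6

universe u

variable {R : Type u} [CommRing R] (S : Submonoid R) (I : Ideal R)

/-- The canonical map `I → I S⁻¹R`. -/
def ρ : I →ₗ[R] (I.map (algebraMap R (Localization S)) : Ideal (Localization S)) where
  toFun z := ⟨algebraMap R _ z.1, Ideal.mem_map_of_mem _ z.2⟩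
  map_add' a b := Subtype.ext (map_add _ _ _)
  map_smul' r a := Subtype.ext (by
    change algebraMap R (Localization S) (r • (a : R)) = r • algebraMap R (Localization S) (a : R)
    rw [smul_eq_mul, map_mul, Algebra.smul_def])

lemma ρ_coe (z : I) : ((ρ S I z : I.map (algebraMap R (Localization S))) : Localization S) =
    algebraMap R _ (z : R) := rfl

instance : IsLocalizedModule S (ρ S I) where
  map_units s := (isLocalizedModule_id S
    (I.map (algebraMap R (Localization S)) : Ideal (Localization S)) (Localization S)).map_units s
  surj w := by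
    obtain ⟨⟨z, s⟩, hzs⟩ := (IsLocalization.mem_map_algebraMap_iff S (Localization S)).mp w.2
    refine ⟨⟨z, s⟩, Subtype.ext ?_⟩
    change (s : R) • (w : Localization S) = algebraMap R _ (z : R)
    rw [Algebra.smul_def, mul_comm]
    exact hzs
  exists_of_eq {z₁ z₂} h := by
    have h1 : algebraMap R (Localization S) (z₁ : R) = algebraMap R (Localization S) (z₂ : R) :=
      congrArg Subtype.val h
    obtain ⟨c, hc⟩ := (IsLocalization.eq_iff_exists S (Localization S)).mp h1
    exact ⟨c, Subtype.ext hc⟩

/-- Projective dimension does not increase under localization. -/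
theorem pd_of_isLocalizedModule {M N : Type u} [AddCommGroup M] [Module R M] [AddCommGroup N]
    [Module R N] [Module (Localization S) N] [IsScalarTower R (Localization S) N]
    (f : M →ₗ[R] N) [IsLocalizedModule S f] (n : ℕ)
    (h : HasProjectiveDimensionLT (ModuleCat.of R M) (n + 1)) :
    HasProjectiveDimensionLT (ModuleCat.of (Localization S) N) (n + 1) := by
  haveI : HasProjectiveDimensionLE (ModuleCat.of R M) n := h
  have h1 : HasProjectiveDimensionLE ((ModuleCat.of R M).localizedModule S) n :=
    ModuleCat.localizedModule_hasProjectiveDimensionLE n S (ModuleCat.of R M)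
  have e1 := PdLoc.localizedModuleIso S M
  let e2 : LocalizedModule S M ≃ₗ[Localization S] N :=
    (IsLocalizedModule.iso S f).extendScalarsOfIsLocalization S (Localization S)
  have h2 : HasProjectiveDimensionLT ((ModuleCat.of R M).localizedModule S) (n + 1) := h1
  exact hasProjectiveDimensionLT_of_iso (e1 ≪≫ e2.toModuleIso) _

theorem pd_map_localization (n : ℕ) (h : HasProjectiveDimensionLT (ModuleCat.of R I) n) :
    HasProjectiveDimensionLT (ModuleCat.of (Localization S)
      (I.map (algebraMap R (Localization S)) : Ideal (Localization S))) (n + 1) :=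
  pd_of_isLocalizedModule S (ρ S I) n (hasProjectiveDimensionLT_of_ge _ n (n + 1) (by omega))

section Cot

local notation "J" => (I.map (algebraMap R (Localization S)) : Ideal (Localization S))

instance : IsScalarTower R (Localization S ⧸ J) (J).Cotangent :=
  IsScalarTower.of_algebraMap_smul (fun (r : R) (c : (J).Cotangent) => by
    calc (algebraMap R (Localization S ⧸ J) r) • c
        = (algebraMap (Localization S) (Localization S ⧸ J) (algebraMap R (Localization S) r)) • c := by
          rw [← IsScalarTower.algebraMap_apply]
      _ = (algebraMap R (Localization S) r) • c :=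
          algebraMap_smul (Localization S ⧸ J) (algebraMap R (Localization S) r) c
      _ = r • c := algebraMap_smul (Localization S) r c)

/-- The natural `R`-linear map `R/I → S⁻¹R/I S⁻¹R`. -/
noncomputable def τ : (R ⧸ I) →ₗ[R] (Localization S ⧸ J) :=
  Submodule.liftQ I (Algebra.linearMap R _) (by
    intro a ha
    rw [LinearMap.mem_ker, Algebra.linearMap_apply,
      IsScalarTower.algebraMap_apply R (Localization S)]
    exact Ideal.Quotient.eq_zero_iff_mem.mpr (Ideal.mem_map_of_mem _ ha))

lemma τ_mk (a : R) : τ S I (Ideal.Quotient.mk I a) = algebraMap R (Localization S ⧸ J) a := by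
  change Submodule.liftQ I _ _ (Submodule.Quotient.mk a) = _
  rw [Submodule.liftQ_apply, Algebra.linearMap_apply]

/-- The natural map on conormal modules. -/
noncomputable def γ : I.Cotangent →ₗ[R] (J).Cotangent :=
  Ideal.mapCotangent I J (Algebra.ofId R (Localization S)) Ideal.le_comap_map

lemma γ_toCotangent (z : I) : γ S I (I.toCotangent z) = (J).toCotangent (ρ S I z) := rfl

lemma γ_smul (a : R ⧸ I) (c : I.Cotangent) : γ S I (a • c) = τ S I a • γ S I c := by
  obtain ⟨a, rfl⟩ := Ideal.Quotient.mk_surjective a
  rw [τ_mk]
  have h1 : (Ideal.Quotient.mk I a) • c = a • c := rfl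
  rw [h1, map_smul, algebraMap_smul]

lemma units_quot (s : S) :
    IsUnit (algebraMap R (Module.End R (Localization S ⧸ J)) s) :=
  (isLocalizedModule_id S (Localization S ⧸ J) (Localization S)).map_units s

lemma units_cot (s : S) :
    IsUnit (algebraMap R (Module.End R (J).Cotangent) s) :=
  (isLocalizedModule_id S (J).Cotangent (Localization S)).map_units s

/-- Localize a functional `I → R/I` to a functional `J → S⁻¹R/J`. -/
noncomputable def locFunctional (g : I →ₗ[R] R ⧸ I) :
    (J) →ₗ[Localization S] (Localization S ⧸ J) :=
  (IsLocalizedModule.lift S (ρ S I) ((τ S I) ∘ₗ g) (units_quot S I)).extendScalarsOfIsLocalization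
    S (Localization S)

lemma locFunctional_ρ (g : I →ₗ[R] R ⧸ I) (z : I) :
    locFunctional S I g (ρ S I z) = τ S I (g z) := by
  change IsLocalizedModule.lift S (ρ S I) ((τ S I) ∘ₗ g) (units_quot S I) (ρ S I z) = _
  rw [IsLocalizedModule.lift_apply]
  rfl

/-- the induced functional on the conormal module. -/
noncomputable def cotFunctional (g : I →ₗ[R] R ⧸ I) :
    (J).Cotangent →ₗ[Localization S ⧸ J] (Localization S ⧸ J) :=
  LinearMap.extendScalarsOfSurjective (Ideal.Quotient.mk_surjective (I := J))
    (Ideal.Cotangent.lift (locFunctional S I g) (by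
      intro a b
      have h1 : a * b = (a : Localization S) • b := rfl
      rw [h1, map_smul]
      obtain ⟨x', hx'⟩ := Ideal.Quotient.mk_surjective (locFunctional S I g b)
      rw [← hx']
      change Ideal.Quotient.mk J ((a : Localization S) • x') = 0
      exact Ideal.Quotient.eq_zero_iff_mem.mpr (Ideal.mul_mem_right _ _ a.2)))

lemma cotFunctional_toCotangent (g : I →ₗ[R] R ⧸ I) (w : J) :
    cotFunctional S I g ((J).toCotangent w) = locFunctional S I g w := rfl

theorem projective_cotangent_localization [Module.Finite (R ⧸ I) I.Cotangent]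
    [Module.Projective (R ⧸ I) I.Cotangent] :
    Module.Projective (Localization S ⧸ J) (J).Cotangent := by
  classical
  obtain ⟨n, f, g, -, -, hfg⟩ := Module.Finite.exists_comp_eq_id_of_projective (R ⧸ I) I.Cotangent
  let e : Fin n → I.Cotangent := fun α => f (Pi.single α 1)
  let gα : Fin n → (I →ₗ[R] R ⧸ I) := fun α =>
    (((LinearMap.proj α : (Fin n → R ⧸ I) →ₗ[R ⧸ I] R ⧸ I) ∘ₗ g).restrictScalars R) ∘ₗ
      I.toCotangent
  have hdual : ∀ c : I.Cotangent, c = ∑ α, (g c α) • e α := by
    intro c
    have h1 : c = f (g c) := by
      have := LinearMap.congr_fun hfg c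
      simpa using this.symm
    conv_lhs => rw [h1, LinearMap.pi_apply_eq_sum_univ f (g c)]
    refine Finset.sum_congr rfl (fun α _ => ?_)
    congr 2
    funext β
    rw [Pi.single_apply]
    simp only [eq_comm]
  let e' : Fin n → (J).Cotangent := fun α => γ S I (e α)
  let i' : (J).Cotangent →ₗ[Localization S ⧸ J] (Fin n → Localization S ⧸ J) :=
    LinearMap.pi (fun α => cotFunctional S I (gα α))
  let π' : (Fin n → Localization S ⧸ J) →ₗ[Localization S ⧸ J] (J).Cotangent :=
    Fintype.linearCombination (Localization S ⧸ J) e'
  refine Module.Projective.of_split i' π' ?_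
  -- the composite is the identity: check after composing with `J → Cot'` and then with `ρ`
  have key : ((π' ∘ₗ i').restrictScalars R) ∘ₗ ((J).toCotangent.restrictScalars R) =
      ((J).toCotangent.restrictScalars R) := by
    apply IsLocalizedModule.ext S (ρ S I) (units_cot S I)
    apply LinearMap.ext
    intro z
    change π' (i' ((J).toCotangent (ρ S I z))) = (J).toCotangent (ρ S I z)
    rw [Fintype.linearCombination_apply]
    have h2 : ∀ α, i' ((J).toCotangent (ρ S I z)) α = τ S I (g (I.toCotangent z) α) := by
      intro α
      change cotFunctional S I (gα α) ((J).toCotangent (ρ S I z)) = _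
      rw [cotFunctional_toCotangent, locFunctional_ρ]
      rfl
    simp only [h2]
    rw [← γ_toCotangent]
    conv_rhs => rw [hdual (I.toCotangent z), map_sum]
    refine Finset.sum_congr rfl (fun α _ => ?_)
    rw [γ_smul]
  apply LinearMap.ext
  intro c'
  obtain ⟨w, rfl⟩ := Ideal.toCotangent_surjective _ c'
  exact LinearMap.congr_fun key w

end Cot

end Groth.Agent.Lib.helper6.VascE
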