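import Mathlib
import Groth.Agent.Lib.helper6.VascD
import Groth.Agent.Lib.helper6.VascE
import Groth.Agent.Lib.helper9.Depth28

/-!
# Vasconcelos' theorem, part F: an ideal of finite projective dimension with projective conormal
module is a regular ideal (locally generated by a regular sequence).
-/

set_option autoImplicit false
set_option linter.style.haveILetI false

namespace Groth.Agent.Lib.helper6.VascF

open CategoryTheory IsLocalRing RingTheory.Sequence
open Groth.Agent.Lib.helper6
open Groth.Agent.Lib.helper9.Depth

universe u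

/-- Multiplying the members of a weakly regular sequence by units keeps it weakly regular. -/
lemma isWeaklyRegular_ofFn_unit_mul {S : Type u} [CommRing S] :
    ∀ (r : ℕ) (N : Type u) [AddCommGroup N] [Module S N] (y v : Fin r → S),
      (∀ i, IsUnit (v i)) → IsWeaklyRegular N (List.ofFn y) →
        IsWeaklyRegular N (List.ofFn (fun i => v i * y i)) := by
  intro r
  induction r with
  | zero =>
    intro N _ _ y v _ _
    rw [List.ofFn_zero]
    exact IsWeaklyRegular.nil S N
  | succ r ih =>
    intro N _ _ y v hv h
    rw [List.ofFn_succ, isWeaklyRegular_cons_iff] at h ⊢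
    refine ⟨isSMulRegular_unit_mul (hv 0) h.1, ?_⟩
    have e : QuotSMulTop (y 0) N ≃ₗ[S] QuotSMulTop (v 0 * y 0) N :=
      Submodule.quotEquivOfEq _ _ (unit_mul_smul_top (y 0) (hv 0)).symm
    exact (e.isWeaklyRegular_congr _).mp
      (ih (QuotSMulTop (y 0) N) (fun i => y i.succ) (fun i => v i.succ) (fun i => hv i.succ) h.2)

/-- `S⁻¹R` as a localized module is `S⁻¹R`. -/
noncomputable def selfEquiv {R : Type u} [CommRing R] (S : Submonoid R) :
    LocalizedModule S R ≃ₗ[Localization S] Localization S :=
  (IsLocalizedModule.iso S (Algebra.linearMap R (Localization S))).extendScalarsOfIsLocalization S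
    (Localization S)

lemma ofList_ofFn {R : Type*} [CommRing R] {r : ℕ} (a : Fin r → R) :
    Ideal.ofList (List.ofFn a) = Ideal.span (Set.range a) := by
  unfold Ideal.ofList
  congr 1
  ext y
  simp [List.mem_ofFn]

/-- spreading out generation. -/
lemma exists_mul_mem {R : Type u} [CommRing R] [IsNoetherianRing R] (A I : Ideal R) (p : Ideal R)
    [p.IsPrime]
    (h : I.map (algebraMap R (Localization.AtPrime p)) ≤
      A.map (algebraMap R (Localization.AtPrime p))) :
    ∃ g : R, g ∉ p ∧ ∀ c ∈ I, g * c ∈ A := by
  classical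
  obtain ⟨T, hT⟩ := I.fg_of_isNoetherianRing
  have hu : ∀ t ∈ T, ∃ u : R, u ∉ p ∧ u * t ∈ A := by
    intro t ht
    have htI : t ∈ I := by
      rw [← hT]
      exact Submodule.subset_span ht
    have h1 : algebraMap R (Localization.AtPrime p) t ∈
        A.map (algebraMap R (Localization.AtPrime p)) := h (Ideal.mem_map_of_mem _ htI)
    obtain ⟨⟨a', s'⟩, h2⟩ :=
      (IsLocalization.mem_map_algebraMap_iff p.primeCompl (Localization.AtPrime p)).mp h1
    rw [← map_mul] at h2
    obtain ⟨c', hc'⟩ := (IsLocalization.eq_iff_exists p.primeCompl (Localization.AtPrime p)).mp h2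
    refine ⟨(c' : R) * (s' : R), (c' * s').2, ?_⟩
    have h3 : (c' : R) * (s' : R) * t = (c' : R) * (a' : R) := by
      rw [← hc']
      ring
    rw [h3]
    exact A.mul_mem_left _ a'.2
  choose! u hu using hu
  refine ⟨∏ t ∈ T, u t, ?_, ?_⟩
  · rw [Ideal.IsPrime.prod_mem_iff]
    rintro ⟨t, ht, htp⟩
    exact (hu t ht).1 htp
  · have hgen : ∀ t ∈ T, (∏ t ∈ T, u t) * t ∈ A := by
      intro t ht
      rw [← Finset.prod_erase_mul T u ht, mul_assoc]
      exact A.mul_mem_left _ (hu t ht).2
    intro c hc
    rw [← hT] at hc
    induction hc using Submodule.span_induction with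
    | mem x hx => exact hgen x hx
    | zero => simp
    | add x y _ _ hx hy => rw [mul_add]; exact A.add_mem hx hy
    | smul r x _ hx =>
      rw [smul_eq_mul, mul_left_comm]
      exact A.mul_mem_left _ hx

/-- **Vasconcelos**: an ideal of finite projective dimension whose conormal module is projective is
locally generated by a regular sequence. -/
theorem regular_ideal {R : Type u} [CommRing R] [IsNoetherianRing R] (I : Ideal R) (n : ℕ)
    (hpd : HasProjectiveDimensionLT (ModuleCat.of R I) n)
    [Module.Projective (R ⧸ I) I.Cotangent] (p : Ideal R) [p.IsPrime] (hIp : I ≤ p) :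
    ∃ g : R, g ∉ p ∧ ∃ rs : List (Localization.Away g),
      RingTheory.Sequence.IsRegular (Localization.Away g) rs ∧
        Ideal.ofList rs = I.map (algebraMap R (Localization.Away g)) := by
  classical
  set J : Ideal (Localization.AtPrime p) := I.map (algebraMap R (Localization.AtPrime p)) with hJ
  have hJm : J ≤ maximalIdeal (Localization.AtPrime p) := by
    have hcomap : Ideal.comap (algebraMap R (Localization.AtPrime p))
        (maximalIdeal (Localization.AtPrime p)) = p := Localization.AtPrime.under_maximalIdeal
    rw [hJ, Ideal.map_le_iff_le_comap, hcomap]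
    exact hIp
  have hJtop : J ≠ ⊤ := by
    intro h
    rw [h] at hJm
    exact (maximalIdeal.isMaximal _).ne_top (top_le_iff.mp hJm)
  have hpdJ : HasProjectiveDimensionLT (ModuleCat.of (Localization.AtPrime p) J) (n + 1) :=
    VascE.pd_map_localization p.primeCompl I n hpd
  haveI : Module.Finite (R ⧸ I) I.Cotangent := by
    haveI : Module.Finite R I.Cotangent :=
      Module.Finite.of_surjective I.toCotangent (Ideal.toCotangent_surjective I)
    exact Module.Finite.of_restrictScalars_finite R (R ⧸ I) I.Cotangent
  haveI hproj : Module.Projective (Localization.AtPrime p ⧸ J) J.Cotangent :=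
    VascE.projective_cotangent_localization p.primeCompl I
  haveI : Module.Finite (Localization.AtPrime p ⧸ J) J.Cotangent := by
    haveI : Module.Finite (Localization.AtPrime p) J.Cotangent :=
      Module.Finite.of_surjective J.toCotangent (Ideal.toCotangent_surjective J)
    exact Module.Finite.of_restrictScalars_finite (Localization.AtPrime p)
      (Localization.AtPrime p ⧸ J) J.Cotangent
  haveI : Nontrivial (Localization.AtPrime p ⧸ J) := Ideal.Quotient.nontrivial_iff.mpr hJtop
  haveI : IsLocalRing (Localization.AtPrime p ⧸ J) :=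
    IsLocalRing.of_surjective' (Ideal.Quotient.mk J) Ideal.Quotient.mk_surjective
  haveI : Module.Free (Localization.AtPrime p ⧸ J) J.Cotangent :=
    Module.free_of_flat_of_isLocalRing
  let bas := Module.finBasis (Localization.AtPrime p ⧸ J) J.Cotangent
  let e : (⊤ : Submodule (Localization.AtPrime p ⧸ J) J.Cotangent) ≃ₗ[Localization.AtPrime p ⧸ J]
      (Fin (Module.finrank (Localization.AtPrime p ⧸ J) J.Cotangent) →
        Localization.AtPrime p ⧸ J) :=
    Submodule.topEquiv.trans bas.equivFun
  obtain ⟨y, hyJ, hyreg, hyspan⟩ :=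
    VascD.vasconcelos J hJtop (n + 1) hpdJ ⊤ ⊥ isCompl_top_bot _ e
  -- the sequence generates `J`
  have hspanJ : Ideal.span (Set.range y) = J := by
    apply le_antisymm
    · rw [Ideal.span_le]
      rintro _ ⟨i, rfl⟩
      exact hyJ i
    · apply Submodule.le_of_le_smul_of_le_jacobson_bot (I := J) J.fg_of_isNoetherianRing
        (hJm.trans (IsLocalRing.jacobson_eq_maximalIdeal _ bot_ne_top).ge)
      intro c hc
      have h1 : J.toCotangent ⟨c, hc⟩ ∈ Submodule.span (Localization.AtPrime p ⧸ J)
          (Set.range fun i => J.toCotangent ⟨y i, hyJ i⟩) := by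
        rw [hyspan]
        trivial
      rw [VascD.toCotangent_mem_span_iff] at h1
      rwa [smul_eq_mul, ← pow_two]
  -- lifts to `R`
  have hlift : ∀ i, ∃ (a : R) (s : p.primeCompl), a ∈ I ∧
      algebraMap R (Localization.AtPrime p) a =
        algebraMap R (Localization.AtPrime p) (s : R) * y i := by
    intro i
    obtain ⟨⟨a, s⟩, h⟩ :=
      (IsLocalization.mem_map_algebraMap_iff p.primeCompl (Localization.AtPrime p)).mp (hyJ i)
    exact ⟨a, s, a.2, by rw [← h, mul_comm]⟩
  choose a s haI has using hlift
  have hunit : ∀ i, IsUnit (algebraMap R (Localization.AtPrime p) (s i : R)) :=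
    fun i => IsLocalization.map_units _ (s i)
  have hregA : IsWeaklyRegular (Localization.AtPrime p)
      (List.ofFn (fun i => algebraMap R (Localization.AtPrime p) (a i))) := by
    have h1 := isWeaklyRegular_ofFn_unit_mul _ (Localization.AtPrime p) y
      (fun i => algebraMap R (Localization.AtPrime p) (s i : R)) hunit hyreg.toIsWeaklyRegular
    have h2 : (fun i => algebraMap R (Localization.AtPrime p) (a i)) =
        fun i => algebraMap R (Localization.AtPrime p) (s i : R) * y i := funext has
    rw [h2]
    exact h1
  have hgenA : J ≤ (Ideal.span (Set.range a)).map (algebraMap R (Localization.AtPrime p)) := by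
    refine hspanJ.symm.le.trans ?_
    rw [Ideal.span_le]
    rintro _ ⟨i, rfl⟩
    obtain ⟨w, hw⟩ := hunit i
    have h1 : y i = (↑w⁻¹ : Localization.AtPrime p) *
        algebraMap R (Localization.AtPrime p) (a i) := by
      rw [has i, ← hw, ← mul_assoc, Units.inv_mul, one_mul]
    rw [SetLike.mem_coe, h1]
    exact Ideal.mul_mem_left _ _ (Ideal.mem_map_of_mem _ (Ideal.subset_span ⟨i, rfl⟩))
  -- spreading out regularity
  have hregA' : IsWeaklyRegular (LocalizedModule p.primeCompl R)
      ((List.ofFn a).map (algebraMap R (Localization.AtPrime p))) := by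
    rw [List.map_ofFn]
    exact ((localizedModuleSelfEquiv p).isWeaklyRegular_congr _).mpr hregA
  obtain ⟨f₁, hf₁, hspread⟩ := exists_notMem_isWeaklyRegular_away p (List.ofFn a) R hregA'
  -- spreading out generation
  obtain ⟨g₁, hg₁, hgen⟩ := exists_mul_mem (Ideal.span (Set.range a)) I p hgenA
  refine ⟨f₁ * g₁, ?_, (List.ofFn a).map (algebraMap R (Localization.Away (f₁ * g₁))), ?_, ?_⟩
  · intro h
    rcases (inferInstance : p.IsPrime).mem_or_mem h with h' | h'
    · exact hf₁ h'
    · exact hg₁ h'
  · have hmapeq : Ideal.ofList ((List.ofFn a).map (algebraMap R (Localization.Away (f₁ * g₁)))) =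
        I.map (algebraMap R (Localization.Away (f₁ * g₁))) := by
      rw [← Ideal.map_ofList, ofList_ofFn]
      apply le_antisymm
      · apply Ideal.map_mono
        rw [Ideal.span_le]
        rintro _ ⟨i, rfl⟩
        exact haI i
      · rw [Ideal.map_le_iff_le_comap]
        intro c hc
        rw [Ideal.mem_comap]
        have h1 : algebraMap R (Localization.Away (f₁ * g₁)) (g₁ * c) ∈
            (Ideal.span (Set.range a)).map (algebraMap R (Localization.Away (f₁ * g₁))) :=
          Ideal.mem_map_of_mem _ (hgen c hc)
        rw [map_mul] at h1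
        have hu : IsUnit (algebraMap R (Localization.Away (f₁ * g₁)) g₁) := by
          rw [IsLocalization.Away.algebraMap_isUnit_iff (x := f₁ * g₁)]
          exact ⟨1, by rw [pow_one]; exact Dvd.intro_left _ rfl⟩
        exact (Ideal.unit_mul_mem_iff_mem _ hu).mp h1
    refine ⟨?_, ?_⟩
    · exact ((selfEquiv (Submonoid.powers (f₁ * g₁))).isWeaklyRegular_congr _).mp
        (hspread (f₁ * g₁) (Dvd.intro _ rfl))
    · rw [hmapeq, smul_eq_mul, Ideal.mul_top]
      intro htop
      have h1 := (IsLocalization.map_algebraMap_ne_top_iff_disjoint (Submonoid.powers (f₁ * g₁))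
        (Localization.Away (f₁ * g₁)) I).not.mp (by rw [not_not]; exact htop.symm)
      apply h1
      rw [Set.disjoint_left]
      rintro _ ⟨k, rfl⟩ hk
      have h2 : f₁ * g₁ ∈ p := Ideal.IsPrime.mem_of_pow_mem inferInstance k (hIp hk)
      rcases (inferInstance : p.IsPrime).mem_or_mem h2 with h' | h'
      · exact hf₁ h'
      · exact hg₁ h'
  · rw [← Ideal.map_ofList, ofList_ofFn]
    apply le_antisymm
    · apply Ideal.map_mono
      rw [Ideal.span_le]
      rintro _ ⟨i, rfl⟩
      exact haI i
    · rw [Ideal.map_le_iff_le_comap]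
      intro c hc
      rw [Ideal.mem_comap]
      have h1 : algebraMap R (Localization.Away (f₁ * g₁)) (g₁ * c) ∈
          (Ideal.span (Set.range a)).map (algebraMap R (Localization.Away (f₁ * g₁))) :=
        Ideal.mem_map_of_mem _ (hgen c hc)
      rw [map_mul] at h1
      have hu : IsUnit (algebraMap R (Localization.Away (f₁ * g₁)) g₁) := by
        rw [IsLocalization.Away.algebraMap_isUnit_iff (x := f₁ * g₁)]
        exact ⟨1, by rw [pow_one]; exact Dvd.intro_left _ rfl⟩
      exact (Ideal.unit_mul_mem_iff_mem _ hu).mp h1

end Groth.Agent.Lib.helper6.VascF
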